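import Cfsg.Agent.Lib.H14.Amalgam4
set_option autoImplicit false
open Cfsg

namespace Cfsg.Agent.Lib.H14

open scoped Pointwise

theorem pCoreOf_le {X : Type*} [Group X] (p : ℕ) (H : Subgroup X) : Cfsg.pCoreOf p H ≤ H := by
  unfold Cfsg.pCoreOf
  exact Subgroup.map_subtype_le _

theorem pCoreOf_isPGroup {X : Type*} [Group X] (p : ℕ) (H : Subgroup X) :
    IsPGroup p (Cfsg.pCoreOf p H) := by
  unfold Cfsg.pCoreOf
  exact (pCore_isPGroup (G := H) (p := p)).map H.subtype

theorem le_pCoreOf {X : Type*} [Group X] (p : ℕ) (H N : Subgroup X) (hNH : N ≤ H)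
    (hnorm : H ≤ Subgroup.normalizer (N : Set X)) (hN : IsPGroup p N) : N ≤ Cfsg.pCoreOf p H := by
  have h1 : (N.subgroupOf H).Normal := by
    constructor
    intro n hn g
    rw [Subgroup.mem_subgroupOf] at *
    have := (Subgroup.mem_normalizer_iff.mp (hnorm g.2) (n : X)).mp hn
    simpa using this
  have h2 : IsPGroup p (N.subgroupOf H) :=
    IsPGroup.of_equiv hN (Subgroup.subgroupOfEquivOfLe hNH).symm
  have h3 : N.subgroupOf H ≤ Cfsg.pCore p H := by
    unfold Cfsg.pCore
    exact le_sSup ⟨h1, h2⟩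
  unfold Cfsg.pCoreOf
  intro x hx
  exact ⟨⟨x, hNH hx⟩, h3 (by rwa [Subgroup.mem_subgroupOf]), rfl⟩

theorem pCoreOf_normalized {X : Type*} [Group X] (p : ℕ) (H : Subgroup X) :
    H ≤ Subgroup.normalizer (Cfsg.pCoreOf p H : Set X) := by
  intro g hg
  rw [Subgroup.mem_normalizer_iff]
  have hn : (Cfsg.pCore p H).Normal := pCore_normal
  intro x
  unfold Cfsg.pCoreOf
  constructor
  · rintro ⟨y, hy, rfl⟩
    exact ⟨⟨g, hg⟩ * y * ⟨g, hg⟩⁻¹, hn.conj_mem y hy _, rfl⟩
  · rintro ⟨y, hy, hyx⟩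
    refine ⟨⟨g, hg⟩⁻¹ * y * ⟨g, hg⟩, ?_, ?_⟩
    · have := hn.conj_mem y hy ⟨g, hg⟩⁻¹
      simpa using this
    · simp only [Subgroup.coe_subtype, Subgroup.coe_mul, InvMemClass.coe_inv] at hyx ⊢
      rw [hyx]; group

theorem pCoreOf_map_conj {X : Type*} [Group X] (p : ℕ) (H : Subgroup X) (g : X) :
    Cfsg.pCoreOf p (H.map (MulAut.conj g).toMonoidHom) =
      (Cfsg.pCoreOf p H).map (MulAut.conj g).toMonoidHom := by
  have key : ∀ (K : Subgroup X) (a : X), (Cfsg.pCoreOf p K).map (MulAut.conj a).toMonoidHom ≤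
      Cfsg.pCoreOf p (K.map (MulAut.conj a).toMonoidHom) := by
    intro K a
    apply le_pCoreOf
    · exact Subgroup.map_mono (pCoreOf_le p K)
    · rintro _ ⟨k, hk, rfl⟩
      rw [Subgroup.mem_normalizer_iff]
      have hk' := Subgroup.mem_normalizer_iff.mp (pCoreOf_normalized p K hk)
      intro x
      constructor
      · rintro ⟨y, hy, rfl⟩
        refine ⟨k * y * k⁻¹, (hk' y).mp hy, ?_⟩
        simp only [MulEquiv.coe_toMonoidHom, MulAut.conj_apply]; group
      · rintro ⟨y, hy, hyx⟩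
        refine ⟨k⁻¹ * y * k, ?_, ?_⟩
        · have := (hk' (k⁻¹ * y * k)).mpr (by simpa [mul_assoc] using hy)
          exact this
        · have : x = (MulAut.conj a k)⁻¹ * (MulAut.conj a y) * (MulAut.conj a k) := by
            have h2 : (MulAut.conj a).toMonoidHom y = (MulAut.conj a) y := rfl
            rw [h2] at hyx
            rw [hyx]; simp only [MulEquiv.coe_toMonoidHom]; group
          rw [this]; simp only [MulEquiv.coe_toMonoidHom, MulAut.conj_apply]; group
    · exact (pCoreOf_isPGroup p K).map _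
  apply le_antisymm
  · have := key (H.map (MulAut.conj g).toMonoidHom) g⁻¹
    rw [map_conj_conj_inv] at this
    have h2 := Subgroup.map_mono (f := (MulAut.conj g).toMonoidHom) this
    have h3 : ∀ (K : Subgroup X), (K.map (MulAut.conj g⁻¹).toMonoidHom).map (MulAut.conj g).toMonoidHom = K := by
      intro K
      have := map_conj_conj_inv K g⁻¹
      simpa using this
    rwa [h3] at h2
  · exact key H g

/-- characteristic `p`, moved from the subgroup-as-a-group form to the ambient group. -/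
theorem charP_ambient {X : Type*} [Group X] (p : ℕ) (M : Subgroup X)
    (h : Subgroup.centralizer (Cfsg.pCore p M : Set M) ≤ Cfsg.pCore p M) :
    M ⊓ Subgroup.centralizer (Cfsg.pCoreOf p M : Set X) ≤ Cfsg.pCoreOf p M := by
  rintro x ⟨hxM, hxC⟩
  have : (⟨x, hxM⟩ : M) ∈ Subgroup.centralizer (Cfsg.pCore p M : Set M) := by
    rw [Subgroup.mem_centralizer_iff]
    intro y hy
    have hy' : (y : X) ∈ Cfsg.pCoreOf p M := ⟨y, hy, rfl⟩
    have := (Subgroup.mem_centralizer_iff.mp hxC) (y : X) hy'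
    exact Subtype.ext this
  exact ⟨⟨x, hxM⟩, h this, rfl⟩

theorem centralizer_map_conj {X : Type*} [Group X] (K : Subgroup X) (g : X) :
    Subgroup.centralizer ((K.map (MulAut.conj g).toMonoidHom : Subgroup X) : Set X) =
      (Subgroup.centralizer (K : Set X)).map (MulAut.conj g).toMonoidHom := by
  ext x
  constructor
  · intro hx
    refine ⟨g⁻¹ * x * g, ?_, by simp [MulAut.conj_apply, mul_assoc]⟩
    show g⁻¹ * x * g ∈ Subgroup.centralizer (K : Set X)
    rw [Subgroup.mem_centralizer_iff] at hx ⊢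
    intro k hk
    have := hx (g * k * g⁻¹) ⟨k, hk, by simp [MulAut.conj_apply]⟩
    calc k * (g⁻¹ * x * g) = g⁻¹ * ((g * k * g⁻¹) * x) * g := by group
      _ = g⁻¹ * (x * (g * k * g⁻¹)) * g := by rw [this]
      _ = g⁻¹ * x * g * k := by group
  · rintro ⟨y, hy, rfl⟩
    replace hy : y ∈ Subgroup.centralizer (K : Set X) := hy
    rw [Subgroup.mem_centralizer_iff] at hy ⊢
    rintro _ ⟨k, hk, rfl⟩
    have := hy k hk
    show (MulAut.conj g) k * (MulAut.conj g) y = (MulAut.conj g) y * (MulAut.conj g) k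
    rw [← map_mul, ← map_mul, this]

theorem charP_map_conj {X : Type*} [Group X] (p : ℕ) (M : Subgroup X) (g : X)
    (h : M ⊓ Subgroup.centralizer (Cfsg.pCoreOf p M : Set X) ≤ Cfsg.pCoreOf p M) :
    (M.map (MulAut.conj g).toMonoidHom) ⊓
      Subgroup.centralizer (Cfsg.pCoreOf p (M.map (MulAut.conj g).toMonoidHom) : Set X) ≤
        Cfsg.pCoreOf p (M.map (MulAut.conj g).toMonoidHom) := by
  rw [pCoreOf_map_conj, centralizer_map_conj, ← Subgroup.map_inf_eq _ _ _ (MulAut.conj g).injective]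
  exact Subgroup.map_mono h

theorem vertex_charP {X : Type*} [Group X] {p : ℕ} (M₁ M₂ : Subgroup X)
    (h1 : Subgroup.centralizer (Cfsg.pCore p M₁ : Set M₁) ≤ Cfsg.pCore p M₁)
    (h2 : Subgroup.centralizer (Cfsg.pCore p M₂ : Set M₂) ≤ Cfsg.pCore p M₂)
    (δ : Cfsg.CosetVertex M₁ M₂) :
    MulAction.stabilizer X δ ⊓ Subgroup.centralizer (Cfsg.vertexQ p δ : Set X) ≤ Cfsg.vertexQ p δ := by
  rcases δ with a | b
  · induction a using QuotientGroup.induction_on with
    | H x =>
      unfold Cfsg.vertexQ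
      rw [cg_stab_inl_mk]
      exact charP_map_conj p M₁ x (charP_ambient p M₁ h1)
  · induction b using QuotientGroup.induction_on with
    | H x =>
      unfold Cfsg.vertexQ
      rw [cg_stab_inr_mk]
      exact charP_map_conj p M₂ x (charP_ambient p M₂ h2)

theorem pElementClosure_le {X : Type*} [Group X] (p : ℕ) (H : Subgroup X) :
    Cfsg.pElementClosure p H ≤ H := by
  unfold Cfsg.pElementClosure
  rw [Subgroup.closure_le]
  intro x hx
  exact hx.1

theorem pgroup_le_pElementClosure {X : Type*} [Group X] (p : ℕ) [Fact p.Prime] (H T : Subgroup X) (hT : T ≤ H)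
    (hp : IsPGroup p T) : T ≤ Cfsg.pElementClosure p H := by
  intro x hx
  apply Subgroup.subset_closure
  refine ⟨hT hx, ?_⟩
  obtain ⟨k, hk⟩ := (IsPGroup.iff_orderOf.mp hp) ⟨x, hx⟩
  exact ⟨k, by simpa using hk⟩

theorem pElementClosure_conj_mem {X : Type*} [Group X] (p : ℕ) (H : Subgroup X) (g : X) (hg : g ∈ H)
    (x : X) (hx : x ∈ Cfsg.pElementClosure p H) : g * x * g⁻¹ ∈ Cfsg.pElementClosure p H := by
  have key : Cfsg.pElementClosure p H ≤
      (Cfsg.pElementClosure p H).comap (MulAut.conj g).toMonoidHom := by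
    conv_lhs => unfold Cfsg.pElementClosure
    rw [Subgroup.closure_le]
    rintro y ⟨hyH, k, hk⟩
    show (MulAut.conj g) y ∈ Cfsg.pElementClosure p H
    apply Subgroup.subset_closure
    refine ⟨?_, k, ?_⟩
    · rw [MulAut.conj_apply]; exact H.mul_mem (H.mul_mem hg hyH) (H.inv_mem hg)
    · rw [← hk]
      exact orderOf_injective (MulAut.conj g).toMonoidHom (MulAut.conj g).injective y
  have := key hx
  simpa [MulAut.conj_apply] using this

end Cfsg.Agent.Lib.H14
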