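import Cfsg.Prelude.Def_PLocal
import Cfsg.Prelude.Def_LocalEven
import Mathlib

set_option autoImplicit false

namespace Cfsg.Agent.Lib.H14

/-- The affine subgroup of `SL₃(R)`: matrices with last row `(0,0,1)`. -/
def affSub (R : Type*) [CommRing R] : Subgroup (Matrix.SpecialLinearGroup (Fin 3) R) where
  carrier := {M | (M : Matrix (Fin 3) (Fin 3) R) 2 0 = 0 ∧
    (M : Matrix (Fin 3) (Fin 3) R) 2 1 = 0 ∧ (M : Matrix (Fin 3) (Fin 3) R) 2 2 = 1}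
  mul_mem' := by
    intro A B hA hB
    obtain ⟨a0, a1, a2⟩ := hA
    obtain ⟨b0, b1, b2⟩ := hB
    refine ⟨?_, ?_, ?_⟩ <;>
      simp [Matrix.SpecialLinearGroup.coe_mul, Matrix.mul_apply, Fin.sum_univ_three, a0, a1, a2, b0, b1, b2]
  one_mem' := by
    refine ⟨?_, ?_, ?_⟩ <;> simp
  inv_mem' := by
    intro A hA
    obtain ⟨a0, a1, a2⟩ := hA
    have h : (A : Matrix (Fin 3) (Fin 3) R) * ((A⁻¹ : Matrix.SpecialLinearGroup (Fin 3) R) : Matrix (Fin 3) (Fin 3) R) = 1 := by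
      rw [← Matrix.SpecialLinearGroup.coe_mul, mul_inv_cancel]; rfl
    have hj : ∀ j, ((A⁻¹ : Matrix.SpecialLinearGroup (Fin 3) R) : Matrix (Fin 3) (Fin 3) R) 2 j
        = (1 : Matrix (Fin 3) (Fin 3) R) 2 j := by
      intro j
      rw [← h]
      simp [Matrix.mul_apply, Fin.sum_univ_three, a0, a1, a2]
    refine ⟨?_, ?_, ?_⟩
    · rw [hj]; simp
    · rw [hj]; simp
    · rw [hj]; simp

theorem mem_affSub {R : Type*} [CommRing R] (M : Matrix.SpecialLinearGroup (Fin 3) R) :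
    M ∈ affSub R ↔ (M : Matrix (Fin 3) (Fin 3) R) 2 0 = 0 ∧
    (M : Matrix (Fin 3) (Fin 3) R) 2 1 = 0 ∧ (M : Matrix (Fin 3) (Fin 3) R) 2 2 = 1 := Iff.rfl

theorem qdOver_eq_affSub (F : Type*) [Field F] : Cfsg.qdOver F = affSub F := by
  unfold Cfsg.qdOver
  exact Subgroup.closure_eq (affSub F)

theorem qd_eq_affSub (p : ℕ) : Cfsg.qd p = affSub (ZMod p) := by
  unfold Cfsg.qd
  exact Subgroup.closure_eq (affSub (ZMod p))

theorem mem_qdOver_iff {F : Type*} [Field F] (M : Matrix.SpecialLinearGroup (Fin 3) F) :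
    M ∈ Cfsg.qdOver F ↔ (M : Matrix (Fin 3) (Fin 3) F) 2 0 = 0 ∧
    (M : Matrix (Fin 3) (Fin 3) F) 2 1 = 0 ∧ (M : Matrix (Fin 3) (Fin 3) F) 2 2 = 1 := by
  rw [qdOver_eq_affSub]; exact Iff.rfl

theorem mem_qd_iff {p : ℕ} (M : Matrix.SpecialLinearGroup (Fin 3) (ZMod p)) :
    M ∈ Cfsg.qd p ↔ (M : Matrix (Fin 3) (Fin 3) (ZMod p)) 2 0 = 0 ∧
    (M : Matrix (Fin 3) (Fin 3) (ZMod p)) 2 1 = 0 ∧ (M : Matrix (Fin 3) (Fin 3) (ZMod p)) 2 2 = 1 := by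
  rw [qd_eq_affSub]; exact Iff.rfl

end Cfsg.Agent.Lib.H14
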