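import Cfsg.Agent.Lib.H5.Glaub.Defs

/-!
S4359 piece (CEN): `Z(I[a,b]) = I[b-q+1, a+q-1]` for intervals of length between `q` and `t`.
Blueprint: tools/blueprints/S4359.md (helper5).
-/

set_option autoImplicit false

open scoped Pointwise
open Cfsg.Agent.Lib.H5.Glaub Cfsg.Agent.Lib.H5.Glaub.Setup

namespace Cfsg.Agent.Lib.H14.Glaub

variable {G : Type*} [Group G]

/-- `X_k` commutes with an interval subgroup as soon as it commutes with its generators. -/
theorem comm_X_Iv (S : Setup G) (t : ℕ) {k a b : ℤ}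
    (h : ∀ j : ℤ, a ≤ j → j ≤ b → Comm (S.X t k) (S.X t j)) : Comm (S.X t k) (S.Iv t a b) := by
  apply Comm.symm
  rw [comm_iff_le_centralizer, S.Iv_le_iff]
  intro j h1 h2
  rw [← comm_iff_le_centralizer]
  exact Comm.symm (h j h1 h2)

theorem comm_Iv_Iv (S : Setup G) (t : ℕ) {a b c d : ℤ}
    (h : ∀ i j : ℤ, a ≤ i → i ≤ b → c ≤ j → j ≤ d → Comm (S.X t i) (S.X t j)) :
    Comm (S.Iv t a b) (S.Iv t c d) := by
  rw [comm_iff_le_centralizer, S.Iv_le_iff]
  intro i h1 h2
  rw [← comm_iff_le_centralizer]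
  exact comm_X_Iv S t (fun j h3 h4 => h i j h1 h2 h3 h4)

theorem le_zc_of_comm {A H : Subgroup G} (h1 : A ≤ H) (h2 : Comm A H) : A ≤ zc H := by
  rw [zc]
  exact le_inf h1 (comm_iff_le_centralizer.1 h2)

theorem comm_of_le_zc {A H : Subgroup G} (h : A ≤ zc H) : Comm A H := by
  rw [comm_iff_le_centralizer]
  exact h.trans inf_le_right

theorem zc_le (H : Subgroup G) : zc H ≤ H := inf_le_left

/-- a central subgroup of `H` lying in `H' ≤ H` is central in `H'` -/
theorem le_zc_of_le_zc {Z H' H : Subgroup G} (hH : H' ≤ H) (hZ : Z ≤ zc H) (hZ' : Z ≤ H') :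
    Z ≤ zc H' := by
  rw [zc]
  refine le_inf hZ' ?_
  exact (hZ.trans inf_le_right).trans (Subgroup.centralizer_le (by exact_mod_cast hH))

/-- a subgroup of index `p` is maximal -/
theorem eq_of_card_pow [Finite G] {H M K : Subgroup G} {p n : ℕ} (hp : p.Prime)
    (hH : Nat.card H = p ^ n) (hK : Nat.card K = p ^ (n + 1)) (h1 : H ≤ M) (h2 : M ≤ K)
    (hne : M ≠ H) : M = K := by
  have d1 : Nat.card H ∣ Nat.card M := Subgroup.card_dvd_of_le h1
  have d2 : Nat.card M ∣ Nat.card K := Subgroup.card_dvd_of_le h2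
  rw [hK] at d2
  obtain ⟨j, hj, hM⟩ := (Nat.dvd_prime_pow hp).1 d2
  rw [hH, hM] at d1
  have hnj : n ≤ j := (Nat.pow_dvd_pow_iff_le_right hp.one_lt).1 d1
  rcases Nat.lt_or_ge n j with hlt | hge
  · have : j = n + 1 := by omega
    apply Subgroup.eq_of_le_of_card_ge h2
    rw [hK, hM, this]
  · exfalso
    apply hne
    have : j = n := by omega
    symm
    apply Subgroup.eq_of_le_of_card_ge h1
    rw [hH, hM, this]

/-- the centre of a nontrivial `p`-subgroup is nontrivial -/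
theorem zc_ne_bot [Finite G] {H : Subgroup G} {p n : ℕ} (hp : p.Prime) (hc : Nat.card H = p ^ (n + 1)) :
    zc H ≠ ⊥ := by
  have : Fact p.Prime := ⟨hp⟩
  have hpg : IsPGroup p H := IsPGroup.of_card hc
  have : Nontrivial H := by
    rw [← Finite.one_lt_card_iff_nontrivial, hc]
    exact Nat.one_lt_pow (by omega) hp.one_lt
  have := hpg.center_nontrivial
  obtain ⟨z, hz⟩ := exists_ne (1 : Subgroup.center H)
  intro hbot
  apply hz
  have hmem : ((z : H) : G) ∈ zc H := by
    rw [mem_zc]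
    refine ⟨z.1.2, fun y hy => ?_⟩
    have := Subgroup.mem_center_iff.1 z.2 ⟨y, hy⟩
    exact congrArg Subtype.val this
  rw [hbot, Subgroup.mem_bot] at hmem
  apply Subtype.ext
  apply Subtype.ext
  simpa using hmem

/-- the inductive step of (CEN) -/
theorem cen_step [Finite G] (S : Setup G) (t q : ℕ) (hI : S.Ivl t) (hD : S.Dist t q) (a b : ℤ)
    (h1 : a + q ≤ b + 1) (h2 : b + 1 < a + t)
    (ihL : zc (S.Iv t a b) = S.Iv t (b - q + 1) (a + q - 1)) (ihLn : b + 2 ≤ a + 2 * q)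
    (ihR : zc (S.Iv t (a + 1) (b + 1)) = S.Iv t (b - q + 2) (a + q)) :
    zc (S.Iv t a (b + 1)) = S.Iv t (b - q + 2) (a + q - 1) ∧ b + 3 ≤ a + 2 * q := by
  have hq := hD.pos
  have hab : a ≤ b := by omega
  -- cardinalities
  have cL : Nat.card (S.Iv t a b) = S.p ^ ((b - a).toNat + 1) := hI.card a b hab (by omega)
  have cR : Nat.card (S.Iv t (a + 1) (b + 1)) = S.p ^ ((b - a).toNat + 1) := by
    have := hI.card (a + 1) (b + 1) (by omega) (by omega)
    rw [this]; congr 2; omega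
  have cT : Nat.card (S.Iv t a (b + 1)) = S.p ^ ((b - a).toNat + 1 + 1) := by
    have := hI.card a (b + 1) (by omega) (by omega)
    rw [this]; congr 1; omega
  have leL : S.Iv t a b ≤ S.Iv t a (b + 1) := S.Iv_mono t le_rfl (by omega)
  have leR : S.Iv t (a + 1) (b + 1) ≤ S.Iv t a (b + 1) := S.Iv_mono t (by omega) le_rfl
  -- (i)
  have hi : zc (S.Iv t a (b + 1)) ≤ S.Iv t a b := by
    by_contra hcon
    obtain ⟨w, hw, hwn⟩ := SetLike.not_le_iff_exists.1 hcon
    have hXz : S.X t (b - q + 1) ≤ zc (S.Iv t a b) := by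
      rw [ihL]; exact S.X_le_Iv t le_rfl (by omega)
    have hXc : Comm (S.X t (b - q + 1)) (S.Iv t a b) := comm_of_le_zc hXz
    have hXT : S.X t (b - q + 1) ≤ S.Iv t a (b + 1) := S.X_le_Iv t (by omega) (by omega)
    set M : Subgroup G :=
      Subgroup.centralizer (S.X t (b - q + 1) : Set G) ⊓ S.Iv t a (b + 1) with hM
    have hLM : S.Iv t a b ≤ M := le_inf (comm_iff_le_centralizer.1 (Comm.symm hXc)) leL
    have hMT : M ≤ S.Iv t a (b + 1) := inf_le_right
    have hwM : w ∈ M := by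
      refine Subgroup.mem_inf.2 ⟨?_, zc_le _ hw⟩
      rw [Subgroup.mem_centralizer_iff]
      intro x hx
      exact (mem_zc.1 hw).2 x (hXT hx)
    have hne : M ≠ S.Iv t a b := fun he => hwn (he ▸ hwM)
    have hMeq : M = S.Iv t a (b + 1) := eq_of_card_pow S.hp cL cT hLM hMT hne
    have hXb : S.X t (b + 1) ≤ M := hMeq ▸ S.X_le_Iv t (by omega) le_rfl
    have hc : Comm (S.X t (b + 1)) (S.X t (b - q + 1)) :=
      comm_iff_le_centralizer.2 (hXb.trans inf_le_left)
    have hn := hD.ncomm (b - q + 1)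
    have e : b - (q : ℤ) + 1 + q = b + 1 := by ring
    rw [e] at hn
    exact hn (Comm.symm hc)
  -- (ii)
  have hii : zc (S.Iv t a (b + 1)) ≤ S.Iv t (a + 1) (b + 1) := by
    by_contra hcon
    obtain ⟨w, hw, hwn⟩ := SetLike.not_le_iff_exists.1 hcon
    have hXz : S.X t (a + q) ≤ zc (S.Iv t (a + 1) (b + 1)) := by
      rw [ihR]; exact S.X_le_Iv t (by omega) le_rfl
    have hXc : Comm (S.X t (a + q)) (S.Iv t (a + 1) (b + 1)) := comm_of_le_zc hXz
    have hXT : S.X t (a + q) ≤ S.Iv t a (b + 1) := S.X_le_Iv t (by omega) (by omega)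
    set M : Subgroup G :=
      Subgroup.centralizer (S.X t (a + q) : Set G) ⊓ S.Iv t a (b + 1) with hM
    have hLM : S.Iv t (a + 1) (b + 1) ≤ M := le_inf (comm_iff_le_centralizer.1 (Comm.symm hXc)) leR
    have hMT : M ≤ S.Iv t a (b + 1) := inf_le_right
    have hwM : w ∈ M := by
      refine Subgroup.mem_inf.2 ⟨?_, zc_le _ hw⟩
      rw [Subgroup.mem_centralizer_iff]
      intro x hx
      exact (mem_zc.1 hw).2 x (hXT hx)
    have hne : M ≠ S.Iv t (a + 1) (b + 1) := fun he => hwn (he ▸ hwM)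
    have hMeq : M = S.Iv t a (b + 1) := eq_of_card_pow S.hp cR cT hLM hMT hne
    have hXa : S.X t a ≤ M := hMeq ▸ S.X_le_Iv t le_rfl (by omega)
    have hc : Comm (S.X t a) (S.X t (a + q)) :=
      comm_iff_le_centralizer.2 (hXa.trans inf_le_left)
    exact hD.ncomm a hc
  -- (iii)
  have hiii : zc (S.Iv t a (b + 1)) ≤ S.Iv t (b - q + 2) (a + q - 1) := by
    have hA : zc (S.Iv t a (b + 1)) ≤ zc (S.Iv t a b) := le_zc_of_le_zc leL le_rfl hi
    have hB : zc (S.Iv t a (b + 1)) ≤ zc (S.Iv t (a + 1) (b + 1)) := le_zc_of_le_zc leR le_rfl hii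
    rw [ihL] at hA
    rw [ihR] at hB
    have hinf := hI.inf a (b + 1) (b - q + 1) (a + q - 1) (b - q + 2) (a + q)
      h2 (by omega) (by omega) (by omega) (by omega)
    rw [max_eq_right (by omega), min_eq_left (by omega)] at hinf
    rw [← hinf]
    exact le_inf hA hB
  -- (iv)
  have hiv : b + 3 ≤ a + 2 * q := by
    by_contra hcon
    have hbot : S.Iv t (b - q + 2) (a + q - 1) = ⊥ := S.Iv_eq_bot t (by omega)
    rw [hbot] at hiii
    exact zc_ne_bot S.hp cT (le_bot_iff.1 hiii)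
  refine ⟨le_antisymm hiii ?_, hiv⟩
  -- (v)
  rw [S.Iv_le_iff]
  intro k hk1 hk2
  apply le_zc_of_comm (S.X_le_Iv t (by omega) (by omega))
  apply comm_X_Iv
  intro j hj1 hj2
  exact hD.comm k j (abs_lt.2 ⟨by omega, by omega⟩)

/-- (CEN), parametrised by the excess length `m`. -/
theorem cen_aux [Finite G] (S : Setup G) (t q : ℕ) (hI : S.Ivl t) (hD : S.Dist t q) :
    ∀ (m : ℕ) (a b : ℤ), b = a + q - 1 + m → b < a + t →
      zc (S.Iv t a b) = S.Iv t (b - q + 1) (a + q - 1) ∧ b + 2 ≤ a + 2 * q := by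
  have hq := hD.pos
  intro m
  induction m with
  | zero =>
    intro a b hb hbt
    have hb' : b = a + q - 1 := by simpa using hb
    have e1 : b - (q : ℤ) + 1 = a := by omega
    have e2 : a + (q : ℤ) - 1 = b := by omega
    rw [e1, e2]
    refine ⟨le_antisymm (zc_le _) ?_, by omega⟩
    apply le_zc_of_comm le_rfl
    apply comm_Iv_Iv
    intro i j hi1 hi2 hj1 hj2
    exact hD.comm i j (abs_lt.2 ⟨by omega, by omega⟩)
  | succ m ih =>
    intro a b' hb hbt
    obtain ⟨b, rfl⟩ : ∃ b : ℤ, b' = b + 1 := ⟨b' - 1, by ring⟩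
    have hbm : b = a + q - 1 + m := by push_cast at hb; omega
    obtain ⟨ihL, ihLn⟩ := ih a b hbm (by omega)
    obtain ⟨ihR, _⟩ := ih (a + 1) (b + 1) (by omega) (by omega)
    have e1 : b + 1 - (q : ℤ) + 1 = b - q + 2 := by ring
    have e2 : a + 1 + (q : ℤ) - 1 = a + q := by ring
    rw [e1, e2] at ihR
    have := cen_step S t q hI hD a b (by omega) (by omega) ihL ihLn ihR
    rw [e1]
    refine ⟨this.1, by omega⟩

/-- (CEN) Step 6: `Z(I[a,b]) = I[b-q+1, a+q-1]` for every interval of length between `q` and `t`. -/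
theorem cen [Finite G] (S : Setup G) (t q : ℕ) (hU : S.Uni t) (hI : S.Ivl t) (hD : S.Dist t q) : S.Cen t q := by
  have _ := hU
  intro a b h1 h2
  exact cen_aux S t q hI hD (b - a - q + 1).toNat a b (by omega) h2

end Cfsg.Agent.Lib.H14.Glaub
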