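import Cfsg.Agent.Lib.H5.Glaub.NcDist
import Cfsg.Agent.Lib.H13.GlaubIVL
import Cfsg.Agent.Lib.H16.GlaubTQ
import Cfsg.Agent.Lib.H14.GlaubCEN

/-!
Chain calculus for S4385, the case `(q, t) = (4, 6)` with `p = 2`:
`N = I[-4,-1] = P_(-1) ∩ P_0 ∩ P_1` is normalised by `P_(-1)` and `P_0`.
-/

set_option autoImplicit false

open scoped Pointwise
open Cfsg.Agent.Lib.H5.Glaub Cfsg.Agent.Lib.H5.Glaub.Setup

namespace Cfsg.Agent.Lib.H14.Glaub

variable {G : Type*} [Group G]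

/-- a subgroup of index `p` is maximal (second form) -/
theorem eq_of_card_pow' [Finite G] {H M K : Subgroup G} {p n : ℕ} (hp : p.Prime)
    (hH : Nat.card H = p ^ n) (hK : Nat.card K = p ^ (n + 1)) (h1 : H ≤ M) (h2 : M ≤ K)
    (hne : M ≠ K) : M = H := by
  by_contra hcon
  exact hne (eq_of_card_pow hp hH hK h1 h2 hcon)

/-- if `B` conjugates `N` into itself then `B` normalises `N` -/
theorem le_normalizer_of_conj {B N : Subgroup G} (h : ∀ g ∈ B, ∀ a ∈ N, g * a * g⁻¹ ∈ N) :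
    B ≤ Subgroup.normalizer (N : Set G) := by
  intro g hg
  rw [Subgroup.mem_normalizer_iff]
  intro a
  refine ⟨h g hg a, fun ha => ?_⟩
  have := h g⁻¹ (B.inv_mem hg) _ ha
  simpa [mul_assoc] using this

theorem conj_mem_of_le_normalizer {B N : Subgroup G} (h : B ≤ Subgroup.normalizer (N : Set G)) {g a : G}
    (hg : g ∈ B) (ha : a ∈ N) : g * a * g⁻¹ ∈ N :=
  (Subgroup.mem_normalizer_iff.1 (h hg) a).1 ha

/-- conjugation by `g` maps an interval subgroup into `N` as soon as it does so on the generators -/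
theorem Iv_conj_mem_of_gens (S : Setup G) (t : ℕ) {a b : ℤ} {N : Subgroup G} {g : G}
    (h : ∀ k : ℤ, a ≤ k → k ≤ b → ∀ x ∈ S.X t k, g * x * g⁻¹ ∈ N) :
    ∀ x ∈ S.Iv t a b, g * x * g⁻¹ ∈ N := by
  have hle : S.Iv t a b ≤ N.comap (MulAut.conj g).toMonoidHom := by
    rw [S.Iv_le_iff]
    intro k h1 h2 x hx
    rw [Subgroup.mem_comap]
    simpa [MulAut.conj_apply] using h k h1 h2 x hx
  intro x hx
  simpa [MulAut.conj_apply] using hle hx

/-- elements of `X_k` are involutions when `p = 2` -/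
theorem X_sq [Finite G] (S : Setup G) (hp2 : S.p = 2) (t : ℕ) (hU : S.Uni t) {k : ℤ} {x : G}
    (hx : x ∈ S.X t k) : x * x = 1 := by
  have h := pow_card_eq_one' (G := S.X t k) (x := ⟨x, hx⟩)
  rw [card_X S t hU k, hp2] at h
  have h2 := congrArg Subtype.val h
  simpa [pow_two] using h2

/-- an interval shorter than `q` is elementary abelian when `p = 2` -/
theorem Iv_sq [Finite G] (S : Setup G) (hp2 : S.p = 2) (t q : ℕ) (hU : S.Uni t) (hD : S.Dist t q)
    {a b : ℤ} (hab : b < a + q) {z : G} (hz : z ∈ S.Iv t a b) : z * z = 1 := by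
  have hcomm : Comm (S.Iv t a b) (S.Iv t a b) := by
    apply comm_Iv_Iv
    intro i j h1 h2 h3 h4
    exact hD.comm i j (abs_lt.2 ⟨by omega, by omega⟩)
  let E : Subgroup G :=
    { carrier := {z | z ∈ S.Iv t a b ∧ z * z = 1}
      one_mem' := ⟨Subgroup.one_mem _, by simp⟩
      mul_mem' := by
        rintro z w ⟨hz, hz2⟩ ⟨hw, hw2⟩
        refine ⟨Subgroup.mul_mem _ hz hw, ?_⟩
        have hzw : z * w = w * z := hcomm z hz w hw
        calc z * w * (z * w) = z * (w * z) * w := by group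
          _ = z * (z * w) * w := by rw [hzw]
          _ = (z * z) * (w * w) := by group
          _ = 1 := by rw [hz2, hw2, one_mul]
      inv_mem' := by
        rintro z ⟨hz, hz2⟩
        refine ⟨Subgroup.inv_mem _ hz, ?_⟩
        rw [← mul_inv_rev, hz2, inv_one] }
  have hle : S.Iv t a b ≤ E := by
    rw [S.Iv_le_iff]
    intro k h1 h2 x hx
    exact ⟨S.X_le_Iv t h1 h2 hx, X_sq S hp2 t hU hx⟩
  exact (hle hz).2

theorem conj_comm_inv (g a : G) (ha2 : a * a = 1) :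
    a * (g * a * g⁻¹ * a⁻¹) * a⁻¹ = (g * a * g⁻¹ * a⁻¹)⁻¹ := by
  have hai : a⁻¹ = a := inv_eq_of_mul_eq_one_right ha2
  rw [mul_inv_rev, mul_inv_rev, mul_inv_rev, inv_inv, inv_inv, hai]
  simp only [mul_assoc, ha2, mul_one]

/-- a nontrivial element of `X_j` that commutes with `X_i` forces `X_i`, `X_j` to commute -/
theorem comm_X_of_mem [Finite G] (S : Setup G) (t : ℕ) (hU : S.Uni t) {i j : ℤ} {a : G}
    (ha : a ∈ S.X t j) (ha1 : a ≠ 1) (hc : ∀ u ∈ S.X t i, u * a = a * u) :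
    Comm (S.X t i) (S.X t j) := by
  set A : Subgroup G := S.X t j ⊓ Subgroup.centralizer (S.X t i : Set G) with hA
  have haA : a ∈ A := by
    refine Subgroup.mem_inf.2 ⟨ha, ?_⟩
    rw [Subgroup.mem_centralizer_iff]
    intro u hu
    exact hc u hu
  have hAle : A ≤ S.X t j := inf_le_left
  have hdvd : Nat.card A ∣ S.p := by
    rw [← card_X S t hU j]
    exact Subgroup.card_dvd_of_le hAle
  have hAcard : Nat.card A = S.p := by
    rcases (Nat.dvd_prime S.hp).1 hdvd with h1 | h1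
    · exfalso
      have hbot : A = ⊥ := Subgroup.card_eq_one.1 h1
      rw [hbot, Subgroup.mem_bot] at haA
      exact ha1 haA
    · exact h1
  have hAeq : A = S.X t j := by
    apply Subgroup.eq_of_le_of_card_ge hAle
    rw [hAcard, card_X S t hU j]
  apply Comm.symm
  rw [comm_iff_le_centralizer, ← hAeq]
  exact inf_le_right

/-- the key step: `X_(-6)` conjugates `X_(-1)` into `I[-4,-1]` -/
theorem t6_conj_last [Finite G] (S : Setup G) (hp2 : S.p = 2) (hU : S.Uni 6) (hI : S.Ivl 6)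
    (hD : S.Dist 6 4) {g a : G} (hg : g ∈ S.X 6 (-6)) (ha : a ∈ S.X 6 (-1)) :
    g * a * g⁻¹ ∈ S.Iv 6 (-4) (-1) := by
  by_cases ha1 : a = 1
  · rw [ha1]; simp
  have ha2 : a * a = 1 := X_sq S hp2 6 hU ha
  have hgT : g ∈ S.Iv 6 (-6) (-1) := S.X_le_Iv 6 (by norm_num) (by norm_num) hg
  have haT : a ∈ S.Iv 6 (-6) (-1) := S.X_le_Iv 6 (by norm_num) (by norm_num) ha
  have hgL : g ∈ S.Iv 6 (-6) (-2) := S.X_le_Iv 6 (by norm_num) (by norm_num) hg
  have haR : a ∈ S.Iv 6 (-5) (-1) := S.X_le_Iv 6 (by norm_num) (by norm_num) ha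
  set c : G := g * a * g⁻¹ * a⁻¹ with hc
  have hcL : c ∈ S.Iv 6 (-6) (-2) := by
    have h1 : a * g⁻¹ * a⁻¹ ∈ S.Iv 6 (-6) (-2) :=
      Cfsg.Agent.Lib.H16.Glaub.Iv_conj_left S hI (a := -6) (b := -1) (b' := -2) (by norm_num)
        (by norm_num) (by norm_num) haT (Subgroup.inv_mem _ hgL)
    have : c = g * (a * g⁻¹ * a⁻¹) := by rw [hc]; group
    rw [this]
    exact Subgroup.mul_mem _ hgL h1
  have hcR : c ∈ S.Iv 6 (-5) (-1) := by
    have h1 : g * a * g⁻¹ ∈ S.Iv 6 (-5) (-1) :=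
      Cfsg.Agent.Lib.H16.Glaub.Iv_conj_right S hI (a := -6) (a' := -5) (b := -1) (by norm_num)
        (by norm_num) (by norm_num) hgT haR
    exact Subgroup.mul_mem _ h1 (Subgroup.inv_mem _ haR)
  have hcM : c ∈ S.Iv 6 (-5) (-2) := by
    have hinf := hI.inf (-6) (-1) (-6) (-2) (-5) (-1) (by norm_num) (by norm_num) (by norm_num)
      (by norm_num) (by norm_num)
    rw [max_eq_right (by norm_num), min_eq_left (by norm_num)] at hinf
    rw [← hinf]
    exact Subgroup.mem_inf.2 ⟨hcL, hcR⟩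
  have hc2 : c * c = 1 := Iv_sq S hp2 6 4 hU hD (by norm_num) hcM
  have hca : a * c = c * a := by
    have h1 : a * c * a⁻¹ = c⁻¹ := conj_comm_inv g a ha2
    rw [inv_eq_of_mul_eq_one_right hc2] at h1
    exact mul_inv_eq_iff_eq_mul.1 h1
  -- the centraliser of `a` in `I[-5,-2]` is `I[-4,-2]`
  set M : Subgroup G := Subgroup.centralizer ({a} : Set G) ⊓ S.Iv 6 (-5) (-2) with hM
  have hcMem : c ∈ M := by
    refine Subgroup.mem_inf.2 ⟨?_, hcM⟩
    rw [Subgroup.mem_centralizer_iff]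
    intro b hb
    rw [Set.mem_singleton_iff] at hb
    rw [hb]; exact hca
  have hle1 : S.Iv 6 (-4) (-2) ≤ M := by
    refine le_inf ?_ (S.Iv_mono 6 (by norm_num) le_rfl)
    rw [S.Iv_le_iff]
    intro k h1 h2 x hx
    rw [Subgroup.mem_centralizer_iff]
    intro b hb
    rw [Set.mem_singleton_iff] at hb
    rw [hb]
    exact (hD.comm k (-1) (abs_lt.2 ⟨by push_cast; omega, by push_cast; omega⟩) x hx a ha).symm
  have hle2 : M ≤ S.Iv 6 (-5) (-2) := inf_le_right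
  have hne : M ≠ S.Iv 6 (-5) (-2) := by
    intro he
    have hX : S.X 6 (-5) ≤ M := he ▸ S.X_le_Iv 6 (by norm_num) (by norm_num)
    have hcomm : Comm (S.X 6 (-5)) (S.X 6 (-1)) := by
      apply comm_X_of_mem S 6 hU ha ha1
      intro u hu
      have := Subgroup.mem_centralizer_iff.1 (Subgroup.mem_inf.1 (hX hu)).1 a rfl
      exact this.symm
    have hn := hD.ncomm (-5)
    have e : (-5 : ℤ) + ((4 : ℕ) : ℤ) = -1 := by norm_num
    rw [e] at hn
    exact hn hcomm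
  have c1 : Nat.card (S.Iv 6 (-4) (-2)) = S.p ^ 3 := by
    have := hI.card (-4) (-2) (by norm_num) (by norm_num)
    rw [this]; congr 1
  have c2 : Nat.card (S.Iv 6 (-5) (-2)) = S.p ^ (3 + 1) := by
    have := hI.card (-5) (-2) (by norm_num) (by norm_num)
    rw [this]; congr 1
  have hMeq : M = S.Iv 6 (-4) (-2) := eq_of_card_pow' S.hp c1 c2 hle1 hle2 hne
  have hcN : c ∈ S.Iv 6 (-4) (-1) := by
    have : c ∈ S.Iv 6 (-4) (-2) := hMeq ▸ hcMem
    exact S.Iv_mono 6 le_rfl (by norm_num) this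
  have haN : a ∈ S.Iv 6 (-4) (-1) := S.X_le_Iv 6 (by norm_num) (by norm_num) ha
  have : g * a * g⁻¹ = c * a := by rw [hc]; group
  rw [this]
  exact Subgroup.mul_mem _ hcN haN

/-- `X_(-6)` normalises `I[-4,-1]` -/
theorem t6_conj_X [Finite G] (S : Setup G) (hp2 : S.p = 2) (hU : S.Uni 6) (hI : S.Ivl 6)
    (hD : S.Dist 6 4) (hC : S.Cen 6 4) {g : G} (hg : g ∈ S.X 6 (-6)) :
    ∀ a ∈ S.Iv 6 (-4) (-1), g * a * g⁻¹ ∈ S.Iv 6 (-4) (-1) := by
  apply Iv_conj_mem_of_gens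
  intro k h1 h2 x hx
  have hk : k = -4 ∨ k = -3 ∨ k = -2 ∨ k = -1 := by omega
  rcases hk with rfl | rfl | rfl | rfl
  · have hcm : g * x = x * g :=
      hD.comm (-6) (-4) (abs_lt.2 ⟨by norm_num, by norm_num⟩) g hg x hx
    rw [hcm, mul_inv_cancel_right]
    exact S.X_le_Iv 6 (by norm_num) (by norm_num) hx
  · have hcm : g * x = x * g :=
      hD.comm (-6) (-3) (abs_lt.2 ⟨by norm_num, by norm_num⟩) g hg x hx
    rw [hcm, mul_inv_cancel_right]
    exact S.X_le_Iv 6 (by norm_num) (by norm_num) hx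
  · -- `x ∈ X_(-2) ≤ Z(I[-5,-1]) = I[-4,-2]`
    obtain ⟨hz, _⟩ := hC (-5) (-1) (by norm_num) (by norm_num)
    have e1 : (-1 : ℤ) - ((4 : ℕ) : ℤ) + 1 = -4 := by norm_num
    have e2 : (-5 : ℤ) + ((4 : ℕ) : ℤ) - 1 = -2 := by norm_num
    rw [e1, e2] at hz
    have hxz : x ∈ zc (S.Iv 6 (-5) (-1)) := by
      rw [hz]; exact S.X_le_Iv 6 (by norm_num) (by norm_num) hx
    have hgT : g ∈ S.Iv 6 (-6) (-1) := S.X_le_Iv 6 (by norm_num) (by norm_num) hg
    have := Cfsg.Agent.Lib.H16.Glaub.conj_mem_zc (H := S.Iv 6 (-5) (-1)) (B := S.Iv 6 (-6) (-1))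
      (fun g' hg' a' ha' => Cfsg.Agent.Lib.H16.Glaub.Iv_conj_right S hI (a := -6) (a' := -5)
        (b := -1) (by norm_num) (by norm_num) (by norm_num) hg' ha') hgT hxz
    rw [hz] at this
    exact S.Iv_mono 6 le_rfl (by norm_num) this
  · exact t6_conj_last S hp2 hU hI hD hg hx

/-- **(T6)**: in the case `(q,t) = (4,6)`, `p = 2`, the subgroup `I[-4,-1]` is normalised by
`P_(-1)` and by `P_0`. -/
theorem t6_normal [Finite G] (S : Setup G) (hp2 : S.p = 2) (hU : S.Uni 6) (hI : S.Ivl 6)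
    (hD : S.Dist 6 4) (hC : S.Cen 6 4) :
    S.Pj (-1) ⊔ S.Pj 0 ≤ Subgroup.normalizer ((S.Iv 6 (-4) (-1) : Subgroup G) : Set G) := by
  have e1 : S.Pj (-1) = S.Iv 6 (-6) (-1) := by
    have := hI.Pj_eq (-1)
    rw [this]; congr 1
  have e0 : S.Pj 0 = S.Iv 6 (-5) 0 := by
    have := hI.Pj_eq 0
    rw [this]; congr 1
  rw [e1, e0]
  apply sup_le
  · -- `I[-6,-1] = ⟨X_(-6), I[-5,-1]⟩`
    rw [S.Iv_le_iff]
    intro k h1 h2
    by_cases hk : k = -6
    · subst hk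
      apply le_normalizer_of_conj
      intro g hg
      exact t6_conj_X S hp2 hU hI hD hC hg
    · apply le_normalizer_of_conj
      intro g hg a ha
      have hg' : g ∈ S.Iv 6 (-5) (-1) := S.X_le_Iv 6 (by omega) h2 hg
      exact Cfsg.Agent.Lib.H16.Glaub.Iv_conj_right S hI (a := -5) (a' := -4) (b := -1)
        (by norm_num) (by norm_num) (by norm_num) hg' ha
  · rw [S.Iv_le_iff]
    intro k h1 h2
    by_cases hk : k = -5
    · subst hk
      apply le_normalizer_of_conj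
      intro g hg a ha
      have hg' : g ∈ S.Iv 6 (-5) (-1) := S.X_le_Iv 6 le_rfl (by norm_num) hg
      exact Cfsg.Agent.Lib.H16.Glaub.Iv_conj_right S hI (a := -5) (a' := -4) (b := -1)
        (by norm_num) (by norm_num) (by norm_num) hg' ha
    · apply le_normalizer_of_conj
      intro g hg a ha
      have hg' : g ∈ S.Iv 6 (-4) 0 := S.X_le_Iv 6 (by omega) h2 hg
      exact Cfsg.Agent.Lib.H16.Glaub.Iv_conj_left S hI (a := -4) (b := 0) (b' := -1)
        (by norm_num) (by norm_num) (by norm_num) hg' ha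

/-- `I[-4,-1] = P_(-1) ∩ P_0 ∩ P_1` when `t = 6` -/
theorem t6_Iv_eq [Finite G] (S : Setup G) (hU : S.Uni 6) :
    S.Iv 6 (-4) (-1) = S.Pj (-1) ⊓ S.Pj 0 ⊓ S.Pj 1 := by
  have h := Cfsg.Agent.Lib.H13.Glaub.Iv_eq_J S 6 hU (a := -4) (b := -1) (by norm_num) (by norm_num)
  have e : 6 - 1 - ((-1 : ℤ) - (-4)).toNat = 2 := by decide
  rw [e] at h
  rw [h, S.J_unfold_succ, S.J_unfold_succ, S.J_unfold_zero]
  norm_num

/-- **(T6), packaged**: for `(q,t) = (4,6)` and `p = 2`, `N = P_(-1) ∩ P_0 ∩ P_1` has order `16`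
and is normalised by `P_(-1)` and `P_0`. -/
theorem t6_kill [Finite G] (S : Setup G) (hp2 : S.p = 2) (hU : S.Uni 6) (hI : S.Ivl 6)
    (hD : S.Dist 6 4) (hC : S.Cen 6 4) :
    S.Pj (-1) ⊔ S.Pj 0 ≤ Subgroup.normalizer ((S.Pj (-1) ⊓ S.Pj 0 ⊓ S.Pj 1 : Subgroup G) : Set G) ∧
      Nat.card (S.Pj (-1) ⊓ S.Pj 0 ⊓ S.Pj 1 : Subgroup G) = 16 := by
  rw [← t6_Iv_eq S hU]
  refine ⟨t6_normal S hp2 hU hI hD hC, ?_⟩
  have := hI.card (-4) (-1) (by norm_num) (by norm_num)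
  rw [this, hp2]
  decide

end Cfsg.Agent.Lib.H14.Glaub
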