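import Cfsg.Agent.Lib.H1.G85.Defs
import Cfsg.Agent.Lib.H14.GlaubT6

/-!
S4385 piece (T6), exact signature of tools/blueprints/S4385_sigs.lean.
-/

set_option autoImplicit false

open scoped Pointwise
open Cfsg.Agent.Lib.H5.Glaub Cfsg.Agent.Lib.H5.Glaub.Setup Cfsg.Agent.Lib.H1.G85

namespace Cfsg.Agent.Lib.H14.G85

variable {G : Type*} [Group G] [Finite G]

/-- (T6) for `(q,t) = (4,6)` the subgroup `I[-4,-1]` is normal in `H_0`. -/
theorem t6_normal (S : Setup G) (hp2 : S.p = 2) (hU : S.Uni 6) (hI : S.Ivl 6) (hD : S.Dist 6 4) (hC : S.Cen 6 4) :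
    H0 S ≤ Subgroup.normalizer ((S.Iv 6 (-4) (-1) : Subgroup G) : Set G) :=
  Cfsg.Agent.Lib.H14.Glaub.t6_normal S hp2 hU hI hD hC

end Cfsg.Agent.Lib.H14.G85
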