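import Mathlib
import Cfsg.Prelude.Def_Solvable
import Cfsg.Prelude.Def_CaseTheorems
import Cfsg.Agent.Lib.H1.ZStarGen
import Cfsg.Agent.Lib.H1.CoprimeAction
import Cfsg.Agent.Lib.H22.PPrimeCore

set_option autoImplicit false

/-!
# Automorphisms fixing a Sylow 2-subgroup elementwise (helper14)

The semidirect product `G ⋊ Z` of a finite group with a 2-group `Z` of automorphisms that fix a
Sylow 2-subgroup `S` of `G` elementwise: its Sylow 2-subgroup `S × Z`, its odd core, and, for
abelian `S`, Glauberman's theorem that such an automorphism of 2-power order is inner (when the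
odd core of `G` is trivial), deduced from the general `Z*`-theorem.
-/

namespace Cfsg.Agent.Lib.H14.AutSylow

open Subgroup SemidirectProduct

universe u

variable {G : Type u} [Group G]

/-- the semidirect product of `G` with a group `Z` of automorphisms -/
abbrev Hol (Z : Subgroup (MulAut G)) : Type u := G ⋊[Z.subtype] Z

/-- the elements whose `G`-component lies in `S`, when `Z` fixes `S` elementwise -/
def bigT (S : Subgroup G) (Z : Subgroup (MulAut G)) (hfix : ∀ z ∈ Z, ∀ s ∈ S, z s = s) :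
    Subgroup (Hol Z) where
  carrier := {h | h.left ∈ S}
  one_mem' := S.one_mem
  mul_mem' := by
    intro a b ha hb
    show a.left * (Z.subtype a.right) b.left ∈ S
    have : (Z.subtype a.right) b.left = b.left := hfix _ a.right.2 _ hb
    rw [this]; exact S.mul_mem ha hb
  inv_mem' := by
    intro a ha
    show (Z.subtype a.right⁻¹) a.left⁻¹ ∈ S
    have : (Z.subtype a.right⁻¹) a.left⁻¹ = a.left⁻¹ := hfix _ (a.right⁻¹).2 _ (S.inv_mem ha)
    rw [this]; exact S.inv_mem ha

theorem mem_bigT {S : Subgroup G} {Z : Subgroup (MulAut G)}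
    {hfix : ∀ z ∈ Z, ∀ s ∈ S, z s = s} {h : Hol Z} : h ∈ bigT S Z hfix ↔ h.left ∈ S := Iff.rfl

/-- `bigT` is in bijection with `S × Z` -/
def bigTEquiv (S : Subgroup G) (Z : Subgroup (MulAut G)) (hfix : ∀ z ∈ Z, ∀ s ∈ S, z s = s) :
    bigT S Z hfix ≃ S × Z where
  toFun h := (⟨h.1.left, h.2⟩, h.1.right)
  invFun p := ⟨⟨p.1.1, p.2⟩, p.1.2⟩
  left_inv h := by ext <;> rfl
  right_inv p := by ext <;> rfl

theorem card_bigT (S : Subgroup G) (Z : Subgroup (MulAut G)) (hfix : ∀ z ∈ Z, ∀ s ∈ S, z s = s) :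
    Nat.card (bigT S Z hfix) = Nat.card S * Nat.card Z := by
  rw [Nat.card_congr (bigTEquiv S Z hfix), Nat.card_prod]

variable [Finite G]

instance finite_hol (Z : Subgroup (MulAut G)) : Finite (Hol Z) :=
  Finite.of_equiv _ (SemidirectProduct.equivProd (φ := Z.subtype)).symm

/-- `bigT` is a 2-group of odd index -/
theorem isPGroup_bigT (S : Sylow 2 G) (Z : Subgroup (MulAut G)) (hZ : IsPGroup 2 Z)
    (hfix : ∀ z ∈ Z, ∀ s ∈ (S : Subgroup G), z s = s) : IsPGroup 2 (bigT (S : Subgroup G) Z hfix) := by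
  obtain ⟨a, ha⟩ := (IsPGroup.iff_card).mp S.2
  obtain ⟨b, hb⟩ := (IsPGroup.iff_card).mp hZ
  apply IsPGroup.of_card (n := a + b)
  rw [card_bigT, ha, hb, pow_add]

theorem index_bigT (S : Sylow 2 G) (Z : Subgroup (MulAut G))
    (hfix : ∀ z ∈ Z, ∀ s ∈ (S : Subgroup G), z s = s) :
    (bigT (S : Subgroup G) Z hfix).index = (S : Subgroup G).index := by
  have h1 := (bigT (S : Subgroup G) Z hfix).card_mul_index
  have h2 := (S : Subgroup G).card_mul_index
  rw [card_bigT, SemidirectProduct.card, ← h2] at h1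
  have hpos : 0 < Nat.card (S : Subgroup G) * Nat.card Z := Nat.mul_pos Nat.card_pos Nat.card_pos
  apply Nat.eq_of_mul_eq_mul_left hpos
  rw [h1]; ring

/-- the Sylow 2-subgroup `S × Z` of `G ⋊ Z` -/
noncomputable def sylT (S : Sylow 2 G) (Z : Subgroup (MulAut G)) (hZ : IsPGroup 2 Z)
    (hfix : ∀ z ∈ Z, ∀ s ∈ (S : Subgroup G), z s = s) : Sylow 2 (Hol Z) :=
  (isPGroup_bigT S Z hZ hfix).toSylow (by
    rw [index_bigT]
    exact S.not_dvd_index)

theorem coe_sylT (S : Sylow 2 G) (Z : Subgroup (MulAut G)) (hZ : IsPGroup 2 Z)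
    (hfix : ∀ z ∈ Z, ∀ s ∈ (S : Subgroup G), z s = s) :
    ((sylT S Z hZ hfix : Sylow 2 (Hol Z)) : Subgroup (Hol Z)) = bigT (S : Subgroup G) Z hfix := rfl

/-- the odd core of `G ⋊ Z` is trivial when that of `G` is -/
theorem oddCore_hol (Z : Subgroup (MulAut G)) (hZ : IsPGroup 2 Z)
    (hcore : Cfsg.pPrimeCore 2 G = ⊥) : Cfsg.pPrimeCore 2 (Hol Z) = ⊥ := by
  have hn := Cfsg.Agent.Lib.H22.pPrimeCore_normal (G := Hol Z) 2
  have hc := Cfsg.Agent.Lib.H22.card_pPrimeCore_coprime (G := Hol Z) 2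
  set N := Cfsg.pPrimeCore 2 (Hol Z) with hN
  -- the part inside `G`
  have h1 : N.comap (inl : G →* Hol Z) ≤ Cfsg.pPrimeCore 2 G := by
    apply Cfsg.Agent.Lib.H22.le_pPrimeCore 2 _ (hn.comap _)
    have hdvd : Nat.card (N.comap (inl : G →* Hol Z)) ∣ Nat.card N := by
      have e : (N.comap (inl : G →* Hol Z)) ≃*
          ((N.comap (inl : G →* Hol Z)).map (inl : G →* Hol Z)) :=
        Subgroup.equivMapOfInjective _ _ inl_injective
      rw [Nat.card_congr e.toEquiv]
      exact Subgroup.card_dvd_of_le (Subgroup.map_comap_le _ _)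
    exact Nat.Coprime.coprime_dvd_left hdvd hc
  rw [hcore] at h1
  -- `N` embeds in `Z`
  have hinj : Function.Injective ((rightHom : Hol Z →* Z).comp N.subtype) := by
    rw [injective_iff_map_eq_one]
    intro x hx
    have hx' : rightHom (x : Hol Z) = 1 := hx
    have : (x : Hol Z) ∈ (inl : G →* Hol Z).range := by
      rw [range_inl_eq_ker_rightHom]; exact hx'
    obtain ⟨g, hg⟩ := this
    have hg' : g ∈ N.comap (inl : G →* Hol Z) := by
      rw [Subgroup.mem_comap, hg]; exact x.2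
    have := h1 hg'
    rw [Subgroup.mem_bot] at this
    apply Subtype.ext
    rw [← hg, this, map_one]; rfl
  have hdvd : Nat.card N ∣ Nat.card Z := by
    have e := MonoidHom.ofInjective hinj
    rw [Nat.card_congr e.toEquiv]
    exact Subgroup.card_subgroup_dvd_card _
  obtain ⟨b, hb⟩ := (IsPGroup.iff_card).mp hZ
  rw [hb] at hdvd
  have hone : Nat.card N = 1 := by
    have : Nat.card N ∣ 1 := by
      have h3 : (Nat.card N).Coprime (2 ^ b) := Nat.Coprime.pow_right b hc
      exact (Nat.Coprime.dvd_of_dvd_mul_right h3 (by simpa using hdvd))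
    exact Nat.dvd_one.mp this
  exact Subgroup.card_eq_one.mp hone

omit [Finite G] in
/-- `bigT` is commutative when `S` and `Z` are -/
theorem bigT_comm (S : Subgroup G) (Z : Subgroup (MulAut G))
    (hfix : ∀ z ∈ Z, ∀ s ∈ S, z s = s) (hS : ∀ a ∈ S, ∀ b ∈ S, a * b = b * a)
    (hZc : ∀ a b : Z, a * b = b * a) :
    ∀ x ∈ bigT S Z hfix, ∀ y ∈ bigT S Z hfix, x * y = y * x := by
  intro x hx y hy
  have h1 : (Z.subtype x.right) y.left = y.left := hfix _ x.right.2 _ hy
  have h2 : (Z.subtype y.right) x.left = x.left := hfix _ y.right.2 _ hx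
  ext
  · rw [mul_left, mul_left, h1, h2]; exact hS _ hx _ hy
  · rw [mul_right, mul_right, hZc]

omit [Finite G] in
/-- a subgroup `L` normalizes `N` as soon as conjugation by its elements maps `N` into `N` -/
theorem le_normalizer_of_conj_mem {H : Type*} [Group H] {L N : Subgroup H}
    (h : ∀ l ∈ L, ∀ n ∈ N, l * n * l⁻¹ ∈ N) : L ≤ Subgroup.normalizer (N : Set H) := by
  intro l hl
  rw [Subgroup.mem_normalizer_iff]
  intro n
  constructor
  · exact h l hl n
  · intro hn
    have := h l⁻¹ (L.inv_mem hl) _ hn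
    simpa [mul_assoc] using this

/-- **Glauberman.** A 2-power order automorphism fixing an abelian Sylow 2-subgroup elementwise is
inner, induced by an element of that Sylow subgroup, when `O(G) = 1`. -/
theorem inner_of_fix_abelian_sylow (hcore : Cfsg.pPrimeCore 2 G = ⊥) (P : Sylow 2 G)
    (hab : ∀ a ∈ (P : Subgroup G), ∀ b ∈ (P : Subgroup G), a * b = b * a)
    (α : MulAut G) (h2 : ∃ j : ℕ, orderOf α = 2 ^ j)
    (hfix : ∀ x ∈ (P : Subgroup G), α x = x) :
    ∃ g ∈ (P : Subgroup G), ∀ x : G, α x = g * x * g⁻¹ := by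
  classical
  set Z : Subgroup (MulAut G) := Subgroup.zpowers α with hZdef
  have hZ2 : IsPGroup 2 Z := by
    obtain ⟨j, hj⟩ := h2
    apply IsPGroup.of_card (n := j)
    rw [Nat.card_zpowers, hj]
  have hfixZ : ∀ z ∈ Z, ∀ s ∈ (P : Subgroup G), z s = s := by
    let Fix : Subgroup (MulAut G) :=
      { carrier := {φ | ∀ s ∈ (P : Subgroup G), φ s = s}
        one_mem' := fun s _ => rfl
        mul_mem' := by
          intro a b ha hb s hs
          show a (b s) = s
          rw [hb s hs, ha s hs]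
        inv_mem' := by
          intro a ha s hs
          have := ha s hs
          show a⁻¹ s = s
          conv_lhs => rw [← this]
          exact MulAut.inv_apply_self _ a s }
    have : Z ≤ Fix := by
      rw [Subgroup.zpowers_le]; exact hfix
    exact fun z hz => this hz
  have hZc : ∀ a b : Z, a * b = b * a := by
    intro a b
    obtain ⟨m, hm⟩ := Subgroup.mem_zpowers_iff.mp a.2
    obtain ⟨n, hn⟩ := Subgroup.mem_zpowers_iff.mp b.2
    apply Subtype.ext
    show (a : MulAut G) * b = b * a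
    rw [← hm, ← hn, ← zpow_add, ← zpow_add, add_comm]
  -- the Sylow subgroup of the semidirect product
  set T : Sylow 2 (Hol Z) := sylT P Z hZ2 hfixZ with hTdef
  have hTcoe : (T : Subgroup (Hol Z)) = bigT (P : Subgroup G) Z hfixZ := rfl
  have hTcomm : ∀ x ∈ (T : Subgroup (Hol Z)), ∀ y ∈ (T : Subgroup (Hol Z)), x * y = y * x :=
    bigT_comm _ Z hfixZ hab hZc
  have : IsMulCommutative (T : Subgroup (Hol Z)) :=
    ⟨⟨fun x y => Subtype.ext (hTcomm x x.2 y y.2)⟩⟩
  -- the element `a` and the subgroup `N = S`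
  set a : Hol Z := inr ⟨α, Subgroup.mem_zpowers α⟩ with ha
  have haT : a ∈ (T : Subgroup (Hol Z)) := by
    rw [hTcoe, mem_bigT]; exact (P : Subgroup G).one_mem
  set N : Subgroup (Hol Z) := (P : Subgroup G).map (inl : G →* Hol Z) with hNdef
  have hN_iff : ∀ x : Hol Z, x ∈ N ↔ x ∈ (T : Subgroup (Hol Z)) ∧ x.right = 1 := by
    intro x
    constructor
    · rintro ⟨s, hs, rfl⟩
      exact ⟨by rw [hTcoe, mem_bigT]; exact hs, rfl⟩
    · rintro ⟨hxT, hxr⟩
      refine ⟨x.left, hxT, ?_⟩
      apply SemidirectProduct.ext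
      · rfl
      · exact hxr.symm
  set Nrm : Subgroup (Hol Z) :=
    Subgroup.normalizer ((T : Subgroup (Hol Z)) : Set (Hol Z)) with hNrm
  have hTN : (T : Subgroup (Hol Z)) ≤ Nrm := Subgroup.le_normalizer
  -- Schur–Zassenhaus in the normalizer
  have hnorm : ((T : Subgroup (Hol Z)).subgroupOf Nrm).Normal := Subgroup.normal_in_normalizer
  obtain ⟨n, hn⟩ := (IsPGroup.iff_card).mp T.2
  have hodd : ¬ 2 ∣ ((T : Subgroup (Hol Z)).subgroupOf Nrm).index := by
    intro h
    apply T.not_dvd_index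
    have := Subgroup.relIndex_mul_index hTN
    rw [← this]
    exact Dvd.dvd.mul_right h _
  have hcop : Nat.Coprime (Nat.card ((T : Subgroup (Hol Z)).subgroupOf Nrm))
      ((T : Subgroup (Hol Z)).subgroupOf Nrm).index := by
    rw [Nat.card_congr (Subgroup.subgroupOfEquivOfLe hTN).toEquiv, hn]
    exact Nat.Coprime.pow_left n ((Nat.Prime.coprime_iff_not_dvd Nat.prime_two).mpr hodd)
  obtain ⟨L', hL'⟩ := Subgroup.exists_right_complement'_of_coprime hcop
  set L : Subgroup (Hol Z) := L'.map Nrm.subtype with hLdef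
  have hLN : L ≤ Nrm := by
    rintro _ ⟨x, -, rfl⟩
    exact x.2
  have hcardL : Nat.card L = ((T : Subgroup (Hol Z)).subgroupOf Nrm).index := by
    rw [Nat.card_congr (Subgroup.equivMapOfInjective L' Nrm.subtype
      Nrm.subtype_injective).symm.toEquiv]
    exact hL'.symm.index_eq_card.symm
  have hTsolv : Group.IsSolvable (T : Subgroup (Hol Z)) :=
    Group.isSolvable_of_comm (fun x y => Subtype.ext (hTcomm x x.2 y y.2))
  have hCA : Cfsg.Agent.Lib.H1.CoprimeAction L (T : Subgroup (Hol Z)) := by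
    refine ⟨hLN, ?_, Or.inr hTsolv⟩
    rw [hcardL, hn]
    exact Nat.Coprime.pow_right n
      ((Nat.Prime.coprime_iff_not_dvd Nat.prime_two).mpr hodd).symm
  have hNT : N ≤ (T : Subgroup (Hol Z)) := fun x hx => ((hN_iff x).mp hx).1
  have hTnN : (T : Subgroup (Hol Z)) ≤ Subgroup.normalizer (N : Set (Hol Z)) := by
    apply le_normalizer_of_conj_mem
    intro t ht x hx
    have : t * x * t⁻¹ = x := by
      rw [hTcomm t ht x (hNT hx), mul_inv_cancel_right]
    rw [this]; exact hx
  have hNrmN : Nrm ≤ Subgroup.normalizer (N : Set (Hol Z)) := by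
    apply le_normalizer_of_conj_mem
    intro l hl x hx
    rw [hN_iff] at hx ⊢
    refine ⟨(Subgroup.mem_normalizer_iff.mp hl x).mp hx.1, ?_⟩
    rw [mul_right, mul_right, hx.2, mul_one, inv_right, mul_inv_cancel]
  have hfixa : ∀ l ∈ L, l * a * l⁻¹ * a⁻¹ ∈ N := by
    intro l hl
    rw [hN_iff]
    refine ⟨Subgroup.mul_mem _ ((Subgroup.mem_normalizer_iff.mp (hLN hl) a).mp haT)
      (Subgroup.inv_mem _ haT), ?_⟩
    rw [mul_right, mul_right, mul_right, inv_right, inv_right, hZc l.right a.right,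
      mul_inv_cancel_right, mul_inv_cancel]
  obtain ⟨c, hc, hac⟩ := Cfsg.Agent.Lib.H1.coprime_centralizer_quotient hCA hNT hTnN
    (hLN.trans hNrmN) haT hfixa
  -- `c` commutes with the normalizer of `T`
  have hcT : c ∈ (T : Subgroup (Hol Z)) := hc.1
  have hcL : c ∈ Subgroup.centralizer (L : Set (Hol Z)) := hc.2
  have hcNrm : ∀ x ∈ Nrm, x * c = c * x := by
    have hle : Nrm ≤ Subgroup.centralizer ({c} : Set (Hol Z)) := by
      have h1 : (T : Subgroup (Hol Z)) ≤ Subgroup.centralizer ({c} : Set (Hol Z)) := by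
        intro t ht
        rw [Subgroup.mem_centralizer_singleton_iff]
        exact hTcomm t ht c hcT
      have h2 : L ≤ Subgroup.centralizer ({c} : Set (Hol Z)) := by
        intro l hl
        rw [Subgroup.mem_centralizer_singleton_iff]
        exact hcL l hl
      have h3 : Nrm ≤ (T : Subgroup (Hol Z)) ⊔ L := by
        have hsup := hL'.sup_eq_top
        intro x hx
        have hx' : (⟨x, hx⟩ : Nrm) ∈ ((T : Subgroup (Hol Z)).subgroupOf Nrm) ⊔ L' := by
          rw [hsup]; trivial
        have hx'' := Subgroup.mem_map_of_mem Nrm.subtype hx'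
        rw [Subgroup.map_sup, Subgroup.subgroupOf_map_subtype] at hx''
        exact (sup_le_sup_right (inf_le_left : (T : Subgroup (Hol Z)) ⊓ Nrm ≤ _) L) hx''
      exact h3.trans (sup_le h1 h2)
    intro x hx
    exact Subgroup.mem_centralizer_singleton_iff.mp (hle hx)
  -- hence `c` is isolated
  have hJ : Cfsg.Agent.Lib.H1.ZStarGen.JHyp T (Subgroup.zpowers c) := by
    refine ⟨by rw [Subgroup.zpowers_le]; exact hcT, ?_⟩
    intro y hy g hg
    have hyT : y ∈ (T : Subgroup (Hol Z)) := by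
      have : Subgroup.zpowers c ≤ (T : Subgroup (Hol Z)) := by
        rw [Subgroup.zpowers_le]; exact hcT
      exact this hy
    have hg' : g⁻¹⁻¹ * y * g⁻¹ ∈ (T : Subgroup (Hol Z)) := by rwa [inv_inv]
    obtain ⟨m, hm, hmy⟩ := T.conj_eq_normalizer_conj_of_mem y g⁻¹ hyT hg'
    rw [inv_inv] at hmy
    rw [hmy]
    obtain ⟨k, rfl⟩ := Subgroup.mem_zpowers_iff.mp hy
    have hcomm : Commute m c := hcNrm m hm
    have := (hcomm.zpow_right k).eq
    rw [mul_assoc, ← this, inv_mul_cancel_left]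
  have hcentral := Cfsg.Agent.Lib.H1.ZStarGen.gz T (Subgroup.zpowers c) hJ c
    (Subgroup.mem_zpowers c)
  have hoc : Cfsg.oddCore (Hol Z) = ⊥ := oddCore_hol Z hZ2 hcore
  -- read off the inner automorphism
  obtain ⟨s, hs, hsc⟩ := hac
  refine ⟨s⁻¹, (P : Subgroup G).inv_mem hs, ?_⟩
  have hcs : c = a * inl s := by
    rw [hsc, mul_inv_cancel_left]
  have key : ∀ x : G, α (s * x * s⁻¹) = x := by
    intro x
    have h1 := hcentral (inl x)
    rw [hoc, Subgroup.mem_bot] at h1
    have h2 : c * inl x * c⁻¹ = inl x := by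
      have : c * inl x * c⁻¹ = (c * inl x * c⁻¹ * (inl x)⁻¹) * inl x := by group
      rw [this, h1, one_mul]
    rw [hcs] at h2
    have h3 : (inl (α (s * x * s⁻¹)) : Hol Z) = inl x := by
      rw [← h2]
      have : (inl (α (s * x * s⁻¹)) : Hol Z) = a * inl (s * x * s⁻¹) * a⁻¹ := by
        rw [ha, ← map_inv]
        exact inl_aut (φ := Z.subtype) (⟨α, Subgroup.mem_zpowers α⟩ : Z) (s * x * s⁻¹)
      rw [this, map_mul, map_mul, map_inv]
      group
    exact inl_injective h3
  intro x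
  have := key (s⁻¹ * x * s)
  rw [show s * (s⁻¹ * x * s) * s⁻¹ = x by group] at this
  rw [this, inv_inv]

end Cfsg.Agent.Lib.H14.AutSylow
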