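import Cfsg.Agent.Lib.H14.Subnormal2
import Cfsg.Prelude.Def_LocalStructure

/-! p-closed groups, p-irreducible groups: basic tools. -/

set_option autoImplicit false

namespace Cfsg.Agent.Lib.H14

theorem isPClosed_of_normal_sylow {H : Type*} [Group H] [Finite H] {p : ℕ} [Fact p.Prime]
    (P : Sylow p H) (h : (P : Subgroup H).Normal) : Cfsg.IsPClosed p H := by
  intro Q
  have := Sylow.unique_of_normal P h
  rwa [Subsingleton.elim Q P]

/-- A normal Sylow subgroup of a normal subgroup is normal in the whole group. -/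
theorem sylow_map_normal_of_pclosed {H : Type*} [Group H] [Finite H] {p : ℕ} [Fact p.Prime]
    (N : Subgroup H) [N.Normal] (hN : Cfsg.IsPClosed p ↥N) (P : Sylow p ↥N) :
    ((P : Subgroup ↥N).map N.subtype).Normal := by
  have := Sylow.characteristic_of_normal P (hN P)
  exact ConjAct.normal_of_characteristic_of_normal

theorem le_pCore_of_pclosed_normal {H : Type*} [Group H] [Finite H] {p : ℕ} [Fact p.Prime]
    (N : Subgroup H) [N.Normal] (hN : Cfsg.IsPClosed p ↥N) (Y : Subgroup H) (hYN : Y ≤ N)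
    (hY : IsPGroup p Y) : Y ≤ Cfsg.pCore p H := by
  obtain ⟨P, hP⟩ := (hY.comap_subtype (K := N)).exists_le_sylow
  have hn := sylow_map_normal_of_pclosed N hN P
  have hp : IsPGroup p ((P : Subgroup ↥N).map N.subtype) := P.2.map _
  have h1 : (P : Subgroup ↥N).map N.subtype ≤ Cfsg.pCore p H := le_sSup ⟨hn, hp⟩
  refine le_trans ?_ h1
  intro y hy
  refine ⟨⟨y, hYN hy⟩, hP ?_, rfl⟩
  exact hy

theorem isPClosed_of_sylow_le_pclosed {H : Type*} [Group H] [Finite H] {p : ℕ} [Fact p.Prime]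
    (N : Subgroup H) [N.Normal] (T : Sylow p H) (hT : (T : Subgroup H) ≤ N)
    (hN : Cfsg.IsPClosed p ↥N) : Cfsg.IsPClosed p H := by
  have h1 : (T : Subgroup H) ≤ Cfsg.pCore p H := le_pCore_of_pclosed_normal N hN T hT T.2
  have h2 : (T : Subgroup H) = Cfsg.pCore p H := le_antisymm h1 (pCore_le_sylow T)
  apply isPClosed_of_normal_sylow T
  rw [h2]; exact pCore_normal

theorem mem_of_mem_sup_pgroup {H : Type*} [Group H] {p : ℕ} (N T : Subgroup H) [N.Normal]
    (hT : IsPGroup p T) (x : H) (hx : x ∈ N ⊔ T) (hc : (orderOf x).Coprime p) : x ∈ N := by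
  have hx' : x ∈ ((N ⊔ T : Subgroup H) : Set H) := hx
  rw [Subgroup.normal_mul] at hx'
  obtain ⟨n, hn, t, ht, rfl⟩ := Set.mem_mul.mp hx'
  obtain ⟨k, hk⟩ := hT ⟨t, ht⟩
  apply mem_of_pow_mem_of_coprime p N _ hc k
  rw [← QuotientGroup.eq_one_iff, QuotientGroup.mk_pow, QuotientGroup.mk_mul,
    (QuotientGroup.eq_one_iff n).mpr hn, one_mul, ← QuotientGroup.mk_pow, QuotientGroup.eq_one_iff]
  have h1 : t ^ p ^ k = 1 := by simpa using congrArg Subtype.val hk
  rw [h1]; exact N.one_mem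

theorem presOf_le_of_le_sup {H : Type*} [Group H] {p : ℕ} (N T K : Subgroup H) [N.Normal]
    (hT : IsPGroup p T) (hK : K ≤ N ⊔ T) : presOf p K ≤ N := by
  unfold presOf
  rw [Subgroup.closure_le]
  rintro x ⟨hxK, hc⟩
  exact mem_of_mem_sup_pgroup N T hT x (hK hxK) hc

theorem pResidual_le_of_sup_eq_top {H : Type*} [Group H] {p : ℕ} (N T : Subgroup H) [N.Normal]
    (hT : IsPGroup p T) (h : N ⊔ T = ⊤) : Cfsg.pResidual p H ≤ N := by
  unfold Cfsg.pResidual
  rw [Subgroup.closure_le]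
  intro x hx
  exact mem_of_mem_sup_pgroup N T hT x (h ▸ Subgroup.mem_top x) hx

theorem pResidual_eq_presOf_top {H : Type*} [Group H] {p : ℕ} :
    Cfsg.pResidual p H = presOf p (⊤ : Subgroup H) := by
  unfold Cfsg.pResidual presOf
  congr 1
  ext x
  simp

theorem pResidual_normal' {H : Type*} [Group H] {p : ℕ} : (Cfsg.pResidual p H).Normal := by
  constructor
  intro x hx g
  rw [pResidual_eq_presOf_top] at hx ⊢
  exact presOf_conj_mem p ⊤ g (by rw [Subgroup.mem_normalizer_iff]; simp) x hx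

theorem pResidual_quotient_isPGroup {H : Type*} [Group H] [Finite H] {p : ℕ} [Fact p.Prime]
    [hn : (Cfsg.pResidual p H).Normal] : IsPGroup p (H ⧸ Cfsg.pResidual p H) := by
  intro y
  obtain ⟨x, rfl⟩ := QuotientGroup.mk_surjective y
  obtain ⟨k, hk⟩ := exists_pow_mem_presOf p ⊤ x (Subgroup.mem_top x)
  refine ⟨k, ?_⟩
  rw [← QuotientGroup.mk_pow, QuotientGroup.eq_one_iff, pResidual_eq_presOf_top]
  exact hk

theorem pResidual_sup_sylow {H : Type*} [Group H] [Finite H] {p : ℕ} [Fact p.Prime]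
    (T : Sylow p H) : Cfsg.pResidual p H ⊔ (T : Subgroup H) = ⊤ := by
  have : (Cfsg.pResidual p H).Normal := pResidual_normal'
  have hq : IsPGroup p (H ⧸ Cfsg.pResidual p H) := pResidual_quotient_isPGroup
  obtain ⟨n, hn⟩ := IsPGroup.iff_card.mp hq
  have h1 : (Cfsg.pResidual p H ⊔ (T : Subgroup H)).index ∣ (Cfsg.pResidual p H).index :=
    Subgroup.index_dvd_of_le le_sup_left
  have h2 : (Cfsg.pResidual p H ⊔ (T : Subgroup H)).index ∣ (T : Subgroup H).index :=
    Subgroup.index_dvd_of_le le_sup_right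
  have h3 : ¬ p ∣ (T : Subgroup H).index := T.not_dvd_index
  rw [Subgroup.index_eq_card (Cfsg.pResidual p H), hn] at h1
  obtain ⟨j, hj, e⟩ := (Nat.dvd_prime_pow (Fact.out)).mp h1
  rcases Nat.eq_zero_or_pos j with rfl | hjpos
  · rw [pow_zero] at e; exact Subgroup.index_eq_one.mp e
  · exfalso; apply h3
    refine dvd_trans ?_ h2
    rw [e]; exact dvd_pow_self p hjpos.ne'

theorem relIndex_dvd_index_of_normal_right {H : Type*} [Group H] [Finite H] (T N : Subgroup H)
    [N.Normal] : T.relIndex N ∣ T.index := by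
  have h1 : (T ⊓ N).relIndex N * N.index = (T ⊓ N).index := Subgroup.relIndex_mul_index inf_le_right
  have h2 : (T ⊓ N).relIndex T * T.index = (T ⊓ N).index := Subgroup.relIndex_mul_index inf_le_left
  rw [Subgroup.inf_relIndex_right] at h1
  rw [Subgroup.inf_relIndex_left] at h2
  obtain ⟨m, hm⟩ := Subgroup.relIndex_dvd_index_of_normal (H := N) (K := T)
  have h0 : N.relIndex T ≠ 0 := Subgroup.index_ne_zero_of_finite
  refine ⟨m, ?_⟩
  apply Nat.eq_of_mul_eq_mul_left (Nat.pos_of_ne_zero h0)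
  rw [h2, ← h1, hm]; ring

/-- The intersection of a Sylow subgroup with a normal subgroup is a Sylow subgroup of it. -/
noncomputable def sylowInf {H : Type*} [Group H] [Finite H] {p : ℕ} [Fact p.Prime]
    (T : Sylow p H) (N : Subgroup H) [N.Normal] : Sylow p ↥N :=
  IsPGroup.toSylow (P := ((T : Subgroup H) ⊓ N).subgroupOf N)
    ((T.2.to_le inf_le_left).comap_subtype)
    (by
      intro h
      have h1 : (((T : Subgroup H) ⊓ N).subgroupOf N).index = (T : Subgroup H).relIndex N := by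
        rw [← Subgroup.inf_relIndex_right]; rfl
      rw [h1] at h
      exact T.not_dvd_index (h.trans (relIndex_dvd_index_of_normal_right _ N)))

theorem sylowInf_coe {H : Type*} [Group H] [Finite H] {p : ℕ} [Fact p.Prime]
    (T : Sylow p H) (N : Subgroup H) [N.Normal] :
    ((sylowInf T N : Sylow p ↥N) : Subgroup ↥N) = ((T : Subgroup H) ⊓ N).subgroupOf N := rfl

theorem sylowInf_map {H : Type*} [Group H] [Finite H] {p : ℕ} [Fact p.Prime]
    (T : Sylow p H) (N : Subgroup H) [N.Normal] :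
    ((sylowInf T N : Sylow p ↥N) : Subgroup ↥N).map N.subtype = (T : Subgroup H) ⊓ N := by
  rw [sylowInf_coe, Subgroup.map_subgroupOf_eq_of_le inf_le_right]

end Cfsg.Agent.Lib.H14
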