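import Mathlib
import Cfsg.Prelude.Def_Characters
import Cfsg.Prelude.Def_Blocks
import Cfsg.Agent.Lib.H22.M7920F9
import Cfsg.Agent.Lib.H12.M7920F10
import Cfsg.Agent.Lib.H4.M7920F11
import Cfsg.Agent.Lib.H21.M7920F12a
import Cfsg.Agent.Lib.H23.DefectZero
import Cfsg.Agent.Lib.H23.DegreeDvd
import Cfsg.Agent.Lib.H24.CharOrth
import Cfsg.Agent.Lib.H24.CharBasic
import Cfsg.Agent.Lib.H24.CodegreeDvd

/-!
S4429 / S0435 / S0434: the strong form of (CASEA) (helper14).  In pattern (A) of the 11-block analysis of a simple group of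
order 7920 we produce `y` of order 5 with `|C(y)| = 5`, the three remaining characters `θ, θ', φ` of degrees 11, 44, 55, all
values at `y`, and the fact that the ten characters exhaust `Irr(G)`.
-/

set_option autoImplicit false
namespace Cfsg.Agent.Lib.H14.M7920
open Cfsg
open scoped BigOperators ComplexConjugate
universe u

/-- An irreducible character of degree divisible by 5 vanishes at elements of order 5 (`5 ∥ 7920`). -/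
theorem vanish_order5 {G : Type u} [Group G] [Fintype G] (hG : Nat.card G = 7920) (ψ : IrrCharacter G)
    (d : ℕ) (hd : (ψ : G → ℂ) 1 = d) (h5 : 5 ∣ d) (y : G) (hy : orderOf y = 5) :
    (ψ : G → ℂ) y = 0 := by
  classical
  obtain ⟨n, ρ, hρ, hρχ⟩ := ψ.2
  have := hρ
  have hn : n = d := by
    have h1 : ρ.character 1 = (n : ℂ) := by
      rw [Representation.char_one]; simp
    rw [hρχ, hd] at h1
    exact_mod_cast h1.symm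
  rw [← hρχ]
  apply Cfsg.Agent.Lib.H23.char_eq_zero_of_defect_zero ρ 5 1 (by norm_num)
  · rw [hG]; norm_num
  · rw [Module.finrank_fin_fun, hn]; simpa using h5
  · rw [hy]

/-- A sum over seven pairwise distinct points. -/
theorem sum_seven {ι M : Type*} [DecidableEq ι] [AddCommMonoid M] (f : ι → M) (a b c d e g h : ι)
    (hab : a ≠ b) (hac : a ≠ c) (had : a ≠ d) (hae : a ≠ e) (hag : a ≠ g) (hah : a ≠ h)
    (hbc : b ≠ c) (hbd : b ≠ d) (hbe : b ≠ e) (hbg : b ≠ g) (hbh : b ≠ h)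
    (hcd : c ≠ d) (hce : c ≠ e) (hcg : c ≠ g) (hch : c ≠ h)
    (hde : d ≠ e) (hdg : d ≠ g) (hdh : d ≠ h) (heg : e ≠ g) (heh : e ≠ h) (hgh : g ≠ h) :
    ∑ i ∈ ({a, b, c, d, e, g, h} : Finset ι), f i = f a + f b + f c + f d + f e + f g + f h := by
  rw [Finset.sum_insert (by simp [hab, hac, had, hae, hag, hah]),
    Finset.sum_insert (by simp [hbc, hbd, hbe, hbg, hbh]),
    Finset.sum_insert (by simp [hcd, hce, hcg, hch]),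
    Finset.sum_insert (by simp [hde, hdg, hdh]),
    Finset.sum_insert (by simp [heg, heh]),
    Finset.sum_insert (by simp [hgh]), Finset.sum_singleton]
  simp only [add_assoc]

theorem small_values (B₁ B₂ B₃ : ℤ) (c₁ c₂ c₃ : ℕ) (h : B₁ ^ 2 + B₂ ^ 2 + B₃ ^ 2 = 2)
    (h1 : (11 : ℤ) = B₁ + 5 * c₁) (h2 : (44 : ℤ) = B₂ + 5 * c₂) (h3 : (55 : ℤ) = B₃ + 5 * c₃) :
    B₁ = 1 ∧ B₂ = -1 ∧ B₃ = 0 := by
  have b1 : -1 ≤ B₁ ∧ B₁ ≤ 1 := by constructor <;> nlinarith [sq_nonneg B₂, sq_nonneg B₃]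
  have b2 : -1 ≤ B₂ ∧ B₂ ≤ 1 := by constructor <;> nlinarith [sq_nonneg B₁, sq_nonneg B₃]
  have b3 : -1 ≤ B₃ ∧ B₃ ≤ 1 := by constructor <;> nlinarith [sq_nonneg B₁, sq_nonneg B₂]
  omega

/-- (CASEA, strong form). -/
theorem caseA_structure {G : Type u} [Group G] [Fintype G] [IsSimpleGroup G] (hG : Nat.card G = 7920)
    {x : G} (hx : orderOf x = 11) (η : ℂ)
    (χ₁ χ₂ ψ₁ ψ₂ ψ₃ ψ₄ : IrrCharacter G) (hne : χ₁ ≠ χ₂)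
    (hx1 : (χ₁ : G → ℂ) x = -(1 + η)) (hx2 : (χ₂ : G → ℂ) x = η)
    (h12 : ψ₁ ≠ ψ₂) (h13 : ψ₁ ≠ ψ₃) (h14 : ψ₁ ≠ ψ₄) (h23 : ψ₂ ≠ ψ₃) (h24 : ψ₂ ≠ ψ₄) (h34 : ψ₃ ≠ ψ₄)
    (hd1 : (χ₁ : G → ℂ) 1 = 16) (hd2 : (χ₂ : G → ℂ) 1 = 16)
    (he1 : (ψ₁ : G → ℂ) 1 = 10) (he2 : (ψ₂ : G → ℂ) 1 = 10) (he3 : (ψ₃ : G → ℂ) 1 = 10)
    (he4 : (ψ₄ : G → ℂ) 1 = 45)
    (hvan : ∀ ψ : IrrCharacter G, (ψ : G → ℂ) ≠ 1 → ψ ≠ χ₁ → ψ ≠ χ₂ → ψ ≠ ψ₁ → ψ ≠ ψ₂ → ψ ≠ ψ₃ → ψ ≠ ψ₄ →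
      (ψ : G → ℂ) x = 0 ∧ ∃ c : ℕ, (ψ : G → ℂ) 1 = 11 * c)
    (hrel : ∀ g : G, ¬ IsConj g x → ¬ IsConj g x⁻¹ → (χ₁ : G → ℂ) g = (χ₂ : G → ℂ) g ∧
      1 - (ψ₁ : G → ℂ) g - (ψ₂ : G → ℂ) g - (ψ₃ : G → ℂ) g + (ψ₄ : G → ℂ) g - (χ₁ : G → ℂ) g = 0) :
    ∃ (y : G) (θ θ' φ : IrrCharacter G),
      Nat.card (Subgroup.centralizer ({y} : Set G)) = 5 ∧
      (θ : G → ℂ) 1 = 11 ∧ (θ' : G → ℂ) 1 = 44 ∧ (φ : G → ℂ) 1 = 55 ∧
      (θ : G → ℂ) x = 0 ∧ (θ' : G → ℂ) x = 0 ∧ (φ : G → ℂ) x = 0 ∧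
      (ψ₁ : G → ℂ) y = 0 ∧ (ψ₂ : G → ℂ) y = 0 ∧ (ψ₃ : G → ℂ) y = 0 ∧ (ψ₄ : G → ℂ) y = 0 ∧
      (χ₁ : G → ℂ) y = 1 ∧ (χ₂ : G → ℂ) y = 1 ∧ (θ : G → ℂ) y = 1 ∧ (θ' : G → ℂ) y = -1 ∧
      (φ : G → ℂ) y = 0 ∧
      ∀ ξ : IrrCharacter G, (ξ : G → ℂ) = 1 ∨ ξ = ψ₁ ∨ ξ = ψ₂ ∨ ξ = ψ₃ ∨ ξ = ψ₄ ∨ ξ = χ₁ ∨ ξ = χ₂ ∨
        ξ = θ ∨ ξ = θ' ∨ ξ = φ := by
  classical
  have : Fintype (IrrCharacter G) := Fintype.ofFinite _
  have : Fact (Nat.Prime 5) := ⟨by norm_num⟩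
  obtain ⟨y, hy⟩ := exists_prime_orderOf_dvd_card' (G := G) 5 (by rw [hG]; norm_num)
  -- `y` is not conjugate to `x`, `x⁻¹`, `1`
  have hyx : ¬ IsConj y x := by
    rintro ⟨c, hc⟩
    have : orderOf y = orderOf x := SemiconjBy.orderOf_eq _ hc
    rw [hx, hy] at this
    norm_num at this
  have hyx' : ¬ IsConj y x⁻¹ := by
    rintro ⟨c, hc⟩
    have : orderOf y = orderOf x⁻¹ := SemiconjBy.orderOf_eq _ hc
    rw [orderOf_inv, hx, hy] at this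
    norm_num at this
  have h1y : ¬ IsConj (1 : G) y := by
    intro h
    have h1 : y = 1 := (isConj_one_right.1 h)
    rw [h1, orderOf_one] at hy
    norm_num at hy
  -- vanishing at `y`
  have hy1 : (ψ₁ : G → ℂ) y = 0 := vanish_order5 hG ψ₁ 10 (by rw [he1]; norm_num) (by norm_num) y hy
  have hy2 : (ψ₂ : G → ℂ) y = 0 := vanish_order5 hG ψ₂ 10 (by rw [he2]; norm_num) (by norm_num) y hy
  have hy3 : (ψ₃ : G → ℂ) y = 0 := vanish_order5 hG ψ₃ 10 (by rw [he3]; norm_num) (by norm_num) y hy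
  have hy4 : (ψ₄ : G → ℂ) y = 0 := vanish_order5 hG ψ₄ 45 (by rw [he4]; norm_num) (by norm_num) y hy
  obtain ⟨hχeq, hrely⟩ := hrel y hyx hyx'
  have hyχ1 : (χ₁ : G → ℂ) y = 1 := by
    rw [hy1, hy2, hy3, hy4] at hrely
    linear_combination -hrely
  have hyχ2 : (χ₂ : G → ℂ) y = 1 := by rw [← hχeq, hyχ1]
  -- the trivial character and distinctness by degrees
  set τ : IrrCharacter G := Cfsg.Agent.Lib.H24.trivialIrr G with hτ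
  have hτ1 : (τ : G → ℂ) 1 = 1 := rfl
  have hnd : ∀ {a b : IrrCharacter G} {m n : ℂ}, (a : G → ℂ) 1 = m → (b : G → ℂ) 1 = n → m ≠ n →
      a ≠ b := fun ha hb hmn hab => hmn (by rw [← ha, ← hb, hab])
  have hτχ1 : τ ≠ χ₁ := hnd hτ1 hd1 (by norm_num)
  have hτχ2 : τ ≠ χ₂ := hnd hτ1 hd2 (by norm_num)
  have hτψ1 : τ ≠ ψ₁ := hnd hτ1 he1 (by norm_num)
  have hτψ2 : τ ≠ ψ₂ := hnd hτ1 he2 (by norm_num)
  have hτψ3 : τ ≠ ψ₃ := hnd hτ1 he3 (by norm_num)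
  have hτψ4 : τ ≠ ψ₄ := hnd hτ1 he4 (by norm_num)
  have hχ1ψ1 : χ₁ ≠ ψ₁ := hnd hd1 he1 (by norm_num)
  have hχ1ψ2 : χ₁ ≠ ψ₂ := hnd hd1 he2 (by norm_num)
  have hχ1ψ3 : χ₁ ≠ ψ₃ := hnd hd1 he3 (by norm_num)
  have hχ1ψ4 : χ₁ ≠ ψ₄ := hnd hd1 he4 (by norm_num)
  have hχ2ψ1 : χ₂ ≠ ψ₁ := hnd hd2 he1 (by norm_num)
  have hχ2ψ2 : χ₂ ≠ ψ₂ := hnd hd2 he2 (by norm_num)
  have hχ2ψ3 : χ₂ ≠ ψ₃ := hnd hd2 he3 (by norm_num)
  have hχ2ψ4 : χ₂ ≠ ψ₄ := hnd hd2 he4 (by norm_num)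
  have hone : ∀ ξ : IrrCharacter G, (ξ : G → ℂ) = 1 → ξ = τ := by
    intro ξ h
    apply Subtype.ext
    rw [h]
    rfl
  have hχ1ne : (χ₁ : G → ℂ) ≠ 1 := fun h => hτχ1 (hone χ₁ h).symm
  have hχ2ne : (χ₂ : G → ℂ) ≠ 1 := fun h => hτχ2 (hone χ₂ h).symm
  -- (F11): `|C(y)| ∣ 15`
  have hC15 : Nat.card (Subgroup.centralizer ({y} : Set G)) ∣ 15 := by
    refine Cfsg.Agent.Lib.H4.M7920.cent5_caseA hG (x := x) (y := y) η χ₁ χ₂ hne hχ1ne hχ2ne hx1 hx2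
      hd1 hd2 hyχ1 hyχ2 ?_
    intro ψ h1 h2 h3
    by_cases e1 : ψ = ψ₁
    · left; rw [e1]; exact hy1
    by_cases e2 : ψ = ψ₂
    · left; rw [e2]; exact hy2
    by_cases e3 : ψ = ψ₃
    · left; rw [e3]; exact hy3
    by_cases e4 : ψ = ψ₄
    · left; rw [e4]; exact hy4
    right
    exact (hvan ψ h1 h2 h3 e1 e2 e3 e4).1
  -- (F9)
  obtain ⟨hC5, hy2conj⟩ := Cfsg.Agent.Lib.H22.M7920.sylow5_data hG y hy hC15
  -- (F10): integer values at `y`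
  have hval := fun ψ : IrrCharacter G => Cfsg.Agent.Lib.H12.M7920.values5 ψ y hy hy2conj
  choose B c hB hBc using hval
  set d : IrrCharacter G → ℕ := fun ξ => charDegree (ξ : G → ℂ) with hd
  have hdξ : ∀ ξ : IrrCharacter G, (ξ : G → ℂ) 1 = (d ξ : ℂ) := fun ξ =>
    (Cfsg.Agent.Lib.H24.charDegree_irr ξ).symm
  have hdeq : ∀ (ξ : IrrCharacter G) (n : ℕ), (ξ : G → ℂ) 1 = n → d ξ = n := by
    intro ξ n h
    have := hdξ ξ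
    rw [h] at this
    exact_mod_cast this.symm
  have hBeq : ∀ (ξ : IrrCharacter G) (n : ℤ), (ξ : G → ℂ) y = n → B ξ = n := by
    intro ξ n h
    have := hB ξ
    rw [h] at this
    exact_mod_cast this.symm
  have hcong : ∀ ξ : IrrCharacter G, (d ξ : ℤ) = B ξ + 5 * c ξ := by
    intro ξ
    have h1 := hBc ξ
    rw [hdξ ξ] at h1
    exact_mod_cast h1
  -- the three sums over `Irr(G)`
  have hsumB2 : ∑ ξ : IrrCharacter G, B ξ ^ 2 = 5 := by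
    have h := Cfsg.Agent.Lib.H24.second_orthogonality (G := G) y y
    rw [if_pos (IsConj.refl y), hC5] at h
    have h2 : ((∑ ξ : IrrCharacter G, B ξ ^ 2 : ℤ) : ℂ) = ((5 : ℕ) : ℂ) := by
      rw [← h]
      push_cast
      refine Finset.sum_congr rfl fun ξ _ => ?_
      rw [hB ξ, map_intCast]
      ring
    exact_mod_cast h2
  have hsumdB : ∑ ξ : IrrCharacter G, (d ξ : ℤ) * B ξ = 0 := by
    have h := Cfsg.Agent.Lib.H24.second_orthogonality (G := G) 1 y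
    rw [if_neg h1y] at h
    have h2 : ((∑ ξ : IrrCharacter G, (d ξ : ℤ) * B ξ : ℤ) : ℂ) = 0 := by
      rw [← h]
      push_cast
      refine Finset.sum_congr rfl fun ξ _ => ?_
      rw [hB ξ, map_intCast, hdξ ξ]
    exact_mod_cast h2
  have hsumd2 : ∑ ξ : IrrCharacter G, d ξ ^ 2 = 7920 := by
    rw [← hG]
    exact Cfsg.Agent.Lib.H24.sum_charDegree_sq (G := G)
  -- the seven known characters
  set S : Finset (IrrCharacter G) := {τ, χ₁, χ₂, ψ₁, ψ₂, ψ₃, ψ₄} with hS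
  set T : Finset (IrrCharacter G) := Finset.univ \ S with hT
  have hsplit : ∀ {M : Type} [AddCommMonoid M] (f : IrrCharacter G → M),
      ∑ ξ, f ξ = (f τ + f χ₁ + f χ₂ + f ψ₁ + f ψ₂ + f ψ₃ + f ψ₄) + ∑ ξ ∈ T, f ξ := by
    intro M _ f
    rw [← Finset.sum_sdiff (Finset.subset_univ S), add_comm, hS,
      sum_seven f τ χ₁ χ₂ ψ₁ ψ₂ ψ₃ ψ₄ hτχ1 hτχ2 hτψ1 hτψ2 hτψ3 hτψ4 hne hχ1ψ1 hχ1ψ2 hχ1ψ3 hχ1ψ4
        hχ2ψ1 hχ2ψ2 hχ2ψ3 hχ2ψ4 h12 h13 h14 h23 h24 h34]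
  have dτ : d τ = 1 := hdeq τ 1 (by rw [hτ1]; norm_num)
  have dχ1 : d χ₁ = 16 := hdeq χ₁ 16 (by rw [hd1]; norm_num)
  have dχ2 : d χ₂ = 16 := hdeq χ₂ 16 (by rw [hd2]; norm_num)
  have dψ1 : d ψ₁ = 10 := hdeq ψ₁ 10 (by rw [he1]; norm_num)
  have dψ2 : d ψ₂ = 10 := hdeq ψ₂ 10 (by rw [he2]; norm_num)
  have dψ3 : d ψ₃ = 10 := hdeq ψ₃ 10 (by rw [he3]; norm_num)
  have dψ4 : d ψ₄ = 45 := hdeq ψ₄ 45 (by rw [he4]; norm_num)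
  have Bτ : B τ = 1 := hBeq τ 1 (by rw [Cfsg.Agent.Lib.H24.trivialIrr_apply]; norm_num)
  have Bχ1 : B χ₁ = 1 := hBeq χ₁ 1 (by rw [hyχ1]; norm_num)
  have Bχ2 : B χ₂ = 1 := hBeq χ₂ 1 (by rw [hyχ2]; norm_num)
  have Bψ1 : B ψ₁ = 0 := hBeq ψ₁ 0 (by rw [hy1]; norm_num)
  have Bψ2 : B ψ₂ = 0 := hBeq ψ₂ 0 (by rw [hy2]; norm_num)
  have Bψ3 : B ψ₃ = 0 := hBeq ψ₃ 0 (by rw [hy3]; norm_num)
  have Bψ4 : B ψ₄ = 0 := hBeq ψ₄ 0 (by rw [hy4]; norm_num)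
  have hTB2 : ∑ ξ ∈ T, B ξ ^ 2 = 2 := by
    have h := hsplit (fun ξ => B ξ ^ 2)
    simp only [Bτ, Bχ1, Bχ2, Bψ1, Bψ2, Bψ3, Bψ4] at h
    rw [hsumB2] at h
    linarith
  have hTdB : ∑ ξ ∈ T, (d ξ : ℤ) * B ξ = -33 := by
    have h := hsplit (fun ξ => (d ξ : ℤ) * B ξ)
    simp only [Bτ, Bχ1, Bχ2, Bψ1, Bψ2, Bψ3, Bψ4, dτ, dχ1, dχ2, dψ1, dψ2, dψ3, dψ4] at h
    rw [hsumdB] at h
    push_cast at h
    linarith
  have hTd2 : ∑ ξ ∈ T, d ξ ^ 2 = 5082 := by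
    have h := hsplit (fun ξ => d ξ ^ 2)
    simp only [dτ, dχ1, dχ2, dψ1, dψ2, dψ3, dψ4] at h
    rw [hsumd2] at h
    omega
  -- membership in `T`
  have hmemT : ∀ ξ : IrrCharacter G, ξ ∈ T ↔ (ξ ≠ τ ∧ ξ ≠ χ₁ ∧ ξ ≠ χ₂ ∧ ξ ≠ ψ₁ ∧ ξ ≠ ψ₂ ∧ ξ ≠ ψ₃ ∧
      ξ ≠ ψ₄) := by
    intro ξ
    rw [hT, hS]
    simp only [Finset.mem_sdiff, Finset.mem_univ, true_and, Finset.mem_insert,
      Finset.mem_singleton, not_or]
  have hvanT : ∀ ξ ∈ T, (ξ : G → ℂ) x = 0 ∧ ∃ c : ℕ, (ξ : G → ℂ) 1 = 11 * c := by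
    intro ξ hξ
    obtain ⟨a1, a2, a3, a4, a5, a6, a7⟩ := (hmemT ξ).1 hξ
    exact hvan ξ (fun h => a1 (hone ξ h)) a2 a3 a4 a5 a6 a7
  -- (F12a)
  obtain ⟨t₁, t₂, t₃, ht₁, ht₂, ht₃, ht12, ht13, ht23, hdt1, hdt2, hdt3, hTall⟩ :=
    Cfsg.Agent.Lib.H21.M7920.extra11 T B d
      (fun ξ hξ => by
        obtain ⟨-, c', hc'⟩ := hvanT ξ hξ
        refine ⟨c', ?_⟩
        have := hdξ ξ
        rw [hc'] at this
        exact_mod_cast this.symm)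
      (fun ξ _ => by
        have := Cfsg.Agent.Lib.H23.charDegree_dvd_card (ξ : G → ℂ) ξ.2
        rwa [hG] at this)
      (fun ξ _ => Cfsg.Agent.Lib.H24.charDegree_pos ξ)
      (fun ξ _ => ⟨c ξ, hcong ξ⟩) hTB2 hTdB hTd2
  -- values of `t₁ t₂ t₃` at `y`
  have hTeq : T = {t₁, t₂, t₃} := by
    ext ξ
    simp only [Finset.mem_insert, Finset.mem_singleton]
    constructor
    · exact hTall ξ
    · rintro (h | h | h) <;> rw [h] <;> assumption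
  have hB3 : B t₁ ^ 2 + B t₂ ^ 2 + B t₃ ^ 2 = 2 := by
    rw [hTeq, Finset.sum_insert (by simp [ht12, ht13]), Finset.sum_insert (by simp [ht23]),
      Finset.sum_singleton] at hTB2
    linarith
  have hc1 := hcong t₁
  have hc2 := hcong t₂
  have hc3 := hcong t₃
  rw [hdt1] at hc1
  rw [hdt2] at hc2
  rw [hdt3] at hc3
  obtain ⟨hB1, hB2, hB3'⟩ := small_values (B t₁) (B t₂) (B t₃) (c t₁) (c t₂) (c t₃) hB3
    (by exact_mod_cast hc1) (by exact_mod_cast hc2) (by exact_mod_cast hc3)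
  refine ⟨y, t₁, t₂, t₃, hC5, ?_, ?_, ?_, (hvanT t₁ ht₁).1, (hvanT t₂ ht₂).1, (hvanT t₃ ht₃).1,
    hy1, hy2, hy3, hy4, hyχ1, hyχ2, ?_, ?_, ?_, ?_⟩
  · rw [hdξ, hdt1]; norm_num
  · rw [hdξ, hdt2]; norm_num
  · rw [hdξ, hdt3]; norm_num
  · rw [hB, hB1]; norm_num
  · rw [hB, hB2]; norm_num
  · rw [hB, hB3']; norm_num
  · intro ξ
    by_cases hξT : ξ ∈ T
    · rcases hTall ξ hξT with h | h | h
      · right; right; right; right; right; right; right; left; exact h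
      · right; right; right; right; right; right; right; right; left; exact h
      · right; right; right; right; right; right; right; right; right; exact h
    · rw [hmemT] at hξT
      by_contra hcon
      push Not at hcon
      obtain ⟨c1, c2, c3, c4, c5, c6, c7, -, -, -⟩ := hcon
      apply hξT
      refine ⟨fun h => c1 ?_, c6, c7, c2, c3, c4, c5⟩
      rw [h]
      rfl

end Cfsg.Agent.Lib.H14.M7920
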