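import Mathlib
import Cfsg.Prelude.Def_Characters
import Cfsg.Agent.Lib.H24.BrauerP4
import Cfsg.Agent.Lib.H12.O7920F2
import Cfsg.Agent.Lib.H10.M7920F0
import Cfsg.Agent.Lib.H11.M7920F1
import Cfsg.Agent.Lib.H11.M7920BLOCKX
import Cfsg.Agent.Lib.H14.M7920CASEAS
import Cfsg.Agent.Lib.H23.M7920KILLB
import Cfsg.Agent.Lib.H28.M7920KILLb
import Cfsg.Agent.Lib.L0.CharBasic

/-!
(STRUCT) `structure_7920` (helper14; exact sig of tools/blueprints/S0434_sigs.lean): the structure data of a simple group of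
order 7920, shared by S0435 and S0434.  Glue of the S4429 pieces: (F0) helper10, (F1) helper11, `block11_strong` (helper16's
proof, strengthened by helper11), (KILLB) helper23, (KILLb) helper28, and `caseA_structure`.
-/

set_option autoImplicit false
namespace Cfsg.Agent.Lib.H14.M7920
open Cfsg
open scoped BigOperators ComplexConjugate
universe u

theorem structure_7920 {G : Type u} [Group G] [Fintype G] [IsSimpleGroup G] (hG : Nat.card G = 7920) :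
    ∃ (x y : G) (ψ : Fin 3 → IrrCharacter G) (ψ₄ χ₁ χ₂ θ θ' φ : IrrCharacter G),
      ¬ IsConj x x⁻¹ ∧ Nat.card (Subgroup.centralizer ({x} : Set G)) = 11 ∧
      Nat.card (Subgroup.centralizer ({y} : Set G)) = 5 ∧
      (∀ ξ : IrrCharacter G, (ξ : G → ℂ) = 1 ∨ (∃ i, ξ = ψ i) ∨ ξ = ψ₄ ∨ ξ = χ₁ ∨ ξ = χ₂ ∨ ξ = θ ∨
        ξ = θ' ∨ ξ = φ) ∧
      Function.Injective ψ ∧
      ((∀ i, ψ i ≠ ψ₄ ∧ ψ i ≠ χ₁ ∧ ψ i ≠ χ₂ ∧ ψ i ≠ θ ∧ ψ i ≠ θ' ∧ ψ i ≠ φ) ∧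
        ψ₄ ≠ χ₁ ∧ ψ₄ ≠ χ₂ ∧ ψ₄ ≠ θ ∧ ψ₄ ≠ θ' ∧ ψ₄ ≠ φ ∧ χ₁ ≠ χ₂ ∧ χ₁ ≠ θ ∧ χ₁ ≠ θ' ∧ χ₁ ≠ φ ∧
        χ₂ ≠ θ ∧ χ₂ ≠ θ' ∧ χ₂ ≠ φ ∧ θ ≠ θ' ∧ θ ≠ φ ∧ θ' ≠ φ) ∧
      ((∀ i, (ψ i : G → ℂ) ≠ 1) ∧ (ψ₄ : G → ℂ) ≠ 1 ∧ (χ₁ : G → ℂ) ≠ 1 ∧ (χ₂ : G → ℂ) ≠ 1 ∧
        (θ : G → ℂ) ≠ 1 ∧ (θ' : G → ℂ) ≠ 1 ∧ (φ : G → ℂ) ≠ 1) ∧
      ((∀ i, (ψ i : G → ℂ) 1 = 10) ∧ (ψ₄ : G → ℂ) 1 = 45 ∧ (χ₁ : G → ℂ) 1 = 16 ∧
        (χ₂ : G → ℂ) 1 = 16 ∧ (θ : G → ℂ) 1 = 11 ∧ (θ' : G → ℂ) 1 = 44 ∧ (φ : G → ℂ) 1 = 55) ∧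
      ((∀ i, (ψ i : G → ℂ) x = -1) ∧ (ψ₄ : G → ℂ) x = 1 ∧
        (χ₁ : G → ℂ) x⁻¹ + (χ₂ : G → ℂ) x⁻¹ = -1 ∧ (θ : G → ℂ) x = 0 ∧ (θ' : G → ℂ) x = 0 ∧
        (φ : G → ℂ) x = 0) ∧
      (∀ g : G, ¬ IsConj g x → ¬ IsConj g x⁻¹ → (χ₁ : G → ℂ) g = (χ₂ : G → ℂ) g ∧
        1 - ∑ i, (ψ i : G → ℂ) g + (ψ₄ : G → ℂ) g - (χ₁ : G → ℂ) g = 0) ∧
      ((∀ i, (ψ i : G → ℂ) y = 0) ∧ (ψ₄ : G → ℂ) y = 0 ∧ (χ₁ : G → ℂ) y = 1 ∧
        (χ₂ : G → ℂ) y = 1 ∧ (θ : G → ℂ) y = 1 ∧ (θ' : G → ℂ) y = -1 ∧ (φ : G → ℂ) y = 0) := by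
  classical
  have hperf : commutator G = ⊤ :=
    Cfsg.Agent.Lib.H24.BrP.commutator_eq_top_of_simple (by rw [hG]; norm_num)
  obtain ⟨K, hK, hC, hN⟩ := Cfsg.Agent.Lib.H10.M7920.sylow11_data hG
  obtain ⟨x, hxK, hx1⟩ : ∃ x ∈ K, x ≠ 1 := by
    have h1 : 1 < Nat.card K := by rw [hK]; norm_num
    have : Nontrivial K := (Finite.one_lt_card_iff_nontrivial).1 h1
    obtain ⟨y, hy⟩ := exists_ne (1 : K)
    exact ⟨y, y.2, fun h => hy (Subtype.ext h)⟩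
  have hordx : orderOf x = 11 := by
    have h1 : orderOf x ∣ 11 := by
      have := orderOf_dvd_natCard (⟨x, hxK⟩ : K)
      rwa [Subgroup.orderOf_mk, hK] at this
    rcases (Nat.dvd_prime (by norm_num : Nat.Prime 11)).1 h1 with h | h
    · exact absurd (orderOf_eq_one_iff.1 h) hx1
    · exact h
  have hordxi : orderOf x⁻¹ = 11 := by rw [orderOf_inv, hordx]
  -- `C(x) = C(K) = K`
  have hzK : Subgroup.zpowers x = K := by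
    apply Subgroup.eq_of_le_of_card_ge ((Subgroup.zpowers_le).2 hxK)
    rw [Nat.card_zpowers, hordx, hK]
  have hCx : Nat.card (Subgroup.centralizer ({x} : Set G)) = 11 := by
    have h1 : Subgroup.centralizer ((Subgroup.zpowers x : Subgroup G) : Set G) =
        Subgroup.centralizer ({x} : Set G) := by
      rw [Subgroup.zpowers_eq_closure, Subgroup.centralizer_closure]
    rw [← h1, hzK, hC, hK]
  obtain ⟨hconj, hninv⟩ := Cfsg.Agent.Lib.H11.M7920.fusion11 K hK hC hN hxK hx1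
  have hζ : IsPrimitiveRoot (Complex.exp (2 * Real.pi * Complex.I / (11 : ℕ))) 11 :=
    Complex.isPrimitiveRoot_exp 11 (by norm_num)
  obtain ⟨χ₁, χ₂, hne, hv1, hv2, hpat⟩ :=
    Cfsg.Agent.Lib.H11.M7920.block11_strong hG hperf K hK hC hxK hx1 hconj hninv _ hζ
  set ζ : ℂ := Complex.exp (2 * Real.pi * Complex.I / (11 : ℕ)) with hζdef
  have hoc : ∀ {a b : G}, IsConj a b → orderOf a = orderOf b := by
    rintro a b ⟨c, hc⟩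
    exact SemiconjBy.orderOf_eq _ hc
  have hnc : ∀ g : G, orderOf g ≠ 11 → ¬ IsConj g x ∧ ¬ IsConj g x⁻¹ := by
    intro g hg
    refine ⟨fun h => hg ?_, fun h => hg ?_⟩
    · rw [hoc h, hordx]
    · rw [hoc h, hordxi]
  have hadd := Cfsg.Agent.Lib.H12.O7920.eta_add_eta' hζ
  rcases hpat with ⟨ψ₁, ψ₂, ψ₃, ψ₄, h12, h13, h14, h23, h24, h34, hd1, hd2, he1, he2, he3, he4,
      hw1, hw2, hw3, hw4, hvan, hrel⟩ | ⟨ψ₁, ψ₂, h12, h5, hd1, hd2⟩ | ⟨ψ, h5, hrel⟩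
  · -- pattern (A)
    obtain ⟨y, θ, θ', φ, hCy, hθ1, hθ'1, hφ1, hθx, hθ'x, hφx, hy1, hy2, hy3, hy4, hyχ1, hyχ2, hyθ,
      hyθ', hyφ, hall⟩ :=
      caseA_structure hG hordx (ζ + ζ ^ 3 + ζ ^ 4 + ζ ^ 5 + ζ ^ 9) χ₁ χ₂ ψ₁ ψ₂ ψ₃ ψ₄ hne
        (by rw [hv1]; linear_combination hadd) hv2
        h12 h13 h14 h23 h24 h34 hd1 hd2 he1 he2 he3 he4 hvan hrel
    have hnd : ∀ {a b : IrrCharacter G} {m n : ℂ}, (a : G → ℂ) 1 = m → (b : G → ℂ) 1 = n → m ≠ n →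
        a ≠ b := fun ha hb hmn hab => hmn (by rw [← ha, ← hb, hab])
    have hn1 : ∀ {a : IrrCharacter G} {m : ℂ}, (a : G → ℂ) 1 = m → m ≠ 1 → (a : G → ℂ) ≠ 1 := by
      intro a m ha hm h
      apply hm
      rw [← ha, h]
      rfl
    have key : ∀ (P : IrrCharacter G → Prop), P ψ₁ → P ψ₂ → P ψ₃ → ∀ i : Fin 3, P (![ψ₁, ψ₂, ψ₃] i) := by
      intro P a b c i
      fin_cases i
      · exact a
      · exact b
      · exact c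
    refine ⟨x, y, ![ψ₁, ψ₂, ψ₃], ψ₄, χ₁, χ₂, θ, θ', φ, hninv, hCx, hCy, ?_, ?_, ⟨?_, ?_⟩, ⟨?_, ?_⟩,
      ⟨?_, he4, hd1, hd2, hθ1, hθ'1, hφ1⟩, ⟨?_, hw4, ?_, hθx, hθ'x, hφx⟩, ?_,
      ⟨?_, hy4, hyχ1, hyχ2, hyθ, hyθ', hyφ⟩⟩
    · -- hall
      intro ξ
      rcases hall ξ with h | h | h | h | h | h | h | h | h | h
      · exact Or.inl h
      · exact Or.inr (Or.inl ⟨0, h⟩)
      · exact Or.inr (Or.inl ⟨1, h⟩)
      · exact Or.inr (Or.inl ⟨2, h⟩)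
      · exact Or.inr (Or.inr (Or.inl h))
      · exact Or.inr (Or.inr (Or.inr (Or.inl h)))
      · exact Or.inr (Or.inr (Or.inr (Or.inr (Or.inl h))))
      · exact Or.inr (Or.inr (Or.inr (Or.inr (Or.inr (Or.inl h)))))
      · exact Or.inr (Or.inr (Or.inr (Or.inr (Or.inr (Or.inr (Or.inl h))))))
      · exact Or.inr (Or.inr (Or.inr (Or.inr (Or.inr (Or.inr (Or.inr h))))))
    · -- hinj
      intro i j hij
      fin_cases i <;> fin_cases j <;> first | rfl | (exfalso; revert hij; simp [h12, h13, h23, h12.symm, h13.symm, h23.symm])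
    · -- hdist, first part
      refine key (fun ξ => ξ ≠ ψ₄ ∧ ξ ≠ χ₁ ∧ ξ ≠ χ₂ ∧ ξ ≠ θ ∧ ξ ≠ θ' ∧ ξ ≠ φ) ?_ ?_ ?_
      · exact ⟨h14, hnd he1 hd1 (by norm_num), hnd he1 hd2 (by norm_num), hnd he1 hθ1 (by norm_num),
          hnd he1 hθ'1 (by norm_num), hnd he1 hφ1 (by norm_num)⟩
      · exact ⟨h24, hnd he2 hd1 (by norm_num), hnd he2 hd2 (by norm_num), hnd he2 hθ1 (by norm_num),
          hnd he2 hθ'1 (by norm_num), hnd he2 hφ1 (by norm_num)⟩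
      · exact ⟨h34, hnd he3 hd1 (by norm_num), hnd he3 hd2 (by norm_num), hnd he3 hθ1 (by norm_num),
          hnd he3 hθ'1 (by norm_num), hnd he3 hφ1 (by norm_num)⟩
    · exact ⟨hnd he4 hd1 (by norm_num), hnd he4 hd2 (by norm_num), hnd he4 hθ1 (by norm_num),
        hnd he4 hθ'1 (by norm_num), hnd he4 hφ1 (by norm_num), hne, hnd hd1 hθ1 (by norm_num),
        hnd hd1 hθ'1 (by norm_num), hnd hd1 hφ1 (by norm_num), hnd hd2 hθ1 (by norm_num),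
        hnd hd2 hθ'1 (by norm_num), hnd hd2 hφ1 (by norm_num), hnd hθ1 hθ'1 (by norm_num),
        hnd hθ1 hφ1 (by norm_num), hnd hθ'1 hφ1 (by norm_num)⟩
    · -- hne1
      exact key (fun ξ => (ξ : G → ℂ) ≠ 1) (hn1 he1 (by norm_num)) (hn1 he2 (by norm_num))
        (hn1 he3 (by norm_num))
    · exact ⟨hn1 he4 (by norm_num), hn1 hd1 (by norm_num), hn1 hd2 (by norm_num),
        hn1 hθ1 (by norm_num), hn1 hθ'1 (by norm_num), hn1 hφ1 (by norm_num)⟩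
    · exact key (fun ξ => (ξ : G → ℂ) 1 = 10) he1 he2 he3
    · exact key (fun ξ => (ξ : G → ℂ) x = -1) hw1 hw2 hw3
    · -- values of `χ₁, χ₂` at `x⁻¹`
      rw [Cfsg.Agent.Lib.L0.isCharacter_apply_inv (Cfsg.Agent.Lib.L0.isCharacter_of_irr χ₁.2),
        Cfsg.Agent.Lib.L0.isCharacter_apply_inv (Cfsg.Agent.Lib.L0.isCharacter_of_irr χ₂.2), hv1, hv2,
        ← map_add]
      have : ζ ^ 2 + ζ ^ 6 + ζ ^ 7 + ζ ^ 8 + ζ ^ 10 + (ζ + ζ ^ 3 + ζ ^ 4 + ζ ^ 5 + ζ ^ 9) = -1 := by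
        linear_combination hadd
      rw [this, map_neg, map_one]
    · -- (F5)
      intro g hg1 hg2
      obtain ⟨h1, h2⟩ := hrel g hg1 hg2
      refine ⟨h1, ?_⟩
      rw [Fin.sum_univ_three]
      show 1 - ((ψ₁ : G → ℂ) g + (ψ₂ : G → ℂ) g + (ψ₃ : G → ℂ) g) + (ψ₄ : G → ℂ) g - (χ₁ : G → ℂ) g = 0
      linear_combination h2
    · exact key (fun ξ => (ξ : G → ℂ) y = 0) hy1 hy2 hy3
  · exact (Cfsg.Agent.Lib.H23.M7920.kill_B hG χ₁ ψ₁ ψ₂ h5 h12 hd1 hd2).elim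
  · refine (Cfsg.Agent.Lib.H28.M7920.kill_b hG χ₁ ψ h5 ?_).elim
    intro g hg
    have := hnc g (by rw [hg]; norm_num)
    exact hrel g this.1 this.2

end Cfsg.Agent.Lib.H14.M7920
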