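import Mathlib
import Cfsg.Prelude.Def_Blocks
import Cfsg.Prelude.Def_Characters
import Cfsg.Prelude.Def_Local
import Cfsg.Prelude.Def_Transfer
import Cfsg.Agent.S0174
import Cfsg.Agent.Lib.H23.CentralMul
import Cfsg.Agent.Lib.H24.CharBasic
import Cfsg.Agent.Lib.L0.CharOps

/-!
# S4751, piece LIN (helper14): constituents of `χ_N` are linear of multiplicity one
-/

set_option autoImplicit false
set_option linter.unusedVariables false
set_option linter.unusedSectionVars false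
set_option linter.style.haveILetI false

namespace Cfsg.Agent.Lib.H14.RU

open Cfsg

/-- a positive natural number whose inverse is an algebraic integer is `1` -/
theorem ru_eq_one_of_isIntegral_inv (m : ℕ) (hm : 0 < m) (h : IsIntegral ℤ ((m : ℂ)⁻¹)) : m = 1 := by
  have h1 : IsIntegral ℤ ((m : ℚ)⁻¹) := by
    rw [← isIntegral_algebraMap_iff (algebraMap ℚ ℂ).injective, map_inv₀, map_natCast]
    exact h
  obtain ⟨k, hk⟩ := IsIntegrallyClosed.isIntegral_iff.mp h1
  have hm0 : (m : ℚ) ≠ 0 := Nat.cast_ne_zero.2 hm.ne'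
  have h2 : (k : ℚ) * (m : ℚ) = 1 := by
    have : (algebraMap ℤ ℚ) k = (k : ℚ) := rfl
    rw [← this, hk, inv_mul_cancel₀ hm0]
  have h3 : k * (m : ℤ) = 1 := by exact_mod_cast h2
  have h4 : (m : ℤ) ∣ 1 := Dvd.intro_left k h3
  have h5 : (m : ℤ) = 1 := Int.eq_one_of_dvd_one (by positivity) h4
  exact_mod_cast h5

/-- an irreducible character at a central element: an algebraic integer times the degree -/
theorem ru_irr_center {H : Type*} [Group H] [Finite H] (θ : IrrCharacter H) {z : H}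
    (hz : z ∈ Subgroup.center H) : ∃ c : ℂ, IsIntegral ℤ c ∧ (θ : H → ℂ) z = c * (θ : H → ℂ) 1 := by
  obtain ⟨n, ρ, hirr, hθ⟩ := θ.2
  haveI : ρ.IsIrreducible := hirr
  obtain ⟨c, hc⟩ := Cfsg.Agent.Lib.H23.exists_smul_of_mem_center ρ hz
  refine ⟨c, ?_, ?_⟩
  · -- `c ^ orderOf z = 1`
    have ho : 0 < orderOf z := orderOf_pos z
    have h1 : (c ^ orderOf z) • (1 : Module.End ℂ (Fin n → ℂ)) = 1 := by
      have h2 : ρ (z ^ orderOf z) = (c • (1 : Module.End ℂ (Fin n → ℂ))) ^ orderOf z := by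
        rw [map_pow, hc]
      rw [pow_orderOf_eq_one, map_one, smul_pow, one_pow] at h2
      exact h2.symm
    haveI := Cfsg.Agent.Lib.H23.nontrivial_of_isIrreducible ρ
    obtain ⟨v, hv⟩ := exists_ne (0 : Fin n → ℂ)
    have h3 : (c ^ orderOf z) • v = v := by
      have := congrArg (fun T : Module.End ℂ (Fin n → ℂ) => T v) h1
      simpa using this
    have h4 : c ^ orderOf z = 1 := by
      by_contra hne
      have h5 : (c ^ orderOf z - 1) • v = 0 := by rw [sub_smul, h3, one_smul, sub_self]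
      rcases smul_eq_zero.mp h5 with h6 | h6
      · exact hne (sub_eq_zero.mp h6)
      · exact hv h6
    apply IsIntegral.of_pow ho
    rw [h4]
    exact isIntegral_one
  · rw [← hθ]
    exact Cfsg.Agent.Lib.H23.char_of_eq_smul ρ z hc

/-- a nontrivial element of a `p`-subgroup is `p`-singular -/
theorem ru_dvd_orderOf {G : Type*} [Group G] (p : ℕ) [Fact p.Prime] (N : Subgroup G) (hNp : IsPGroup p N)
    (z : N) (hz : z ≠ 1) : p ∣ orderOf (z : G) := by
  obtain ⟨k, hk⟩ := (IsPGroup.iff_orderOf.mp hNp) z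
  rw [Subgroup.orderOf_coe, hk]
  cases k with
  | zero =>
    rw [pow_zero, orderOf_eq_one_iff] at hk
    exact absurd hk hz
  | succ k => exact dvd_pow_self p (Nat.succ_ne_zero k)

/-- **LIN** -/
theorem constituent_linear {G : Type*} [Group G] [Fintype G] (p : ℕ) [Fact p.Prime]
    (χ : IrrCharacter G)
    (hroot : ∀ g : G, p ∣ orderOf g → ∃ n : ℕ, 0 < n ∧ ((χ : G → ℂ) g) ^ n = 1)
    (N : Subgroup G) [hN : N.Normal] [Fintype N] (hNp : IsPGroup p N) (hN1 : N ≠ ⊥)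
    (θ : IrrCharacter N) (hθ : classInner (fun n : N => (χ : G → ℂ) n) (θ : N → ℂ) ≠ 0) :
    (θ : N → ℂ) 1 = 1 ∧ classInner (fun n : N => (χ : G → ℂ) n) (θ : N → ℂ) = 1 := by
  classical
  -- Clifford
  have hcl := Cfsg.Agent.S0174.result N hN (χ : G → ℂ) χ.2 (θ : N → ℂ) θ.2 hθ
  -- the multiplicity is a natural number
  obtain ⟨k, hk⟩ := Cfsg.Agent.Lib.L0.classInner_char_irr_nat
    (Cfsg.Agent.Lib.L0.isCharacter_restrict N (Cfsg.Agent.Lib.L0.isCharacter_of_irr χ.2)) θ.2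
  have hk0 : k ≠ 0 := by
    intro h0
    apply hθ
    rw [hk, h0, Nat.cast_zero]
  -- the degree is a positive natural number
  obtain ⟨d, hd0, hd⟩ := Cfsg.Agent.Lib.H24.irr_one_eq θ
  -- a nontrivial central element of `N`
  haveI : Nontrivial ↥N := (Subgroup.nontrivial_iff_ne_bot N).mpr hN1
  haveI := hNp.center_nontrivial
  obtain ⟨⟨z, hzc⟩, hz1⟩ := exists_ne (1 : Subgroup.center ↥N)
  have hz1' : z ≠ 1 := fun h => hz1 (Subtype.ext h)
  obtain ⟨n, hn0, hn⟩ := hroot (z : G) (ru_dvd_orderOf p N hNp z hz1')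
  -- the set of conjugates
  set S : Set (N → ℂ) := {ψ : N → ℂ | ∃ g : G, ψ = fun n : N =>
    (θ : N → ℂ) ⟨g * n * g⁻¹, hN.conj_mem n n.2 g⟩} with hS
  have hSfin : S.Finite := by
    have : S = Set.range (fun g : G => fun n : N =>
        (θ : N → ℂ) ⟨g * n * g⁻¹, hN.conj_mem n n.2 g⟩) := by
      ext ψ
      simp only [hS, Set.mem_ofPred_eq, Set.mem_range]
      constructor
      · rintro ⟨g, rfl⟩; exact ⟨g, rfl⟩
      · rintro ⟨g, rfl⟩; exact ⟨g, rfl⟩
    rw [this]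
    exact Set.finite_range _
  -- each conjugate at `z`
  have hval : ∀ ψ ∈ S, ∃ c : ℂ, IsIntegral ℤ c ∧ ψ z = c * (θ : N → ℂ) 1 := by
    rintro ψ ⟨g, rfl⟩
    have hzg : (⟨g * z * g⁻¹, hN.conj_mem z z.2 g⟩ : N) ∈ Subgroup.center ↥N := by
      rw [Subgroup.mem_center_iff]
      intro x
      apply Subtype.ext
      show (x : G) * (g * z * g⁻¹) = g * z * g⁻¹ * x
      have hx' : g⁻¹ * (x : G) * g ∈ N := by
        have := hN.conj_mem x x.2 g⁻¹
        simpa using this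
      have hcomm := (Subgroup.mem_center_iff.mp hzc) ⟨g⁻¹ * (x : G) * g, hx'⟩
      have hcomm' : g⁻¹ * (x : G) * g * z = z * (g⁻¹ * (x : G) * g) := congrArg Subtype.val hcomm
      calc (x : G) * (g * z * g⁻¹) = g * (g⁻¹ * (x : G) * g * z) * g⁻¹ := by group
        _ = g * (z * (g⁻¹ * (x : G) * g)) * g⁻¹ := by rw [hcomm']
        _ = g * z * g⁻¹ * x := by group
    exact ru_irr_center θ hzg
  choose! c hc using hval
  -- evaluate Clifford at `z`
  have h1 : (χ : G → ℂ) (z : G) = (k : ℂ) * ∑ ψ ∈ hSfin.toFinset, ψ z := by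
    have := congrFun hcl z
    rw [this, Pi.smul_apply, finsum_mem_eq_finite_toFinset_sum _ hSfin, Finset.sum_apply, hk,
      smul_eq_mul]
  have h2 : ∑ ψ ∈ hSfin.toFinset, ψ z = (∑ ψ ∈ hSfin.toFinset, c ψ) * (d : ℂ) := by
    rw [Finset.sum_mul]
    apply Finset.sum_congr rfl
    intro ψ hψ
    rw [(hc ψ ((Set.Finite.mem_toFinset hSfin).mp hψ)).2, hd]
  have hβ : IsIntegral ℤ (∑ ψ ∈ hSfin.toFinset, c ψ) :=
    IsIntegral.sum _ (fun ψ hψ => (hc ψ ((Set.Finite.mem_toFinset hSfin).mp hψ)).1)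
  set β := ∑ ψ ∈ hSfin.toFinset, c ψ with hβdef
  -- `(k d)^n β^n = 1`
  have h3 : (((k * d : ℕ) : ℂ)) ^ n * β ^ n = 1 := by
    rw [← mul_pow, ← hn, h1, h2]
    congr 1
    push_cast
    ring
  have hkd : 0 < k * d := Nat.mul_pos (Nat.pos_of_ne_zero hk0) hd0
  have h4 : ((((k * d) ^ n : ℕ) : ℂ))⁻¹ = β ^ n := by
    have hne : ((((k * d) ^ n : ℕ) : ℂ)) ≠ 0 := Nat.cast_ne_zero.2 (pow_pos hkd n).ne'
    rw [inv_eq_iff_eq_inv]
    apply eq_inv_of_mul_eq_one_left
    push_cast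
    push_cast at h3
    exact h3
  have h5 : (k * d) ^ n = 1 := by
    apply ru_eq_one_of_isIntegral_inv _ (pow_pos hkd n)
    rw [h4]
    exact hβ.pow n
  have h6 : k * d = 1 := by
    rcases Nat.pow_eq_one.mp h5 with h | h
    · exact h
    · exact absurd h hn0.ne'
  have hk1 : k = 1 := Nat.eq_one_of_mul_eq_one_right h6
  have hd1 : d = 1 := Nat.eq_one_of_mul_eq_one_left h6
  refine ⟨by rw [hd, hd1, Nat.cast_one], by rw [hk, hk1, Nat.cast_one]⟩

end Cfsg.Agent.Lib.H14.RU
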