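import Mathlib
import Cfsg.Prelude.Def_Sporadic_a

set_option autoImplicit false

namespace Cfsg.Agent.Lib.H14.Srg

/-- Instance-free version of `SimpleGraph.IsSRGWith`. -/
def SRGProp {V : Type*} (G : SimpleGraph V) (n k l m : ℕ) : Prop :=
  Nat.card V = n ∧ (∀ v, Nat.card (G.neighborSet v) = k) ∧
  (∀ v w, G.Adj v w → Nat.card (G.commonNeighbors v w) = l) ∧
  (∀ v w, v ≠ w → ¬ G.Adj v w → Nat.card (G.commonNeighbors v w) = m)

theorem isSRGWith_of_prop {V : Type*} [Fintype V] (G : SimpleGraph V) [DecidableRel G.Adj]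
    {n k l m : ℕ} (h : SRGProp G n k l m) : G.IsSRGWith n k l m := by
  obtain ⟨h1, h2, h3, h4⟩ := h
  refine ⟨?_, ?_, ?_, ?_⟩
  · rw [← h1, Nat.card_eq_fintype_card]
  · intro v
    rw [← h2 v, ← SimpleGraph.card_neighborSet_eq_degree, Nat.card_eq_fintype_card]
  · intro v w hvw
    rw [← h3 v w hvw, Nat.card_eq_fintype_card]
  · intro v w hne hvw
    rw [← h4 v w hne hvw, Nat.card_eq_fintype_card]

/-- the equivalence of common neighbour sets under a graph isomorphism -/
def commonEquiv {V W : Type*} {G : SimpleGraph V} {G' : SimpleGraph W} (f : G ≃g G') (v w : V) :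
    G.commonNeighbors v w ≃ G'.commonNeighbors (f v) (f w) :=
  Equiv.subtypeEquiv f.toEquiv (by
    intro x
    simp only [SimpleGraph.mem_commonNeighbors]
    constructor
    · rintro ⟨h1, h2⟩
      exact ⟨f.map_adj_iff.2 h1, f.map_adj_iff.2 h2⟩
    · rintro ⟨h1, h2⟩
      exact ⟨f.map_adj_iff.1 h1, f.map_adj_iff.1 h2⟩)

theorem SRGProp.of_iso {V W : Type*} {G : SimpleGraph V} {G' : SimpleGraph W} (f : G ≃g G')
    {n k l m : ℕ} (h : SRGProp G' n k l m) : SRGProp G n k l m := by
  obtain ⟨h1, h2, h3, h4⟩ := h
  refine ⟨?_, ?_, ?_, ?_⟩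
  · rw [← h1]; exact Nat.card_congr f.toEquiv
  · intro v
    rw [← h2 (f v)]
    exact Nat.card_congr (f.mapNeighborSet v)
  · intro v w hvw
    rw [← h3 (f v) (f w) (f.map_adj_iff.2 hvw)]
    exact Nat.card_congr (commonEquiv f v w)
  · intro v w hne hvw
    rw [← h4 (f v) (f w) (fun h => hne (f.injective h)) (fun h => hvw (f.map_adj_iff.1 h))]
    exact Nat.card_congr (commonEquiv f v w)

theorem card_subtype_of_list {V : Type*} [DecidableEq V] (l : List V) (hnd : l.Nodup)
    (hc : ∀ v, v ∈ l) (p : V → Bool) : Nat.card {x // p x = true} = (l.filter p).length := by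
  rw [Nat.subtype_card (l.filter p).toFinset (by intro x; simp [hc x])]
  exact List.toFinset_card_of_nodup (hnd.filter _)

/-- SRG parameters from Boolean checks over an enumeration of the vertices. -/
theorem srg_of_list {V : Type*} [DecidableEq V] (G : SimpleGraph V) (l : List V) (hnd : l.Nodup)
    (hc : ∀ v, v ∈ l) (a : V → V → Bool) (ha : ∀ v w, G.Adj v w ↔ a v w = true) (n k lam mu : ℕ)
    (h1 : l.length = n) (h2 : ∀ v ∈ l, (l.filter (a v)).length = k)
    (h3 : ∀ v ∈ l, ∀ w ∈ l, a v w = true →
      (l.filter (fun x => a v x && a w x)).length = lam)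
    (h4 : ∀ v ∈ l, ∀ w ∈ l, v ≠ w → a v w = false →
      (l.filter (fun x => a v x && a w x)).length = mu) :
    SRGProp G n k lam mu := by
  have hcn : ∀ v w, Nat.card (G.commonNeighbors v w)
      = (l.filter (fun x => a v x && a w x)).length := by
    intro v w
    rw [← card_subtype_of_list l hnd hc]
    apply Nat.card_congr
    apply Equiv.subtypeEquivRight
    intro x
    simp only [SimpleGraph.mem_commonNeighbors, Bool.and_eq_true, ha]
  refine ⟨?_, ?_, ?_, ?_⟩
  · rw [← h1]
    have h := card_subtype_of_list l hnd hc (fun _ => true)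
    rw [List.filter_true] at h
    rw [← h]
    exact Nat.card_congr (Equiv.subtypeUnivEquiv (fun _ => rfl)).symm
  · intro v
    rw [← h2 v (hc v), ← card_subtype_of_list l hnd hc]
    apply Nat.card_congr
    apply Equiv.subtypeEquivRight
    intro x
    simp only [SimpleGraph.mem_neighborSet, ha]
  · intro v w hvw
    rw [hcn, h3 v (hc v) w (hc w) ((ha v w).1 hvw)]
  · intro v w hne hvw
    rw [hcn, h4 v (hc v) w (hc w) hne]
    cases h : a v w
    · rfl
    · exact absurd ((ha v w).2 h) hvw


/-- Boolean SRG check over an enumeration of the vertices -/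
def srgCheck {V : Type*} [DecidableEq V] (l : List V) (a : V → V → Bool) (k lam mu : ℕ) : Bool :=
  l.all (fun v => ((l.filter (a v)).length == k) && l.all (fun w =>
    (v == w) || ((l.filter (fun x => a v x && a w x)).length == (if a v w then lam else mu))))

theorem srg_of_check {V : Type*} [DecidableEq V] (G : SimpleGraph V) (l : List V)
    (hnd : l.Nodup) (hc : ∀ v, v ∈ l) (a : V → V → Bool) (ha : ∀ v w, G.Adj v w ↔ a v w = true)
    (n k lam mu : ℕ) (h1 : l.length = n) (h : srgCheck l a k lam mu = true) :
    SRGProp G n k lam mu := by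
  unfold srgCheck at h
  rw [List.all_eq_true] at h
  refine srg_of_list G l hnd hc a ha n k lam mu h1 ?_ ?_ ?_
  · intro v hv
    have := h v hv
    rw [Bool.and_eq_true] at this
    exact beq_iff_eq.1 this.1
  · intro v hv w hw hvw
    have := h v hv
    rw [Bool.and_eq_true, List.all_eq_true] at this
    have h2 := this.2 w hw
    have hne : (v == w) = false := by
      rw [beq_eq_false_iff_ne]
      rintro rfl
      exact (G.loopless.irrefl v) ((ha v v).2 hvw)
    rw [hne, Bool.false_or, hvw] at h2
    exact beq_iff_eq.1 h2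
  · intro v hv w hw hne hvw
    have := h v hv
    rw [Bool.and_eq_true, List.all_eq_true] at this
    have h2 := this.2 w hw
    have hne' : (v == w) = false := by
      rw [beq_eq_false_iff_ne]; exact hne
    rw [hne', Bool.false_or, hvw] at h2
    exact beq_iff_eq.1 h2

open Cfsg

section iso
variable {α β : Type*} [DecidableEq β] {B : Set (Finset α)} {B' : Set (Finset β)}

/-- the bijection on blocks induced by an isomorphism of set systems -/
noncomputable def blockEquiv (e : α ≃ β) (h : (fun b : Finset α => b.image e) '' B = B') :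
    B ≃ B' :=
  Equiv.ofBijective (fun b => ⟨b.1.image e, by rw [← h]; exact ⟨b.1, b.2, rfl⟩⟩) ⟨by
    intro b c hbc
    have := congrArg Subtype.val hbc
    exact Subtype.ext (Finset.image_injective e.injective this), by
    rintro ⟨c, hc⟩
    have hc' := hc
    rw [← h] at hc'
    obtain ⟨b, hb, hbc⟩ := hc'
    exact ⟨⟨b, hb⟩, Subtype.ext hbc⟩⟩

theorem blockEquiv_coe (e : α ≃ β) (h : (fun b : Finset α => b.image e) '' B = B')
    (b : B) : ((blockEquiv e h b : B') : Finset β) = (b : Finset α).image e := rfl

theorem disjoint_blockEquiv (e : α ≃ β) (h : (fun b : Finset α => b.image e) '' B = B')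
    (b c : B) : Disjoint ((blockEquiv e h b : B') : Finset β) (blockEquiv e h c : B') ↔
      Disjoint (b : Finset α) (c : Finset α) := by
  rw [blockEquiv_coe, blockEquiv_coe]
  exact Finset.disjoint_image e.injective

theorem mem_blockEquiv (e : α ≃ β) (h : (fun b : Finset α => b.image e) '' B = B')
    (a : α) (b : B) : e a ∈ ((blockEquiv e h b : B') : Finset β) ↔ a ∈ (b : Finset α) := by
  rw [blockEquiv_coe]
  constructor
  · intro h1
    obtain ⟨x, hx, hxe⟩ := Finset.mem_image.1 h1
    rwa [← e.injective hxe]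
  · intro h1
    exact Finset.mem_image_of_mem _ h1

noncomputable def blockGraphIso (e : α ≃ β) (h : (fun b : Finset α => b.image e) '' B = B') :
    blockGraph B ≃g blockGraph B' where
  toEquiv := blockEquiv e h
  map_rel_iff' := by
    intro b c
    simp only [blockGraph, SimpleGraph.fromRel_adj, ne_eq, EmbeddingLike.apply_eq_iff_eq,
      disjoint_blockEquiv]

noncomputable def pointBlockGraphIso (e : α ≃ β)
    (h : (fun b : Finset α => b.image e) '' B = B') :
    pointBlockGraph B ≃g pointBlockGraph B' where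
  toEquiv := Equiv.optionCongr (Equiv.sumCongr e (blockEquiv e h))
  map_rel_iff' := by
    intro v w
    simp only [pointBlockGraph, SimpleGraph.fromRel_adj, ne_eq, EmbeddingLike.apply_eq_iff_eq]
    apply and_congr Iff.rfl
    rcases v with _ | v | v <;> rcases w with _ | w | w <;>
      simp [pointBlockRel, disjoint_blockEquiv, mem_blockEquiv]

end iso

end Cfsg.Agent.Lib.H14.Srg
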