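import Mathlib

/-!
# S1632 (theta series of an even unimodular lattice of rank 24) — shared definitions (architect helper14)

`qf A v = Σ A i j v i v j` (real matrix on complex vectors), `qfR` (on real vectors), `IsPD A` (symmetric and positive
definite), the Gaussian lattice sum terms `gterm` / `dterm`, the Schur complement `schurA` and the lower block
`lowerC`, and the integral side `Bq B x = x ⬝ᵥ (B *ᵥ x)`, `rep B m = #{x | Bq B x = 2 m}`, `theta B τ`.
-/

set_option autoImplicit false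

namespace Cfsg.Agent.Lib.H14.Theta

open Complex Matrix

/-- The quadratic form `v ↦ Σ A i j v i v j` of a real matrix, on complex vectors (bilinear, no conjugation). -/
noncomputable def qf {n : ℕ} (A : Matrix (Fin n) (Fin n) ℝ) (v : Fin n → ℂ) : ℂ :=
  ∑ i, ∑ j, (A i j : ℂ) * v i * v j

/-- The quadratic form of a real matrix on real vectors. -/
noncomputable def qfR {n : ℕ} (A : Matrix (Fin n) (Fin n) ℝ) (x : Fin n → ℝ) : ℝ :=
  ∑ i, ∑ j, A i j * x i * x j

/-- Symmetric and positive definite. -/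
def IsPD {n : ℕ} (A : Matrix (Fin n) (Fin n) ℝ) : Prop :=
  A.IsSymm ∧ ∀ x : Fin n → ℝ, x ≠ 0 → 0 < qfR A x

/-- An integer vector as a complex vector. -/
def zc {n : ℕ} (x : Fin n → ℤ) : Fin n → ℂ := fun i => (x i : ℂ)

/-- An integer vector as a real vector. -/
def zr {n : ℕ} (x : Fin n → ℤ) : Fin n → ℝ := fun i => (x i : ℝ)

/-- General term of the Gaussian lattice sum `Σ_x exp(-π s Q_A(x) + 2π u·x)`. -/
noncomputable def gterm {n : ℕ} (A : Matrix (Fin n) (Fin n) ℝ) (s : ℂ) (u : Fin n → ℂ) (x : Fin n → ℤ) : ℂ :=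
  cexp (-(Real.pi : ℂ) * s * qf A (zc x) + 2 * (Real.pi : ℂ) * ∑ i, u i * (x i : ℂ))

/-- General term of the dual sum `Σ_y exp(-(π/s) Q_C(y + i u))`. -/
noncomputable def dterm {n : ℕ} (C : Matrix (Fin n) (Fin n) ℝ) (s : ℂ) (u : Fin n → ℂ) (y : Fin n → ℤ) : ℂ :=
  cexp (-(Real.pi : ℂ) / s * qf C (fun i => (y i : ℂ) + I * u i))

/-- The Schur complement `A' - b bᵀ / a` of the `(0,0)` entry `a`. -/
noncomputable def schurA {n : ℕ} (A : Matrix (Fin (n + 1)) (Fin (n + 1)) ℝ) : Matrix (Fin n) (Fin n) ℝ :=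
  fun i j => A i.succ j.succ - A i.succ 0 * A 0 j.succ / A 0 0

/-- The lower right block. -/
def lowerC {n : ℕ} (C : Matrix (Fin (n + 1)) (Fin (n + 1)) ℝ) : Matrix (Fin n) (Fin n) ℝ :=
  fun i j => C i.succ j.succ

/-- The integral quadratic form `x ↦ xᵀ B x`, exactly as in the statement of S1632. -/
def Bq {n : ℕ} (B : Matrix (Fin n) (Fin n) ℤ) (x : Fin n → ℤ) : ℤ := x ⬝ᵥ (B *ᵥ x)

/-- The real matrix of an integral matrix. -/
def Br {n : ℕ} (B : Matrix (Fin n) (Fin n) ℤ) : Matrix (Fin n) (Fin n) ℝ := B.map (fun z : ℤ => (z : ℝ))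

/-- Representation numbers `#{x | xᵀ B x = 2 m}`. -/
noncomputable def rep {n : ℕ} (B : Matrix (Fin n) (Fin n) ℤ) (m : ℕ) : ℕ :=
  {x : Fin n → ℤ | Bq B x = 2 * (m : ℤ)}.ncard

/-- The theta series `Σ_x exp(π i τ xᵀBx)` on the upper half plane. -/
noncomputable def theta {n : ℕ} (B : Matrix (Fin n) (Fin n) ℤ) (τ : UpperHalfPlane) : ℂ :=
  ∑' x : Fin n → ℤ, cexp ((Real.pi : ℂ) * I * (τ : ℂ) * ((Bq B x : ℤ) : ℂ))

/-- The theta series in the variable `s = -i τ`: `Σ_x exp(-π s xᵀBx)`. -/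
noncomputable def thetaS {n : ℕ} (B : Matrix (Fin n) (Fin n) ℤ) (s : ℂ) : ℂ :=
  ∑' x : Fin n → ℤ, cexp (-(Real.pi : ℂ) * s * ((Bq B x : ℤ) : ℂ))

end Cfsg.Agent.Lib.H14.Theta
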