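import Mathlib
import Cfsg.Prelude.Def_Blocks
import Cfsg.Prelude.Def_CharExt
import Cfsg.Agent.Lib.H21.AD.Defs
import Cfsg.Agent.Lib.H28.NT.Defs
import Cfsg.Agent.Lib.H2.ADSOLCore

/-!
# S4892, piece (HER), core (helper14)

A principal extension on `J` (`p ∤ |J : N|`) is principal on every `N⟨c⟩`, `c ∈ J`; (SOLF) and (KEYF) are
hypotheses here.
-/

set_option autoImplicit false
set_option linter.unusedVariables false
open Cfsg.Agent.Lib.H21.AD Cfsg.Agent.Lib.H28.NT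

namespace Cfsg.Agent.Lib.H14.NT

variable {G : Type*} [Group G] [Finite G] {p : ℕ} {M : Ideal Cfsg.AlgInt} {N Q : Subgroup G}
  {θ : G → ℂ}

/-- `N⟨c⟩ / N` is solvable -/
theorem isSolvable_sup_zpowers_quotient (N : Subgroup G) [N.Normal] (c : G) :
    Group.IsSolvable (↥(N ⊔ Subgroup.zpowers c) ⧸ N.subgroupOf (N ⊔ Subgroup.zpowers c)) := by
  have hK : Group.IsSolvable (Subgroup.zpowers c) := by
    apply Group.isSolvable_of_comm
    rintro ⟨a, ha⟩ ⟨b, hb⟩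
    obtain ⟨i, rfl⟩ := Subgroup.mem_zpowers_iff.mp ha
    obtain ⟨j, rfl⟩ := Subgroup.mem_zpowers_iff.mp hb
    apply Subtype.ext
    show c ^ i * c ^ j = c ^ j * c ^ i
    rw [← zpow_add, ← zpow_add, add_comm]
  have e := QuotientGroup.quotientInfEquivProdNormalQuotient (Subgroup.zpowers c) N
  have h1 : Group.IsSolvable
      (↥(Subgroup.zpowers c ⊔ N) ⧸ N.subgroupOf (Subgroup.zpowers c ⊔ N)) :=
    Group.isSolvable_of_surjective (f := e.toMonoidHom) e.surjective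
  rw [sup_comm] at h1
  exact h1

/-- (HER) with (KEYF) and (SOLF) as hypotheses -/
theorem goodA_zpowers_core [N.Normal] (h : Hyp p M N Q θ)
    (hkey : ∀ (J₁ J₂ : Subgroup G), N ≤ J₁ → J₁ ≤ J₂ → ¬ p ∣ N.relIndex J₂ →
      ∀ f₁ f₂ : G → ℂ, GoodA p N θ J₁ f₁ → GoodA p N θ J₂ f₂ → ∀ g ∈ J₁, f₁ g = f₂ g)
    (hsolf : ∀ J : Subgroup G, N ≤ J → ¬ p ∣ N.relIndex J →
      Group.IsSolvable (↥J ⧸ N.subgroupOf J) → ∃ f : G → ℂ, GoodA p N θ J f)
    (J : Subgroup G) (hNJ : N ≤ J) (hpJ : ¬ p ∣ N.relIndex J) (f : G → ℂ)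
    (hf : GoodA p N θ J f) (c : G) (hc : c ∈ J) :
    sSum p (N ⊔ Subgroup.zpowers c) f ≠ 0 := by
  have hN1 : N ≤ N ⊔ Subgroup.zpowers c := le_sup_left
  have h1J : N ⊔ Subgroup.zpowers c ≤ J :=
    sup_le hNJ ((Subgroup.zpowers_le).2 hc)
  have hmul : N.relIndex (N ⊔ Subgroup.zpowers c) * (N ⊔ Subgroup.zpowers c).relIndex J
      = N.relIndex J := Subgroup.relIndex_mul_relIndex N _ J hN1 h1J
  have hp₁ : ¬ p ∣ N.relIndex (N ⊔ Subgroup.zpowers c) :=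
    fun hd => hpJ (hmul ▸ Dvd.dvd.mul_right hd _)
  obtain ⟨f₁, hf₁⟩ := hsolf _ hN1 hp₁ (isSolvable_sup_zpowers_quotient N c)
  have heq := hkey _ J hN1 h1J hpJ f₁ f hf₁ hf
  rw [Cfsg.Agent.Lib.H2.AD.sSum_congr p _ f f₁ (fun g hg => (heq g hg).symm)]
  exact hf₁.2

end Cfsg.Agent.Lib.H14.NT
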