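import Cfsg.Agent.Lib.H14.NTSOLFCore
import Cfsg.Agent.Lib.H14.NTHERCore

/-!
# S4551, pieces (SOLF') and (HER'), cores with explicit hypotheses (helper14)

The S4892 pieces `exists_goodA_core` / `goodA_zpowers_core` use of the standing hypotheses `Hyp`
only `hirr` and `hB`; here they are restated with exactly those two as explicit hypotheses, so that
they apply under the weaker standing hypotheses of S4551 (no degree / determinant condition).
-/

set_option autoImplicit false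
open Cfsg.Agent.Lib.H21.AD Cfsg.Agent.Lib.H28.NT

namespace Cfsg.Agent.Lib.H14.AP

variable {G : Type*} [Group G] [Finite G] {p : ℕ} {N : Subgroup G} {θ : G → ℂ}

/-- (SOLF') with `hirr`, `hB`, (KEYF') and (CONJA') as hypotheses. -/
theorem exists_goodA_gen [N.Normal]
    (hirr : Cfsg.IsIrrCharacter N (fun n : N => θ n)) (hB : sSum p N θ ≠ 0)
    (hkey : ∀ (J₁ J₂ : Subgroup G), N ≤ J₁ → J₁ ≤ J₂ → ¬ p ∣ N.relIndex J₂ →
      ∀ f₁ f₂ : G → ℂ, GoodA p N θ J₁ f₁ → GoodA p N θ J₂ f₂ → ∀ g ∈ J₁, f₁ g = f₂ g)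
    (hconj : ∀ (J : Subgroup G), N ≤ J → ∀ f : G → ℂ, GoodA p N θ J f → ∀ t : G,
      GoodA p N θ (J.map (MulAut.conj t).toMonoidHom) (fun x => f (t⁻¹ * x * t))) :
    ∀ (n : ℕ) (J : Subgroup G), Nat.card J = n → N ≤ J → ¬ p ∣ N.relIndex J →
      Group.IsSolvable (↥J ⧸ N.subgroupOf J) → ∃ f : G → ℂ, GoodA p N θ J f := by
  intro n
  induction n using Nat.strong_induction_on with
  | _ n ih =>
    intro J hcard hNJ hp hsol
    by_cases hJN : J ≤ N
    · have hJ : J = N := le_antisymm hJN hNJ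
      subst hJ
      exact ⟨θ, ⟨hirr, fun _ _ => rfl⟩, hB⟩
    · obtain ⟨J₁, hN1, h1J, hnorm, hprime, hab, hsol₁⟩ :=
        Cfsg.Agent.Lib.H2.AD.exists_sub N J hNJ hJN hsol
      have hmul : N.relIndex J₁ * J₁.relIndex J = N.relIndex J :=
        Subgroup.relIndex_mul_relIndex N J₁ J hN1 h1J
      have hp₁ : ¬ p ∣ N.relIndex J₁ := fun h => hp (hmul ▸ Dvd.dvd.mul_right h _)
      have hlt : Nat.card J₁ < Nat.card J := by
        have h1 : J₁.relIndex J * Nat.card J₁ = Nat.card J := by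
          have := Subgroup.relIndex_mul_relIndex ⊥ J₁ J bot_le h1J
          rw [Subgroup.relIndex_bot_left, Subgroup.relIndex_bot_left] at this
          rw [mul_comm]
          exact this
        have h2 : 2 ≤ J₁.relIndex J := hprime.two_le
        have h3 : 0 < Nat.card J₁ := Nat.card_pos
        nlinarith
      obtain ⟨f₁, hgood₁⟩ := ih (Nat.card J₁) (hcard ▸ hlt) J₁ rfl hN1 hp₁ hsol₁
      have hinv : ∀ t ∈ J, ∀ g ∈ J₁, f₁ (t⁻¹ * g * t) = f₁ g := by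
        intro t ht
        have hg := hconj J₁ hN1 f₁ hgood₁ t
        have hmap : J₁.map (MulAut.conj t).toMonoidHom = J₁ := by
          ext x
          constructor
          · rintro ⟨y, hy, rfl⟩
            exact hnorm t ht y hy
          · intro hx
            refine ⟨t⁻¹ * x * t, ?_, ?_⟩
            · have := hnorm t⁻¹ (J.inv_mem ht) x hx
              simpa using this
            · simp [MulAut.conj_apply, mul_assoc]
        rw [hmap] at hg
        exact hkey J₁ J₁ hN1 le_rfl hp₁ _ f₁ hg hgood₁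
      obtain ⟨f', hf'irr, hf'1⟩ :=
        Cfsg.Agent.Lib.H14.NT.exists_char_ext J₁ J h1J hnorm hprime f₁ hgood₁.1.1 hinv
      have hf : sSum p J₁ f' ≠ 0 := by
        rw [Cfsg.Agent.Lib.H2.AD.sSum_congr p J₁ f' f₁ hf'1]
        exact hgood₁.2
      obtain ⟨μ, hμ, hμs⟩ := Cfsg.Agent.Lib.H28.AD.ab p J₁ J h1J hnorm hab f' hf
      refine ⟨fun g => f' g * μ g,
        ⟨Cfsg.Agent.Lib.H14.NT.isIrr_mul_twist J₁ J h1J f' μ hf'irr hμ, ?_⟩, hμs⟩
      intro x hx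
      show f' x * μ x = θ x
      rw [hf'1 x (hN1 hx), hμ.2 x (hN1 hx), mul_one]
      exact hgood₁.1.2 x hx

/-- (HER') with (KEYF') and (SOLF') as hypotheses -/
theorem goodA_zpowers_gen [N.Normal]
    (hkey : ∀ (J₁ J₂ : Subgroup G), N ≤ J₁ → J₁ ≤ J₂ → ¬ p ∣ N.relIndex J₂ →
      ∀ f₁ f₂ : G → ℂ, GoodA p N θ J₁ f₁ → GoodA p N θ J₂ f₂ → ∀ g ∈ J₁, f₁ g = f₂ g)
    (hsolf : ∀ J : Subgroup G, N ≤ J → ¬ p ∣ N.relIndex J →
      Group.IsSolvable (↥J ⧸ N.subgroupOf J) → ∃ f : G → ℂ, GoodA p N θ J f)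
    (J : Subgroup G) (hNJ : N ≤ J) (hpJ : ¬ p ∣ N.relIndex J) (f : G → ℂ)
    (hf : GoodA p N θ J f) (c : G) (hc : c ∈ J) :
    sSum p (N ⊔ Subgroup.zpowers c) f ≠ 0 := by
  have hN1 : N ≤ N ⊔ Subgroup.zpowers c := le_sup_left
  have h1J : N ⊔ Subgroup.zpowers c ≤ J :=
    sup_le hNJ ((Subgroup.zpowers_le).2 hc)
  have hmul : N.relIndex (N ⊔ Subgroup.zpowers c) * (N ⊔ Subgroup.zpowers c).relIndex J
      = N.relIndex J := Subgroup.relIndex_mul_relIndex N _ J hN1 h1J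
  have hp₁ : ¬ p ∣ N.relIndex (N ⊔ Subgroup.zpowers c) :=
    fun hd => hpJ (hmul ▸ Dvd.dvd.mul_right hd _)
  obtain ⟨f₁, hf₁⟩ := hsolf _ hN1 hp₁ (Cfsg.Agent.Lib.H14.NT.isSolvable_sup_zpowers_quotient N c)
  have heq := hkey _ J hN1 h1J hpJ f₁ f hf₁ hf
  rw [Cfsg.Agent.Lib.H2.AD.sSum_congr p _ f f₁ (fun g hg => (heq g hg).symm)]
  exact hf₁.2

end Cfsg.Agent.Lib.H14.AP
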