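import Cfsg.Agent.Lib.H14.Norm

/-! p-closed / O^p / O_p under surjective homomorphisms with p-group kernel. -/

set_option autoImplicit false

namespace Cfsg.Agent.Lib.H14

theorem isPClosed_iff_of_surjective {G G' : Type*} [Group G] [Group G'] [Finite G] {p : ℕ}
    [Fact p.Prime] (f : G →* G') (hf : Function.Surjective f) (hk : IsPGroup p f.ker) :
    Cfsg.IsPClosed p G ↔ Cfsg.IsPClosed p G' := by
  have : Finite G' := Finite.of_surjective f hf
  obtain ⟨T⟩ : Nonempty (Sylow p G) := inferInstance
  constructor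
  · intro h
    apply isPClosed_of_normal_sylow (T.mapSurjective hf)
    rw [Sylow.coe_mapSurjective]
    exact (h T).map f hf
  · intro h
    apply isPClosed_of_normal_sylow T
    have h1 : ((T.mapSurjective hf : Sylow p G') : Subgroup G').Normal := h _
    rw [Sylow.coe_mapSurjective] at h1
    have h2 := h1.comap f
    rw [Subgroup.comap_map_eq, sup_eq_left.mpr (hk.le_sylow_of_normal T)] at h2
    exact h2

theorem isPClosed_map_iff {G G' : Type*} [Group G] [Group G'] [Finite G] {p : ℕ}
    [Fact p.Prime] (f : G →* G') (hk : IsPGroup p f.ker) (N : Subgroup G) :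
    Cfsg.IsPClosed p ↥N ↔ Cfsg.IsPClosed p ↥(N.map f) := by
  apply isPClosed_iff_of_surjective (f.subgroupMap N) (f.subgroupMap_surjective N)
  apply IsPGroup.of_injective hk
    ((N.subtype.comp (f.subgroupMap N).ker.subtype).codRestrict f.ker ?_) ?_
  · intro x
    rw [MonoidHom.mem_ker]
    have h1 : (f.subgroupMap N) (x : ↥N) = 1 := x.2
    have h2 := congrArg Subtype.val h1
    simpa using h2
  · intro x y hxy
    have h1 := congrArg Subtype.val hxy
    apply Subtype.ext
    apply Subtype.ext
    simpa using h1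

theorem pResidual_map_of_surjective {G G' : Type*} [Group G] [Group G'] [Finite G] {p : ℕ}
    [Fact p.Prime] (f : G →* G') (hf : Function.Surjective f) :
    (Cfsg.pResidual p G).map f = Cfsg.pResidual p G' := by
  apply le_antisymm
  · unfold Cfsg.pResidual
    rw [MonoidHom.map_closure, Subgroup.closure_le]
    rintro _ ⟨x, hx, rfl⟩
    apply Subgroup.subset_closure
    exact Nat.Coprime.coprime_dvd_left (orderOf_map_dvd f x) hx
  · conv_lhs => unfold Cfsg.pResidual
    rw [Subgroup.closure_le]
    intro y hy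
    obtain ⟨x, rfl⟩ := hf y
    obtain ⟨k, hk⟩ := exists_pow_mem_presOf p ⊤ x (Subgroup.mem_top x)
    rw [← pResidual_eq_presOf_top] at hk
    apply mem_of_pow_mem_of_coprime p _ _ hy k
    rw [← map_pow]
    exact Subgroup.mem_map_of_mem f hk

theorem pCore_map_le {G G' : Type*} [Group G] [Group G'] {p : ℕ}
    (f : G →* G') (hf : Function.Surjective f) :
    (Cfsg.pCore p G).map f ≤ Cfsg.pCore p G' :=
  le_sSup ⟨(pCore_normal (G := G) (p := p)).map f hf, (pCore_isPGroup (G := G) (p := p)).map f⟩

theorem comap_pCore_le {G G' : Type*} [Group G] [Group G'] {p : ℕ}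
    (f : G →* G') (hk : IsPGroup p f.ker) :
    (Cfsg.pCore p G').comap f ≤ Cfsg.pCore p G :=
  le_sSup ⟨(pCore_normal (G := G') (p := p)).comap f,
    (pCore_isPGroup (G := G') (p := p)).comap_of_ker_isPGroup f hk⟩

end Cfsg.Agent.Lib.H14
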