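import Cfsg.Agent.Lib.H14.OmegaOne
import Mathlib.GroupTheory.IsSubnormal
set_option autoImplicit false
open Cfsg

namespace Cfsg.Agent.Lib.H14

universe u

/-- `O^p(B)` inside the ambient group, as a closure. -/
abbrev presOf {H : Type*} [Group H] (p : ℕ) (B : Subgroup H) : Subgroup H :=
  Subgroup.closure {x : H | x ∈ B ∧ (orderOf x).Coprime p}

theorem pResidual_map_eq {H : Type*} [Group H] (p : ℕ) (B : Subgroup H) :
    (Cfsg.pResidual p ↥B).map B.subtype = presOf p B := by
  unfold Cfsg.pResidual presOf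
  rw [MonoidHom.map_closure]
  congr 1
  ext x
  constructor
  · rintro ⟨y, hy, rfl⟩
    refine ⟨y.2, ?_⟩
    rw [Subgroup.coe_subtype, Subgroup.orderOf_coe]; exact hy
  · rintro ⟨hxB, hx⟩
    refine ⟨⟨x, hxB⟩, ?_, rfl⟩
    show (orderOf (⟨x, hxB⟩ : ↥B)).Coprime p
    rw [← Subgroup.orderOf_coe]; exact hx

theorem presOf_le {H : Type*} [Group H] (p : ℕ) (B : Subgroup H) : presOf p B ≤ B := by
  unfold presOf
  rw [Subgroup.closure_le]
  intro x hx; exact hx.1

theorem presOf_mono {H : Type*} [Group H] (p : ℕ) {B C : Subgroup H} (h : B ≤ C) :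
    presOf p B ≤ presOf p C :=
  Subgroup.closure_mono fun _ hx => ⟨h hx.1, hx.2⟩

theorem orderOf_conj_eq {H : Type*} [Group H] (g x : H) : orderOf (g * x * g⁻¹) = orderOf x :=
  orderOf_injective (MulAut.conj g).toMonoidHom (MulAut.conj g).injective x

theorem presOf_conj_mem {H : Type*} [Group H] (p : ℕ) (B : Subgroup H) (g : H)
    (hg : g ∈ Subgroup.normalizer (B : Set H)) (x : H) (hx : x ∈ presOf p B) :
    g * x * g⁻¹ ∈ presOf p B := by
  have key : presOf p B ≤ (presOf p B).comap (MulAut.conj g).toMonoidHom := by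
    conv_lhs => unfold presOf
    rw [Subgroup.closure_le]
    rintro y ⟨hyB, hy⟩
    show (MulAut.conj g) y ∈ presOf p B
    apply Subgroup.subset_closure
    rw [MulAut.conj_apply]
    exact ⟨(Subgroup.mem_normalizer_iff.mp hg y).mp hyB, by rw [orderOf_conj_eq]; exact hy⟩
  have := key hx
  simpa [MulAut.conj_apply] using this

theorem presOf_normalized {H : Type*} [Group H] (p : ℕ) (B : Subgroup H) :
    Subgroup.normalizer (B : Set H) ≤ Subgroup.normalizer (presOf p B : Set H) := by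
  intro g hg
  rw [Subgroup.mem_normalizer_iff]
  intro x
  constructor
  · exact presOf_conj_mem p B g hg x
  · intro hx
    have := presOf_conj_mem p B g⁻¹ ((Subgroup.normalizer (B : Set H)).inv_mem hg) _ hx
    simpa [mul_assoc] using this

/-- every element of a finite `B` has a `p`-power power in `O^p(B)`. -/
theorem exists_pow_mem_presOf {H : Type*} [Group H] [Finite H] (p : ℕ) [Fact p.Prime]
    (B : Subgroup H) (b : H) (hb : b ∈ B) : ∃ k : ℕ, b ^ (p ^ k) ∈ presOf p B := by
  have hpos : 0 < orderOf b := orderOf_pos b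
  obtain ⟨e, m, hm, hom⟩ := Nat.exists_eq_pow_mul_and_not_dvd hpos.ne' p (Fact.out : p.Prime).ne_one
  refine ⟨e, Subgroup.subset_closure ⟨B.pow_mem hb _, ?_⟩⟩
  have hpe : p ^ e ≠ 0 := pow_ne_zero _ (Fact.out : p.Prime).ne_zero
  rw [orderOf_pow' b hpe, hom, Nat.gcd_eq_right (Dvd.intro _ rfl),
    Nat.mul_div_cancel_left _ (Nat.pos_of_ne_zero hpe)]
  exact (Nat.Coprime.symm ((Fact.out : p.Prime).coprime_iff_not_dvd.mpr hm))

/-- an element of order prime to `p` with a `p`-power power in `N` lies in `N`. -/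
theorem mem_of_pow_mem_of_coprime {H : Type*} [Group H] (p : ℕ) (N : Subgroup H) (y : H)
    (hy : (orderOf y).Coprime p) (k : ℕ) (hk : y ^ (p ^ k) ∈ N) : y ∈ N := by
  have hc : (p ^ k).Coprime (orderOf y) := (Nat.Coprime.pow_right k hy).symm
  obtain ⟨m, hm⟩ := exists_pow_eq_self_of_coprime hc
  rw [← hm]
  exact N.pow_mem hk m

/-- If `A ⊔ R = ⊤`, `R` is a normal `p`-subgroup, `N` is normal and `A / (A ∩ N)` is a `p`-group, then
`X / N` is a `p`-group. -/
theorem exists_pow_mem_of_sup {X : Type*} [Group X] (p : ℕ) [Fact p.Prime] (N A R : Subgroup X)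
    [hN : N.Normal] [hR : R.Normal] (hAR : A ⊔ R = ⊤) (hRp : ∀ r ∈ R, ∃ k : ℕ, r ^ (p ^ k) ∈ N)
    (hA : ∀ a ∈ A, ∃ k : ℕ, a ^ (p ^ k) ∈ N) (z : X) : ∃ k : ℕ, z ^ (p ^ k) ∈ N := by
  have hAp : IsPGroup p (A.map (QuotientGroup.mk' N)) := by
    rintro ⟨_, a, ha, rfl⟩
    obtain ⟨k, hk⟩ := hA a ha
    refine ⟨k, Subtype.ext ?_⟩
    simp only [Subgroup.coe_pow, Subgroup.coe_one]
    rw [← map_pow, QuotientGroup.mk'_apply, QuotientGroup.eq_one_iff]
    exact hk
  have hRp' : IsPGroup p (R.map (QuotientGroup.mk' N)) := by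
    rintro ⟨_, a, ha, rfl⟩
    obtain ⟨k, hk⟩ := hRp a ha
    refine ⟨k, Subtype.ext ?_⟩
    simp only [Subgroup.coe_pow, Subgroup.coe_one]
    rw [← map_pow, QuotientGroup.mk'_apply, QuotientGroup.eq_one_iff]
    exact hk
  have : (R.map (QuotientGroup.mk' N)).Normal :=
    Subgroup.Normal.map hR _ (QuotientGroup.mk'_surjective N)
  have hsup := IsPGroup.to_sup_of_normal_right hAp hRp'
  rw [← Subgroup.map_sup, hAR, ← MonoidHom.range_eq_map,
    MonoidHom.range_eq_top.mpr (QuotientGroup.mk'_surjective N)] at hsup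
  obtain ⟨k, hk⟩ := hsup ⟨QuotientGroup.mk' N z, Subgroup.mem_top _⟩
  refine ⟨k, ?_⟩
  have := congrArg Subtype.val hk
  simp only [Subgroup.coe_pow, Subgroup.coe_one] at this
  rw [← map_pow, QuotientGroup.mk'_apply, QuotientGroup.eq_one_iff] at this
  exact this

/-- `O_p` of a subnormal subgroup lies in `O_p` of the group. -/
theorem pCoreOf_le_of_isSubnormal {H : Type*} [Group H] (p : ℕ) (K : Subgroup H)
    (hK : K.IsSubnormal) : Cfsg.pCoreOf p K ≤ Cfsg.pCore p H := by
  induction hK with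
  | top =>
    unfold Cfsg.pCoreOf
    rintro _ ⟨y, hy, rfl⟩
    have hn : (Cfsg.pCore p ↥(⊤ : Subgroup H)).Normal := pCore_normal
    have hle : (Cfsg.pCore p ↥(⊤ : Subgroup H)).map (⊤ : Subgroup H).subtype ≤ Cfsg.pCore p H := by
      refine le_sSup (s := {N : Subgroup H | N.Normal ∧ IsPGroup p N}) ⟨?_, ?_⟩
      · constructor
        rintro _ ⟨n, hn', rfl⟩ g
        exact ⟨⟨g, Subgroup.mem_top g⟩ * n * ⟨g, Subgroup.mem_top g⟩⁻¹, hn.conj_mem n hn' _, rfl⟩
      · exact (pCore_isPGroup (G := ↥(⊤ : Subgroup H)) (p := p)).map _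
    exact hle ⟨y, hy, rfl⟩
  | step A K hle hK hN ih =>
    refine le_trans ?_ ih
    apply le_pCoreOf p K _ ((pCoreOf_le p A).trans hle)
    · rw [Subgroup.normal_subgroupOf_iff_le_normalizer hle] at hN
      intro g hg
      have hgA := hN hg
      have h1 := pCoreOf_map_conj p A g
      have h2 : A.map (MulAut.conj g).toMonoidHom = A := by
        ext x
        rw [mem_map_conj_iff]
        have := (Subgroup.mem_normalizer_iff.mp ((Subgroup.normalizer (A : Set H)).inv_mem hgA)) x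
        simpa using this.symm
      rw [h2] at h1
      rw [Subgroup.mem_normalizer_iff]
      intro x
      conv_rhs => rw [h1, mem_map_conj_iff]
      constructor
      · intro hx; simpa [mul_assoc] using hx
      · intro hx; simpa [mul_assoc] using hx
    · exact pCoreOf_isPGroup p A

theorem le_pCore_of_isSubnormal_of_isPGroup {H : Type*} [Group H] (p : ℕ) (A : Subgroup H)
    (hA : A.IsSubnormal) (hAp : IsPGroup p A) : A ≤ Cfsg.pCore p H := by
  refine le_trans ?_ (pCoreOf_le_of_isSubnormal p A hA)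
  exact le_pCoreOf p A A le_rfl Subgroup.le_normalizer hAp

end Cfsg.Agent.Lib.H14
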