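import Mathlib

set_option autoImplicit false

namespace Cfsg.Agent.Lib.H14.A8Sylow

/-- the block of size two containing `i` -/
def blk2 (i : Fin 8) : Fin 4 := ⟨i.val / 2, by omega⟩
/-- the block of size four containing `i` -/
def blk4 (i : Fin 8) : Fin 2 := ⟨i.val / 4, by omega⟩

/-- The automorphism group of the binary tree on eight leaves. -/
def T : Subgroup (Equiv.Perm (Fin 8)) where
  carrier := {σ | (∀ i j, blk2 (σ i) = blk2 (σ j) ↔ blk2 i = blk2 j) ∧
    (∀ i j, blk4 (σ i) = blk4 (σ j) ↔ blk4 i = blk4 j)}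
  mul_mem' := by
    rintro a b ⟨ha2, ha4⟩ ⟨hb2, hb4⟩
    refine ⟨fun i j => ?_, fun i j => ?_⟩
    · rw [Equiv.Perm.mul_apply, Equiv.Perm.mul_apply, ha2, hb2]
    · rw [Equiv.Perm.mul_apply, Equiv.Perm.mul_apply, ha4, hb4]
  one_mem' := ⟨fun i j => Iff.rfl, fun i j => Iff.rfl⟩
  inv_mem' := by
    rintro a ⟨ha2, ha4⟩
    refine ⟨fun i j => ?_, fun i j => ?_⟩
    · rw [← ha2, Equiv.Perm.inv_def, Equiv.apply_symm_apply, Equiv.apply_symm_apply]
    · rw [← ha4, Equiv.Perm.inv_def, Equiv.apply_symm_apply, Equiv.apply_symm_apply]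

theorem mem_T {σ : Equiv.Perm (Fin 8)} : σ ∈ T ↔ (∀ i j, blk2 (σ i) = blk2 (σ j) ↔ blk2 i = blk2 j) ∧
    (∀ i j, blk4 (σ i) = blk4 (σ j) ↔ blk4 i = blk4 j) := Iff.rfl

theorem aux1 : ∀ u v w : Fin 2, (v = u → w = v) → (v ≠ u → w ≠ v) → w = u := by decide

theorem aux2 : ∀ a b c : Fin 8, blk4 a = blk4 b → blk4 b = blk4 c → (blk2 b = blk2 a → blk2 c = blk2 b) →
    (blk2 b ≠ blk2 a → blk2 c ≠ blk2 b) → blk2 c = blk2 a := by decide

theorem aux3 : ∀ a b c : Fin 8, blk2 b = blk2 a → blk2 c = blk2 b → (b = a → c = b) → (b ≠ a → c ≠ b) →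
    c = a := by decide

theorem sq_blk4 {σ : Equiv.Perm (Fin 8)} (h : σ ∈ T) (i : Fin 8) : blk4 ((σ * σ) i) = blk4 i := by
  rw [Equiv.Perm.mul_apply]
  apply aux1 (blk4 i) (blk4 (σ i)) (blk4 (σ (σ i)))
  · intro h1
    rw [(h.2 _ _)]; exact h1
  · intro h1 h2
    rw [(h.2 _ _)] at h2; exact h1 h2

theorem sq_blk2 {τ : Equiv.Perm (Fin 8)} (h : τ ∈ T) (h4 : ∀ i, blk4 (τ i) = blk4 i) (i : Fin 8) :
    blk2 ((τ * τ) i) = blk2 i := by
  rw [Equiv.Perm.mul_apply]
  apply aux2 i (τ i) (τ (τ i)) (h4 i).symm (h4 (τ i)).symm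
  · intro h1
    rw [(h.1 _ _)]; exact h1
  · intro h1 h2
    rw [(h.1 _ _)] at h2; exact h1 h2

theorem sq_eq_one {υ : Equiv.Perm (Fin 8)} (h2 : ∀ i, blk2 (υ i) = blk2 i) : υ * υ = 1 := by
  apply Equiv.ext
  intro i
  rw [Equiv.Perm.mul_apply, Equiv.Perm.one_apply]
  apply aux3 i (υ i) (υ (υ i)) (h2 i) (h2 (υ i))
  · intro h1
    rw [h1, h1]
  · intro h1 h3
    exact h1 (υ.injective h3)

theorem pow_eight {σ : Equiv.Perm (Fin 8)} (h : σ ∈ T) : σ ^ 8 = 1 := by
  have h1 := sq_blk4 h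
  have h2 := sq_blk2 (T.mul_mem h h) h1
  have h3 := sq_eq_one h2
  rw [← h3]; simp only [pow_succ, pow_zero, one_mul, mul_assoc]

theorem isPGroup_T : IsPGroup 2 T := by
  intro σ
  refine ⟨3, ?_⟩
  apply Subtype.ext
  have := pow_eight σ.2
  simpa using this


/-- the even tree automorphisms -/
def P0 : Subgroup (Equiv.Perm (Fin 8)) := T ⊓ alternatingGroup (Fin 8)

/-- product of two leaf transpositions -/
def dsw (a b : Fin 4) : Equiv.Perm (Fin 8) :=
  Equiv.swap ⟨2 * a.val, by omega⟩ ⟨2 * a.val + 1, by omega⟩ *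
    Equiv.swap ⟨2 * b.val, by omega⟩ ⟨2 * b.val + 1, by omega⟩

/-- swapping the two small blocks in one half -/
def qsw (c : Fin 2) : Equiv.Perm (Fin 8) :=
  Equiv.swap ⟨4 * c.val, by omega⟩ ⟨4 * c.val + 2, by omega⟩ *
    Equiv.swap ⟨4 * c.val + 1, by omega⟩ ⟨4 * c.val + 3, by omega⟩

theorem dsw_mem_T : ∀ a b : Fin 4, dsw a b ∈ T := by
  intro a b
  rw [mem_T]
  revert a b
  decide

theorem qsw_mem_T : ∀ c : Fin 2, qsw c ∈ T := by
  intro c
  rw [mem_T]
  revert c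
  decide

theorem dsw_mem_P0 (a b : Fin 4) : dsw a b ∈ P0 := by
  refine Subgroup.mem_inf.2 ⟨dsw_mem_T a b, ?_⟩
  rw [Equiv.Perm.mem_alternatingGroup]
  unfold dsw
  rw [Equiv.Perm.sign_mul, Equiv.Perm.sign_swap, Equiv.Perm.sign_swap]
  · rfl
  · intro h; have := congrArg Fin.val h; simp at this
  · intro h; have := congrArg Fin.val h; simp at this

theorem qsw_mem_P0 (c : Fin 2) : qsw c ∈ P0 := by
  refine Subgroup.mem_inf.2 ⟨qsw_mem_T c, ?_⟩
  rw [Equiv.Perm.mem_alternatingGroup]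
  unfold qsw
  rw [Equiv.Perm.sign_mul, Equiv.Perm.sign_swap, Equiv.Perm.sign_swap]
  · rfl
  · intro h; have := congrArg Fin.val h; simp at this
  · intro h; have := congrArg Fin.val h; simp at this

theorem wit2 : ∀ x y : Fin 8, blk2 x ≠ blk2 y → ∃ a b : Fin 4, a ≠ b ∧ dsw a b x = x ∧ dsw a b y ≠ y := by
  decide

theorem wit4 : ∀ x y : Fin 8, blk4 x ≠ blk4 y → ∃ c : Fin 2, qsw c x = x ∧ blk2 (qsw c y) ≠ blk2 y ∧
    blk2 (qsw c y) ≠ blk2 x := by
  decide

theorem aux4 : ∀ a b c : Fin 8, blk2 a = blk2 b → a ≠ b → blk2 c = blk2 b → c ≠ b → c = a := by decide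

theorem aux5 : ∀ a b : Fin 8, blk2 a = blk2 b → blk4 a = blk4 b := by decide

theorem aux6 : ∀ a b c : Fin 8, blk4 a = blk4 b → blk4 c = blk4 a → blk2 a ≠ blk2 b →
    blk2 c = blk2 a ∨ blk2 c = blk2 b := by decide

theorem norm_blk2 {g : Equiv.Perm (Fin 8)} (hg : ∀ q ∈ P0, g⁻¹ * q * g ∈ P0) (i j : Fin 8)
    (hij : blk2 i = blk2 j) : blk2 (g i) = blk2 (g j) := by
  by_contra hne
  obtain ⟨a, b, -, h1, h2⟩ := wit2 (g i) (g j) hne
  have hu := (Subgroup.mem_inf.1 (hg _ (dsw_mem_P0 a b))).1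
  set u := g⁻¹ * dsw a b * g with hu_def
  have hui : u i = i := by
    rw [hu_def, Equiv.Perm.mul_apply, Equiv.Perm.mul_apply, h1, Equiv.Perm.inv_def, Equiv.symm_apply_apply]
  have huj : u j ≠ j := by
    rw [hu_def, Equiv.Perm.mul_apply, Equiv.Perm.mul_apply, Equiv.Perm.inv_def]
    intro h
    rw [Equiv.symm_apply_eq] at h
    exact h2 h
  have h3 : blk2 (u j) = blk2 j := by
    rw [← (hu.1 i j).2 hij, hui, hij]
  have hne' : i ≠ j := by
    rintro rfl; exact hne rfl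
  have h4 := aux4 i j (u j) hij hne' h3 huj
  rw [← hui] at h4
  exact hne' (u.injective h4).symm

theorem norm_blk4 {g : Equiv.Perm (Fin 8)} (hg : ∀ q ∈ P0, g⁻¹ * q * g ∈ P0) (i j : Fin 8)
    (hij : blk4 i = blk4 j) : blk4 (g i) = blk4 (g j) := by
  by_contra hne
  obtain ⟨c, h1, h2, h3⟩ := wit4 (g i) (g j) hne
  have hu := (Subgroup.mem_inf.1 (hg _ (qsw_mem_P0 c))).1
  set u := g⁻¹ * qsw c * g with hu_def
  have hui : u i = i := by
    rw [hu_def, Equiv.Perm.mul_apply, Equiv.Perm.mul_apply, h1, Equiv.Perm.inv_def, Equiv.symm_apply_apply]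
  have hguj : g (u j) = qsw c (g j) := by
    rw [hu_def, Equiv.Perm.mul_apply, Equiv.Perm.mul_apply, Equiv.Perm.inv_def, Equiv.apply_symm_apply]
  have h4 : blk4 (u j) = blk4 i := by
    rw [← (hu.2 i j).2 hij, hui]
  have h5 : blk2 i ≠ blk2 j := by
    intro h
    exact hne (aux5 _ _ (norm_blk2 hg i j h))
  rcases aux6 i j (u j) hij h4 h5 with h6 | h6
  · have := norm_blk2 hg _ _ h6
    rw [hguj] at this
    exact h3 this
  · have := norm_blk2 hg _ _ h6
    rw [hguj] at this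
    exact h2 this

theorem mem_T_of_normalizes {g : Equiv.Perm (Fin 8)} (hg : ∀ q ∈ P0, g⁻¹ * q * g ∈ P0)
    (hg' : ∀ q ∈ P0, g * q * g⁻¹ ∈ P0) : g ∈ T := by
  have hg'' : ∀ q ∈ P0, (g⁻¹)⁻¹ * q * g⁻¹ ∈ P0 := by
    intro q hq; rw [inv_inv]; exact hg' q hq
  rw [mem_T]
  refine ⟨fun i j => ⟨fun h => ?_, norm_blk2 hg i j⟩, fun i j => ⟨fun h => ?_, norm_blk4 hg i j⟩⟩
  · have := norm_blk2 hg'' _ _ h
    rwa [Equiv.Perm.inv_def, Equiv.symm_apply_apply, Equiv.symm_apply_apply] at this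
  · have := norm_blk4 hg'' _ _ h
    rwa [Equiv.Perm.inv_def, Equiv.symm_apply_apply, Equiv.symm_apply_apply] at this


theorem normalizer_P0_le : Subgroup.normalizer (P0 : Set (Equiv.Perm (Fin 8))) ≤ T := by
  intro g hg
  rw [Subgroup.mem_normalizer_iff] at hg
  apply mem_T_of_normalizes
  · intro q hq
    rw [hg]
    have : g * (g⁻¹ * q * g) * g⁻¹ = q := by group
    rw [this]; exact hq
  · intro q hq
    exact (hg q).1 hq

theorem conj_mem_alt (g q : Equiv.Perm (Fin 8)) :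
    g * q * g⁻¹ ∈ alternatingGroup (Fin 8) ↔ q ∈ alternatingGroup (Fin 8) := by
  rw [Equiv.Perm.mem_alternatingGroup, Equiv.Perm.mem_alternatingGroup, map_mul, map_mul, map_inv,
    mul_comm (Equiv.Perm.sign g), mul_assoc, mul_inv_cancel, mul_one]

theorem normalizer_T_le : Subgroup.normalizer (T : Set (Equiv.Perm (Fin 8))) ≤ T := by
  intro g hg
  apply normalizer_P0_le
  rw [Subgroup.mem_normalizer_iff] at hg ⊢
  intro q
  unfold P0
  rw [Subgroup.mem_inf, Subgroup.mem_inf, ← hg q]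
  rw [conj_mem_alt]

theorem normalizer_T : Subgroup.normalizer (T : Set (Equiv.Perm (Fin 8))) = T :=
  le_antisymm normalizer_T_le Subgroup.le_normalizer

instance : Fact (Nat.Prime 2) := ⟨Nat.prime_two⟩

theorem not_dvd_index_T : ¬ 2 ∣ T.index := by
  obtain ⟨n, hn⟩ := IsPGroup.iff_card.1 isPGroup_T
  have h := Sylow.card_quotient_normalizer_modEq_card_quotient (G := Equiv.Perm (Fin 8)) hn
  have h1 : Nat.card (↥(Subgroup.normalizer (T : Set (Equiv.Perm (Fin 8)))) ⧸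
      T.comap (Subgroup.normalizer (T : Set (Equiv.Perm (Fin 8)))).subtype) = 1 := by
    rw [Nat.card_eq_one_iff_unique]
    refine ⟨⟨?_⟩, ⟨QuotientGroup.mk 1⟩⟩
    intro a b
    induction a using QuotientGroup.induction_on with | _ a => ?_
    induction b using QuotientGroup.induction_on with | _ b => ?_
    rw [QuotientGroup.eq]
    rw [Subgroup.mem_comap]
    have ha := normalizer_T_le a.2
    have hb := normalizer_T_le b.2
    exact T.mul_mem (T.inv_mem ha) hb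
  rw [h1] at h
  intro hd
  have : Nat.card (Equiv.Perm (Fin 8) ⧸ T) = T.index := rfl
  rw [this] at h
  have h2 := h.symm
  rw [Nat.ModEq, Nat.mod_eq_zero_of_dvd hd] at h2
  norm_num at h2

/-- `T` as a Sylow subgroup -/
noncomputable def TS : Sylow 2 (Equiv.Perm (Fin 8)) := isPGroup_T.toSylow not_dvd_index_T

theorem card_alt8 : Nat.card (alternatingGroup (Fin 8)) = 20160 := by
  have h := two_mul_nat_card_alternatingGroup (α := Fin 8)
  rw [Nat.card_eq_fintype_card (α := Equiv.Perm (Fin 8)), Fintype.card_perm, Fintype.card_fin] at h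
  have : Nat.factorial 8 = 40320 := by decide
  omega

theorem card_P0_le : Nat.card P0 ≤ 64 := by
  have hP : IsPGroup 2 P0 := isPGroup_T.to_le inf_le_left
  obtain ⟨n, hn⟩ := IsPGroup.iff_card.1 hP
  have hd : Nat.card P0 ∣ Nat.card (alternatingGroup (Fin 8)) :=
    Subgroup.card_dvd_of_le inf_le_right
  rw [card_alt8, hn] at hd
  rw [hn]
  have hn6 : n ≤ 6 := by
    by_contra hlt
    have h7 : 7 ≤ n := by omega
    have : 2 ^ 7 ∣ 20160 := (pow_dvd_pow 2 h7).trans hd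
    norm_num at this
  calc 2 ^ n ≤ 2 ^ 6 := Nat.pow_le_pow_right (by norm_num) hn6
    _ = 64 := by norm_num

/-- A subgroup of order `64` of the alternating group of degree eight is self-normalizing in it. -/
theorem alt8_self_normalizing (Q : Subgroup (Equiv.Perm (Fin 8))) (hQ : Q ≤ alternatingGroup (Fin 8))
    (hc : Nat.card Q = 64) (g : Equiv.Perm (Fin 8)) (hgA : g ∈ alternatingGroup (Fin 8))
    (hg : g ∈ Subgroup.normalizer (Q : Set (Equiv.Perm (Fin 8)))) : g ∈ Q := by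
  have hQ2 : IsPGroup 2 Q := IsPGroup.of_card (n := 6) (by rw [hc]; norm_num)
  obtain ⟨R, hR⟩ := hQ2.exists_le_sylow
  obtain ⟨h, hh⟩ := MulAction.exists_smul_eq (Equiv.Perm (Fin 8)) TS R
  -- membership in the conjugate
  have hmem : ∀ x, x ∈ (R : Subgroup (Equiv.Perm (Fin 8))) ↔ h⁻¹ * x * h ∈ T := by
    intro x
    rw [← hh, Sylow.smul_def, Sylow.pointwise_smul_def, Subgroup.mem_pointwise_smul_iff_inv_smul_mem]
    rw [MulAut.smul_def, ← map_inv, MulAut.conj_apply, inv_inv]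
    exact (IsPGroup.mem_toSylow isPGroup_T not_dvd_index_T)
  have halt : ∀ x, h⁻¹ * x * h ∈ alternatingGroup (Fin 8) ↔ x ∈ alternatingGroup (Fin 8) := by
    intro x
    have := conj_mem_alt h⁻¹ x
    rwa [inv_inv] at this
  let c : Equiv.Perm (Fin 8) →* Equiv.Perm (Fin 8) := (MulAut.conj h⁻¹).toMonoidHom
  have hc_apply : ∀ x, c x = h⁻¹ * x * h := by
    intro x; simp [c]
  have hcinj : Function.Injective c := (MulAut.conj h⁻¹).injective
  have hQ1 : Q.map c ≤ P0 := by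
    rintro _ ⟨x, hx, rfl⟩
    rw [hc_apply]
    exact Subgroup.mem_inf.2 ⟨(hmem x).1 (hR hx), (halt x).2 (hQ hx)⟩
  have hcard : Nat.card (Q.map c) = 64 := by
    rw [Subgroup.card_map_of_injective hcinj, hc]
  have hQ1eq : Q.map c = P0 := by
    apply Subgroup.eq_of_le_of_card_ge hQ1
    rw [hcard]; exact card_P0_le
  have hg1 : c g ∈ Subgroup.normalizer (P0 : Set (Equiv.Perm (Fin 8))) := by
    rw [Subgroup.mem_normalizer_iff] at hg ⊢
    intro y
    rw [← hQ1eq]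
    constructor
    · rintro ⟨x, hx, rfl⟩
      refine ⟨g * x * g⁻¹, (hg x).1 hx, ?_⟩
      simp
    · rintro ⟨x, hx, hxy⟩
      refine ⟨g⁻¹ * x * g, (hg _).2 ?_, ?_⟩
      · have : g * (g⁻¹ * x * g) * g⁻¹ = x := by group
        rw [this]; exact hx
      · rw [map_mul, map_mul, map_inv, hxy]; group
  have hg2 : c g ∈ P0 := by
    refine Subgroup.mem_inf.2 ⟨normalizer_P0_le hg1, ?_⟩
    rw [hc_apply, halt]; exact hgA
  rw [← hQ1eq] at hg2
  obtain ⟨x, hx, hxg⟩ := hg2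
  rw [← hcinj hxg]; exact hx


/-- A subgroup of order `64` of an alternating group of degree eight is self-normalizing in it. -/
theorem alt_card8_self_normalizing {α : Type*} [Fintype α] [DecidableEq α] (hα : Fintype.card α = 8)
    (Q : Subgroup (Equiv.Perm α)) (hQ : Q ≤ alternatingGroup α)
    (hc : Nat.card Q = 64) (g : Equiv.Perm α) (hgA : g ∈ alternatingGroup α)
    (hg : g ∈ Subgroup.normalizer (Q : Set (Equiv.Perm α))) : g ∈ Q := by
  let e : α ≃ Fin 8 := Fintype.equivFinOfCardEq hα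
  let φ : Equiv.Perm α ≃* Equiv.Perm (Fin 8) := e.permCongrHom
  have hsign : ∀ x : Equiv.Perm α, φ x ∈ alternatingGroup (Fin 8) ↔ x ∈ alternatingGroup α := by
    intro x
    rw [Equiv.Perm.mem_alternatingGroup, Equiv.Perm.mem_alternatingGroup]
    have : φ x = e.permCongr x := by
      simp [φ, Equiv.permCongrHom_coe]
    rw [this, Equiv.Perm.sign_permCongr]
  have h1 : Q.map φ.toMonoidHom ≤ alternatingGroup (Fin 8) := by
    rintro _ ⟨x, hx, rfl⟩
    exact (hsign x).2 (hQ hx)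
  have h2 : Nat.card (Q.map φ.toMonoidHom) = 64 := by
    rw [Subgroup.card_map_of_injective φ.injective, hc]
  have h3 : φ g ∈ Subgroup.normalizer ((Q.map φ.toMonoidHom : Subgroup _) : Set (Equiv.Perm (Fin 8))) := by
    rw [← Subgroup.map_equiv_normalizer_eq]
    exact ⟨g, hg, rfl⟩
  have h4 := alt8_self_normalizing _ h1 h2 (φ g) ((hsign g).2 hgA) h3
  obtain ⟨x, hx, hxg⟩ := h4
  have : x = g := φ.injective hxg
  rw [← this]; exact hx

end Cfsg.Agent.Lib.H14.A8Sylow
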