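import Cfsg.Agent.Lib.H14.CharP

/-! Parabolic characteristic `p` via `Ω₁(Z(S))`; `F* = O_p` passes to normal subgroups and along
isomorphisms. -/

set_option autoImplicit false

namespace Cfsg.Agent.Lib.H14

/-- `F*(H) = O_p(H)` transports along an isomorphism. -/
theorem fstar_eq_pCore_of_equiv {H H' : Type*} [Group H] [Group H'] [Finite H] (p : ℕ)
    [Fact p.Prime] (e : H ≃* H')
    (h : Cfsg.generalizedFittingSubgroup H = Cfsg.pCore p H) :
    Cfsg.generalizedFittingSubgroup H' = Cfsg.pCore p H' := by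
  have : Finite H' := Finite.of_equiv H e.toEquiv
  rw [← Cfsg.Agent.Lib.H7.isPGroup_generalizedFittingSubgroup_iff] at h ⊢
  rw [← Cfsg.Agent.Lib.H7.generalizedFittingSubgroup_map_equiv e]
  exact h.map _

/-- `F*(H) = O_p(H)` passes to subnormal subgroups. -/
theorem fstar_eq_pCore_of_subnormal {H : Type*} [Group H] [Finite H] (p : ℕ) [Fact p.Prime]
    (N : Subgroup H) (hN : N.IsSubnormal)
    (h : Cfsg.generalizedFittingSubgroup H = Cfsg.pCore p H) :
    Cfsg.generalizedFittingSubgroup ↥N = Cfsg.pCore p ↥N := by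
  rw [← Cfsg.Agent.Lib.H7.isPGroup_generalizedFittingSubgroup_iff]
  have h1 := Cfsg.Agent.Lib.H7.generalizedFittingSubgroup_of_subnormal hN
  have h2 : IsPGroup p ↥(N ⊓ Cfsg.generalizedFittingSubgroup H) := by
    rw [h]; exact (Cfsg.Agent.Lib.H1.pCore_isPGroup p H).to_le inf_le_right
  rw [← h1] at h2
  exact h2.of_equiv (Subgroup.equivMapOfInjective _ _ N.subtype_injective).symm

/-- ambient form: `K ⊴ M ≤ G`, `F*(M) = O_p(M)` gives `F*(K) = O_p(K)`. -/
theorem fstar_eq_pCore_of_normal_le {G : Type*} [Group G] [Finite G] (p : ℕ) [Fact p.Prime]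
    (M K : Subgroup G) (hKM : K ≤ M) (hn : M ≤ Subgroup.normalizer (K : Set G))
    (h : Cfsg.generalizedFittingSubgroup ↥M = Cfsg.pCore p ↥M) :
    Cfsg.generalizedFittingSubgroup ↥K = Cfsg.pCore p ↥K := by
  have hnorm : (K.subgroupOf M).Normal :=
    (Subgroup.normal_subgroupOf_iff_le_normalizer hKM).mpr hn
  have h1 := fstar_eq_pCore_of_subnormal p (K.subgroupOf M) hnorm.isSubnormal h
  exact fstar_eq_pCore_of_equiv p (Subgroup.subgroupOfEquivOfLe hKM) h1

/-- (ii ⇒) of the parabolic characteristic criterion. -/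
theorem fstar_centralizer_of_parabolicChar {G : Type*} [Group G] [Finite G] (p : ℕ) [Fact p.Prime]
    (hG : Cfsg.IsOfParabolicCharacteristic p G) (S : Sylow p G) (z : G) (hz1 : z ≠ 1)
    (hz : z ∈ Cfsg.omegaOne p ((S : Subgroup G) ⊓ Subgroup.centralizer ((S : Subgroup G) : Set G))) :
    Cfsg.generalizedFittingSubgroup ↥(Subgroup.centralizer ({z} : Set G)) =
      Cfsg.pCore p ↥(Subgroup.centralizer ({z} : Set G)) := by
  obtain ⟨hzS, hzc, hzp⟩ := mem_oz_props p (S : Subgroup G) z hz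
  have hzP : IsPGroup p (Subgroup.zpowers z) :=
    S.2.to_le ((Subgroup.zpowers_le).mpr hzS)
  apply fstar_centralizer_of_normalizer p z hzP
  apply Cfsg.Agent.Lib.H7.generalizedFittingSubgroup_eq_pCore_of_centralizer_le p
  apply hG (Subgroup.zpowers z) hzP
  · intro h
    apply hz1
    have : z ∈ (⊥ : Subgroup G) := by rw [← h]; exact Subgroup.mem_zpowers z
    exact Subgroup.mem_bot.mp this
  · refine ⟨S, ?_⟩
    refine le_trans ?_ (centralizer_singleton_le_nzr_zpowers z)
    intro s hs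
    rw [Subgroup.mem_centralizer_singleton_iff]
    exact hzc s hs

/-- (ii ⇐) of the parabolic characteristic criterion. -/
theorem parabolicChar_of_fstar_centralizer {G : Type*} [Group G] [Finite G] (p : ℕ) [Fact p.Prime]
    (S : Sylow p G)
    (hyp : ∀ z : G, z ≠ 1 →
      z ∈ Cfsg.omegaOne p ((S : Subgroup G) ⊓ Subgroup.centralizer ((S : Subgroup G) : Set G)) →
      Cfsg.generalizedFittingSubgroup ↥(Subgroup.centralizer ({z} : Set G)) =
        Cfsg.pCore p ↥(Subgroup.centralizer ({z} : Set G))) :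
    Cfsg.IsOfParabolicCharacteristic p G := by
  intro R hR hR1 hpar
  obtain ⟨S', hS'⟩ := hpar
  obtain ⟨g, hg⟩ := MulAction.exists_smul_eq G S S'
  have hS'c : (S' : Subgroup G) = (S : Subgroup G).map (cj g) := by
    rw [← hg]; exact sylow_smul_coe S g
  have hSle : (S : Subgroup G) ≤
      Subgroup.normalizer (((R.map (cj g⁻¹) : Subgroup G)) : Set G) := by
    rw [nzr_map_cj, ← map_cj_le_iff, ← hS'c]
    exact hS'
  have hR'p : IsPGroup p ↥(R.map (cj g⁻¹)) := hR.map _
  have hR'1 : R.map (cj g⁻¹) ≠ ⊥ := by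
    intro h
    apply hR1
    have := map_cj_inv_cj R g
    rw [h, Subgroup.map_bot] at this
    exact this.symm
  have h1 := charP_nzr_of_sylow_le p S _ hR'p hR'1 hSle hyp
  exact charP_nzr_conj' p _ R g (map_cj_inv_cj R g).symm h1

end Cfsg.Agent.Lib.H14
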