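import Cfsg.Agent.Lib.H14.SubnClosure

/-! Weakly closed subgroups (in the sense of `Cfsg.IsWeaklyClosedSubgroup`): basic tools. -/

set_option autoImplicit false

namespace Cfsg.Agent.Lib.H14

/-- conjugation by `g` as a monoid hom -/
abbrev cj {H : Type*} [Group H] (g : H) : H →* H := (MulAut.conj g).toMonoidHom

theorem map_cj_mul {H : Type*} [Group H] (Q : Subgroup H) (g h : H) :
    Q.map (cj (g * h)) = (Q.map (cj h)).map (cj g) := by
  rw [Subgroup.map_map]
  congr 1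
  ext x
  simp [cj, MulAut.conj_apply, mul_assoc]

theorem map_cj_one {H : Type*} [Group H] (Q : Subgroup H) : Q.map (cj (1 : H)) = Q := by
  ext x
  rw [mem_map_conj_iff]
  simp

theorem map_cj_inv_cj {H : Type*} [Group H] (Q : Subgroup H) (g : H) :
    (Q.map (cj g⁻¹)).map (cj g) = Q := by
  rw [← map_cj_mul, mul_inv_cancel, map_cj_one]

theorem map_cj_cj_inv {H : Type*} [Group H] (Q : Subgroup H) (g : H) :
    (Q.map (cj g)).map (cj g⁻¹) = Q := by
  rw [← map_cj_mul, inv_mul_cancel, map_cj_one]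

theorem map_cj_le_iff {H : Type*} [Group H] (Q R : Subgroup H) (g : H) :
    Q.map (cj g) ≤ R ↔ Q ≤ R.map (cj g⁻¹) := by
  constructor
  · intro h
    have h1 := Subgroup.map_mono (f := cj g⁻¹) h
    rwa [map_cj_cj_inv] at h1
  · intro h
    have h1 := Subgroup.map_mono (f := cj g) h
    rwa [map_cj_inv_cj] at h1

theorem map_cj_eq_of_mem_nzr {H : Type*} [Group H] (Q : Subgroup H) (g : H)
    (hg : g ∈ Subgroup.normalizer (Q : Set H)) : Q.map (cj g) = Q :=
  map_conj_eq_of_mem_nzr Q g hg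

theorem mem_nzr_of_map_cj_eq {H : Type*} [Group H] (Q : Subgroup H) (g : H)
    (h : Q.map (cj g) = Q) : g ∈ Subgroup.normalizer (Q : Set H) :=
  mem_nzr_of_map_conj_eq Q g h

theorem nzr_map_cj {H : Type*} [Group H] (Q : Subgroup H) (g : H) :
    Subgroup.normalizer ((Q.map (cj g) : Subgroup H) : Set H) =
      (Subgroup.normalizer (Q : Set H)).map (cj g) :=
  normalizer_map_conj Q g

theorem map_cj_eq_map_cj_iff {H : Type*} [Group H] (Q : Subgroup H) (g h : H) :
    Q.map (cj g) = Q.map (cj h) ↔ h⁻¹ * g ∈ Subgroup.normalizer (Q : Set H) := by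
  constructor
  · intro e
    apply mem_nzr_of_map_cj_eq
    rw [map_cj_mul, e, map_cj_cj_inv]
  · intro hm
    have h1 := map_cj_eq_of_mem_nzr Q _ hm
    have h2 := congrArg (Subgroup.map (cj h)) h1
    rw [← map_cj_mul, mul_inv_cancel_left] at h2
    exact h2

theorem isPGroup_map_cj {H : Type*} [Group H] {p : ℕ} (Q : Subgroup H) (hQ : IsPGroup p Q) (g : H) :
    IsPGroup p (Q.map (cj g)) := hQ.map _

/-- W1: if `Q` is weakly closed in the Sylow subgroup `T`, and a `p`-subgroup `R` contains both `Q` and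
a conjugate of it, the conjugate is `Q`. -/
theorem wc_conj_eq {H : Type*} [Group H] [Finite H] {p : ℕ} [Fact p.Prime] (Q : Subgroup H)
    (T : Sylow p H) (hwc : Cfsg.IsWeaklyClosed Q (T : Subgroup H)) (R : Subgroup H)
    (hR : IsPGroup p R) (hQR : Q ≤ R) (g : H) (hg : Q.map (cj g) ≤ R) : Q.map (cj g) = Q := by
  obtain ⟨S, hS⟩ := hR.exists_le_sylow
  obtain ⟨h, rfl⟩ := MulAction.exists_smul_eq H T S
  rw [sylow_smul_coe] at hS
  have key : ∀ x : H, Q.map (cj x) ≤ (T : Subgroup H).map (cj h) →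
      h⁻¹ * x ∈ Subgroup.normalizer (Q : Set H) := by
    intro x hx
    apply mem_nzr_of_map_cj_eq
    apply hwc.2
    show Q.map (cj (h⁻¹ * x)) ≤ T
    rw [map_cj_mul]
    have h1 := Subgroup.map_mono (f := cj h⁻¹) hx
    rwa [map_cj_cj_inv] at h1
  have h1 := key 1 (by rw [map_cj_one]; exact hQR.trans hS)
  have h2 := key g (hg.trans hS)
  have h3 : g ∈ Subgroup.normalizer (Q : Set H) := by
    have h4 := Subgroup.mul_mem _ (Subgroup.inv_mem _ h1) h2
    have e : (h⁻¹ * 1)⁻¹ * (h⁻¹ * g) = g := by group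
    rw [e] at h4
    exact h4
  exact map_cj_eq_of_mem_nzr Q g h3

/-- weak closure with respect to one Sylow subgroup gives it for every Sylow subgroup containing `Q`. -/
theorem wc_any_sylow {H : Type*} [Group H] [Finite H] {p : ℕ} [Fact p.Prime] (Q : Subgroup H)
    (hwc : Cfsg.IsWeaklyClosedSubgroup p Q) (S : Sylow p H) (hQS : Q ≤ (S : Subgroup H)) :
    Cfsg.IsWeaklyClosed Q (S : Subgroup H) := by
  obtain ⟨T, hT⟩ := hwc
  exact ⟨hQS, fun g hg => wc_conj_eq Q T hT S S.2 hQS g hg⟩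

/-- WC ⇒ (C). -/
theorem wc_normalizer_le {H : Type*} [Group H] [Finite H] {p : ℕ} [Fact p.Prime] (Q : Subgroup H)
    (hwc : Cfsg.IsWeaklyClosedSubgroup p Q) (R : Subgroup H) (hR : IsPGroup p R) (hQR : Q ≤ R) :
    Subgroup.normalizer (R : Set H) ≤ Subgroup.normalizer (Q : Set H) := by
  obtain ⟨T, hT⟩ := hwc
  intro n hn
  apply mem_nzr_of_map_cj_eq
  apply wc_conj_eq Q T hT R hR hQR
  rw [← map_cj_eq_of_mem_nzr R n hn]
  exact Subgroup.map_mono hQR

/-- WC ⇒ (B). -/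
theorem wc_comm {H : Type*} [Group H] [Finite H] {p : ℕ} [Fact p.Prime] (Q : Subgroup H)
    (hQp : IsPGroup p Q) (hwc : Cfsg.IsWeaklyClosedSubgroup p Q) (g : H)
    (hc : ⁅Q, Q.map (cj g)⁆ ≤ Q ⊓ Q.map (cj g)) : Q.map (cj g) = Q := by
  obtain ⟨T, hT⟩ := hwc
  have h1 : Q ≤ Subgroup.normalizer ((Q.map (cj g) : Subgroup H) : Set H) :=
    Subgroup.le_normalizer_iff_commutator_le_right.mpr (hc.trans inf_le_right)
  have hR : IsPGroup p ↥(Q ⊔ Q.map (cj g)) :=
    IsPGroup.to_sup_of_normal_right' hQp (hQp.map _) h1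
  exact wc_conj_eq Q T hT _ hR le_sup_left g le_sup_right

/-- (C) ⇒ WC. -/
theorem wc_of_normalizer_le {H : Type*} [Group H] [Finite H] {p : ℕ} [Fact p.Prime]
    (Q : Subgroup H) (hQp : IsPGroup p Q)
    (hC : ∀ R : Subgroup H, IsPGroup p R → Q ≤ R →
      Subgroup.normalizer (R : Set H) ≤ Subgroup.normalizer (Q : Set H)) :
    Cfsg.IsWeaklyClosedSubgroup p Q := by
  obtain ⟨T, hQT⟩ := hQp.exists_le_sylow
  refine ⟨T, hQT, fun g hg => ?_⟩
  -- property (C) for the conjugate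
  have hCP : ∀ R : Subgroup H, IsPGroup p R → Q.map (cj g) ≤ R →
      Subgroup.normalizer (R : Set H) ≤ Subgroup.normalizer ((Q.map (cj g) : Subgroup H) : Set H) := by
    intro R hR hPR
    have h1 := hC (R.map (cj g⁻¹)) (hR.map _) ((map_cj_le_iff Q R g).mp hPR)
    have h2 := Subgroup.map_mono (f := cj g) h1
    rw [← nzr_map_cj, ← nzr_map_cj, map_cj_inv_cj] at h2
    exact h2
  have hTQ : (T : Subgroup H) ≤ Subgroup.normalizer (Q : Set H) :=
    Subgroup.le_normalizer.trans (hC T T.2 hQT)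
  have hTP : (T : Subgroup H) ≤ Subgroup.normalizer ((Q.map (cj g) : Subgroup H) : Set H) :=
    Subgroup.le_normalizer.trans (hCP T T.2 hg)
  have hgT : ((g • T : Sylow p H) : Subgroup H) ≤
      Subgroup.normalizer ((Q.map (cj g) : Subgroup H) : Set H) := by
    rw [sylow_smul_coe, nzr_map_cj]
    exact Subgroup.map_mono hTQ
  obtain ⟨a, haP, ha⟩ := exists_mul_mem_normalizer_of_le _ T g hTP hgT
  have ha' : a⁻¹ * g ∈ Subgroup.normalizer (Q : Set H) := hC T T.2 hQT ha
  have h1 : Q.map (cj g) = Q.map (cj a) := (map_cj_eq_map_cj_iff Q g a).mpr ha'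
  have h2 := map_cj_eq_of_mem_nzr _ a⁻¹ (Subgroup.inv_mem _ haP)
  rw [h1, map_cj_cj_inv] at h2
  rw [h1]
  exact h2.symm

/-- A subgroup `P` of a Sylow subgroup `T` with property (B) is normal in `T`. -/
theorem le_nzr_of_comm {H : Type*} [Group H] [Finite H] {p : ℕ} [Fact p.Prime] (P : Subgroup H)
    (T : Sylow p H) (hPT : P ≤ (T : Subgroup H))
    (hB : ∀ x : H, ⁅P, P.map (cj x)⁆ ≤ P ⊓ P.map (cj x) → P.map (cj x) = P) :
    (T : Subgroup H) ≤ Subgroup.normalizer (P : Set H) := by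
  by_contra hne
  have hlt : (Subgroup.normalizer (P : Set H)).subgroupOf (T : Subgroup H) < ⊤ := by
    rw [lt_top_iff_ne_top]
    intro htop
    apply hne
    intro t ht
    have h0 : (⟨t, ht⟩ : ↥(T : Subgroup H)) ∈
        (Subgroup.normalizer (P : Set H)).subgroupOf (T : Subgroup H) := by
      rw [htop]; exact Subgroup.mem_top _
    exact h0
  have hnil : Group.IsNilpotent ↥(T : Subgroup H) := T.2.isNilpotent
  have hnc : NormalizerCondition ↥(T : Subgroup H) := Group.normalizerCondition_of_isNilpotent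
  obtain ⟨x, hxn, hxS⟩ := SetLike.exists_of_lt (hnc _ hlt)
  apply hxS
  show (x : H) ∈ Subgroup.normalizer (P : Set H)
  apply mem_nzr_of_map_cj_eq
  apply hB
  rw [Subgroup.mem_normalizer_iff] at hxn
  have hPN : P ≤ Subgroup.normalizer (P : Set H) := Subgroup.le_normalizer
  have h1 : P.map (cj (x : H)) ≤ Subgroup.normalizer (P : Set H) := by
    rintro _ ⟨y, hy, rfl⟩
    have h3 := (hxn ⟨y, hPT hy⟩).mp (hPN hy)
    exact h3
  have h2 : P ≤ Subgroup.normalizer ((P.map (cj (x : H)) : Subgroup H) : Set H) := by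
    rw [nzr_map_cj]
    intro y hy
    rw [mem_map_conj_iff]
    have hy' : (x : H)⁻¹ * y * (x : H) ∈ (T : Subgroup H) :=
      Subgroup.mul_mem _ (Subgroup.mul_mem _ (Subgroup.inv_mem _ x.2) (hPT hy)) x.2
    have h4 : x * (⟨(x : H)⁻¹ * y * (x : H), hy'⟩ : ↥(T : Subgroup H)) * x⁻¹ ∈
        (Subgroup.normalizer (P : Set H)).subgroupOf (T : Subgroup H) := by
      show (x : H) * ((x : H)⁻¹ * y * (x : H)) * (x : H)⁻¹ ∈ Subgroup.normalizer (P : Set H)
      have e : (x : H) * ((x : H)⁻¹ * y * (x : H)) * (x : H)⁻¹ = y := by group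
      rw [e]; exact hPN hy
    have h3 := (hxn ⟨_, hy'⟩).mpr h4
    exact h3
  exact le_inf (Subgroup.le_normalizer_iff_commutator_le_left.mp h1)
    (Subgroup.le_normalizer_iff_commutator_le_right.mp h2)

/-- (B) ⇒ WC. -/
theorem wc_of_comm {H : Type*} [Group H] [Finite H] {p : ℕ} [Fact p.Prime] (Q : Subgroup H)
    (hQp : IsPGroup p Q)
    (hB : ∀ g : H, ⁅Q, Q.map (cj g)⁆ ≤ Q ⊓ Q.map (cj g) → Q.map (cj g) = Q) :
    Cfsg.IsWeaklyClosedSubgroup p Q := by
  obtain ⟨T, hQT⟩ := hQp.exists_le_sylow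
  refine ⟨T, hQT, fun g hg => ?_⟩
  have hTQ := le_nzr_of_comm Q T hQT hB
  have hBP : ∀ x : H, ⁅Q.map (cj g), (Q.map (cj g)).map (cj x)⁆ ≤
      Q.map (cj g) ⊓ (Q.map (cj g)).map (cj x) → (Q.map (cj g)).map (cj x) = Q.map (cj g) := by
    intro x hx
    have e : ((Q.map (cj g)).map (cj x)).map (cj g⁻¹) = Q.map (cj (g⁻¹ * (x * g))) := by
      rw [map_cj_mul, map_cj_mul]
    have h1 := Subgroup.map_mono (f := cj g⁻¹) hx
    rw [Subgroup.map_commutator, Subgroup.map_inf _ _ _ (MulAut.conj g⁻¹).injective,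
      map_cj_cj_inv, e] at h1
    have h2 := hB _ h1
    have h3 := congrArg (Subgroup.map (cj g)) h2
    rw [← e, map_cj_inv_cj] at h3
    exact h3
  have hTP := le_nzr_of_comm (Q.map (cj g)) T hg hBP
  apply hB
  exact le_inf (Subgroup.le_normalizer_iff_commutator_le_left.mp (hg.trans hTQ))
    (Subgroup.le_normalizer_iff_commutator_le_right.mp (hQT.trans hTP))

end Cfsg.Agent.Lib.H14
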