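import Cfsg.Agent.Lib.H14.PReduced4
import Cfsg.Agent.Lib.H14.WeaklyClosed
import Cfsg.Agent.Lib.H14.Subnormal
set_option autoImplicit false
open Cfsg

namespace Cfsg.Agent.Lib.H14

open scoped commutatorElement

section
variable {G : Type*} [Group G] {p : ℕ}

/-- every element of `D` has a `p`-power in `C`. -/
def PMod (p : ℕ) (D C : Subgroup G) : Prop := ∀ d ∈ D, ∃ k : ℕ, d ^ (p ^ k) ∈ C

theorem exists_mul_pow_eq' (C : Subgroup G) (c d : G) (hd : d ∈ Subgroup.normalizer (C : Set G))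
    (hc : c ∈ C) (n : ℕ) : ∃ c' ∈ C, (c * d) ^ n = c' * d ^ n := by
  induction n with
  | zero => exact ⟨1, C.one_mem, by simp⟩
  | succ n ih =>
    obtain ⟨c', hc', h⟩ := ih
    refine ⟨c' * (d ^ n * c * (d ^ n)⁻¹), C.mul_mem hc' ?_, ?_⟩
    · exact (Subgroup.mem_normalizer_iff.mp (Subgroup.pow_mem _ hd n) c).mp hc
    · rw [pow_succ, h, pow_succ]; group

theorem pmod_sup (C D₁ D₂ : Subgroup G) (h12 : D₁ ≤ Subgroup.normalizer (D₂ : Set G))
    (h2C : D₂ ≤ Subgroup.normalizer (C : Set G)) (h1 : PMod p D₁ C) (h2 : PMod p D₂ C) :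
    PMod p (D₁ ⊔ D₂) C := by
  intro x hx
  have hx' : x ∈ ((D₁ ⊔ D₂ : Subgroup G) : Set G) := hx
  rw [Subgroup.coe_mul_of_left_le_normalizer_right D₁ D₂ h12] at hx'
  obtain ⟨d₁, hd₁, d₂, hd₂, rfl⟩ := Set.mem_mul.mp hx'
  obtain ⟨k, hk⟩ := h1 d₁ hd₁
  obtain ⟨d₂', hd₂', e⟩ := exists_mul_pow_eq D₂ d₁ d₂ (h12 hd₁) hd₂ (p ^ k)
  obtain ⟨j, hj⟩ := h2 d₂' hd₂'
  obtain ⟨c', hc', e'⟩ := exists_mul_pow_eq' C (d₁ ^ (p ^ k)) d₂' (h2C hd₂') hk (p ^ j)
  refine ⟨k + j, ?_⟩
  rw [pow_add, pow_mul, e, e']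
  exact C.mul_mem hc' hj

theorem pmod_sSup_of_finite (H C : Subgroup G) (hHC : H ≤ Subgroup.normalizer (C : Set G))
    (s : Set (Subgroup G)) (hs : s.Finite)
    (h : ∀ E ∈ s, E ≤ H ∧ H ≤ Subgroup.normalizer (E : Set G) ∧ PMod p E C) :
    sSup s ≤ H ∧ H ≤ Subgroup.normalizer ((sSup s : Subgroup G) : Set G) ∧ PMod p (sSup s) C := by
  induction s, hs using Set.Finite.induction_on with
  | empty =>
    rw [sSup_empty]
    refine ⟨bot_le, ?_, ?_⟩
    · rw [Subgroup.normalizer_eq_top_iff.mpr (inferInstance : (⊥ : Subgroup G).Normal)]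
      exact le_top
    · intro d hd
      rw [Subgroup.mem_bot] at hd
      subst hd
      exact ⟨0, by simp⟩
  | @insert a s _ _ ih =>
    rw [sSup_insert]
    obtain ⟨i1, i2, i3⟩ := ih (fun E hE => h E (Set.mem_insert_of_mem _ hE))
    obtain ⟨a1, a2, a3⟩ := h a (Set.mem_insert _ _)
    exact ⟨sup_le a1 i1, le_nzr_sup H a _ a2 i2, pmod_sup C a _ (a1.trans i2) (i1.trans hHC) a3 i3⟩

/-- Coprime action on an elementary abelian `p`-group `V`, modulo `U`: a `p'`-element `s` with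
`[V, s, s] ≤ U` has `[V, s] ≤ U`. -/
theorem commutator_mem_of_coprime (V U : Subgroup G) (hVc : ∀ a ∈ V, ∀ b ∈ V, a * b = b * a)
    (hVp : ∀ v ∈ V, v ^ p = 1) (hUV : U ≤ V) (s : G) (hs : (orderOf s).Coprime p)
    (hsV : s ∈ Subgroup.normalizer (V : Set G)) (hsU : s ∈ Subgroup.normalizer (U : Set G))
    (h2 : ∀ v ∈ V, ⁅s, ⁅s, v⁆⁆ ∈ U) (v : G) (hv : v ∈ V) : ⁅s, v⁆ ∈ U := by
  set a := ⁅s, v⁆ with ha
  have hsv : s * v * s⁻¹ ∈ V := (Subgroup.mem_normalizer_iff.mp hsV v).mp hv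
  have haV : a ∈ V := by
    rw [ha, commutatorElement_def]
    exact V.mul_mem hsv (V.inv_mem hv)
  set u₁ := ⁅s, a⁆ with hu₁
  have hu₁U : u₁ ∈ U := h2 v hv
  have e1 : s * v * s⁻¹ = a * v := by rw [ha, commutatorElement_def]; group
  have e2 : s * a * s⁻¹ = u₁ * a := by rw [hu₁, commutatorElement_def]; group
  have claim : ∀ n : ℕ, ∃ u ∈ U, s ^ n * v * (s ^ n)⁻¹ = u * a ^ n * v := by
    intro n
    induction n with
    | zero => exact ⟨1, U.one_mem, by simp⟩
    | succ n ih =>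
      obtain ⟨u, hu, e⟩ := ih
      refine ⟨s * u * s⁻¹ * u₁ ^ n, U.mul_mem ((Subgroup.mem_normalizer_iff.mp hsU u).mp hu)
        (U.pow_mem hu₁U n), ?_⟩
      have h1 : s ^ (n + 1) * v * (s ^ (n + 1))⁻¹ = s * (s ^ n * v * (s ^ n)⁻¹) * s⁻¹ := by
        rw [pow_succ']; group
      have h3 : s * (u * a ^ n * v) * s⁻¹ = (s * u * s⁻¹) * (s * a * s⁻¹) ^ n * (s * v * s⁻¹) := by
        rw [conj_pow]; group
      have h4 : (u₁ * a) ^ n = u₁ ^ n * a ^ n :=
        (show Commute u₁ a from hVc u₁ (hUV hu₁U) a haV).mul_pow n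
      rw [h1, e, h3, e1, e2, h4, pow_succ]
      group
  obtain ⟨u, hu, e⟩ := claim (orderOf s)
  rw [pow_orderOf_eq_one] at e
  have hau : a ^ orderOf s ∈ U := by
    have : a ^ orderOf s = u⁻¹ := by
      have h5 : u * a ^ orderOf s = 1 := by
        have : u * a ^ orderOf s * v = 1 * v := by rw [← e]; group
        exact mul_right_cancel this
      exact eq_inv_of_mul_eq_one_right h5
    rw [this]; exact U.inv_mem hu
  have hdvd : orderOf a ∣ p := orderOf_dvd_of_pow_eq_one (hVp a haV)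
  have hcop : (orderOf s).Coprime (orderOf a) := Nat.Coprime.coprime_dvd_right hdvd hs
  obtain ⟨m, hm⟩ := exists_pow_eq_self_of_coprime hcop
  rw [← hm]
  exact U.pow_mem hau m

theorem commutator_closure_le (S : Set G) (V U : Subgroup G)
    (hSU : Subgroup.closure S ≤ Subgroup.normalizer (U : Set G))
    (h : ∀ s ∈ S, ∀ v ∈ V, ⁅s, v⁆ ∈ U) : ⁅Subgroup.closure S, V⁆ ≤ U := by
  rw [Subgroup.commutator_le]
  intro r hr v hv
  have key : ∀ x ∈ Subgroup.closure S, x ∈ Subgroup.closure S ∧ ⁅x, v⁆ ∈ U := by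
    intro x hx
    induction hx using Subgroup.closure_induction with
    | mem y hy => exact ⟨Subgroup.subset_closure hy, h y hy v hv⟩
    | one => exact ⟨Subgroup.one_mem _, by rw [commutatorElement_one_left]; exact U.one_mem⟩
    | mul y z _ _ ihy ihz =>
      refine ⟨Subgroup.mul_mem _ ihy.1 ihz.1, ?_⟩
      rw [commutatorElement_mul_left_eq_conj_mul]
      refine U.mul_mem ?_ ihy.2
      exact (Subgroup.mem_normalizer_iff.mp (hSU ihy.1) _).mp ihz.2
    | inv y _ ihy =>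
      refine ⟨Subgroup.inv_mem _ ihy.1, ?_⟩
      rw [commutatorElement_inv_left]
      have h1 : ⁅v, y⁆ ∈ U := by rw [← commutatorElement_inv]; exact U.inv_mem ihy.2
      have h2 := (Subgroup.mem_normalizer_iff.mp (Subgroup.inv_mem _ (hSU ihy.1)) _).mp h1
      simpa using h2
  exact (key r hr).2

theorem isElementaryAbelian_of_le (V W : Subgroup G) (hV : Cfsg.IsElementaryAbelian p V)
    (hWV : W ≤ V) : Cfsg.IsElementaryAbelian p W := by
  refine ⟨⟨⟨?_⟩⟩, fun a ha => hV.2 a (hWV ha)⟩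
  rintro ⟨a, ha⟩ ⟨b, hb⟩
  apply Subtype.ext
  have := congrArg Subtype.val (hV.1.is_comm.comm ⟨a, hWV ha⟩ ⟨b, hWV hb⟩)
  exact this

theorem comm_of_isElementaryAbelian (V : Subgroup G) (hV : Cfsg.IsElementaryAbelian p V) :
    ∀ a ∈ V, ∀ b ∈ V, a * b = b * a := by
  intro a ha b hb
  exact congrArg Subtype.val (hV.1.is_comm.comm ⟨a, ha⟩ ⟨b, hb⟩)

/-- Core step: `V` reduced for `K`, `H ⊴ K` gives `[V, O^p(H)]` reduced for `H`. -/
theorem redCritIn_commutator_presOf [Finite G] [Fact p.Prime] (K H V : Subgroup G) (hHK : H ≤ K)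
    (hKH : K ≤ Subgroup.normalizer (H : Set G)) (hKV : K ≤ Subgroup.normalizer (V : Set G))
    (hVe : Cfsg.IsElementaryAbelian p V) (hVr : RedCritIn p K V) :
    ⁅V, presOf p H⁆ ≤ V ∧
      K ≤ Subgroup.normalizer ((⁅V, presOf p H⁆ : Subgroup G) : Set G) ∧
        RedCritIn p H ⁅V, presOf p H⁆ := by
  set R := presOf p H with hR
  have hRH : R ≤ H := presOf_le p H
  have hKR : K ≤ Subgroup.normalizer (R : Set G) := hKH.trans (presOf_normalized p H)
  set W := ⁅V, R⁆ with hW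
  have hWV : W ≤ V :=
    Subgroup.le_normalizer_iff_commutator_le_left.mp ((hRH.trans hHK).trans hKV)
  have hKW : K ≤ Subgroup.normalizer (W : Set G) := le_nzr_commutator K V R hKV hKR
  refine ⟨hWV, hKW, ?_⟩
  intro D hDH hHD hpow
  set CW := Subgroup.centralizer (W : Set G) with hCW
  have hKCW : K ≤ Subgroup.normalizer (CW : Set G) := hKW.trans (nzr_le_nzr_centralizer W)
  set 𝒮 : Set (Subgroup G) := {E | E ≤ H ∧ H ≤ Subgroup.normalizer (E : Set G) ∧ PMod p E CW}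
    with h𝒮
  obtain ⟨e1, e2, e3⟩ := pmod_sSup_of_finite (p := p) H CW (hHK.trans hKCW) 𝒮 (Set.toFinite _)
    (fun E hE => hE)
  set E₀ := sSup 𝒮 with hE₀
  have hDE : D ≤ E₀ := le_sSup ⟨hDH, hHD, hpow⟩
  have hKE : K ≤ Subgroup.normalizer (E₀ : Set G) := by
    apply le_nzr_of_conj_mem
    intro k hk x hx
    have key : E₀ ≤ E₀.comap (cj k) := by
      apply sSup_le
      rintro E ⟨hE1, hE2, hE3⟩
      rw [← Subgroup.map_le_iff_le_comap]
      apply le_sSup
      refine ⟨?_, ?_, ?_⟩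
      · rintro _ ⟨e, he, rfl⟩
        exact (Subgroup.mem_normalizer_iff.mp (hKH hk) e).mp (hE1 he)
      · rw [nzr_map_cj]
        have : H.map (cj k) = H := map_cj_eq_of_mem_nzr H k (hKH hk)
        rw [← this]
        exact Subgroup.map_mono hE2
      · rintro _ ⟨e, he, rfl⟩
        obtain ⟨j, hj⟩ := hE3 e he
        refine ⟨j, ?_⟩
        rw [← map_pow]
        exact (Subgroup.mem_normalizer_iff.mp (hKCW hk) _).mp hj
    have := key hx
    rwa [Subgroup.mem_comap, MulEquiv.coe_toMonoidHom, MulAut.conj_apply] at this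
  have hVc := comm_of_isElementaryAbelian V hVe
  have hP : presOf p E₀ ≤ Subgroup.centralizer (V : Set G) := by
    unfold presOf
    rw [Subgroup.closure_le]
    rintro x ⟨hxE, hxc⟩
    have hxCW : x ∈ CW := by
      obtain ⟨j, hj⟩ := e3 x hxE
      exact mem_of_pow_mem_of_coprime p CW x hxc j hj
    have hxR : x ∈ R := Subgroup.subset_closure ⟨e1 hxE, hxc⟩
    have hxK : x ∈ K := hHK (e1 hxE)
    rw [SetLike.mem_coe, Subgroup.mem_centralizer_iff]
    intro v hv
    have := commutator_mem_of_coprime (p := p) V ⊥ hVc hVe.2 bot_le x hxc (hKV hxK)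
      (by rw [Subgroup.normalizer_eq_top_iff.mpr (inferInstance : (⊥ : Subgroup G).Normal)]; trivial)
      (by
        intro v hv
        have hw : ⁅x, v⁆ ∈ W := by
          rw [hW, Subgroup.commutator_comm]
          exact Subgroup.commutator_mem_commutator hxR hv
        rw [Subgroup.mem_bot, commutatorElement_eq_one_iff_commute]
        exact ((Subgroup.mem_centralizer_iff.mp hxCW) _ hw).symm) v hv
    rw [Subgroup.mem_bot, commutatorElement_eq_one_iff_commute] at this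
    exact this.eq.symm
  have hE₀V : E₀ ≤ Subgroup.centralizer (V : Set G) := by
    apply hVr E₀ (e1.trans hHK) hKE
    intro d hd
    obtain ⟨k, hk⟩ := exists_pow_mem_presOf p E₀ d hd
    exact ⟨k, hP hk⟩
  exact (hDE.trans hE₀V).trans
    (Subgroup.centralizer_le (show (W : Set G) ⊆ (V : Set G) from fun w hw => hWV hw))

end

end Cfsg.Agent.Lib.H14
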