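import Cfsg.Agent.Lib.H14.QuasiRes
import Cfsg.Agent.Lib.H14.WeaklyClosed
import Cfsg.Agent.Lib.H14.PReduced5
import Cfsg.Agent.Lib.H1.CoprimeAction
import Cfsg.Agent.Lib.H14.PIrrQuot
import Cfsg.Agent.Lib.H14.Subnormal

/-! Action of a `p`-group on a subgroup `L = F*(L)` with `O_p(L) = 1`. -/

set_option autoImplicit false

namespace Cfsg.Agent.Lib.H14
open scoped commutatorElement
open Cfsg.Agent.Lib.H7

universe u

/-- A subgroup whose elements permute (by conjugation) a family of subgroups normalizes the join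
of the family. -/
theorem le_normalizer_sSup_of_map_mem {Γ : Type*} [Group Γ] (X : Subgroup Γ)
    (S : Set (Subgroup Γ)) (h : ∀ x ∈ X, ∀ A ∈ S, A.map (cj x) ∈ S) :
    X ≤ Subgroup.normalizer ((sSup S : Subgroup Γ) : Set Γ) := by
  have key : ∀ x ∈ X, sSup S ≤ (sSup S).comap (cj x) := by
    intro x hx
    apply sSup_le
    intro A hA
    rw [← Subgroup.map_le_iff_le_comap]
    exact le_sSup (h x hx A hA)
  intro x hx
  rw [Subgroup.mem_normalizer_iff]
  intro g
  constructor
  · intro hg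
    have := key x hx hg
    simpa [cj, MulAut.conj_apply] using this
  · intro hg
    have := key x⁻¹ (X.inv_mem hx) hg
    rw [Subgroup.mem_comap] at this
    simp only [cj, MulEquiv.coe_toMonoidHom, MulAut.conj_apply, inv_inv] at this
    have e : x⁻¹ * (x * g * x⁻¹) * x = g := by group
    rwa [e] at this

/-- A component `K` and an arbitrary subgroup `Y`: either `Y` centralizes `K` or `K ≤ [K, Y]`. -/
theorem component_commutator_dichotomy {Γ : Type u} [Group Γ] [Finite Γ] (K Y : Subgroup Γ)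
    (hK : Cfsg.IsComponent K) : ⁅K, Y⁆ = ⊥ ∨ K ≤ ⁅K, Y⁆ := by
  have hperf : ⁅K, K⁆ = K := component_commutator_self hK
  by_cases hall : ∀ y ∈ Y, K.map (cj y) = K
  · have hYN : Y ≤ Subgroup.normalizer (K : Set Γ) := fun y hy =>
      mem_nzr_of_map_cj_eq K y (hall y hy)
    have hle : ⁅K, Y⁆ ≤ K := Subgroup.le_normalizer_iff_commutator_le_left.mp hYN
    rcases quasisimple_le_or_le_centralizer K ⁅K, Y⁆ hK.2 hle
      (Subgroup.normalizer_commutator_ge_left K Y) with h | h
    · exact Or.inr h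
    · left
      apply commutator_eq_bot_of_perfect K Y hperf
      rw [Subgroup.commutator_eq_bot_iff_le_centralizer]; exact h
  · right
    push Not at hall
    obtain ⟨y, hy, hne⟩ := hall
    have hKy : Cfsg.IsComponent (K.map (cj y)) := isComponent_map_conj y hK
    have hcomm : ⁅K, K.map (cj y)⁆ = ⊥ := components_commute hK hKy (Ne.symm hne)
    rw [Subgroup.commutator_eq_bot_iff_le_centralizer, Subgroup.le_centralizer_iff] at hcomm
    -- every element of `K^y` commutes with every element of `K`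
    have hc : ∀ k ∈ K, ∀ k' ∈ K, (y * k * y⁻¹) * k' = k' * (y * k * y⁻¹) := by
      intro k hk k' hk'
      have h1 : y * k * y⁻¹ ∈ K.map (cj y) := ⟨k, hk, by simp [cj, MulAut.conj_apply]⟩
      have := Subgroup.mem_centralizer_iff.mp (hcomm h1) k' hk'
      exact this.symm
    have hN : ⁅K, ⁅K, Y⁆⁆ ≤ ⁅K, Y⁆ :=
      Subgroup.le_normalizer_iff_commutator_le_right.mp
        (Subgroup.normalizer_commutator_ge_left K Y)
    conv_lhs => rw [← hperf]
    refine le_trans ?_ hN
    rw [Subgroup.commutator_le]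
    intro k' hk' k hk
    have e : ⁅k', k⁆ = ⁅k', ⁅k, y⁆⁆ := by
      obtain ⟨c, hcdef⟩ : ∃ c, c = y * k⁻¹ * y⁻¹ := ⟨_, rfl⟩
      have h3 : c * k'⁻¹ = k'⁻¹ * c := by
        rw [hcdef]; exact hc k⁻¹ (K.inv_mem hk) k'⁻¹ (K.inv_mem hk')
      have hck : ⁅k, y⁆ = k * c := by rw [hcdef, commutatorElement_def]; group
      rw [hck, commutatorElement_def, commutatorElement_def]
      calc k' * k * k'⁻¹ * k⁻¹ = k' * k * (k'⁻¹ * c) * c⁻¹ * k⁻¹ := by group
        _ = k' * k * (c * k'⁻¹) * c⁻¹ * k⁻¹ := by rw [h3]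
        _ = k' * (k * c) * k'⁻¹ * (k * c)⁻¹ := by group
    rw [e]
    exact Subgroup.commutator_mem_commutator hk'
      (Subgroup.commutator_mem_commutator hk hy)

theorem fstar_commutator_pgroup {Γ : Type u} [Group Γ] [Finite Γ] {p : ℕ} [hp : Fact p.Prime]
    (L Y : Subgroup Γ) [hLn : L.Normal] (hY : IsPGroup p Y)
    (hF : Cfsg.generalizedFittingSubgroup ↥L = ⊤) (hO : Cfsg.pCore p ↥L = ⊥) :
    ⁅L, Y⁆ ⊔ (L ⊓ Subgroup.centralizer (Y : Set Γ)) = L ∧ ⁅L, Y⁆ = ⁅⁅L, Y⁆, Y⁆ := by
  classical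
  -- the components of `L` and the Fitting subgroup of `L`
  obtain ⟨C, hC⟩ : ∃ C : Set (Subgroup Γ), C = {K | Cfsg.IsComponent K ∧ K ≤ L} := ⟨_, rfl⟩
  obtain ⟨FL, hFL⟩ : ∃ FL : Subgroup Γ, FL = (Cfsg.fittingSubgroup ↥L).map L.subtype := ⟨_, rfl⟩
  have hCmem : ∀ K, K ∈ C ↔ Cfsg.IsComponent K ∧ K ≤ L := by intro K; rw [hC]; rfl
  have hFLL : FL ≤ L := hFL ▸ Subgroup.map_subtype_le _
  have hEL : sSup C ≤ L := sSup_le (fun K hK => ((hCmem K).mp hK).2)
  have hLeq : L = sSup C ⊔ FL := by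
    apply le_antisymm _ (sup_le hEL hFLL)
    have h1 : L = (⊤ : Subgroup ↥L).map L.subtype := by
      rw [← MonoidHom.range_eq_map, Subgroup.range_subtype]
    conv_lhs => rw [h1, ← hF]
    unfold Cfsg.generalizedFittingSubgroup
    rw [Subgroup.map_sup, ← hFL]
    apply sup_le_sup_right
    rw [Subgroup.map_le_iff_le_comap]
    apply sSup_le
    intro K' hK'
    rw [← Subgroup.map_le_iff_le_comap]
    apply le_sSup
    rw [hCmem]
    exact ⟨isComponent_map_subtype hLn.isSubnormal hK', Subgroup.map_subtype_le _⟩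
  -- `FL` is a normal nilpotent `p'`-subgroup
  have hFLn : FL.Normal := by rw [hFL]; infer_instance
  have hFLnil : Group.IsNilpotent ↥FL := by
    rw [hFL]
    have : Group.IsNilpotent ↥(Cfsg.fittingSubgroup ↥L) := fittingSubgroup_isNilpotent
    exact Group.nilpotent_of_mulEquiv
      ((Cfsg.fittingSubgroup ↥L).equivMapOfInjective L.subtype (Subgroup.subtype_injective L))
  have hFLcard : ¬ p ∣ Nat.card FL := by
    have : Group.IsNilpotent ↥(Cfsg.fittingSubgroup ↥L) := fittingSubgroup_isNilpotent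
    have h1 := not_dvd_card_of_normal_nilpotent hO (Cfsg.fittingSubgroup ↥L)
    rw [hFL, ← Nat.card_congr ((Cfsg.fittingSubgroup ↥L).equivMapOfInjective L.subtype
      (Subgroup.subtype_injective L)).toEquiv]
    exact h1
  have hcop : Cfsg.Agent.Lib.H1.CoprimeAction Y FL :=
    { normalizes := Subgroup.le_normalizer_of_normal
      coprime := by
        obtain ⟨n, hn⟩ := IsPGroup.iff_card.mp hY
        rw [hn]
        exact Nat.Coprime.pow_left n ((Nat.Prime.coprime_iff_not_dvd hp.out).mpr hFLcard)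
      solvable := Or.inr inferInstance }
  have hFc1 := Cfsg.Agent.Lib.H1.coprime_commutator_sup_centralizer hcop
  have hFc2 := Cfsg.Agent.Lib.H1.coprime_commutator_commutator hcop
  have hcomL : ⁅L, Y⁆ ≤ L := Subgroup.commutator_le_left L Y
  -- components centralize `FL`
  have hKF : ∀ K ∈ C, ⁅K, FL⁆ = ⊥ := by
    intro K hK
    exact component_commutator_solvable ((hCmem K).mp hK).1 inferInstance
      Subgroup.le_normalizer_of_normal
  -- dichotomy for components
  have hdich : ∀ K ∈ C, ⁅K, Y⁆ = ⊥ ∨ K ≤ ⁅K, Y⁆ := fun K hK =>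
    component_commutator_dichotomy K Y ((hCmem K).mp hK).1
  refine ⟨?_, ?_⟩
  · apply le_antisymm (sup_le hcomL inf_le_left)
    conv_lhs => rw [hLeq]
    apply sup_le
    · apply sSup_le
      intro K hK
      rcases hdich K hK with h | h
      · refine le_trans ?_ le_sup_right
        refine le_inf ((hCmem K).mp hK).2 ?_
        rwa [Subgroup.commutator_eq_bot_iff_le_centralizer] at h
      · exact (h.trans (Subgroup.commutator_mono ((hCmem K).mp hK).2 le_rfl)).trans le_sup_left
    · rw [← hFc1]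
      exact sup_le_sup (Subgroup.commutator_mono hFLL le_rfl) (inf_le_inf_right _ hFLL)
  · -- second claim
    obtain ⟨C', hC'⟩ : ∃ C' : Set (Subgroup Γ), C' = {K | K ∈ C ∧ ⁅K, Y⁆ ≠ ⊥} := ⟨_, rfl⟩
    have hC'mem : ∀ K, K ∈ C' ↔ K ∈ C ∧ ⁅K, Y⁆ ≠ ⊥ := by intro K; rw [hC']; rfl
    -- `L` normalizes every component in `C`
    have hLK : ∀ K ∈ C, L ≤ Subgroup.normalizer (K : Set Γ) := by
      intro K hK
      conv_lhs => rw [hLeq]
      apply sup_le
      · apply sSup_le
        intro K' hK'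
        by_cases hKK : K' = K
        · rw [hKK]; exact Subgroup.le_normalizer
        · have := components_commute ((hCmem K').mp hK').1 ((hCmem K).mp hK).1 hKK
          rw [Subgroup.commutator_eq_bot_iff_le_centralizer] at this
          exact this.trans (Subgroup.centralizer_le_normalizer _)
      · have := hKF K hK
        rw [Subgroup.commutator_eq_bot_iff_le_centralizer, Subgroup.le_centralizer_iff] at this
        exact this.trans (Subgroup.centralizer_le_normalizer _)
    -- `L` and `Y` normalize `sSup C'`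
    have hLT' : L ≤ Subgroup.normalizer ((sSup C' : Subgroup Γ) : Set Γ) := by
      apply le_normalizer_sSup_of_map_mem
      intro x hx K hK
      rw [map_cj_eq_of_mem_nzr K x (hLK K ((hC'mem K).mp hK).1 hx)]
      exact hK
    have hYT' : Y ≤ Subgroup.normalizer ((sSup C' : Subgroup Γ) : Set Γ) := by
      apply le_normalizer_sSup_of_map_mem
      intro y hy K hK
      obtain ⟨hKC, hKY⟩ := (hC'mem K).mp hK
      rw [hC'mem, hCmem]
      refine ⟨⟨isComponent_map_conj y ((hCmem K).mp hKC).1, ?_⟩, ?_⟩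
      · rw [Subgroup.map_le_iff_le_comap]
        intro k hk
        exact hLn.conj_mem k (((hCmem K).mp hKC).2 hk) y
      · intro hbot
        apply hKY
        have h1 : (⁅K, Y⁆).map (cj y) = ⁅K.map (cj y), Y.map (cj y)⁆ := Subgroup.map_commutator _ _ _
        rw [map_cj_eq_of_mem_nzr Y y (Subgroup.le_normalizer hy), hbot] at h1
        exact (Subgroup.map_eq_bot_iff_of_injective _ (MulAut.conj y).injective).mp h1
    -- the target subgroup
    have hFYL : L ≤ Subgroup.normalizer ((⁅FL, Y⁆ : Subgroup Γ) : Set Γ) := by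
      conv_lhs => rw [hLeq]
      apply sup_le
      · apply sSup_le
        intro K hK
        have h1 := hKF K hK
        rw [Subgroup.commutator_eq_bot_iff_le_centralizer] at h1
        have h2 : ⁅FL, Y⁆ ≤ FL := Subgroup.commutator_le_left FL Y
        exact (h1.trans (Subgroup.centralizer_le h2)).trans (Subgroup.centralizer_le_normalizer _)
      · exact Subgroup.normalizer_commutator_ge_left FL Y
    have hLT : L ≤ Subgroup.normalizer ((sSup C' ⊔ ⁅FL, Y⁆ : Subgroup Γ) : Set Γ) := by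
      intro x hx
      have h1 := hLT' hx
      have h2 := hFYL hx
      rw [Subgroup.mem_normalizer_iff] at h1 h2 ⊢
      intro g
      have e1 := map_cj_eq_of_mem_nzr _ x (hLT' hx)
      have e2 := map_cj_eq_of_mem_nzr _ x (hFYL hx)
      have e3 : (sSup C' ⊔ ⁅FL, Y⁆).map (cj x) = sSup C' ⊔ ⁅FL, Y⁆ := by
        rw [Subgroup.map_sup, e1, e2]
      have := mem_nzr_of_map_cj_eq _ x e3
      exact (Subgroup.mem_normalizer_iff.mp this) g
    have hle1 : ⁅L, Y⁆ ≤ sSup C' ⊔ ⁅FL, Y⁆ := by
      have hLcl : L = Subgroup.closure {s | (∃ K ∈ C, s ∈ K) ∨ s ∈ FL} := by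
        apply le_antisymm
        · conv_lhs => rw [hLeq]
          apply sup_le
          · apply sSup_le
            intro K hK k hk
            exact Subgroup.subset_closure (Or.inl ⟨K, hK, hk⟩)
          · intro f hf
            exact Subgroup.subset_closure (Or.inr hf)
        · rw [Subgroup.closure_le]
          rintro s (⟨K, hK, hs⟩ | hs)
          · exact ((hCmem K).mp hK).2 hs
          · exact hFLL hs
      conv_lhs => rw [hLcl]
      apply commutator_closure_le
      · rw [← hLcl]; exact hLT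
      · rintro s (⟨K, hK, hs⟩ | hs) y hy
        · by_cases hKY : ⁅K, Y⁆ = ⊥
          · have : ⁅s, y⁆ ∈ ⁅K, Y⁆ := Subgroup.commutator_mem_commutator hs hy
            rw [hKY, Subgroup.mem_bot] at this
            rw [this]; exact Subgroup.one_mem _
          · have hKC' : K ∈ C' := (hC'mem K).mpr ⟨hK, hKY⟩
            have h1 : ⁅sSup C', Y⁆ ≤ sSup C' :=
              Subgroup.le_normalizer_iff_commutator_le_left.mp hYT'
            apply Subgroup.mem_sup_left
            exact h1 (Subgroup.commutator_mem_commutator (le_sSup hKC' hs) hy)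
        · apply Subgroup.mem_sup_right
          exact Subgroup.commutator_mem_commutator hs hy
    have hle2 : sSup C' ⊔ ⁅FL, Y⁆ ≤ ⁅⁅L, Y⁆, Y⁆ := by
      apply sup_le
      · apply sSup_le
        intro K hK
        obtain ⟨hKC, hKY⟩ := (hC'mem K).mp hK
        have h1 : K ≤ ⁅K, Y⁆ := (hdich K hKC).resolve_left hKY
        have h2 : K ≤ ⁅L, Y⁆ := h1.trans (Subgroup.commutator_mono ((hCmem K).mp hKC).2 le_rfl)
        exact h1.trans (Subgroup.commutator_mono h2 le_rfl)
      · rw [← hFc2]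
        exact Subgroup.commutator_mono (Subgroup.commutator_mono hFLL le_rfl) le_rfl
    exact le_antisymm (hle1.trans hle2) (Subgroup.commutator_mono hcomL le_rfl)

theorem map_subtype_inf_centralizer {G : Type*} [Group G] (N A B : Subgroup G) (hA : A ≤ N)
    (hB : B ≤ N) :
    ((A.subgroupOf N) ⊓ Subgroup.centralizer ((B.subgroupOf N : Subgroup N) : Set N)).map
      N.subtype = A ⊓ Subgroup.centralizer (B : Set G) := by
  ext x
  constructor
  · rintro ⟨x', ⟨hx1, hx2⟩, rfl⟩
    refine ⟨Subgroup.mem_subgroupOf.mp hx1, ?_⟩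
    show N.subtype x' ∈ Subgroup.centralizer (B : Set G)
    rw [Subgroup.mem_centralizer_iff]
    intro b hb
    have := Subgroup.mem_centralizer_iff.mp hx2 ⟨b, hB hb⟩ (Subgroup.mem_subgroupOf.mpr hb)
    exact congrArg Subtype.val this
  · rintro ⟨hx1, hx2⟩
    refine ⟨⟨x, hA hx1⟩, ⟨Subgroup.mem_subgroupOf.mpr hx1, ?_⟩, rfl⟩
    show (⟨x, hA hx1⟩ : N) ∈ Subgroup.centralizer ((B.subgroupOf N : Subgroup N) : Set N)
    rw [Subgroup.mem_centralizer_iff]
    intro b hb
    apply Subtype.ext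
    exact Subgroup.mem_centralizer_iff.mp hx2 b (Subgroup.mem_subgroupOf.mp hb)

/-- Ambient version: `L` a subgroup of `G` with `F*(L) = L` and `O_p(L) = 1`, `Y` a `p`-subgroup
normalizing `L`. -/
theorem fstar_commutator_pgroup_ambient {G : Type u} [Group G] [Finite G] {p : ℕ}
    [hp : Fact p.Prime] (L Y : Subgroup G) (hY : IsPGroup p Y)
    (hYL : Y ≤ Subgroup.normalizer (L : Set G))
    (hF : Cfsg.generalizedFittingSubgroup ↥L = ⊤) (hO : Cfsg.pCore p ↥L = ⊥) :
    ⁅L, Y⁆ ⊔ (L ⊓ Subgroup.centralizer (Y : Set G)) = L ∧ ⁅L, Y⁆ = ⁅⁅L, Y⁆, Y⁆ := by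
  obtain ⟨N, hN⟩ : ∃ N, N = Subgroup.normalizer (L : Set G) := ⟨_, rfl⟩
  have hLN : L ≤ N := hN ▸ Subgroup.le_normalizer
  have hYN : Y ≤ N := hN ▸ hYL
  have hLn : (L.subgroupOf N).Normal := by
    rw [hN]; exact Subgroup.normal_in_normalizer
  have hY' : IsPGroup p (Y.subgroupOf N) :=
    hY.of_equiv (Subgroup.subgroupOfEquivOfLe hYN).symm
  have e : ↥(L.subgroupOf N) ≃* ↥L := Subgroup.subgroupOfEquivOfLe hLN
  have hF' : Cfsg.generalizedFittingSubgroup ↥(L.subgroupOf N) = ⊤ := by
    have h1 := generalizedFittingSubgroup_map_equiv e.symm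
    rw [hF] at h1
    rw [← h1, ← MonoidHom.range_eq_map, MonoidHom.range_eq_top]
    exact e.symm.surjective
  have hO' : Cfsg.pCore p ↥(L.subgroupOf N) = ⊥ := by
    have h1 := pCore_map_le (p := p) e.toMonoidHom e.surjective
    rw [hO, le_bot_iff, Subgroup.map_eq_bot_iff_of_injective _ e.injective] at h1
    exact h1
  obtain ⟨h1, h2⟩ := fstar_commutator_pgroup (L.subgroupOf N) (Y.subgroupOf N) hY' hF' hO'
  have m1 : (L.subgroupOf N).map N.subtype = L := Subgroup.map_subgroupOf_eq_of_le hLN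
  have m2 : (Y.subgroupOf N).map N.subtype = Y := Subgroup.map_subgroupOf_eq_of_le hYN
  have m3 : (⁅L.subgroupOf N, Y.subgroupOf N⁆).map N.subtype = ⁅L, Y⁆ := by
    rw [Subgroup.map_commutator, m1, m2]
  constructor
  · have := congrArg (Subgroup.map N.subtype) h1
    rwa [Subgroup.map_sup, m3, map_subtype_inf_centralizer N L Y hLN hYN, m1] at this
  · have := congrArg (Subgroup.map N.subtype) h2
    rw [Subgroup.map_commutator ⁅L.subgroupOf N, Y.subgroupOf N⁆, m3, m2] at this
    exact this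

theorem fstar_top_of_subnormal_le {G : Type u} [Group G] [Finite G] (H L : Subgroup G)
    (hLF : L ≤ (Cfsg.generalizedFittingSubgroup ↥H).map H.subtype)
    (hLsn : (L.subgroupOf H).IsSubnormal) : Cfsg.generalizedFittingSubgroup ↥L = ⊤ := by
  have hLH : L ≤ H := hLF.trans (Subgroup.map_subtype_le _)
  have h := generalizedFittingSubgroup_of_subnormal hLsn
  have h1 : L.subgroupOf H ≤ Cfsg.generalizedFittingSubgroup ↥H := by
    intro x hx
    obtain ⟨y, hy, hyx⟩ := hLF (Subgroup.mem_subgroupOf.mp hx)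
    have : y = x := Subtype.ext hyx
    rwa [← this]
  rw [inf_eq_left.mpr h1] at h
  have h2 : Cfsg.generalizedFittingSubgroup ↥(L.subgroupOf H) = ⊤ := by
    apply Subgroup.map_injective (Subgroup.subtype_injective (L.subgroupOf H))
    rw [h, ← MonoidHom.range_eq_map, Subgroup.range_subtype]
  have e : ↥(L.subgroupOf H) ≃* ↥L := Subgroup.subgroupOfEquivOfLe hLH
  have h3 := generalizedFittingSubgroup_map_equiv e
  rw [h2] at h3
  rw [← h3, ← MonoidHom.range_eq_map, MonoidHom.range_eq_top]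
  exact e.surjective

theorem pCore_eq_bot_of_subnormal {G : Type u} [Group G] [Finite G] {p : ℕ} [Fact p.Prime]
    (H L : Subgroup G) (hLH : L ≤ H) (hO : Cfsg.pCore p ↥H = ⊥)
    (hLsn : (L.subgroupOf H).IsSubnormal) : Cfsg.pCore p ↥L = ⊥ := by
  have h0 : Cfsg.pCore p ↥(L.subgroupOf H) = ⊥ := by
    have hn : (Cfsg.pCore p ↥(L.subgroupOf H)).Normal := pCore_normal
    have hsn := hn.isSubnormal.trans' hLsn
    have hp : IsPGroup p ↥((Cfsg.pCore p ↥(L.subgroupOf H)).map (L.subgroupOf H).subtype) :=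
      (pCore_isPGroup).map _
    have := le_pCore_of_isSubnormal_of_isPGroup p _ hsn hp
    rw [hO, le_bot_iff, Subgroup.map_eq_bot_iff_of_injective _
      (Subgroup.subtype_injective _)] at this
    exact this
  have e : ↥L ≃* ↥(L.subgroupOf H) := (Subgroup.subgroupOfEquivOfLe hLH).symm
  have h1 := pCore_map_le (p := p) e.toMonoidHom e.surjective
  rw [h0, le_bot_iff, Subgroup.map_eq_bot_iff_of_injective _ e.injective] at h1
  exact h1

theorem fstar_subnormal_commutator {G : Type u} [Group G] [Finite G] {p : ℕ} [Fact p.Prime]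
    (H : Subgroup G) (hO : Cfsg.pCore p ↥H = ⊥) (Y : Subgroup G) (hY : IsPGroup p ↥Y)
    (L : Subgroup G)
    (hLF : L ≤ (Cfsg.generalizedFittingSubgroup ↥H).map H.subtype)
    (hLsn : (L.subgroupOf H).IsSubnormal) (hYL : Y ≤ Subgroup.normalizer (L : Set G)) :
    ⁅L, Y⁆ ⊔ (L ⊓ Subgroup.centralizer (Y : Set G)) = L ∧ ⁅L, Y⁆ = ⁅⁅L, Y⁆, Y⁆ :=
  fstar_commutator_pgroup_ambient L Y hY hYL (fstar_top_of_subnormal_le H L hLF hLsn)
    (pCore_eq_bot_of_subnormal H L (hLF.trans (Subgroup.map_subtype_le _)) hO hLsn)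

theorem fstar_top_of_isSubnormal_le {H : Type u} [Group H] [Finite H] (L : Subgroup H)
    (hL : L.IsSubnormal) (hLF : L ≤ Cfsg.generalizedFittingSubgroup H) :
    Cfsg.generalizedFittingSubgroup ↥L = ⊤ := by
  have h := generalizedFittingSubgroup_of_subnormal hL
  rw [inf_eq_left.mpr hLF] at h
  apply Subgroup.map_injective (Subgroup.subtype_injective L)
  rw [h, ← MonoidHom.range_eq_map, Subgroup.range_subtype]

theorem pCore_eq_bot_of_isSubnormal {H : Type u} [Group H] {p : ℕ}
    (L : Subgroup H) (hL : L.IsSubnormal) (hO : Cfsg.pCore p H = ⊥) : Cfsg.pCore p ↥L = ⊥ := by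
  have := pCoreOf_le_of_isSubnormal p L hL
  unfold Cfsg.pCoreOf at this
  rw [hO, le_bot_iff, Subgroup.map_eq_bot_iff_of_injective _ (Subgroup.subtype_injective _)] at this
  exact this

/-- A subgroup `A = [A, Y]` lies in every subnormal subgroup containing `Y`. -/
theorem le_of_eq_commutator_of_isSubnormal {H : Type*} [Group H] (K Y A : Subgroup H)
    (hK : K.IsSubnormal) (hYK : Y ≤ K) (hA : A = ⁅A, Y⁆) : A ≤ K := by
  induction hK with
  | top => exact le_top
  | step K' K₁ hle hK₁ hN ih =>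
    have h1 : A ≤ K₁ := ih (hYK.trans hle)
    rw [hA]
    have h2 : ⁅A, Y⁆ ≤ ⁅K₁, K'⁆ := Subgroup.commutator_mono h1 hYK
    refine h2.trans ?_
    have h3 : K₁ ≤ Subgroup.normalizer (K' : Set H) := by
      rwa [← Subgroup.normal_subgroupOf_iff_le_normalizer hle]
    exact Subgroup.le_normalizer_iff_commutator_le_right.mp h3

theorem fstar_subnormal_main {H : Type u} [Group H] [Finite H] {p : ℕ} [hp : Fact p.Prime]
    (hO : Cfsg.pCore p H = ⊥) (Y : Subgroup H) (hY : IsPGroup p ↥Y) :
    (∀ K : Subgroup H, K.IsSubnormal → Y ≤ K →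
      ⁅Cfsg.generalizedFittingSubgroup H, Y⁆ =
        ⁅(Cfsg.generalizedFittingSubgroup ↥K).map K.subtype, Y⁆ ∧
      ⁅(Cfsg.generalizedFittingSubgroup ↥K).map K.subtype, Y⁆ =
        ⁅⁅(Cfsg.generalizedFittingSubgroup ↥K).map K.subtype, Y⁆, Y⁆) ∧
    (∀ Y₀ : Subgroup H, Y₀ ≤ Y → ⁅⁅Cfsg.generalizedFittingSubgroup H, Y⁆, Y₀⁆ = ⊥ → Y₀ = ⊥) := by
  have hFn : (Cfsg.generalizedFittingSubgroup H).Normal := generalizedFittingSubgroup_normal
  obtain ⟨Fs, hFs⟩ : ∃ Fs, Fs = Cfsg.generalizedFittingSubgroup H := ⟨_, rfl⟩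
  rw [← hFs] at hFn ⊢
  have hFsub : Fs.IsSubnormal := hFn.isSubnormal
  obtain ⟨hA1, hA2⟩ := fstar_commutator_pgroup_ambient Fs Y hY Subgroup.le_normalizer_of_normal
    (fstar_top_of_isSubnormal_le Fs hFsub (hFs ▸ le_rfl))
    (pCore_eq_bot_of_isSubnormal Fs hFsub hO)
  constructor
  · intro K hK hYK
    have hFK : (Cfsg.generalizedFittingSubgroup ↥K).map K.subtype = K ⊓ Fs := by
      rw [hFs]; exact generalizedFittingSubgroup_of_subnormal hK
    rw [hFK]
    have hKFsub : (K ⊓ Fs).IsSubnormal := hK.inf hFsub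
    have hYN : Y ≤ Subgroup.normalizer ((K ⊓ Fs : Subgroup H) : Set H) := by
      intro y hy
      have h1 : y ∈ Subgroup.normalizer (K : Set H) := Subgroup.le_normalizer (hYK hy)
      have h2 : y ∈ Subgroup.normalizer (Fs : Set H) := Subgroup.le_normalizer_of_normal hy
      rw [Subgroup.mem_normalizer_iff] at h1 h2 ⊢
      intro g
      rw [Subgroup.mem_inf, Subgroup.mem_inf, ← h1 g, ← h2 g]
    obtain ⟨hB1, hB2⟩ := fstar_commutator_pgroup_ambient (K ⊓ Fs) Y hY hYN
      (fstar_top_of_isSubnormal_le _ hKFsub (hFs ▸ inf_le_right))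
      (pCore_eq_bot_of_isSubnormal _ hKFsub hO)
    refine ⟨?_, hB2⟩
    apply le_antisymm
    · have h1 : ⁅Fs, Y⁆ ≤ K := le_of_eq_commutator_of_isSubnormal K Y _ hK hYK hA2
      have h2 : ⁅Fs, Y⁆ ≤ K ⊓ Fs := le_inf h1 (Subgroup.commutator_le_left Fs Y)
      conv_lhs => rw [hA2]
      exact Subgroup.commutator_mono h2 le_rfl
    · exact Subgroup.commutator_mono inf_le_right le_rfl
  · intro Y₀ hY₀ hcomm
    -- `Y₀` centralizes `F*(H)`
    have h1 : Y₀ ≤ Subgroup.centralizer (Fs : Set H) := by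
      rw [← Subgroup.commutator_eq_bot_iff_le_centralizer, Subgroup.commutator_comm,
        Subgroup.commutator_eq_bot_iff_le_centralizer]
      conv_lhs => rw [← hA1]
      apply sup_le
      · rwa [Subgroup.commutator_eq_bot_iff_le_centralizer] at hcomm
      · exact inf_le_right.trans (Subgroup.centralizer_le hY₀)
    have hDn : (Subgroup.centralizer (Fs : Set H)).Normal := inferInstance
    have hDle : Subgroup.centralizer (Fs : Set H) ≤ Fs := by
      rw [hFs]; exact centralizer_generalizedFittingSubgroup_le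
    have hDnil : Group.IsNilpotent ↥(Subgroup.centralizer (Fs : Set H)) := by
      apply Subgroup.isNilpotent_of_lowerCentralSeries_eq_bot (n := 1)
      rw [Subgroup.lowerCentralSeries_succ, Subgroup.lowerCentralSeries_zero,
        Subgroup.commutator_eq_bot_iff_le_centralizer]
      intro x hx
      rw [Subgroup.mem_centralizer_iff]
      intro y hy
      exact Subgroup.mem_centralizer_iff.mp hx y (hDle hy)
    have hcard := not_dvd_card_of_normal_nilpotent hO (Subgroup.centralizer (Fs : Set H))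
    by_contra hne
    have hY₀p : IsPGroup p ↥Y₀ := hY.to_le hY₀
    obtain ⟨n, hn⟩ := IsPGroup.iff_card.mp hY₀p
    have hn0 : n ≠ 0 := by
      rintro rfl
      rw [pow_zero] at hn
      exact hne (Subgroup.card_eq_one.mp hn)
    apply hcard
    refine dvd_trans ?_ (Subgroup.card_dvd_of_le h1)
    rw [hn]; exact dvd_pow_self p hn0

end Cfsg.Agent.Lib.H14
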