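import Cfsg.Agent.Lib.H14.Subnormal
set_option autoImplicit false
open Cfsg

namespace Cfsg.Agent.Lib.H14

universe u

open scoped commutatorElement

theorem card_lt_of_lt_top {H : Type*} [Group H] [Finite H] (M : Subgroup H) (h : M < ⊤) :
    Nat.card M < Nat.card H := by
  have hle : Nat.card M ≤ Nat.card H := Subgroup.card_le_card_group M
  rcases lt_or_eq_of_le hle with h1 | h1
  · exact h1
  · exact absurd (Subgroup.eq_top_of_card_eq M h1) h.ne

/-- conjugation by `g` maps `O^p(B)` into `N` as soon as it does so on generators. -/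
theorem presOf_conj_le {H : Type*} [Group H] (p : ℕ) (B N : Subgroup H) (g : H)
    (h : ∀ x ∈ B, (orderOf x).Coprime p → g * x * g⁻¹ ∈ N) :
    ∀ y ∈ presOf p B, g * y * g⁻¹ ∈ N := by
  have key : presOf p B ≤ N.comap (MulAut.conj g).toMonoidHom := by
    unfold presOf
    rw [Subgroup.closure_le]
    rintro y ⟨hyB, hy⟩
    show (MulAut.conj g) y ∈ N
    rw [MulAut.conj_apply]
    exact h y hyB hy
  intro y hy
  have := key hy
  simpa [MulAut.conj_apply] using this

/-- Main lemma: `O_p(H)` normalizes `O^p(B)` for every subnormal subgroup `B` of a finite group. -/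
theorem pCore_conj_presOf_aux (p : ℕ) [Fact p.Prime] : ∀ (n : ℕ) (H : Type u) [Group H] [Finite H],
    Nat.card H = n → ∀ (B : Subgroup H), B.IsSubnormal → ∀ q ∈ Cfsg.pCore p H, ∀ x ∈ B,
      (orderOf x).Coprime p → q * x * q⁻¹ ∈ presOf p B := by
  intro n
  induction n using Nat.strong_induction_on with
  | _ n IH =>
    intro H _ _ hcard B hB q hq x hxB hx
    by_cases hBtop : B = ⊤
    · subst hBtop
      exact Subgroup.subset_closure ⟨Subgroup.mem_top _, by rw [orderOf_conj_eq]; exact hx⟩
    obtain ⟨M, hMn, hBM, hMlt⟩ := hB.exists_normal_and_le_and_lt_top_of_ne hBtop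
    have hMcard : Nat.card M < n := hcard ▸ card_lt_of_lt_top M hMlt
    have IHM := IH (Nat.card M) hMcard ↥M rfl (B.subgroupOf M) hB.subgroupOf
    set R : Subgroup H := Cfsg.pCoreOf p M with hR
    set B₀ : Subgroup H := presOf p B with hB₀
    have hQn : (Cfsg.pCore p H).Normal := pCore_normal
    -- (a) R normalizes B₀ on generators
    have ha : ∀ r ∈ R, ∀ y ∈ B, (orderOf y).Coprime p → r * y * r⁻¹ ∈ B₀ := by
      rintro _ ⟨r', hr', rfl⟩ y hy hyc
      have := IHM r' hr' ⟨y, hBM hy⟩ (by rw [Subgroup.mem_subgroupOf]; exact hy)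
        (by rw [← Subgroup.orderOf_coe]; exact hyc)
      have hmap : (presOf p (B.subgroupOf M)).map M.subtype ≤ B₀ := by
        unfold presOf
        rw [MonoidHom.map_closure]
        apply Subgroup.closure_mono
        rintro _ ⟨z, ⟨hz1, hz2⟩, rfl⟩
        exact ⟨by rwa [Subgroup.mem_subgroupOf] at hz1, by
          rw [Subgroup.coe_subtype, Subgroup.orderOf_coe]; exact hz2⟩
      exact hmap ⟨_, this, rfl⟩
    have haN : R ≤ Subgroup.normalizer (B₀ : Set H) := by
      intro r hr
      rw [Subgroup.mem_normalizer_iff]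
      intro y
      constructor
      · exact presOf_conj_le p B B₀ r (ha r hr) y
      · intro hy
        have := presOf_conj_le p B B₀ r⁻¹ (ha r⁻¹ (R.inv_mem hr)) _ hy
        simpa [mul_assoc] using this
    -- (b), (c)
    have hbN : B ≤ Subgroup.normalizer (B₀ : Set H) :=
      Subgroup.le_normalizer.trans (presOf_normalized p B)
    have hcN : B ≤ Subgroup.normalizer (R : Set H) := hBM.trans (pCoreOf_normalized p M)
    -- (d)
    have hQM : Cfsg.pCore p H ⊓ M ≤ R := by
      apply le_pCoreOf p M _ inf_le_right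
      · haveI : (Cfsg.pCore p H ⊓ M).Normal := Subgroup.normal_inf_normal _ _
        rw [Subgroup.normalizer_eq_top]; exact le_top
      · exact (pCore_isPGroup (G := H) (p := p)).to_le inf_le_left
    set X : Subgroup H := B ⊔ R with hX
    have hBX : B ≤ X := le_sup_left
    have hRX : R ≤ X := le_sup_right
    have hd : q * x * q⁻¹ ∈ X := by
      have e : q * x * q⁻¹ = ⁅q, x⁆ * x := by rw [commutatorElement_def]; group
      rw [e]
      refine X.mul_mem (hRX (hQM ⟨?_, ?_⟩)) (hBX hxB)
      · have : ⁅q, x⁆ = q * (x * q⁻¹ * x⁻¹) := by rw [commutatorElement_def]; group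
        rw [this]
        exact (Cfsg.pCore p H).mul_mem hq (hQn.conj_mem _ ((Cfsg.pCore p H).inv_mem hq) x)
      · have : ⁅q, x⁆ = (q * x * q⁻¹) * x⁻¹ := by rw [commutatorElement_def]
        rw [this]
        exact M.mul_mem (hMn.conj_mem x (hBM hxB) q) (M.inv_mem (hBM hxB))
    -- (e)
    have hXN : X ≤ Subgroup.normalizer (B₀ : Set H) := sup_le hbN haN
    have hXR : X ≤ Subgroup.normalizer (R : Set H) := sup_le hcN Subgroup.le_normalizer
    haveI hN1 : (B₀.subgroupOf X).Normal := Subgroup.normal_subgroupOf_of_le_normalizer hXN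
    haveI hN2 : (R.subgroupOf X).Normal := Subgroup.normal_subgroupOf_of_le_normalizer hXR
    have hsup : B.subgroupOf X ⊔ R.subgroupOf X = ⊤ := by
      rw [← Subgroup.subgroupOf_sup hBX hRX]
      exact Subgroup.subgroupOf_self X
    have hRp : ∀ r ∈ R.subgroupOf X, ∃ k : ℕ, r ^ (p ^ k) ∈ B₀.subgroupOf X := by
      intro r hr
      rw [Subgroup.mem_subgroupOf] at hr
      obtain ⟨k, hk⟩ := (pCoreOf_isPGroup p M) ⟨(r : H), hr⟩
      refine ⟨k, ?_⟩
      rw [Subgroup.mem_subgroupOf]
      have : ((r : H)) ^ (p ^ k) = 1 := by simpa using congrArg Subtype.val hk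
      simp only [Subgroup.coe_pow, this]
      exact B₀.one_mem
    have hA : ∀ a ∈ B.subgroupOf X, ∃ k : ℕ, a ^ (p ^ k) ∈ B₀.subgroupOf X := by
      intro a ha
      rw [Subgroup.mem_subgroupOf] at ha
      obtain ⟨k, hk⟩ := exists_pow_mem_presOf p B (a : H) ha
      exact ⟨k, by rw [Subgroup.mem_subgroupOf]; simpa using hk⟩
    obtain ⟨k, hk⟩ := exists_pow_mem_of_sup p (B₀.subgroupOf X) (B.subgroupOf X) (R.subgroupOf X)
      hsup hRp hA ⟨q * x * q⁻¹, hd⟩
    rw [Subgroup.mem_subgroupOf] at hk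
    apply mem_of_pow_mem_of_coprime p B₀ (q * x * q⁻¹) (by rw [orderOf_conj_eq]; exact hx) k
    simpa using hk

theorem pCore_le_normalizer_presOf {H : Type u} [Group H] [Finite H] (p : ℕ) [Fact p.Prime]
    (B : Subgroup H) (hB : B.IsSubnormal) :
    Cfsg.pCore p H ≤ Subgroup.normalizer (presOf p B : Set H) := by
  intro q hq
  rw [Subgroup.mem_normalizer_iff]
  intro y
  constructor
  · exact presOf_conj_le p B _ q
      (fun x hx hxc => pCore_conj_presOf_aux p _ H rfl B hB q hq x hx hxc) y
  · intro hy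
    have := presOf_conj_le p B (presOf p B) q⁻¹
      (fun x hx hxc => pCore_conj_presOf_aux p _ H rfl B hB q⁻¹ ((Cfsg.pCore p H).inv_mem hq) x hx hxc)
      _ hy
    simpa [mul_assoc] using this

end Cfsg.Agent.Lib.H14
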