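import Cfsg.Agent.Lib.H14.StrEmb
import Cfsg.Agent.Lib.H7.PLocal2
import Cfsg.Agent.Lib.H10.PGroup

/-! Large subgroups: characteristic `p` for overgroups. -/

set_option autoImplicit false

namespace Cfsg.Agent.Lib.H14

/-- A `p`-group `Q` normalizing a nontrivial `p`-group `P` centralizes a nontrivial element of `P`. -/
theorem inf_centralizer_ne_bot_of_isPGroup {G : Type*} [Group G] [Finite G] {p : ℕ} [Fact p.Prime]
    (P Q : Subgroup G) (hP : IsPGroup p P) (hQ : IsPGroup p Q) (hP1 : P ≠ ⊥)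
    (hQP : Q ≤ Subgroup.normalizer (P : Set G)) :
    P ⊓ Subgroup.centralizer (Q : Set G) ≠ ⊥ := by
  have hT : IsPGroup p ↥(P ⊔ Q) := IsPGroup.to_sup_of_normal_left' hP hQ hQP
  have hn : (P.subgroupOf (P ⊔ Q)).Normal := by
    rw [Subgroup.normal_subgroupOf_iff_le_normalizer le_sup_left]
    exact sup_le Subgroup.le_normalizer hQP
  have hne : P.subgroupOf (P ⊔ Q) ≠ ⊥ := by
    intro h
    apply hP1
    rw [eq_bot_iff]
    intro x hx
    have h1 : (⟨x, (le_sup_left : P ≤ P ⊔ Q) hx⟩ : ↥(P ⊔ Q)) ∈ P.subgroupOf (P ⊔ Q) := hx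
    rw [h, Subgroup.mem_bot] at h1
    rw [Subgroup.mem_bot]
    exact congrArg Subtype.val h1
  obtain ⟨x, hxP, hx1, hxc⟩ := Cfsg.Agent.Lib.H10.exists_ne_one_mem_center_of_normal hT _ hne
  intro hbot
  apply hx1
  have h2 : (x : G) ∈ P ⊓ Subgroup.centralizer (Q : Set G) := by
    refine Subgroup.mem_inf.mpr ⟨hxP, ?_⟩
    rw [Subgroup.mem_centralizer_iff]
    intro q hq
    have h3 := (Subgroup.mem_center_iff.mp hxc) ⟨q, (le_sup_right : Q ≤ P ⊔ Q) hq⟩
    exact congrArg Subtype.val h3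
  rw [hbot, Subgroup.mem_bot] at h2
  exact Subtype.ext h2

theorem nzr_le_nzr_pCoreOf {G : Type*} [Group G] (p : ℕ) (H : Subgroup G) :
    Subgroup.normalizer (H : Set G) ≤ Subgroup.normalizer (Cfsg.pCoreOf p H : Set G) :=
  Cfsg.Agent.Lib.H7.normalizer_le_normalizer_pCoreOf p H

/-- Lemma A: for a large `p`-subgroup `Q ≤ L` with `O_p(L) ≠ 1`, `C_H(O_p(L))` is a `p`-group. -/
theorem large_centralizer_pCoreOf_isPGroup {G : Type*} [Group G] [Finite G] {p : ℕ} [Fact p.Prime]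
    (Q : Subgroup G) (hQp : IsPGroup p Q) (hLg : Cfsg.IsLarge Q) (L : Subgroup G) (hQL : Q ≤ L)
    (hP1 : Cfsg.pCoreOf p L ≠ ⊥) :
    IsPGroup p ↥(Subgroup.centralizer (Cfsg.pCoreOf p L : Set G)) := by
  have hPp : IsPGroup p ↥(Cfsg.pCoreOf p L) := pCoreOf_isPGroup p L
  have hLP : L ≤ Subgroup.normalizer (Cfsg.pCoreOf p L : Set G) := pCoreOf_normalized p L
  have hU1 := inf_centralizer_ne_bot_of_isPGroup _ Q hPp hQp hP1 (hQL.trans hLP)
  -- C normalizes Q
  have hCQ : Subgroup.centralizer (Cfsg.pCoreOf p L : Set G) ≤ Subgroup.normalizer (Q : Set G) := by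
    refine le_trans ?_ (hLg.2 _ inf_le_right hU1)
    exact (Subgroup.centralizer_le inf_le_left).trans (Subgroup.centralizer_le_normalizer _)
  have hLC : L ≤ Subgroup.normalizer
      ((Subgroup.centralizer (Cfsg.pCoreOf p L : Set G) : Subgroup G) : Set G) :=
    hLP.trans (nzr_le_nzr_centralizer _)
  -- D = Q ∩ C ≤ P
  have hD : Q ⊓ Subgroup.centralizer (Cfsg.pCoreOf p L : Set G) ≤ Cfsg.pCoreOf p L := by
    have h1 : Q ⊓ Subgroup.centralizer (Cfsg.pCoreOf p L : Set G) ≤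
        Cfsg.pCoreOf p (Subgroup.centralizer (Cfsg.pCoreOf p L : Set G)) :=
      le_pCoreOf p _ _ inf_le_right (le_nzr_inf _ _ _ hCQ Subgroup.le_normalizer)
        (hQp.to_le inf_le_left)
    have h2 : Cfsg.pCoreOf p (Subgroup.centralizer (Cfsg.pCoreOf p L : Set G)) ⊓ L ≤
        Cfsg.pCoreOf p L :=
      le_pCoreOf p L _ inf_le_right
        (le_nzr_inf _ _ _ (hLC.trans (nzr_le_nzr_pCoreOf p _)) Subgroup.le_normalizer)
        ((pCoreOf_isPGroup p _).to_le inf_le_left)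
    exact (le_inf h1 (inf_le_left.trans hQL)).trans h2
  apply Cfsg.Agent.Lib.H7.isPGroup_of_coprime_eq_one
  intro x hxC hx
  have hAC : Subgroup.zpowers x ≤ Subgroup.centralizer (Cfsg.pCoreOf p L : Set G) := by
    rw [Subgroup.zpowers_le]; exact hxC
  have hAQ : Subgroup.zpowers x ≤ Subgroup.normalizer (Q : Set G) := hAC.trans hCQ
  have hcop : (Nat.card ↥(Subgroup.zpowers x)).Coprime (Nat.card ↥Q) := by
    rw [Nat.card_zpowers]
    obtain ⟨k, hk⟩ := IsPGroup.iff_card.mp hQp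
    rw [hk]
    exact Nat.Coprime.pow_right k hx
  have h1 : ⁅Q, Subgroup.zpowers x⁆ ≤ Q ⊓ Subgroup.centralizer (Cfsg.pCoreOf p L : Set G) := by
    apply le_inf (Subgroup.le_normalizer_iff_commutator_le_left.mp hAQ)
    exact (Subgroup.commutator_mono le_rfl hAC).trans
      (Subgroup.le_normalizer_iff_commutator_le_right.mp (hQL.trans hLC))
  have h2 : ⁅⁅Q, Subgroup.zpowers x⁆, Subgroup.zpowers x⁆ = ⊥ := by
    rw [eq_bot_iff]
    refine (Subgroup.commutator_mono (h1.trans hD) hAC).trans ?_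
    rw [Subgroup.commutator_eq_bot_iff_le_centralizer.mpr]
    rw [Subgroup.le_centralizer_iff]
  have h3 := Cfsg.Agent.Lib.H7.commutator_eq_bot_of_commutator_commutator_eq_bot hcop hAQ h2
  have h4 : Subgroup.zpowers x ≤ Subgroup.centralizer (Q : Set G) := by
    rw [Subgroup.commutator_comm] at h3
    exact Subgroup.commutator_eq_bot_iff_le_centralizer.mp h3
  have hxQ : x ∈ Q := hLg.1 (h4 (Subgroup.mem_zpowers x))
  exact Cfsg.Agent.Lib.H7.eq_one_of_mem_of_isPGroup_of_coprime hQp hxQ hx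

end Cfsg.Agent.Lib.H14
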