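import Mathlib

/-!
# Concrete facts about `Perm (Fin 4)` (helper14)

`sfourToSthree : Perm (Fin 4) →* Perm (Fin 3)` (action on the three pairings), surjective, with
kernel of exponent two containing its centralizer.
-/

set_option autoImplicit false

namespace Cfsg.Agent.Lib.H14.SFour

/-- index of the pairing of `Fin 4` containing the pair `{a, b}` -/
def pairIdx : Fin 4 → Fin 4 → Fin 3
  | 0, 1 => 0 | 1, 0 => 0 | 2, 3 => 0 | 3, 2 => 0
  | 0, 2 => 1 | 2, 0 => 1 | 1, 3 => 1 | 3, 1 => 1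
  | 0, 3 => 2 | 3, 0 => 2 | 1, 2 => 2 | 2, 1 => 2
  | _, _ => 0

/-- the action of a permutation of `Fin 4` on the three pairings -/
def pairAct (σ : Equiv.Perm (Fin 4)) (i : Fin 3) : Fin 3 := pairIdx (σ 0) (σ (Fin.succ i))

set_option maxRecDepth 100000 in
theorem pairAct_mul : ∀ σ τ : Equiv.Perm (Fin 4), ∀ i, pairAct (σ * τ) i = pairAct σ (pairAct τ i) := by
  decide

theorem pairAct_one : ∀ i, pairAct 1 i = i := by decide

/-- the homomorphism `S₄ → S₃` -/
def sfourToSthree : Equiv.Perm (Fin 4) →* Equiv.Perm (Fin 3) where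
  toFun σ :=
    { toFun := pairAct σ
      invFun := pairAct σ⁻¹
      left_inv := fun i => by rw [← pairAct_mul, inv_mul_cancel, pairAct_one]
      right_inv := fun i => by rw [← pairAct_mul, mul_inv_cancel, pairAct_one] }
  map_one' := by
    ext i
    show ((pairAct 1 i : Fin 3) : ℕ) = _
    rw [pairAct_one]; rfl
  map_mul' σ τ := by
    ext i
    show ((pairAct (σ * τ) i : Fin 3) : ℕ) = _
    rw [pairAct_mul]; rfl

theorem sfourToSthree_apply (σ : Equiv.Perm (Fin 4)) (i : Fin 3) :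
    sfourToSthree σ i = pairAct σ i := rfl

set_option maxRecDepth 100000 in
theorem sfourToSthree_surjective : Function.Surjective sfourToSthree := by
  have h : ∀ π : Equiv.Perm (Fin 3), ∃ σ : Equiv.Perm (Fin 4), ∀ i, pairAct σ i = π i := by
    decide
  intro π
  obtain ⟨σ, hσ⟩ := h π
  exact ⟨σ, Equiv.ext hσ⟩

set_option maxRecDepth 100000 in
theorem sq_eq_one_of_pairAct : ∀ σ : Equiv.Perm (Fin 4), (∀ i, pairAct σ i = i) → σ ^ 2 = 1 := by
  decide

set_option maxRecDepth 100000 in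
theorem pairAct_of_commute : ∀ σ : Equiv.Perm (Fin 4),
    (∀ τ : Equiv.Perm (Fin 4), (∀ i, pairAct τ i = i) → τ * σ = σ * τ) → ∀ i, pairAct σ i = i := by
  decide

theorem mem_ker_iff (σ : Equiv.Perm (Fin 4)) :
    σ ∈ sfourToSthree.ker ↔ ∀ i, pairAct σ i = i := by
  rw [MonoidHom.mem_ker]
  constructor
  · intro h i
    rw [← sfourToSthree_apply, h]; rfl
  · intro h
    exact Equiv.ext h

theorem ker_isPGroup : IsPGroup 2 sfourToSthree.ker := by
  intro x
  refine ⟨1, ?_⟩
  apply Subtype.ext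
  rw [Subgroup.coe_pow, pow_one]
  exact sq_eq_one_of_pairAct x.1 ((mem_ker_iff x.1).mp x.2)

theorem centralizer_ker_le :
    Subgroup.centralizer (sfourToSthree.ker : Set (Equiv.Perm (Fin 4))) ≤ sfourToSthree.ker := by
  intro σ hσ
  rw [mem_ker_iff]
  apply pairAct_of_commute
  intro τ hτ
  exact Subgroup.mem_centralizer_iff.mp hσ τ ((mem_ker_iff τ).mpr hτ)

end Cfsg.Agent.Lib.H14.SFour
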