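import Cfsg.Agent.Lib.H14.PIrr
import Mathlib.Tactic.Group

/-! Normalizer helper lemmas. -/

set_option autoImplicit false

namespace Cfsg.Agent.Lib.H14

open scoped commutatorElement

theorem map_conj_eq_of_mem_nzr {G : Type*} [Group G] (V : Subgroup G) (g : G)
    (hg : g ∈ Subgroup.normalizer (V : Set G)) : V.map (MulAut.conj g).toMonoidHom = V := by
  ext x
  rw [mem_map_conj_iff]
  have h1 := (Subgroup.mem_normalizer_iff.mp ((Subgroup.normalizer (V : Set G)).inv_mem hg) x)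
  rw [inv_inv] at h1
  exact h1.symm

theorem mem_nzr_of_map_conj_eq {G : Type*} [Group G] (V : Subgroup G) (g : G)
    (h : V.map (MulAut.conj g).toMonoidHom = V) : g ∈ Subgroup.normalizer (V : Set G) := by
  rw [Subgroup.mem_normalizer_iff]
  intro x
  conv_rhs => rw [← h, mem_map_conj_iff]
  have e : g⁻¹ * (g * x * g⁻¹) * g = x := by group
  rw [e]

theorem mem_nzr_iff_map_conj {G : Type*} [Group G] (V : Subgroup G) (g : G) :
    g ∈ Subgroup.normalizer (V : Set G) ↔ V.map (MulAut.conj g).toMonoidHom = V :=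
  ⟨map_conj_eq_of_mem_nzr V g, mem_nzr_of_map_conj_eq V g⟩

theorem le_nzr_sup {G : Type*} [Group G] (A K L : Subgroup G)
    (hK : A ≤ Subgroup.normalizer (K : Set G)) (hL : A ≤ Subgroup.normalizer (L : Set G)) :
    A ≤ Subgroup.normalizer ((K ⊔ L : Subgroup G) : Set G) := by
  intro a ha
  rw [mem_nzr_iff_map_conj, Subgroup.map_sup, map_conj_eq_of_mem_nzr K a (hK ha),
    map_conj_eq_of_mem_nzr L a (hL ha)]

theorem le_nzr_inf {G : Type*} [Group G] (A K L : Subgroup G)
    (hK : A ≤ Subgroup.normalizer (K : Set G)) (hL : A ≤ Subgroup.normalizer (L : Set G)) :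
    A ≤ Subgroup.normalizer ((K ⊓ L : Subgroup G) : Set G) := by
  intro a ha
  rw [mem_nzr_iff_map_conj, Subgroup.map_inf _ _ _ (MulAut.conj a).injective,
    map_conj_eq_of_mem_nzr K a (hK ha), map_conj_eq_of_mem_nzr L a (hL ha)]

theorem le_nzr_commutator {G : Type*} [Group G] (A K L : Subgroup G)
    (hK : A ≤ Subgroup.normalizer (K : Set G)) (hL : A ≤ Subgroup.normalizer (L : Set G)) :
    A ≤ Subgroup.normalizer ((⁅K, L⁆ : Subgroup G) : Set G) := by
  intro a ha
  rw [mem_nzr_iff_map_conj, Subgroup.map_commutator, map_conj_eq_of_mem_nzr K a (hK ha),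
    map_conj_eq_of_mem_nzr L a (hL ha)]

theorem le_nzr_of_conj_mem {G : Type*} [Group G] (A K : Subgroup G)
    (h : ∀ g ∈ A, ∀ x ∈ K, g * x * g⁻¹ ∈ K) : A ≤ Subgroup.normalizer (K : Set G) := by
  intro a ha
  rw [Subgroup.mem_normalizer_iff]
  intro x
  refine ⟨h a ha x, fun hx => ?_⟩
  have h1 := h a⁻¹ (A.inv_mem ha) _ hx
  have e : a⁻¹ * (a * x * a⁻¹) * a⁻¹⁻¹ = x := by group
  rw [e] at h1
  exact h1

theorem normal_of_sup_le_nzr {G : Type*} [Group G] (A B K : Subgroup G) (hAB : A ⊔ B = ⊤)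
    (hA : A ≤ Subgroup.normalizer (K : Set G)) (hB : B ≤ Subgroup.normalizer (K : Set G)) :
    K.Normal := by
  rw [← Subgroup.normalizer_eq_top_iff, eq_top_iff, ← hAB]
  exact sup_le hA hB

/-- `A` normalizes `Y ⊔ N` when `⁅A, Y⁆ ≤ N` and `A` normalizes `N`. -/
theorem le_nzr_sup_of_commutator_le {G : Type*} [Group G] (A Y N : Subgroup G)
    (hc : ⁅A, Y⁆ ≤ N) (hN : A ≤ Subgroup.normalizer (N : Set G)) :
    A ≤ Subgroup.normalizer ((Y ⊔ N : Subgroup G) : Set G) := by
  apply le_nzr_of_conj_mem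
  intro a ha x hx
  have key : Y ⊔ N ≤ (Y ⊔ N).comap (MulAut.conj a).toMonoidHom := by
    apply sup_le
    · intro y hy
      rw [Subgroup.mem_comap, MulEquiv.coe_toMonoidHom, MulAut.conj_apply]
      have e : a * y * a⁻¹ = ⁅a, y⁆ * y := by rw [commutatorElement_def]; group
      rw [e]
      exact Subgroup.mul_mem _ ((le_sup_right : N ≤ Y ⊔ N) (hc (Subgroup.commutator_mem_commutator ha hy)))
        ((le_sup_left : Y ≤ Y ⊔ N) hy)
    · intro n hn
      rw [Subgroup.mem_comap, MulEquiv.coe_toMonoidHom, MulAut.conj_apply]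
      exact (le_sup_right : N ≤ Y ⊔ N) ((Subgroup.mem_normalizer_iff.mp (hN ha) n).mp hn)
  have h2 := key hx
  rw [Subgroup.mem_comap, MulEquiv.coe_toMonoidHom, MulAut.conj_apply] at h2
  exact h2

end Cfsg.Agent.Lib.H14
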