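import Mathlib
import Cfsg.Agent.Lib.H14.Norm

/-!
# Small tools for the `S₄`-recognition (helper14)
-/

set_option autoImplicit false

namespace Cfsg.Agent.Lib.H14.SFour

variable {G : Type*} [Group G]

theorem mem_nzr_of_conj_mem_finite [Finite G] (K : Subgroup G) (g : G)
    (h : ∀ x ∈ K, g * x * g⁻¹ ∈ K) : g ∈ Subgroup.normalizer (K : Set G) := by
  apply mem_nzr_of_map_conj_eq
  apply Subgroup.eq_of_le_of_card_ge
  · rintro _ ⟨x, hx, rfl⟩
    exact h x hx
  · rw [Subgroup.card_map_of_injective (f := (MulAut.conj g).toMonoidHom) (MulAut.conj g).injective]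

/-- the four-group generated by two commuting involutions -/
def kleinSub (v u : G) (hv : v * v = 1) (hu : u * u = 1) (hvu : u * v = v * u) : Subgroup G where
  carrier := {x | x = 1 ∨ x = v ∨ x = u ∨ x = v * u}
  one_mem' := Or.inl rfl
  mul_mem' := by
    have hv' : ∀ x, v * (v * x) = x := fun x => by rw [← mul_assoc, hv, one_mul]
    have hu' : ∀ x, u * (u * x) = x := fun x => by rw [← mul_assoc, hu, one_mul]
    have hvu' : ∀ x, u * (v * x) = v * (u * x) := fun x => by rw [← mul_assoc, hvu, mul_assoc]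
    rintro a b (rfl | rfl | rfl | rfl) (rfl | rfl | rfl | rfl) <;>
      simp [mul_assoc, hv, hu, hvu, hv', hvu']
  inv_mem' := by
    have hvi : v⁻¹ = v := inv_eq_of_mul_eq_one_right hv
    have hui : u⁻¹ = u := inv_eq_of_mul_eq_one_right hu
    rintro a (rfl | rfl | rfl | rfl)
    · left; simp
    · right; left; exact hvi
    · right; right; left; exact hui
    · right; right; right
      rw [mul_inv_rev, hvi, hui, hvu]

theorem mem_kleinSub {v u : G} {hv : v * v = 1} {hu : u * u = 1} {hvu : u * v = v * u} {x : G} :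
    x ∈ kleinSub v u hv hu hvu ↔ x = 1 ∨ x = v ∨ x = u ∨ x = v * u := Iff.rfl

theorem card_kleinSub {v u : G} (hv : v * v = 1) (hu : u * u = 1) (hvu : u * v = v * u)
    (hv1 : v ≠ 1) (hu1 : u ≠ 1) (hne : v ≠ u) : Nat.card (kleinSub v u hv hu hvu) = 4 := by
  classical
  have hset : ((kleinSub v u hv hu hvu : Subgroup G) : Set G) = {1, v, u, v * u} := by
    ext x
    simp only [SetLike.mem_coe, mem_kleinSub, Set.mem_insert_iff, Set.mem_singleton_iff]
  have hvi : v⁻¹ = v := inv_eq_of_mul_eq_one_right hv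
  have h1 : v * u ≠ 1 := by
    intro h
    apply hne
    have := eq_inv_of_mul_eq_one_right h
    rw [← hvi]; exact (inv_eq_of_mul_eq_one_right h).symm ▸ rfl
  have h2 : v * u ≠ v := by
    intro h
    exact hu1 (mul_left_cancel (h.trans (mul_one v).symm))
  have h3 : v * u ≠ u := by
    intro h
    exact hv1 (mul_right_cancel (h.trans (one_mul u).symm))
  have hc : Nat.card (kleinSub v u hv hu hvu) = Set.ncard ((kleinSub v u hv hu hvu : Subgroup G) : Set G) := rfl
  rw [hc, hset]
  rw [Set.ncard_insert_of_notMem, Set.ncard_insert_of_notMem, Set.ncard_pair]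
  · exact fun h => h3 h.symm
  · simp only [Set.mem_insert_iff, Set.mem_singleton_iff, not_or]
    exact ⟨hne, fun h => h2 h.symm⟩
  · simp only [Set.mem_insert_iff, Set.mem_singleton_iff, not_or]
    exact ⟨fun h => hv1 h.symm, fun h => hu1 h.symm, fun h => h1 h.symm⟩

end Cfsg.Agent.Lib.H14.SFour
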