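import Mathlib
import Cfsg.Agent.Lib.H14.SFour2
import Cfsg.Agent.Lib.H16.PGroupCenter

/-!
# The norm-one subgroup for an element acting with order three (helper14)
-/

set_option autoImplicit false

namespace Cfsg.Agent.Lib.H14.SFour

variable {G : Type*} [Group G]

/-- the norm `x ↦ x · x^e · x^(e²)` -/
def nu (e x : G) : G := x * (e * x * e⁻¹) * (e * (e * x * e⁻¹) * e⁻¹)

/-- hypotheses on `V`, `e`, `t` -/
structure PairData (V : Subgroup G) (e t : G) : Prop where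
  comm : ∀ a ∈ V, ∀ b ∈ V, a * b = b * a
  sq : ∀ a ∈ V, a * a = 1
  eV : ∀ a ∈ V, e * a * e⁻¹ ∈ V
  tV : ∀ a ∈ V, t * a * t⁻¹ ∈ V
  e3 : ∀ a ∈ V, e * (e * (e * a * e⁻¹) * e⁻¹) * e⁻¹ = a
  inv : t * e * t⁻¹ = e⁻¹

namespace PairData

variable {V : Subgroup G} {e t : G}

theorem einv (h : PairData V e t) {a : G} (ha : a ∈ V) : e⁻¹ * a * e = e * (e * a * e⁻¹) * e⁻¹ := by
  have := h.e3 a ha
  calc e⁻¹ * a * e = e⁻¹ * (e * (e * (e * a * e⁻¹) * e⁻¹) * e⁻¹) * e := by rw [this]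
    _ = e * (e * a * e⁻¹) * e⁻¹ := by group

theorem nu_mem (h : PairData V e t) {a : G} (ha : a ∈ V) : nu e a ∈ V :=
  V.mul_mem (V.mul_mem ha (h.eV a ha)) (h.eV _ (h.eV a ha))

theorem nu_mul (h : PairData V e t) {a b : G} (ha : a ∈ V) (hb : b ∈ V) :
    nu e (a * b) = nu e a * nu e b := by
  unfold nu
  have e1 : e * (a * b) * e⁻¹ = (e * a * e⁻¹) * (e * b * e⁻¹) := by group
  have e2 : e * ((e * a * e⁻¹) * (e * b * e⁻¹)) * e⁻¹ =
      (e * (e * a * e⁻¹) * e⁻¹) * (e * (e * b * e⁻¹) * e⁻¹) := by group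
  rw [e1, e2]
  have ha' := h.eV a ha
  have hb' := h.eV b hb
  have ha'' := h.eV _ ha'
  have hb'' := h.eV _ hb'
  generalize e * a * e⁻¹ = a' at *
  generalize e * b * e⁻¹ = b' at *
  generalize e * a' * e⁻¹ = a'' at *
  generalize e * b' * e⁻¹ = b'' at *
  have c1 : b * a' = a' * b := h.comm b hb a' ha'
  have c2 : b' * a'' = a'' * b' := h.comm b' hb' a'' ha''
  have c3 : b * a'' = a'' * b := h.comm b hb a'' ha''
  calc a * b * (a' * b') * (a'' * b'') = a * (b * a') * (b' * a'') * b'' := by group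
    _ = a * (a' * b) * (a'' * b') * b'' := by rw [c1, c2]
    _ = a * a' * (b * a'') * b' * b'' := by group
    _ = a * a' * (a'' * b) * b' * b'' := by rw [c3]
    _ = a * a' * a'' * (b * b' * b'') := by group

theorem nu_one (e : G) : nu e 1 = 1 := by unfold nu; group

theorem nu_conj (h : PairData V e t) {a : G} (ha : a ∈ V) : nu e (e * a * e⁻¹) = nu e a := by
  unfold nu
  rw [h.e3 a ha]
  have ha' := h.eV a ha
  have ha'' := h.eV _ ha'
  generalize e * a * e⁻¹ = a' at *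
  generalize e * a' * e⁻¹ = a'' at *
  have c1 : a' * a'' * a = a * (a' * a'') := (h.comm a ha _ (V.mul_mem ha' ha'')).symm
  rw [c1]; group

theorem conj_t (h : PairData V e t) (a : G) :
    e * (t * a * t⁻¹) * e⁻¹ = t * (e⁻¹ * a * e) * t⁻¹ := by
  have h2 : e * t = t * e⁻¹ := by
    calc e * t = (t * e * t⁻¹)⁻¹ * t := by rw [h.inv, inv_inv]
      _ = t * e⁻¹ := by group
  calc e * (t * a * t⁻¹) * e⁻¹ = (e * t) * a * (e * t)⁻¹ := by group
    _ = (t * e⁻¹) * a * (t * e⁻¹)⁻¹ := by rw [h2]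
    _ = t * (e⁻¹ * a * e) * t⁻¹ := by group

theorem nu_conj_t (h : PairData V e t) {a : G} (ha : a ∈ V) :
    nu e (t * a * t⁻¹) = t * nu e a * t⁻¹ := by
  have ha' := h.eV a ha
  have ha'' := h.eV _ ha'
  have e1 : e * (t * a * t⁻¹) * e⁻¹ = t * (e * (e * a * e⁻¹) * e⁻¹) * t⁻¹ := by
    rw [h.conj_t, h.einv ha]
  have e2 : e * (t * (e * (e * a * e⁻¹) * e⁻¹) * t⁻¹) * e⁻¹ = t * (e * a * e⁻¹) * t⁻¹ := by
    rw [h.conj_t, h.einv ha'', h.e3 a ha]
  unfold nu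
  rw [e1, e2]
  generalize e * a * e⁻¹ = a' at *
  generalize e * a' * e⁻¹ = a'' at *
  have c1 : a'' * a' = a' * a'' := h.comm _ ha'' _ ha'
  calc t * a * t⁻¹ * (t * a'' * t⁻¹) * (t * a' * t⁻¹) = t * (a * (a'' * a')) * t⁻¹ := by group
    _ = t * (a * a' * a'') * t⁻¹ := by rw [c1]; group

/-- the subgroup of norm-one elements -/
def normOne (h : PairData V e t) : Subgroup G where
  carrier := {x | x ∈ V ∧ nu e x = 1}
  one_mem' := ⟨V.one_mem, nu_one e⟩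
  mul_mem' := by
    rintro a b ⟨ha, ha1⟩ ⟨hb, hb1⟩
    exact ⟨V.mul_mem ha hb, by rw [h.nu_mul ha hb, ha1, hb1, one_mul]⟩
  inv_mem' := by
    rintro a ⟨ha, ha1⟩
    have : a⁻¹ = a := inv_eq_of_mul_eq_one_right (h.sq a ha)
    rw [this]; exact ⟨ha, ha1⟩

theorem mem_normOne (h : PairData V e t) {x : G} : x ∈ h.normOne ↔ x ∈ V ∧ nu e x = 1 := Iff.rfl

theorem normOne_le (h : PairData V e t) : h.normOne ≤ V := fun _ hx => hx.1

theorem conj_e_mem_normOne (h : PairData V e t) {x : G} (hx : x ∈ h.normOne) :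
    e * x * e⁻¹ ∈ h.normOne :=
  ⟨h.eV x hx.1, by rw [h.nu_conj hx.1, hx.2]⟩

theorem conj_t_mem_normOne (h : PairData V e t) {x : G} (hx : x ∈ h.normOne) :
    t * x * t⁻¹ ∈ h.normOne :=
  ⟨h.tV x hx.1, by rw [h.nu_conj_t hx.1, hx.2]; group⟩

/-- a fixed point of `e` in the norm-one subgroup is trivial -/
theorem eq_one_of_fixed (h : PairData V e t) {x : G} (hx : x ∈ h.normOne)
    (hfix : e * x * e⁻¹ = x) : x = 1 := by
  have h1 := hx.2
  unfold nu at h1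
  rw [hfix, hfix, h.sq x hx.1, one_mul] at h1
  exact h1

/-- commutators lie in the norm-one subgroup -/
theorem mul_conj_mem_normOne (h : PairData V e t) {x : G} (hx : x ∈ V) :
    x * (e * x * e⁻¹) ∈ h.normOne := by
  refine ⟨V.mul_mem hx (h.eV x hx), ?_⟩
  rw [h.nu_mul hx (h.eV x hx), h.nu_conj hx, h.sq _ (h.nu_mem hx)]

end PairData

end Cfsg.Agent.Lib.H14.SFour
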