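import Mathlib
import Cfsg.Prelude.Def_LocalEven
import Cfsg.Agent.Lib.H14.SFour3
import Cfsg.Agent.Lib.H26.Involves
import Cfsg.Agent.Lib.L0.NPCStruct

/-!
# Recognising `S₄` as a section: the elementary abelian case (helper14)
-/

set_option autoImplicit false

namespace Cfsg.Agent.Lib.H14.SFour

variable {G : Type*} [Group G]

theorem prime_dvd_card_of_mem [Finite G] {H : Subgroup G} {g : G} (hg : g ∈ H) (hg1 : g ≠ 1)
    {p n : ℕ} (hp : p.Prime) (hpow : g ^ p ^ n = 1) : p ∣ Nat.card H := by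
  have h1 : orderOf g ∣ p ^ n := orderOf_dvd_of_pow_eq_one hpow
  obtain ⟨m, -, hm⟩ := (Nat.dvd_prime_pow hp).mp h1
  have hm0 : m ≠ 0 := by
    intro h0
    rw [h0, pow_zero, orderOf_eq_one_iff] at hm
    exact hg1 hm
  have h2 : p ∣ orderOf g := by
    rw [hm]; exact dvd_pow_self p hm0
  exact h2.trans (Subgroup.orderOf_dvd_natCard H hg)

/-- if `U ∩ Y = 1`, `g ∈ Y` normalizes `U` and `x g x⁻¹ ∈ Y` for an `x ∈ U`, then `g` centralizes `x` -/
theorem conj_eq_of_disjoint {U Y : Subgroup G} (hUY : U ⊓ Y = ⊥) {g x : G} (hg : g ∈ Y)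
    (hgU : g ∈ Subgroup.normalizer (U : Set G)) (hx : x ∈ U) (h : x * g * x⁻¹ ∈ Y) :
    g * x * g⁻¹ = x := by
  have hk1 : x * g * x⁻¹ * g⁻¹ ∈ Y := Y.mul_mem h (Y.inv_mem hg)
  have hk2 : x * g * x⁻¹ * g⁻¹ ∈ U := by
    have := (Subgroup.mem_normalizer_iff.mp hgU x⁻¹).mp (U.inv_mem hx)
    have e1 : x * g * x⁻¹ * g⁻¹ = x * (g * x⁻¹ * g⁻¹) := by group
    rw [e1]; exact U.mul_mem hx this
  have hk : x * g * x⁻¹ * g⁻¹ = 1 := by
    have : x * g * x⁻¹ * g⁻¹ ∈ U ⊓ Y := ⟨hk2, hk1⟩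
    rwa [hUY, Subgroup.mem_bot] at this
  have : x * g = g * x := by
    calc x * g = (x * g * x⁻¹ * g⁻¹) * (g * x) := by group
      _ = g * x := by rw [hk, one_mul]
  rw [← this]; group

theorem involves_of_pairData [Finite G] {V : Subgroup G} {e t : G} (h : PairData V e t)
    (he3 : ∃ n, e ^ 3 ^ n = 1) (ht2 : ∃ n, t ^ 2 ^ n = 1)
    {x₀ : G} (hx₀ : x₀ ∈ V) (hx₀e : e * x₀ * e⁻¹ ≠ x₀) :
    Cfsg.Involves (Equiv.Perm (Fin 4)) G := by
  obtain ⟨V₁, hV₁⟩ : ∃ V₁, V₁ = h.normOne := ⟨_, rfl⟩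
  have hV₁V : V₁ ≤ V := hV₁ ▸ h.normOne_le
  have hV₁ne : V₁ ≠ ⊥ := by
    intro hb
    have h1 : x₀ * (e * x₀ * e⁻¹) ∈ V₁ := hV₁ ▸ h.mul_conj_mem_normOne hx₀
    rw [hb, Subgroup.mem_bot] at h1
    apply hx₀e
    have h2 := h.sq x₀ hx₀
    exact mul_left_cancel (h1.trans h2.symm)
  have htV₁ : t ∈ Subgroup.normalizer (V₁ : Set G) :=
    mem_nzr_of_conj_mem_finite V₁ t (fun x hx => by
      rw [hV₁] at hx ⊢; exact h.conj_t_mem_normOne hx)
  have hV₁p : IsPGroup 2 V₁ := by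
    intro x
    refine ⟨1, ?_⟩
    apply Subtype.ext
    rw [Subgroup.coe_pow, pow_one, pow_two]
    exact h.sq x.1 (hV₁V x.2)
  have htp : IsPGroup 2 (Subgroup.zpowers t) := by
    obtain ⟨n, hn⟩ := ht2
    apply IsPGroup.of_card_dvd_pow (n := n)
    rw [Nat.card_zpowers]; exact orderOf_dvd_of_pow_eq_one hn
  have htz : Subgroup.zpowers t ≤ Subgroup.normalizer (V₁ : Set G) :=
    (Subgroup.zpowers_le).mpr htV₁
  have hPp : IsPGroup 2 (V₁ ⊔ Subgroup.zpowers t : Subgroup G) :=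
    IsPGroup.to_sup_of_normal_left' hV₁p htp htz
  obtain ⟨v, hvV₁, hv1, hvc⟩ := Cfsg.Agent.Lib.H16.exists_ne_one_central_of_le_normalizer
    Nat.prime_two (V₁ ⊔ Subgroup.zpowers t) V₁ hPp le_sup_left
    (sup_le Subgroup.le_normalizer htz) hV₁ne
  have hvN : v ∈ h.normOne := hV₁ ▸ hvV₁
  have hvV : v ∈ V := hV₁V hvV₁
  have htv : t * v * t⁻¹ = v := by
    have := hvc t ((le_sup_right : Subgroup.zpowers t ≤ V₁ ⊔ Subgroup.zpowers t) (Subgroup.mem_zpowers t))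
    rw [this]; group
  obtain ⟨u, hu⟩ : ∃ u, u = e * v * e⁻¹ := ⟨_, rfl⟩
  have huN : u ∈ h.normOne := hu ▸ h.conj_e_mem_normOne hvN
  have huV : u ∈ V := h.normOne_le huN
  have hvu_ne : v ≠ u := fun hvu => hv1 (h.eq_one_of_fixed hvN (hu ▸ hvu.symm))
  have hu1 : u ≠ 1 := by
    intro h1
    apply hv1
    have : v = e⁻¹ * u * e := by rw [hu]; group
    rw [this, h1]; group
  have hvv : v * v = 1 := h.sq v hvV
  have huu : u * u = 1 := h.sq u huV
  have huv : u * v = v * u := h.comm u huV v hvV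
  have hw : e * u * e⁻¹ = v * u := by
    have h1 := hvN.2
    unfold nu at h1
    rw [← hu] at h1
    have h2 : e * u * e⁻¹ = (v * u)⁻¹ := (inv_eq_of_mul_eq_one_right h1).symm
    rw [h2, mul_inv_rev, inv_eq_of_mul_eq_one_right hvv, inv_eq_of_mul_eq_one_right huu]
    exact huv
  obtain ⟨U, hU⟩ : ∃ U, U = kleinSub v u hvv huu huv := ⟨_, rfl⟩
  have hUmem : ∀ x, x ∈ U ↔ x = 1 ∨ x = v ∨ x = u ∨ x = v * u := by
    intro x; rw [hU]; exact mem_kleinSub
  have hUcard : Nat.card U = 4 := by rw [hU]; exact card_kleinSub hvv huu huv hv1 hu1 hvu_ne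
  have hvU : v ∈ U := (hUmem v).mpr (Or.inr (Or.inl rfl))
  have huU : u ∈ U := (hUmem u).mpr (Or.inr (Or.inr (Or.inl rfl)))
  have hUN : ∀ x ∈ U, x ∈ h.normOne := by
    intro x hx
    rcases (hUmem x).mp hx with rfl | rfl | rfl | rfl
    · exact Subgroup.one_mem _
    · exact hvN
    · exact huN
    · exact Subgroup.mul_mem _ hvN huN
  have heU : e ∈ Subgroup.normalizer (U : Set G) := by
    apply mem_nzr_of_conj_mem_finite U e
    intro x hx
    rcases (hUmem x).mp hx with rfl | rfl | rfl | rfl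
    · rw [mul_one, mul_inv_cancel]; exact U.one_mem
    · rw [← hu]; exact huU
    · rw [hw]; exact U.mul_mem hvU huU
    · have e1 : e * (v * u) * e⁻¹ = (e * v * e⁻¹) * (e * u * e⁻¹) := by group
      rw [e1, ← hu, hw]
      exact U.mul_mem huU (U.mul_mem hvU huU)
  have htu : t * u * t⁻¹ = v * u := by
    calc t * u * t⁻¹ = (t * e * t⁻¹) * (t * v * t⁻¹) * (t * e * t⁻¹)⁻¹ := by rw [hu]; group
      _ = e⁻¹ * v * e := by rw [h.inv, htv, inv_inv]
      _ = e * (e * v * e⁻¹) * e⁻¹ := h.einv hvV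
      _ = v * u := by rw [← hu, hw]
  have htU : t ∈ Subgroup.normalizer (U : Set G) := by
    apply mem_nzr_of_conj_mem_finite U t
    intro x hx
    rcases (hUmem x).mp hx with rfl | rfl | rfl | rfl
    · rw [mul_one, mul_inv_cancel]; exact U.one_mem
    · rw [htv]; exact hvU
    · rw [htu]; exact U.mul_mem hvU huU
    · have e1 : t * (v * u) * t⁻¹ = (t * v * t⁻¹) * (t * u * t⁻¹) := by group
      rw [e1, htv, htu]
      exact U.mul_mem hvU (U.mul_mem hvU huU)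
  obtain ⟨Y, hY⟩ : ∃ Y, Y = Subgroup.closure ({e, t} : Set G) := ⟨_, rfl⟩
  have heY : e ∈ Y := hY ▸ Subgroup.subset_closure (Set.mem_insert _ _)
  have htY : t ∈ Y := hY ▸ Subgroup.subset_closure (Set.mem_insert_of_mem _ rfl)
  have hYU : Y ≤ Subgroup.normalizer (U : Set G) := by
    rw [hY, Subgroup.closure_le]
    rintro x (rfl | rfl)
    · exact heU
    · exact htU
  have hYE : Y ≤ Subgroup.normalizer ((Subgroup.zpowers e : Subgroup G) : Set G) := by
    rw [hY, Subgroup.closure_le]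
    rintro x (rfl | rfl)
    · exact Subgroup.le_normalizer (Subgroup.mem_zpowers x)
    · apply mem_nzr_of_conj_mem_finite
      intro y hy
      obtain ⟨k, rfl⟩ := Subgroup.mem_zpowers_iff.mp hy
      have e1 : x * e ^ k * x⁻¹ = (x * e * x⁻¹) ^ k := by
        have := map_zpow (MulAut.conj x) e k
        simp only [MulAut.conj_apply] at this
        exact this
      rw [e1, h.inv]
      exact Subgroup.zpow_mem _ (Subgroup.inv_mem _ (Subgroup.mem_zpowers e)) k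
  have hUE : U ⊓ Subgroup.zpowers e = ⊥ := by
    rw [← disjoint_iff]
    apply Subgroup.disjoint_of_coprime_natCard
    obtain ⟨n, hn⟩ := he3
    rw [hUcard, Nat.card_zpowers]
    have h1 : orderOf e ∣ 3 ^ n := orderOf_dvd_of_pow_eq_one hn
    have h2 : Nat.Coprime 4 (3 ^ n) := Nat.Coprime.pow_right n (by decide)
    exact Nat.Coprime.coprime_dvd_right h1 h2
  have hUY : U ⊓ Y = ⊥ := by
    rw [eq_bot_iff]
    rintro z ⟨hzU, hzY⟩
    have hfix : e * z * e⁻¹ = z := by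
      have hk1 : z * e * z⁻¹ * e⁻¹ ∈ U := by
        have := (Subgroup.mem_normalizer_iff.mp heU z⁻¹).mp (U.inv_mem hzU)
        have e1 : z * e * z⁻¹ * e⁻¹ = z * (e * z⁻¹ * e⁻¹) := by group
        rw [e1]; exact U.mul_mem hzU this
      have hk2 : z * e * z⁻¹ * e⁻¹ ∈ Subgroup.zpowers e := by
        have := (Subgroup.mem_normalizer_iff.mp (hYE hzY) e).mp (Subgroup.mem_zpowers e)
        exact Subgroup.mul_mem _ this (Subgroup.inv_mem _ (Subgroup.mem_zpowers e))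
      have hk : z * e * z⁻¹ * e⁻¹ = 1 := by
        have : z * e * z⁻¹ * e⁻¹ ∈ U ⊓ Subgroup.zpowers e := ⟨hk1, hk2⟩
        rwa [hUE, Subgroup.mem_bot] at this
      have : z * e = e * z := by
        calc z * e = (z * e * z⁻¹ * e⁻¹) * (e * z) := by group
          _ = e * z := by rw [hk, one_mul]
      rw [← this]; group
    exact (Subgroup.mem_bot).mpr (h.eq_one_of_fixed (hUN z hzU) hfix)
  -- the group `L = U Y`
  obtain ⟨L, hL⟩ : ∃ L, L = U ⊔ Y := ⟨_, rfl⟩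
  have hUL : U ≤ L := hL ▸ le_sup_left
  have hYL : Y ≤ L := hL ▸ le_sup_right
  have hLU : L ≤ Subgroup.normalizer (U : Set G) := hL ▸ sup_le Subgroup.le_normalizer hYU
  have hU'n : (U.subgroupOf L).Normal :=
    (Subgroup.normal_subgroupOf_iff_le_normalizer hUL).mpr hLU
  have hsup : Y.subgroupOf L ⊔ U.subgroupOf L = ⊤ := by
    rw [← Subgroup.subgroupOf_sup hYL hUL, sup_comm, ← hL, Subgroup.subgroupOf_self]
  have hidx : (Y.subgroupOf L).index = 4 := by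
    rw [Cfsg.Agent.Lib.L0.index_eq_relIndex_of_sup_eq_top hsup, Subgroup.relIndex_subgroupOf hUL,
      ← Subgroup.inf_relIndex_right, inf_comm, hUY, Subgroup.relIndex_bot_left, hUcard]
  -- the action on the four cosets of `Y`
  obtain ⟨φ, hφ⟩ : ∃ φ, φ = MulAction.toPermHom L (L ⧸ Y.subgroupOf L) := ⟨_, rfl⟩
  have hker : φ.ker = (Y.subgroupOf L).normalCore := by
    rw [hφ]; exact (Subgroup.normalCore_eq_ker _).symm
  have hkerY : φ.ker ≤ Y.subgroupOf L := hker ▸ Subgroup.normalCore_le _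
  have hcardΩ : Nat.card (L ⧸ Y.subgroupOf L) = 4 := by
    rw [← Subgroup.index_eq_card]; exact hidx
  have hnotker : ∀ g ∈ Y, ∀ x ∈ U, g * x * g⁻¹ ≠ x → ∀ hgL : g ∈ L, (⟨g, hgL⟩ : L) ∉ φ.ker := by
    intro g hg x hx hne hgL hmem
    rw [hker] at hmem
    have h1 : (⟨x, hUL hx⟩ : L) * ⟨g, hgL⟩ * (⟨x, hUL hx⟩ : L)⁻¹ ∈ Y.subgroupOf L := hmem _
    rw [Subgroup.mem_subgroupOf] at h1
    exact hne (conj_eq_of_disjoint hUY hg (hYU hg) hx h1)
  have he'ker : (⟨e, hYL heY⟩ : L) ∉ φ.ker :=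
    hnotker e heY v hvU (by rw [← hu]; exact fun h => hvu_ne h.symm) _
  have ht'ker : (⟨t, hYL htY⟩ : L) ∉ φ.ker := by
    apply hnotker t htY u huU
    rw [htu]
    intro h1
    exact hv1 (mul_right_cancel (h1.trans (one_mul u).symm))
  have h3 : 3 ∣ Nat.card ((Y.subgroupOf L).map φ) := by
    obtain ⟨n, hn⟩ := he3
    apply prime_dvd_card_of_mem (g := φ ⟨e, hYL heY⟩) (Subgroup.mem_map_of_mem φ
      (Subgroup.mem_subgroupOf.mpr heY)) (fun h => he'ker (MonoidHom.mem_ker.mpr h))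
      Nat.prime_three (n := n)
    rw [← map_pow]
    have : (⟨e, hYL heY⟩ : L) ^ 3 ^ n = 1 := Subtype.ext (by rw [Subgroup.coe_pow, hn]; rfl)
    rw [this, map_one]
  have h2 : 2 ∣ Nat.card ((Y.subgroupOf L).map φ) := by
    obtain ⟨n, hn⟩ := ht2
    apply prime_dvd_card_of_mem (g := φ ⟨t, hYL htY⟩) (Subgroup.mem_map_of_mem φ
      (Subgroup.mem_subgroupOf.mpr htY)) (fun h => ht'ker (MonoidHom.mem_ker.mpr h))
      Nat.prime_two (n := n)
    rw [← map_pow]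
    have : (⟨t, hYL htY⟩ : L) ^ 2 ^ n = 1 := Subtype.ext (by rw [Subgroup.coe_pow, hn]; rfl)
    rw [this, map_one]
  have h6 : 6 ∣ Nat.card ((Y.subgroupOf L).map φ) :=
    Nat.Coprime.mul_dvd_of_dvd_of_dvd (by decide : Nat.Coprime 2 3) h2 h3
  have hrange : Nat.card φ.range = Nat.card ((Y.subgroupOf L).map φ) * 4 := by
    rw [← Subgroup.index_ker, ← Subgroup.relIndex_mul_index hkerY, Subgroup.relIndex_ker, hidx]
  have hperm : Nat.card (Equiv.Perm (L ⧸ Y.subgroupOf L)) = 24 := by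
    rw [Nat.card_perm, hcardΩ]; rfl
  have htop : φ.range = ⊤ := by
    apply Subgroup.eq_top_of_card_eq
    have h24 : 24 ∣ Nat.card φ.range := by
      rw [hrange]
      obtain ⟨k, hk⟩ := h6
      exact ⟨k, by rw [hk]; ring⟩
    have hdvd : Nat.card φ.range ∣ 24 := hperm ▸ Subgroup.card_subgroup_dvd_card φ.range
    rw [hperm]
    exact Nat.dvd_antisymm hdvd h24
  rw [Cfsg.Agent.Lib.H26.involves_iff]
  refine ⟨L, (Equiv.permCongrHom (Finite.equivFinOfCardEq hcardΩ)).toMonoidHom.comp φ, ?_⟩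
  exact (Equiv.permCongrHom (Finite.equivFinOfCardEq hcardΩ)).surjective.comp
    (MonoidHom.range_eq_top.mp htop)

end Cfsg.Agent.Lib.H14.SFour
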