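import Mathlib
import Cfsg.Agent.Lib.H14.SFour4
import Cfsg.Agent.Lib.H10.SylowIn
import Cfsg.Agent.Lib.H1.CoprimeAction

/-!
# Lifting an inverted `3`-element through a surjection (helper14)
-/

set_option autoImplicit false

namespace Cfsg.Agent.Lib.H14.SFour

section lift

variable {Q : Type*} [Group Q]

theorem conj_zpowers_mem {x q : Q} (h : q * x * q⁻¹ ∈ Subgroup.zpowers x) {z : Q}
    (hz : z ∈ Subgroup.zpowers x) : q * z * q⁻¹ ∈ Subgroup.zpowers x := by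
  obtain ⟨k, rfl⟩ := Subgroup.mem_zpowers_iff.mp hz
  have e1 : q * x ^ k * q⁻¹ = (q * x * q⁻¹) ^ k := by
    have := map_zpow (MulAut.conj q) x k
    simp only [MulAut.conj_apply] at this
    exact this
  rw [e1]
  exact Subgroup.zpow_mem _ h k

/-- if `τ` inverts `x` then `τ²` centralizes `x` -/
theorem sq_comm_of_inv {x τ : Q} (h : τ * x * τ⁻¹ = x⁻¹) : (τ * τ) * x = x * (τ * τ) := by
  have h1 : τ * x⁻¹ * τ⁻¹ = x := by
    have : τ * x⁻¹ * τ⁻¹ = (τ * x * τ⁻¹)⁻¹ := by group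
    rw [this, h, inv_inv]
  calc τ * τ * x = τ * (τ * x * τ⁻¹) * τ⁻¹ * (τ * τ) := by group
    _ = τ * x⁻¹ * τ⁻¹ * (τ * τ) := by rw [h]
    _ = x * (τ * τ) := by rw [h1]

/-- odd powers of an inverting element invert -/
theorem odd_pow_inv {x τ : Q} (h : τ * x * τ⁻¹ = x⁻¹) {m : ℕ} (hm : Odd m) :
    τ ^ m * x * (τ ^ m)⁻¹ = x⁻¹ := by
  obtain ⟨j, rfl⟩ := hm
  have h2 : Commute (τ * τ) x := sq_comm_of_inv h
  have h3 : Commute ((τ * τ) ^ j) x := h2.pow_left j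
  have e1 : τ ^ (2 * j + 1) = (τ * τ) ^ j * τ := by
    rw [pow_succ, pow_mul, pow_two]
  rw [e1]
  calc (τ * τ) ^ j * τ * x * ((τ * τ) ^ j * τ)⁻¹
      = (τ * τ) ^ j * (τ * x * τ⁻¹) * ((τ * τ) ^ j)⁻¹ := by group
    _ = (τ * τ) ^ j * x⁻¹ * ((τ * τ) ^ j)⁻¹ := by rw [h]
    _ = x⁻¹ := by
        have h4 : Commute ((τ * τ) ^ j) x⁻¹ := h3.inv_right
        rw [h4.eq]; group

end lift

theorem exists_pair_of_map_pair {N Q : Type*} [Group N] [Finite N] [Group Q] (π : N →* Q)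
    (hπ : Function.Surjective π) (x a : Q) (hx3 : ∃ n, x ^ 3 ^ n = 1) (hx1 : x ≠ 1)
    (hinv : a * x * a⁻¹ = x⁻¹) :
    ∃ e t : N, (∃ n, e ^ 3 ^ n = 1) ∧ (∃ n, t ^ 2 ^ n = 1) ∧ t * e * t⁻¹ = e⁻¹ ∧ π e ≠ 1 := by
  have : Fact (Nat.Prime 3) := ⟨Nat.prime_three⟩
  have : Finite Q := Finite.of_surjective π hπ
  obtain ⟨Z, hZ⟩ : ∃ Z, Z = Subgroup.zpowers x := ⟨_, rfl⟩
  obtain ⟨EC, hEC⟩ : ∃ EC, EC = Z.comap π := ⟨_, rfl⟩
  have hxZ : x ∈ Z := hZ ▸ Subgroup.mem_zpowers x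
  have hZcomm : ∀ z ∈ Z, ∀ w ∈ Z, z * w = w * z := by
    intro z hz w hw
    rw [hZ] at hz hw
    obtain ⟨i, rfl⟩ := Subgroup.mem_zpowers_iff.mp hz
    obtain ⟨j, rfl⟩ := Subgroup.mem_zpowers_iff.mp hw
    rw [← zpow_add, ← zpow_add, add_comm]
  have hCE : π.ker ≤ EC := by
    intro c hc
    rw [hEC, Subgroup.mem_comap, MonoidHom.mem_ker.mp hc]
    exact Z.one_mem
  obtain ⟨a₀, ha₀⟩ := hπ a
  -- elements inverting `x` normalize `Z`
  have hnormZ : ∀ q : Q, q * x * q⁻¹ = x⁻¹ → ∀ z ∈ Z, q * z * q⁻¹ ∈ Z := by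
    intro q hq z hz
    rw [hZ] at hz ⊢
    apply conj_zpowers_mem _ hz
    rw [hq]; exact Subgroup.inv_mem _ (Subgroup.mem_zpowers x)
  -- a Sylow 3-subgroup of `EC`
  obtain ⟨D, -, hDE, hDp, hDi⟩ := Cfsg.Agent.Lib.H10.exists_sylowIn (p := 3)
    (P := (⊥ : Subgroup N)) (K := EC) IsPGroup.of_bot bot_le
  have hDaE : D.map (MulAut.conj a₀).toMonoidHom ≤ EC := by
    rintro _ ⟨d, hd, rfl⟩
    rw [hEC, Subgroup.mem_comap]
    simp only [MulEquiv.coe_toMonoidHom, MulAut.conj_apply, map_mul, map_inv, ha₀]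
    exact hnormZ a hinv _ (by have := hDE hd; rwa [hEC, Subgroup.mem_comap] at this)
  obtain ⟨m, hmE, hm⟩ := Cfsg.Agent.Lib.H10.exists_mem_map_conj_le_of_sylowIn hDp hDE hDi
    (hDp.map (MulAut.conj a₀).toMonoidHom) hDaE
  obtain ⟨t₀, ht₀⟩ : ∃ t₀, t₀ = m * a₀ := ⟨_, rfl⟩
  have ht₀D : t₀ ∈ Subgroup.normalizer (D : Set N) := by
    apply mem_nzr_of_conj_mem_finite
    intro d hd
    apply hm
    refine ⟨a₀ * d * a₀⁻¹, ⟨d, hd, rfl⟩, ?_⟩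
    simp only [MulEquiv.coe_toMonoidHom, MulAut.conj_apply, ht₀]
    group
  have hπmZ : π m ∈ Z := by rw [hEC, Subgroup.mem_comap] at hmE; exact hmE
  have hτ : π t₀ * x * (π t₀)⁻¹ = x⁻¹ := by
    rw [ht₀, map_mul, ha₀]
    have h1 : π m * x⁻¹ = x⁻¹ * π m := hZcomm _ hπmZ _ (Z.inv_mem hxZ)
    calc π m * a * x * (π m * a)⁻¹ = π m * (a * x * a⁻¹) * (π m)⁻¹ := by group
      _ = π m * x⁻¹ * (π m)⁻¹ := by rw [hinv]
      _ = x⁻¹ := by rw [h1]; group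
  -- the `2`-part of `t₀`
  obtain ⟨k, m₁, hm₁, hord⟩ := Nat.exists_eq_two_pow_mul_odd (orderOf_pos t₀).ne'
  obtain ⟨t, ht⟩ : ∃ t, t = t₀ ^ m₁ := ⟨_, rfl⟩
  have ht2 : t ^ 2 ^ k = 1 := by
    rw [ht, ← pow_mul, mul_comm, ← hord, pow_orderOf_eq_one]
  have htD : t ∈ Subgroup.normalizer (D : Set N) := ht ▸ Subgroup.pow_mem _ ht₀D m₁
  have hτ₁ : π t * x * (π t)⁻¹ = x⁻¹ := by
    rw [ht, map_pow]; exact odd_pow_inv hτ hm₁
  have hsx : (π t * π t) * x = x * (π t * π t) := sq_comm_of_inv hτ₁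
  have hsZ : ∀ z ∈ Z, (π t * π t) * z = z * (π t * π t) := by
    intro z hz
    rw [hZ] at hz
    obtain ⟨i, rfl⟩ := Subgroup.mem_zpowers_iff.mp hz
    exact ((show Commute (π t * π t) x from hsx).zpow_right i).eq
  have hinvZ : ∀ z ∈ Z, π t * z * (π t)⁻¹ = z⁻¹ := by
    intro z hz
    rw [hZ] at hz
    obtain ⟨i, rfl⟩ := Subgroup.mem_zpowers_iff.mp hz
    have e1 : π t * x ^ i * (π t)⁻¹ = (π t * x * (π t)⁻¹) ^ i := by
      have := map_zpow (MulAut.conj (π t)) x i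
      simp only [MulAut.conj_apply] at this
      exact this
    rw [e1, hτ₁, inv_zpow]
  -- `D` is not in the kernel
  have hDnot : ¬ D ≤ π.ker := by
    intro hDC
    apply hDi
    rw [← Subgroup.relIndex_mul_relIndex D π.ker EC hDC hCE]
    apply Dvd.dvd.mul_left
    rw [Subgroup.relIndex_ker, hEC, Subgroup.map_comap_eq_self_of_surjective hπ, hZ]
    obtain ⟨n, hn⟩ := hx3
    exact prime_dvd_card_of_mem (Subgroup.mem_zpowers x) hx1 Nat.prime_three hn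
  obtain ⟨d₀, hd₀D, hd₀C⟩ := SetLike.not_le_iff_exists.mp hDnot
  obtain ⟨s, hs⟩ : ∃ s, s = t * t := ⟨_, rfl⟩
  have hsD : Subgroup.zpowers s ≤ Subgroup.normalizer (D : Set N) :=
    Subgroup.zpowers_le.mpr (hs ▸ Subgroup.mul_mem _ htD htD)
  have hs2 : s ^ 2 ^ k = 1 := by
    rw [hs, ← pow_two, ← pow_mul, mul_comm, pow_mul, ht2, one_pow]
  have hcop : Cfsg.Agent.Lib.H1.CoprimeAction (Subgroup.zpowers s) D :=
    { normalizes := hsD
      coprime := by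
        rw [Nat.card_zpowers]
        obtain ⟨j, hj⟩ := IsPGroup.iff_card.mp hDp
        rw [hj]
        have h1 : orderOf s ∣ 2 ^ k := orderOf_dvd_of_pow_eq_one hs2
        exact Nat.Coprime.coprime_dvd_left h1 (Nat.Coprime.pow k j (by decide))
      solvable := Or.inl inferInstance }
  have hπa : ∀ a ∈ Subgroup.zpowers s, ∀ z ∈ Z, π a * z = z * π a := by
    intro a ha z hz
    obtain ⟨i, rfl⟩ := Subgroup.mem_zpowers_iff.mp ha
    rw [map_zpow, hs, map_mul]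
    exact ((show Commute (π t * π t) z from hsZ z hz).zpow_left i).eq
  have hDZ : ∀ d ∈ D, π d ∈ Z := by
    intro d hd
    have := hDE hd
    rwa [hEC, Subgroup.mem_comap] at this
  have hfix : ∀ a ∈ Subgroup.zpowers s, a * d₀ * a⁻¹ * d₀⁻¹ ∈ D ⊓ π.ker := by
    intro a ha
    refine ⟨D.mul_mem ((Subgroup.mem_normalizer_iff.mp (hsD ha) d₀).mp hd₀D) (D.inv_mem hd₀D), ?_⟩
    show a * d₀ * a⁻¹ * d₀⁻¹ ∈ π.ker
    rw [MonoidHom.mem_ker, map_mul, map_mul, map_mul, map_inv, map_inv,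
      hπa a ha _ (hDZ d₀ hd₀D)]
    group
  have hkn : Subgroup.normalizer ((π.ker : Subgroup N) : Set N) = ⊤ :=
    Subgroup.normalizer_eq_top_iff.mpr inferInstance
  obtain ⟨c, ⟨hcD, hcs⟩, hc⟩ := Cfsg.Agent.Lib.H1.coprime_centralizer_quotient hcop
    (inf_le_left : D ⊓ π.ker ≤ D)
    (le_nzr_inf D D π.ker Subgroup.le_normalizer (hkn ▸ le_top))
    (le_nzr_inf _ D π.ker hsD (hkn ▸ le_top)) hd₀D hfix
  have hπc : π c ≠ 1 := by
    intro h1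
    apply hd₀C
    have h2 : d₀⁻¹ * c ∈ π.ker := hc.2
    have h3 : c ∈ π.ker := MonoidHom.mem_ker.mpr h1
    have : d₀ = c * (d₀⁻¹ * c)⁻¹ := by group
    rw [this]; exact Subgroup.mul_mem _ h3 (Subgroup.inv_mem _ h2)
  have hsc : s * c = c * s :=
    Subgroup.mem_centralizer_iff.mp hcs s (Subgroup.mem_zpowers s)
  have htc : t * c * t⁻¹ ∈ D := (Subgroup.mem_normalizer_iff.mp htD c).mp hcD
  refine ⟨c⁻¹ * (t * c * t⁻¹), t, ?_, ⟨k, ht2⟩, ?_, ?_⟩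
  · obtain ⟨n, hn⟩ := hDp ⟨c⁻¹ * (t * c * t⁻¹), D.mul_mem (D.inv_mem hcD) htc⟩
    exact ⟨n, by simpa using congrArg Subtype.val hn⟩
  · have e1 : t * (c⁻¹ * (t * c * t⁻¹)) * t⁻¹ = (t * c * t⁻¹)⁻¹ * ((t * t) * c * (t * t)⁻¹) := by
      group
    rw [e1, ← hs, hsc]; group
  · intro h1
    apply hπc
    rw [map_mul, map_inv, map_mul, map_mul, map_inv, hinvZ _ (hDZ c hcD)] at h1
    -- (π c)⁻¹ * (π c)⁻¹ = 1
    have h2 : (π c) ^ 2 = 1 := by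
      have : (π c) ^ 2 = ((π c)⁻¹ * (π c)⁻¹)⁻¹ := by group
      rw [this, h1, inv_one]
    obtain ⟨n, hn⟩ := hDp ⟨c, hcD⟩
    have h3 : (π c) ^ 3 ^ n = 1 := by
      have := congrArg Subtype.val hn
      simp only [Subgroup.coe_pow, Subgroup.coe_one] at this
      rw [← map_pow, this, map_one]
    have h4 : orderOf (π c) ∣ Nat.gcd 2 (3 ^ n) :=
      Nat.dvd_gcd (orderOf_dvd_of_pow_eq_one h2) (orderOf_dvd_of_pow_eq_one h3)
    have h5 : Nat.gcd 2 (3 ^ n) = 1 := Nat.Coprime.pow_right n (by decide)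
    rw [h5, Nat.dvd_one, orderOf_eq_one_iff] at h4
    exact h4

end Cfsg.Agent.Lib.H14.SFour
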