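import Mathlib
import Cfsg.Agent.Lib.H14.SFour5
import Cfsg.Agent.Lib.H1.PGroupBasic

/-!
# Recognising `S₄` as a section: a `2`-group with an inverted `3`-element acting (helper14)
-/

set_option autoImplicit false

open scoped commutatorElement

namespace Cfsg.Agent.Lib.H14.SFour

variable {G : Type*} [Group G]

/-- sections of a quotient are sections -/
theorem involves_of_surj {H : Type*} [Group H] {G₁ G₂ : Type*} [Group G₁] [Group G₂]
    (ψ : G₁ →* G₂) (hψ : Function.Surjective ψ) (h : Cfsg.Involves H G₂) : Cfsg.Involves H G₁ := by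
  obtain ⟨K₂, f, hf⟩ := Cfsg.Agent.Lib.H26.involves_iff.1 h
  exact Cfsg.Agent.Lib.H26.involves_of_le_range ψ K₂ (fun y _ => hψ y) f hf

theorem closure_pair_le_nzr_zpowers [Finite G] {e t : G} (hinv : t * e * t⁻¹ = e⁻¹) :
    Subgroup.closure ({e, t} : Set G) ≤
      Subgroup.normalizer ((Subgroup.zpowers e : Subgroup G) : Set G) := by
  rw [Subgroup.closure_le]
  rintro x (rfl | rfl)
  · exact Subgroup.le_normalizer (Subgroup.mem_zpowers x)
  · apply mem_nzr_of_conj_mem_finite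
    intro y hy
    apply conj_zpowers_mem _ hy
    rw [hinv]; exact Subgroup.inv_mem _ (Subgroup.mem_zpowers e)

/-- the subgroup generated by the squares -/
def sqSub (T : Subgroup G) : Subgroup G := Subgroup.closure {x | ∃ y ∈ T, x = y * y}

theorem sqSub_le (T : Subgroup G) : sqSub T ≤ T := by
  unfold sqSub
  rw [Subgroup.closure_le]
  rintro _ ⟨y, hy, rfl⟩
  exact T.mul_mem hy hy

theorem sq_mem_sqSub {T : Subgroup G} {y : G} (hy : y ∈ T) : y * y ∈ sqSub T :=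
  Subgroup.subset_closure ⟨y, hy, rfl⟩

theorem comm_mem_sqSub {T : Subgroup G} {a b : G} (ha : a ∈ T) (hb : b ∈ T) :
    a * b * a⁻¹ * b⁻¹ ∈ sqSub T := by
  have e1 : a * b * a⁻¹ * b⁻¹ =
      ((a * b) * (a * b)) * ((b⁻¹ * a⁻¹ * b) * (b⁻¹ * a⁻¹ * b)) * (b⁻¹ * b⁻¹) := by group
  rw [e1]
  exact Subgroup.mul_mem _ (Subgroup.mul_mem _ (sq_mem_sqSub (T.mul_mem ha hb))
    (sq_mem_sqSub (T.mul_mem (T.mul_mem (T.inv_mem hb) (T.inv_mem ha)) hb)))
    (sq_mem_sqSub (T.inv_mem hb))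

theorem nzr_le_nzr_sqSub [Finite G] (T : Subgroup G) :
    Subgroup.normalizer (T : Set G) ≤ Subgroup.normalizer ((sqSub T : Subgroup G) : Set G) := by
  intro g hg
  apply mem_nzr_of_conj_mem_finite
  have : sqSub T ≤ (sqSub T).comap (MulAut.conj g).toMonoidHom := by
    unfold sqSub
    rw [Subgroup.closure_le]
    rintro _ ⟨y, hy, rfl⟩
    show (MulAut.conj g) (y * y) ∈ Subgroup.closure {x | ∃ y ∈ T, x = y * y}
    apply Subgroup.subset_closure
    refine ⟨g * y * g⁻¹, (Subgroup.mem_normalizer_iff.mp hg y).mp hy, ?_⟩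
    simp only [MulAut.conj_apply]; group
  intro x hx
  exact this hx

theorem sqSub_ne [Finite G] {T : Subgroup G} (hT : IsPGroup 2 T) (hne : T ≠ ⊥) : sqSub T ≠ T := by
  intro heq
  have h1 : sqSub T ≤ (frattini T).map T.subtype := by
    unfold sqSub
    rw [Subgroup.closure_le]
    rintro _ ⟨y, hy, rfl⟩
    refine ⟨(⟨y, hy⟩ : T) ^ 2, Cfsg.Agent.Lib.H1.isPGroup_pow_mem_frattini hT _, ?_⟩
    simp [pow_two]
  rw [heq] at h1
  have h2 : frattini T = ⊤ := by
    rw [eq_top_iff]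
    intro x _
    obtain ⟨y, hy, hyx⟩ := h1 x.2
    have : y = x := Subtype.ext hyx
    rw [← this]; exact hy
  have h3 : (⊥ : Subgroup T) = ⊤ := frattini_nongenerating (by rw [h2]; simp)
  apply hne
  rw [eq_bot_iff]
  intro x hx
  have : (⟨x, hx⟩ : T) ∈ (⊥ : Subgroup T) := h3 ▸ Subgroup.mem_top _
  rw [Subgroup.mem_bot] at this
  exact (Subgroup.mem_bot).mpr (congrArg Subtype.val this)

/-- the main recognition step, assuming that `e³` centralizes `T` -/
theorem involves_of_pair_aux [Finite G] (T : Subgroup G) (hT : IsPGroup 2 T) (e t : G)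
    (heT : e ∈ Subgroup.normalizer (T : Set G)) (htT : t ∈ Subgroup.normalizer (T : Set G))
    (he3 : ∃ n, e ^ 3 ^ n = 1) (ht2 : ∃ n, t ^ 2 ^ n = 1) (hinv : t * e * t⁻¹ = e⁻¹)
    (he3C : e ^ 3 ∈ Subgroup.centralizer (T : Set G))
    (heC : e ∉ Subgroup.centralizer (T : Set G)) :
    Cfsg.Involves (Equiv.Perm (Fin 4)) G := by
  have : Fact (Nat.Prime 2) := ⟨Nat.prime_two⟩
  obtain ⟨E, hE⟩ : ∃ E, E = Subgroup.zpowers e := ⟨_, rfl⟩
  obtain ⟨Y, hY⟩ : ∃ Y, Y = Subgroup.closure ({e, t} : Set G) := ⟨_, rfl⟩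
  have heY : e ∈ Y := hY ▸ Subgroup.subset_closure (Set.mem_insert _ _)
  have htY : t ∈ Y := hY ▸ Subgroup.subset_closure (Set.mem_insert_of_mem _ rfl)
  have hYT : Y ≤ Subgroup.normalizer (T : Set G) := by
    rw [hY, Subgroup.closure_le]
    rintro x (rfl | rfl)
    · exact heT
    · exact htT
  have hYE : Y ≤ Subgroup.normalizer (E : Set G) := by
    rw [hY, hE]; exact closure_pair_le_nzr_zpowers hinv
  have hEY : E ≤ Y := by rw [hE]; exact Subgroup.zpowers_le.mpr heY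
  have hcop : Cfsg.Agent.Lib.H1.CoprimeAction E T :=
    { normalizes := hEY.trans hYT
      coprime := by
        rw [hE, Nat.card_zpowers]
        obtain ⟨j, hj⟩ := IsPGroup.iff_card.mp hT
        obtain ⟨n, hn⟩ := he3
        rw [hj]
        have h1 : orderOf e ∣ 3 ^ n := orderOf_dvd_of_pow_eq_one hn
        exact Nat.Coprime.coprime_dvd_left h1 (Nat.Coprime.pow n j (by decide))
      solvable := Or.inl (by rw [hE]; infer_instance) }
  obtain ⟨T₁, hT₁⟩ : ∃ T₁, T₁ = ⁅T, E⁆ := ⟨_, rfl⟩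
  have hT₁T : T₁ ≤ T := hT₁ ▸ hcop.commutator_le
  have hT₁E : ⁅T₁, E⁆ = T₁ := by rw [hT₁]; exact Cfsg.Agent.Lib.H1.coprime_commutator_commutator hcop
  have hYT₁ : Y ≤ Subgroup.normalizer (T₁ : Set G) := hT₁ ▸ le_nzr_commutator Y T E hYT hYE
  have hT₁p : IsPGroup 2 T₁ := hT.to_le hT₁T
  have hT₁ne : T₁ ≠ ⊥ := by
    intro hb
    apply heC
    rw [hT₁, Subgroup.commutator_eq_bot_iff_le_centralizer] at hb
    rw [Subgroup.mem_centralizer_iff]
    intro x hx
    exact (Subgroup.mem_centralizer_iff.mp (hb hx) e (hE ▸ Subgroup.mem_zpowers e)).symm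
  obtain ⟨Φ, hΦ⟩ : ∃ Φ, Φ = sqSub T₁ := ⟨_, rfl⟩
  have hΦT₁ : Φ ≤ T₁ := hΦ ▸ sqSub_le T₁
  have hΦne : Φ ≠ T₁ := hΦ ▸ sqSub_ne hT₁p hT₁ne
  obtain ⟨N, hN⟩ : ∃ N, N = Subgroup.normalizer (Φ : Set G) := ⟨_, rfl⟩
  have hT₁N' : Subgroup.normalizer (T₁ : Set G) ≤ N := by rw [hN, hΦ]; exact nzr_le_nzr_sqSub T₁
  have hT₁N : T₁ ≤ N := Subgroup.le_normalizer.trans hT₁N'
  have hYN : Y ≤ N := hYT₁.trans hT₁N'
  have hΦn : (Φ.subgroupOf N).Normal := by rw [hN]; exact Subgroup.normal_in_normalizer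
  obtain ⟨π, hπ⟩ : ∃ π, π = QuotientGroup.mk' (Φ.subgroupOf N) := ⟨_, rfl⟩
  have hπsurj : Function.Surjective π := hπ ▸ QuotientGroup.mk'_surjective _
  have hπ1 : ∀ a : N, (a : G) ∈ Φ → π a = 1 := by
    intro a ha
    rw [hπ, QuotientGroup.mk'_apply, QuotientGroup.eq_one_iff]
    exact Subgroup.mem_subgroupOf.mpr ha
  have hπ1' : ∀ a : N, π a = 1 → (a : G) ∈ Φ := by
    intro a ha
    rw [hπ, QuotientGroup.mk'_apply, QuotientGroup.eq_one_iff] at ha
    exact Subgroup.mem_subgroupOf.mp ha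
  obtain ⟨e', he'⟩ : ∃ e' : N, (e' : G) = e := ⟨⟨e, hYN heY⟩, rfl⟩
  obtain ⟨t', ht'⟩ : ∃ t' : N, (t' : G) = t := ⟨⟨t, hYN htY⟩, rfl⟩
  obtain ⟨V, hV⟩ : ∃ V, V = (T₁.subgroupOf N).map π := ⟨_, rfl⟩
  have hVmem : ∀ a : N, (a : G) ∈ T₁ → π a ∈ V := by
    intro a ha
    rw [hV]; exact Subgroup.mem_map_of_mem π (Subgroup.mem_subgroupOf.mpr ha)
  have hVex : ∀ z ∈ V, ∃ a : N, (a : G) ∈ T₁ ∧ π a = z := by
    intro z hz
    rw [hV] at hz
    obtain ⟨a, ha, rfl⟩ := hz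
    exact ⟨a, Subgroup.mem_subgroupOf.mp ha, rfl⟩
  have heT₁ : ∀ a ∈ T₁, e * a * e⁻¹ ∈ T₁ := fun a ha =>
    (Subgroup.mem_normalizer_iff.mp (hYT₁ heY) a).mp ha
  have htT₁ : ∀ a ∈ T₁, t * a * t⁻¹ ∈ T₁ := fun a ha =>
    (Subgroup.mem_normalizer_iff.mp (hYT₁ htY) a).mp ha
  have hdata : PairData V (π e') (π t') :=
    { comm := by
        intro a ha b hb
        obtain ⟨a', ha', rfl⟩ := hVex a ha
        obtain ⟨b', hb', rfl⟩ := hVex b hb
        have h1 : π (a' * b' * a'⁻¹ * b'⁻¹) = 1 := by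
          apply hπ1
          simp only [Subgroup.coe_mul, Subgroup.coe_inv]
          rw [hΦ]; exact comm_mem_sqSub ha' hb'
        rw [map_mul, map_mul, map_mul, map_inv, map_inv] at h1
        calc π a' * π b' = (π a' * π b' * (π a')⁻¹ * (π b')⁻¹) * (π b' * π a') := by group
          _ = π b' * π a' := by rw [h1, one_mul]
      sq := by
        intro a ha
        obtain ⟨a', ha', rfl⟩ := hVex a ha
        rw [← map_mul]
        apply hπ1
        simp only [Subgroup.coe_mul]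
        rw [hΦ]; exact sq_mem_sqSub ha'
      eV := by
        intro a ha
        obtain ⟨a', ha', rfl⟩ := hVex a ha
        rw [← map_inv, ← map_mul, ← map_mul]
        apply hVmem
        simp only [Subgroup.coe_mul, Subgroup.coe_inv, he']
        exact heT₁ _ ha'
      tV := by
        intro a ha
        obtain ⟨a', ha', rfl⟩ := hVex a ha
        rw [← map_inv, ← map_mul, ← map_mul]
        apply hVmem
        simp only [Subgroup.coe_mul, Subgroup.coe_inv, ht']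
        exact htT₁ _ ha'
      e3 := by
        intro a ha
        obtain ⟨a', ha', rfl⟩ := hVex a ha
        rw [← map_inv, ← map_mul, ← map_mul, ← map_mul, ← map_mul, ← map_mul, ← map_mul]
        congr 1
        apply Subtype.ext
        simp only [Subgroup.coe_mul, Subgroup.coe_inv, he']
        have h1 := Subgroup.mem_centralizer_iff.mp he3C (a' : G) (hT₁T ha')
        have h3 : e * e * e = e ^ 3 := by rw [pow_succ, pow_two]
        calc e * (e * (e * (a' : G) * e⁻¹) * e⁻¹) * e⁻¹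
            = (e * e * e) * (a' : G) * (e * e * e)⁻¹ := by group
          _ = e ^ 3 * (a' : G) * (e ^ 3)⁻¹ := by rw [h3]
          _ = (a' : G) := by rw [← h1, mul_inv_cancel_right]
      inv := by
        rw [← map_inv, ← map_mul, ← map_mul, ← map_inv]
        congr 1
        apply Subtype.ext
        simp only [Subgroup.coe_mul, Subgroup.coe_inv, he', ht']
        exact hinv }
  have he3' : ∃ n, (π e') ^ 3 ^ n = 1 := by
    obtain ⟨n, hn⟩ := he3
    refine ⟨n, ?_⟩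
    rw [← map_pow]
    have : e' ^ 3 ^ n = 1 := Subtype.ext (by rw [Subgroup.coe_pow, he', hn]; rfl)
    rw [this, map_one]
  have ht2' : ∃ n, (π t') ^ 2 ^ n = 1 := by
    obtain ⟨n, hn⟩ := ht2
    refine ⟨n, ?_⟩
    rw [← map_pow]
    have : t' ^ 2 ^ n = 1 := Subtype.ext (by rw [Subgroup.coe_pow, ht', hn]; rfl)
    rw [this, map_one]
  have hex : ∃ x₀ ∈ V, π e' * x₀ * (π e')⁻¹ ≠ x₀ := by
    by_contra hcon
    push Not at hcon
    apply hΦne
    apply le_antisymm hΦT₁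
    rw [← hT₁E, Subgroup.commutator_le]
    intro a ha g hg
    rw [hE] at hg
    obtain ⟨k, rfl⟩ := Subgroup.mem_zpowers_iff.mp hg
    have hc : Commute (π e') (π ⟨a, hT₁N ha⟩) := by
      have := hcon _ (hVmem ⟨a, hT₁N ha⟩ ha)
      show π e' * π ⟨a, hT₁N ha⟩ = π ⟨a, hT₁N ha⟩ * π e'
      calc π e' * π ⟨a, hT₁N ha⟩ = (π e' * π ⟨a, hT₁N ha⟩ * (π e')⁻¹) * π e' := by group
        _ = π ⟨a, hT₁N ha⟩ * π e' := by rw [this]
    have hc' := (hc.zpow_left k).eq
    have h1 : π (⁅(⟨a, hT₁N ha⟩ : N), e' ^ k⁆) = 1 := by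
      rw [commutatorElement_def, map_mul, map_mul, map_mul, map_inv, map_inv, map_zpow, ← hc']
      group
    have h2 := hπ1' _ h1
    simpa [commutatorElement_def, he'] using h2
  obtain ⟨x₀, hx₀V, hx₀⟩ := hex
  have hX := involves_of_pairData hdata he3' ht2' hx₀V hx₀
  have hN' := involves_of_surj π hπsurj hX
  exact Cfsg.Agent.Lib.H26.involves_of_injective N.subtype N.subtype_injective hN'

end Cfsg.Agent.Lib.H14.SFour
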