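import Mathlib
import Cfsg.Agent.Lib.H14.SFour6
import Cfsg.Agent.Lib.H14.SFour1
import Cfsg.Agent.Lib.H1.QdRecog

/-!
# `S₄` is involved iff `S₃` is involved in some `N(T)/C(T)`, `T` a `2`-group (helper14)
-/

set_option autoImplicit false

open scoped Pointwise

namespace Cfsg.Agent.Lib.H14.SFour

variable {G : Type*} [Group G]

/-- a `2`-group `T`, an inverted `3`-element acting nontrivially: `S₄` is involved -/
theorem involves_of_pair [Finite G] (T : Subgroup G) (hT : IsPGroup 2 T) (e t : G)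
    (heT : e ∈ Subgroup.normalizer (T : Set G)) (htT : t ∈ Subgroup.normalizer (T : Set G))
    (he3 : ∃ n, e ^ 3 ^ n = 1) (ht2 : ∃ n, t ^ 2 ^ n = 1) (hinv : t * e * t⁻¹ = e⁻¹)
    (heC : e ∉ Subgroup.centralizer (T : Set G)) :
    Cfsg.Involves (Equiv.Perm (Fin 4)) G := by
  classical
  obtain ⟨n, hn⟩ := he3
  have hex : ∃ k, e ^ 3 ^ k ∈ Subgroup.centralizer (T : Set G) :=
    ⟨n, by rw [hn]; exact Subgroup.one_mem _⟩
  have hk : e ^ 3 ^ (Nat.find hex) ∈ Subgroup.centralizer (T : Set G) := Nat.find_spec hex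
  have hk0 : Nat.find hex ≠ 0 := by
    intro h0
    apply heC
    rw [h0] at hk
    simpa using hk
  obtain ⟨j, hj⟩ := Nat.exists_eq_succ_of_ne_zero hk0
  have he₁C : e ^ 3 ^ j ∉ Subgroup.centralizer (T : Set G) :=
    Nat.find_min hex (by omega : j < Nat.find hex)
  have he₁3 : (e ^ 3 ^ j) ^ 3 ∈ Subgroup.centralizer (T : Set G) := by
    rw [← pow_mul, ← pow_succ, ← Nat.succ_eq_add_one, ← hj]; exact hk
  apply involves_of_pair_aux T hT (e ^ 3 ^ j) t (Subgroup.pow_mem _ heT _) htT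
    ⟨n, by rw [← pow_mul, mul_comm, pow_mul, hn, one_pow]⟩ ht2 ?_ he₁3 he₁C
  have e1 : t * e ^ 3 ^ j * t⁻¹ = (t * e * t⁻¹) ^ 3 ^ j := by
    have := map_pow (MulAut.conj t) e (3 ^ j)
    simp only [MulAut.conj_apply] at this
    exact this
  rw [e1, hinv, inv_pow]

/-- the forward direction, abstractly -/
theorem exists_sub_of_involves [Finite G] {A B : Type*} [Group A] [Group B] (p : ℕ)
    [Fact p.Prime] (g : A →* B) (hg : Function.Surjective g) (hkp : IsPGroup p g.ker)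
    (hkc : Subgroup.centralizer (g.ker : Set A) ≤ g.ker) (h : Cfsg.Involves A G) :
    ∃ T : Subgroup G, IsPGroup p T ∧ Cfsg.Involves B
      (↥(Subgroup.normalizer (T : Set G)) ⧸
        (Subgroup.centralizer (T : Set G)).subgroupOf (Subgroup.normalizer (T : Set G))) := by
  obtain ⟨K, f, hf⟩ := Cfsg.Agent.Lib.H26.involves_iff.mp h
  obtain ⟨W, hW⟩ : ∃ W : Subgroup K, W = (g.comp f).ker := ⟨_, rfl⟩
  have hWn : W.Normal := hW ▸ inferInstance
  have hWmem : ∀ k : K, k ∈ W ↔ g (f k) = 1 := by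
    intro k; rw [hW, MonoidHom.mem_ker]; rfl
  have P : Sylow p W := default
  obtain ⟨P₁, hP₁⟩ : ∃ P₁ : Subgroup K, P₁ = (P : Subgroup W).map W.subtype := ⟨_, rfl⟩
  obtain ⟨T, hTdef⟩ : ∃ T : Subgroup G, T = P₁.map K.subtype := ⟨_, rfl⟩
  have hTp : IsPGroup p T := by
    rw [hTdef, hP₁]; exact (P.2.map _).map _
  have hfr : Subgroup.normalizer (P₁ : Set K) ⊔ W = ⊤ := by
    rw [hP₁]; exact Sylow.normalizer_sup_eq_top P
  obtain ⟨S, hS⟩ : ∃ S : Subgroup K, S = Subgroup.normalizer (P₁ : Set K) := ⟨_, rfl⟩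
  have hST : ∀ s : S, ((s : K) : G) ∈ Subgroup.normalizer (T : Set G) := by
    intro s
    rw [hTdef]
    apply Subgroup.le_normalizer_map K.subtype
    exact ⟨(s : K), hS ▸ s.2, rfl⟩
  -- the image of `P₁` is the kernel of `g`
  have himg : ∀ a ∈ g.ker, ∃ y ∈ P₁, f y = a := by
    intro a ha
    have hfW : ∀ w : W, f (w : K) ∈ g.ker := fun w => (hWmem w).mp w.2
    obtain ⟨fW, hfWdef⟩ : ∃ fW : W →* g.ker, fW = (f.comp W.subtype).codRestrict g.ker hfW :=
      ⟨_, rfl⟩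
    have hfWs : Function.Surjective fW := by
      rintro ⟨b, hb⟩
      obtain ⟨k, rfl⟩ := hf b
      refine ⟨⟨k, (hWmem k).mpr hb⟩, ?_⟩
      rw [hfWdef]; rfl
    have htop : ((P.mapSurjective hfWs : Sylow p g.ker) : Subgroup g.ker) = ⊤ :=
      ((P.mapSurjective hfWs).is_maximal' (hkp.to_subgroup ⊤) le_top).symm
    have hmem : (⟨a, ha⟩ : g.ker) ∈ ((P.mapSurjective hfWs : Sylow p g.ker) : Subgroup g.ker) :=
      htop ▸ Subgroup.mem_top _
    rw [Sylow.coe_mapSurjective] at hmem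
    obtain ⟨w, hw, hwa⟩ := hmem
    refine ⟨(w : K), hP₁ ▸ ⟨w, hw, rfl⟩, ?_⟩
    have := congrArg Subtype.val hwa
    rw [hfWdef] at this
    exact this
  obtain ⟨ι, hι⟩ : ∃ ι : S →* ↥(Subgroup.normalizer (T : Set G)),
      ι = (K.subtype.comp S.subtype).codRestrict (Subgroup.normalizer (T : Set G)) hST := ⟨_, rfl⟩
  refine ⟨T, hTp, ?_⟩
  apply Cfsg.Agent.Lib.H1.QdRecog.involves_of_hom_pair
    ((QuotientGroup.mk' ((Subgroup.centralizer (T : Set G)).subgroupOf
      (Subgroup.normalizer (T : Set G)))).comp ι)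
    ((g.comp f).comp S.subtype)
  · intro s hs
    rw [MonoidHom.mem_ker, MonoidHom.comp_apply, QuotientGroup.mk'_apply,
      QuotientGroup.eq_one_iff, Subgroup.mem_subgroupOf] at hs
    have hs' : ((s : K) : G) ∈ Subgroup.centralizer (T : Set G) := by
      rw [hι] at hs; exact hs
    rw [MonoidHom.mem_ker]
    show g (f (s : K)) = 1
    rw [← MonoidHom.mem_ker]
    apply hkc
    rw [Subgroup.mem_centralizer_iff]
    intro a ha
    obtain ⟨y, hy, rfl⟩ := himg a ha
    have hyT : ((y : K) : G) ∈ T := hTdef ▸ ⟨y, hy, rfl⟩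
    have h1 := Subgroup.mem_centralizer_iff.mp hs' _ hyT
    have h2 : y * (s : K) = (s : K) * y := Subtype.ext h1
    rw [← map_mul, ← map_mul, h2]
  · intro b
    obtain ⟨a, rfl⟩ := hg b
    obtain ⟨k, rfl⟩ := hf a
    have hk : k ∈ Subgroup.normalizer (P₁ : Set K) ⊔ W := hfr ▸ Subgroup.mem_top k
    have hmul : (↑(Subgroup.normalizer (P₁ : Set K) ⊔ W) : Set K) =
        (Subgroup.normalizer (P₁ : Set K) : Set K) * (W : Set K) := Subgroup.mul_normal _ W
    have hk' : k ∈ (Subgroup.normalizer (P₁ : Set K) : Set K) * (W : Set K) := hmul ▸ hk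
    obtain ⟨s, hs, w, hw, rfl⟩ := Set.mem_mul.mp hk'
    refine ⟨⟨s, hS ▸ hs⟩, ?_⟩
    show g (f s) = g (f (s * w))
    rw [map_mul, map_mul, (hWmem w).mp hw, mul_one]

theorem perm3_facts : (finRotate 3 : Equiv.Perm (Fin 3)) ^ 3 ^ 1 = 1 ∧
    (finRotate 3 : Equiv.Perm (Fin 3)) ≠ 1 ∧
    (Equiv.swap (0 : Fin 3) 1) * (finRotate 3) * (Equiv.swap (0 : Fin 3) 1)⁻¹ = (finRotate 3)⁻¹ := by
  decide

/-- **`S₄` is involved in `G` iff `S₃` is involved in `N(T)/C(T)` for some `2`-subgroup `T`.** -/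
theorem sfour_involved_iff [Finite G] : Cfsg.Involves (Equiv.Perm (Fin 4)) G ↔
    ∃ T : Subgroup G, IsPGroup 2 ↥T ∧ Cfsg.Involves (Equiv.Perm (Fin 3))
      (↥(Subgroup.normalizer (T : Set G)) ⧸
        (Subgroup.centralizer (T : Set G)).subgroupOf (Subgroup.normalizer (T : Set G))) := by
  have : Fact (Nat.Prime 2) := ⟨Nat.prime_two⟩
  constructor
  · intro h
    exact exists_sub_of_involves 2 sfourToSthree sfourToSthree_surjective ker_isPGroup
      centralizer_ker_le h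
  · rintro ⟨T, hT, h⟩
    obtain ⟨Kb, f, hf⟩ := Cfsg.Agent.Lib.H26.involves_iff.mp h
    obtain ⟨e₁, t₁, he₁3, ht₁2, hinv₁, he₁f⟩ := exists_pair_of_map_pair f hf (finRotate 3)
      (Equiv.swap (0 : Fin 3) 1) ⟨1, perm3_facts.1⟩ perm3_facts.2.1 perm3_facts.2.2
    have he₁1 : (e₁ : ↥(Subgroup.normalizer (T : Set G)) ⧸
        (Subgroup.centralizer (T : Set G)).subgroupOf (Subgroup.normalizer (T : Set G))) ≠ 1 := by
      intro h1
      apply he₁f
      have : e₁ = 1 := Subtype.ext h1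
      rw [this, map_one]
    obtain ⟨n, hn⟩ := he₁3
    obtain ⟨e₂, t₂, he₂3, ht₂2, hinv₂, he₂C⟩ := exists_pair_of_map_pair
      (QuotientGroup.mk' ((Subgroup.centralizer (T : Set G)).subgroupOf
        (Subgroup.normalizer (T : Set G)))) (QuotientGroup.mk'_surjective _)
      (e₁ : ↥(Subgroup.normalizer (T : Set G)) ⧸
        (Subgroup.centralizer (T : Set G)).subgroupOf (Subgroup.normalizer (T : Set G)))
      (t₁ : ↥(Subgroup.normalizer (T : Set G)) ⧸
        (Subgroup.centralizer (T : Set G)).subgroupOf (Subgroup.normalizer (T : Set G)))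
      ⟨n, by have := congrArg Subtype.val hn; simpa using this⟩ he₁1
      (by have := congrArg Subtype.val hinv₁; simpa using this)
    obtain ⟨n₂, hn₂⟩ := he₂3
    obtain ⟨k₂, hk₂⟩ := ht₂2
    apply involves_of_pair T hT (e₂ : G) (t₂ : G) e₂.2 t₂.2
      ⟨n₂, by have := congrArg Subtype.val hn₂; simpa using this⟩
      ⟨k₂, by have := congrArg Subtype.val hk₂; simpa using this⟩
      (by have := congrArg Subtype.val hinv₂; simpa using this)
    intro hC
    apply he₂C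
    rw [QuotientGroup.mk'_apply, QuotientGroup.eq_one_iff, Subgroup.mem_subgroupOf]
    exact hC

end Cfsg.Agent.Lib.H14.SFour
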