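import Cfsg.Agent.Lib.H14.AschM83Bc

/-!
# S5630 / M8.3, piece M83-B: tensor basis from commuting systems of matrix units
-/

set_option autoImplicit false

namespace Cfsg.Agent.Lib.H14.Asch

open Cfsg.Agent.Lib.H16.Asch
open scoped Matrix

variable {F : Type*} [Field F] {n m t : ℕ}

/-- the entries of a position embedding -/
theorem posEmb_apply' (i : Fin t) (a : Matrix (Fin m) (Fin m) F) (y x : Fin t → Fin m) :
    posEmb i a y x = if (∀ j ∈ Finset.univ.erase i, y j = x j) then a (y i) (x i) else 0 := by
  unfold posEmb pureT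
  rw [← Finset.mul_prod_erase Finset.univ _ (Finset.mem_univ i), Function.update_self]
  have h1 : ∏ j ∈ Finset.univ.erase i,
      (Function.update (fun _ => (1 : Matrix (Fin m) (Fin m) F)) i a) j (y j) (x j) =
      ∏ j ∈ Finset.univ.erase i, (if y j = x j then (1 : F) else 0) := by
    refine Finset.prod_congr rfl fun j hj => ?_
    rw [Function.update_of_ne (Finset.ne_of_mem_erase hj), Matrix.one_apply]
  rw [h1, Finset.prod_boole]
  split_ifs <;> simp

/-- summing against a column of a position embedding -/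
theorem sum_posEmb_smul {V : Type*} [AddCommGroup V] [Module F V] (i : Fin t)
    (a : Matrix (Fin m) (Fin m) F) (x : Fin t → Fin m) (w : (Fin t → Fin m) → V) :
    ∑ y, posEmb i a y x • w y = ∑ a' : Fin m, a a' (x i) • w (Function.update x i a') := by
  have hinj : Function.Injective (fun a' : Fin m => Function.update x i a') := by
    intro a1 a2 h
    have := congrFun h i
    simpa using this
  have himg : (Finset.univ.image fun a' : Fin m => Function.update x i a') =
      Finset.univ.filter fun y : Fin t → Fin m => ∀ j ∈ Finset.univ.erase i, y j = x j := by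
    ext y
    simp only [Finset.mem_image, Finset.mem_univ, true_and, Finset.mem_filter, Finset.mem_erase,
      ne_eq, and_true]
    constructor
    · rintro ⟨a', rfl⟩ j hj
      rw [Function.update_of_ne hj]
    · intro h
      refine ⟨y i, ?_⟩
      funext j
      by_cases hj : j = i
      · subst hj; simp
      · rw [Function.update_of_ne hj, h j hj]
  have h2 : ∑ a' : Fin m, a a' (x i) • w (Function.update x i a') =
      ∑ y ∈ Finset.univ.image (fun a' : Fin m => Function.update x i a'),
        a (y i) (x i) • w y := by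
    rw [Finset.sum_image (fun a1 _ a2 _ h => hinj h)]
    refine Finset.sum_congr rfl fun a' _ => ?_
    rw [Function.update_self]
  rw [h2, himg, Finset.sum_filter]
  refine Finset.sum_congr rfl fun y _ => ?_
  rw [posEmb_apply']
  split_ifs
  · rfl
  · rw [zero_smul]

/-- **M83-B** tensor basis from commuting systems of matrix units -/
theorem exists_tensor_basis {m t : ℕ} (hn : 0 < n) (hm : 0 < m) (ht : 0 < t)
    (φ : Fin t → (Matrix (Fin m) (Fin m) F →ₐ[F] Matrix (Fin n) (Fin n) F))
    (hcomm : ∀ i j, i ≠ j → ∀ a b, φ i a * φ j b = φ j b * φ i a)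
    (hirr : ∀ W : Submodule F (Fin n → F),
      (∀ i a, W.map (Matrix.toLin' (φ i a)) ≤ W) → W = ⊥ ∨ W = ⊤) :
    ∃ (e : Fin n ≃ (Fin t → Fin m)) (Q : GL (Fin n) F), ∀ i a,
      φ i a = (Q : Matrix (Fin n) (Fin n) F) * Matrix.reindex e.symm e.symm (posEmb i a) *
        ((Q⁻¹ : GL (Fin n) F) : Matrix (Fin n) (Fin n) F) := by
  haveI : NeZero m := ⟨hm.ne'⟩
  let S : CommSys F n m t := ⟨φ, hcomm⟩
  obtain ⟨v0, hne, hv0⟩ := S.exists_v0 hn
  have hli := S.linearIndependent_vv hne hv0
  have hsp := S.span_vv_eq_top hne hv0 hirr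
  let b : Module.Basis (Fin t → Fin m) F (Fin n → F) := Module.Basis.mk hli hsp.ge
  have hcard : Fintype.card (Fin n) = Fintype.card (Fin t → Fin m) := by
    have h1 := Module.finrank_eq_card_basis b
    rw [Module.finrank_fin_fun] at h1
    rw [Fintype.card_fin]
    exact h1
  let e : Fin n ≃ (Fin t → Fin m) := Fintype.equivOfCardEq hcard
  let Qm : Matrix (Fin n) (Fin n) F := Matrix.of fun r k => S.vv v0 (e k) r
  have hQ : IsUnit Qm := by
    rw [← Matrix.linearIndependent_cols_iff_isUnit]
    have : Qm.col = fun k => S.vv v0 (e k) := by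
      funext k r
      rfl
    rw [this]
    exact hli.comp e e.injective
  refine ⟨e, hQ.unit, fun i a => ?_⟩
  rw [Units.eq_mul_inv_iff_mul_eq, IsUnit.unit_spec]
  refine Matrix.ext fun r k => ?_
  have hL : (φ i a * Qm) r k = (S.φ i a *ᵥ S.vv v0 (e k)) r := by
    rw [Matrix.mul_apply]
    rfl
  have hR : (Qm * Matrix.reindex e.symm e.symm (posEmb i a)) r k =
      (∑ y, posEmb i a y (e k) • S.vv v0 y) r := by
    rw [Matrix.mul_apply, Finset.sum_apply, ← Equiv.sum_comp e]
    refine Finset.sum_congr rfl fun l _ => ?_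
    show S.vv v0 (e l) r * posEmb i a (e l) (e k) = _
    rw [Pi.smul_apply, smul_eq_mul, mul_comm]
  rw [hL, hR, S.phi_mulVec_vv, sum_posEmb_smul]

end Cfsg.Agent.Lib.H14.Asch
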