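import Mathlib

/-!
# S5630 / M8, piece M8-O: indexing the `H`-conjugates of a subgroup
-/

set_option autoImplicit false

namespace Cfsg.Agent.Lib.H14.Asch

theorem map_conj_map_conj {G : Type*} [Group G] (T : Subgroup G) (a b : G) :
    (T.map (MulAut.conj a).toMonoidHom).map (MulAut.conj b).toMonoidHom =
      T.map (MulAut.conj (b * a)).toMonoidHom := by
  rw [Subgroup.map_map]
  congr 1
  ext x
  simp [MulAut.conj_apply, mul_assoc]

/-- **M8-O**.  The `H`-conjugates of a subgroup `T` of a finite group, indexed injectively by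
`Fin t`, with the permutation action of `H` on the index set. -/
theorem exists_orbit_indexing {G : Type*} [Group G] [Finite G] (H T : Subgroup G) :
    ∃ (t : ℕ) (S : Fin t → Subgroup G), 0 < t ∧ Function.Injective S ∧
      (∀ i, ∃ h ∈ H, S i = T.map (MulAut.conj h).toMonoidHom) ∧
      (∀ h ∈ H, ∃ i, S i = T.map (MulAut.conj h).toMonoidHom) ∧
      (∀ h ∈ H, ∃ σ : Equiv.Perm (Fin t), ∀ i, (S i).map (MulAut.conj h).toMonoidHom = S (σ i)) ∧
      (∀ i j, ∃ h ∈ H, (S i).map (MulAut.conj h).toMonoidHom = S j) := by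
  classical
  set c : G → Subgroup G := fun h => T.map (MulAut.conj h).toMonoidHom with hc
  set O : Set (Subgroup G) := Set.range fun h : H => c (h : G) with hO
  have hOfin : Finite O := Set.finite_range _
  have hOne : Nonempty O := ⟨⟨c ((1 : H) : G), ⟨1, rfl⟩⟩⟩
  let e : O ≃ Fin (Nat.card O) := Finite.equivFin O
  have hS1 : ∀ i, ∃ h ∈ H, (e.symm i).1 = c h := by
    intro i
    obtain ⟨h, hh⟩ := (e.symm i).2
    exact ⟨h, h.2, hh.symm⟩
  have hS2 : ∀ h ∈ H, ∃ i, (e.symm i).1 = c h := by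
    intro h hh
    refine ⟨e ⟨c h, ⟨⟨h, hh⟩, rfl⟩⟩, ?_⟩
    rw [Equiv.symm_apply_apply]
  refine ⟨Nat.card O, fun i => (e.symm i).1, Nat.card_pos, ?_, hS1, hS2, ?_, ?_⟩
  · intro i j hij
    exact e.symm.injective (Subtype.ext hij)
  · intro h hh
    have hmaps : ∀ X : O, (X.1.map (MulAut.conj h).toMonoidHom) ∈ O := by
      rintro ⟨_, ⟨h', rfl⟩⟩
      refine ⟨⟨h * h', H.mul_mem hh h'.2⟩, ?_⟩
      show c (h * h') = (c (h' : G)).map (MulAut.conj h).toMonoidHom
      rw [hc]
      exact (map_conj_map_conj T h' h).symm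
    let f : O → O := fun X => ⟨X.1.map (MulAut.conj h).toMonoidHom, hmaps X⟩
    have hfinj : Function.Injective f := by
      intro X Y hXY
      have h1 : X.1.map (MulAut.conj h).toMonoidHom = Y.1.map (MulAut.conj h).toMonoidHom :=
        congrArg Subtype.val hXY
      exact Subtype.ext (Subgroup.map_injective (MulAut.conj h).injective h1)
    have hfbij : Function.Bijective f := Finite.injective_iff_bijective.mp hfinj
    refine ⟨e.symm.trans ((Equiv.ofBijective f hfbij).trans e), fun i => ?_⟩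
    simp only [Equiv.trans_apply, Equiv.ofBijective_apply, Equiv.symm_apply_apply]
    rfl
  · intro i j
    obtain ⟨hi, hhi, ei⟩ := hS1 i
    obtain ⟨hj, hhj, ej⟩ := hS1 j
    refine ⟨hj * hi⁻¹, H.mul_mem hhj (H.inv_mem hhi), ?_⟩
    show ((e.symm i).1).map (MulAut.conj (hj * hi⁻¹)).toMonoidHom = (e.symm j).1
    rw [ei, ej, hc]
    show (T.map (MulAut.conj hi).toMonoidHom).map (MulAut.conj (hj * hi⁻¹)).toMonoidHom = _
    rw [map_conj_map_conj, inv_mul_cancel_right]

end Cfsg.Agent.Lib.H14.Asch
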