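import Mathlib

/-!
# S5630 / M8, piece M8-Q: a minimality criterion for simplicity of a section
-/

set_option autoImplicit false

namespace Cfsg.Agent.Lib.H14.Asch

/-- **M8-Q**.  Correspondence theorem in the form needed: if every subgroup `K` of `L` that
contains `L ⊓ Z` and is normalised by `L` is either inside `Z` or all of `L`, and `L` is not inside
`Z`, then `L / (L ∩ Z)` is a simple group. -/
theorem isSimpleGroup_quotient_of_minimal {G : Type*} [Group G] (L Z : Subgroup G) [Z.Normal]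
    (hne : ¬ L ≤ Z)
    (h : ∀ K : Subgroup G, K ≤ L → L ⊓ Z ≤ K → (∀ x ∈ L, ∀ k ∈ K, x * k * x⁻¹ ∈ K) →
      K ≤ Z ∨ K = L) :
    IsSimpleGroup (L ⧸ Z.subgroupOf L) := by
  have hnt : Nontrivial (L ⧸ Z.subgroupOf L) := by
    obtain ⟨x, hxL, hxZ⟩ : ∃ x, x ∈ L ∧ x ∉ Z := by
      by_contra hcon
      apply hne
      intro x hx
      by_contra hxZ
      exact hcon ⟨x, hx, hxZ⟩
    refine ⟨⟨(QuotientGroup.mk ⟨x, hxL⟩ : L ⧸ Z.subgroupOf L), 1, ?_⟩⟩
    intro h1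
    rw [QuotientGroup.eq_one_iff, Subgroup.mem_subgroupOf] at h1
    exact hxZ h1
  refine { toNontrivial := hnt, eq_bot_or_eq_top_of_normal := ?_ }
  intro Kb hKb
  set K' : Subgroup L := Kb.comap (QuotientGroup.mk' (Z.subgroupOf L)) with hK'
  have hK'n : K'.Normal := hKb.comap _
  have hmem : ∀ y : L, y ∈ K' ↔ (QuotientGroup.mk y : L ⧸ Z.subgroupOf L) ∈ Kb := fun y => Iff.rfl
  have hA : L ⊓ Z ≤ K'.map L.subtype := by
    intro x hx
    refine ⟨⟨x, hx.1⟩, ?_, rfl⟩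
    rw [SetLike.mem_coe, hmem]
    have : (QuotientGroup.mk ⟨x, hx.1⟩ : L ⧸ Z.subgroupOf L) = 1 := by
      rw [QuotientGroup.eq_one_iff, Subgroup.mem_subgroupOf]
      exact hx.2
    rw [this]
    exact Kb.one_mem
  have hB : ∀ x ∈ L, ∀ k ∈ K'.map L.subtype, x * k * x⁻¹ ∈ K'.map L.subtype := by
    rintro x hx _ ⟨k, hk, rfl⟩
    exact ⟨⟨x, hx⟩ * k * ⟨x, hx⟩⁻¹, hK'n.conj_mem k hk ⟨x, hx⟩, rfl⟩
  rcases h (K'.map L.subtype) (Subgroup.map_subtype_le K') hA hB with h1 | h1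
  · left
    rw [eq_bot_iff]
    intro yb hyb
    obtain ⟨y, rfl⟩ := QuotientGroup.mk_surjective yb
    rw [Subgroup.mem_bot, QuotientGroup.eq_one_iff, Subgroup.mem_subgroupOf]
    apply h1
    exact ⟨y, (hmem y).2 hyb, rfl⟩
  · right
    rw [eq_top_iff]
    intro yb _
    obtain ⟨y, rfl⟩ := QuotientGroup.mk_surjective yb
    have hy : (y : G) ∈ K'.map L.subtype := by rw [h1]; exact y.2
    obtain ⟨k, hk, hky⟩ := hy
    have : k = y := Subtype.ext hky
    rw [this] at hk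
    exact (hmem y).1 hk

end Cfsg.Agent.Lib.H14.Asch
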