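import Mathlib
import Cfsg.Prelude.Def_OddOrderLocal
import Cfsg.Prelude.Def_CaseTheorems
import Cfsg.Prelude.Def_PLocal
import Cfsg.Agent.Lib.H19.R2Defs

/-!
# S3888 piece B5 (helper14): a maximal subgroup `M` with `M' = γ₃(G)`.
-/

set_option autoImplicit false

namespace Cfsg.Agent.Lib.H14.R2

open Cfsg Cfsg.Agent.Lib.H19.R2
open scoped commutatorElement

universe u

section gen

variable {G : Type*} [Group G]

/-- the elements whose commutators with everything lie in the normal subgroup `N` -/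
def b5Cen (N : Subgroup G) [hN : N.Normal] : Subgroup G where
  carrier := {d | ∀ g : G, ⁅d, g⁆ ∈ N}
  one_mem' := by
    intro g
    rw [commutatorElement_one_left]; exact N.one_mem
  mul_mem' := by
    intro d₁ d₂ h₁ h₂ g
    have e : ⁅d₁ * d₂, g⁆ = d₁ * ⁅d₂, g⁆ * d₁⁻¹ * ⁅d₁, g⁆ := by
      simp only [commutatorElement_def]; group
    rw [e]
    exact N.mul_mem (hN.conj_mem _ (h₂ g) d₁) (h₁ g)
  inv_mem' := by
    intro d h g
    rw [commutatorElement_inv_left]
    have h1 : ⁅g, d⁆ ∈ N := by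
      rw [← commutatorElement_inv]; exact N.inv_mem (h g)
    have := hN.conj_mem _ h1 d⁻¹
    rwa [inv_inv] at this

theorem mem_b5Cen (N : Subgroup G) [N.Normal] (d : G) : d ∈ b5Cen N ↔ ∀ g : G, ⁅d, g⁆ ∈ N :=
  Iff.rfl

/-- the elements `g` with `⁅d, g⁆ ∈ N` -/
def b5Cen1 (N : Subgroup G) [hN : N.Normal] (d : G) : Subgroup G where
  carrier := {g | ⁅d, g⁆ ∈ N}
  one_mem' := by
    show ⁅d, (1 : G)⁆ ∈ N
    rw [commutatorElement_one_right]; exact N.one_mem
  mul_mem' := by
    intro g₁ g₂ h₁ h₂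
    show ⁅d, g₁ * g₂⁆ ∈ N
    have e : ⁅d, g₁ * g₂⁆ = ⁅d, g₁⁆ * (g₁ * ⁅d, g₂⁆ * g₁⁻¹) := by
      simp only [commutatorElement_def]; group
    rw [e]
    exact N.mul_mem h₁ (hN.conj_mem _ h₂ g₁)
  inv_mem' := by
    intro g h
    show ⁅d, g⁻¹⁆ ∈ N
    rw [commutatorElement_inv_right]
    have h1 : ⁅g, d⁆ ∈ N := by
      rw [← commutatorElement_inv]; exact N.inv_mem h
    have := hN.conj_mem _ h1 g⁻¹
    rwa [inv_inv] at this

theorem b5_comm_mem_of_gen (N : Subgroup G) [N.Normal] (d : G) (S : Set G)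
    (hS : Subgroup.closure S = ⊤) (h : ∀ s ∈ S, ⁅d, s⁆ ∈ N) (g : G) : ⁅d, g⁆ ∈ N := by
  have h1 : Subgroup.closure S ≤ b5Cen1 N d := (Subgroup.closure_le _).mpr h
  rw [hS] at h1
  exact h1 (Subgroup.mem_top g)

/-- in a nilpotent group, a term of the lower central series equal to the next one is trivial -/
theorem b5_lcs_eq_bot [Group.IsNilpotent G] (n : ℕ)
    (h : (⊤ : Subgroup G).lowerCentralSeries n ≤ (⊤ : Subgroup G).lowerCentralSeries (n + 1)) :
    (⊤ : Subgroup G).lowerCentralSeries n = ⊥ := by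
  have key : ∀ k : ℕ, (⊤ : Subgroup G).lowerCentralSeries n ≤
      (⊤ : Subgroup G).lowerCentralSeries (n + k) := by
    intro k
    induction k with
    | zero => exact le_rfl
    | succ k ih =>
      refine h.trans ?_
      rw [Subgroup.lowerCentralSeries_succ, ← add_assoc, Subgroup.lowerCentralSeries_succ]
      exact Subgroup.commutator_mono ih le_rfl
  obtain ⟨m, hm⟩ := Subgroup.nilpotent_iff_lowerCentralSeries.mp (inferInstance : Group.IsNilpotent G)
  rw [eq_bot_iff, ← hm]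
  exact (key m).trans (Subgroup.lowerCentralSeries_antitone _ (Nat.le_add_left m n))

end gen

variable {p : ℕ} [Fact p.Prime] {G : Type u} [Group G] [Finite G]

theorem b5_card_lt {H K : Subgroup G} (h : H < K) : Nat.card H < Nat.card K := by
  refine lt_of_le_of_ne (Subgroup.card_le_of_le h.le) ?_
  intro he
  exact h.ne (Subgroup.eq_of_le_of_card_ge h.le he.ge)

/-- a proper normal subgroup of a `p`-group lies in a subgroup of index `p` -/
theorem b5_exists_index_p (hG : IsPGroup p G) (M₀ : Subgroup G) [M₀.Normal] (hM₀ : M₀ ≠ ⊤) :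
    ∃ M : Subgroup G, M₀ ≤ M ∧ M.index = p := by
  have hp : p.Prime := Fact.out
  have hQ : IsPGroup p (G ⧸ M₀) := hG.to_quotient M₀
  obtain ⟨k, hk⟩ := IsPGroup.iff_card.mp hQ
  have hk0 : k ≠ 0 := by
    intro h0
    rw [h0, pow_zero, ← Subgroup.index_eq_card, Subgroup.index_eq_one] at hk
    exact hM₀ hk
  obtain ⟨K, hK⟩ := Sylow.exists_subgroup_card_pow_prime (G := G ⧸ M₀) p
    (n := k - 1) (by rw [hk]; exact pow_dvd_pow p (Nat.sub_le k 1))
  refine ⟨K.comap (QuotientGroup.mk' M₀), ?_, ?_⟩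
  · intro x hx
    rw [Subgroup.mem_comap, QuotientGroup.mk'_apply, (QuotientGroup.eq_one_iff x).mpr hx]
    exact K.one_mem
  · rw [Subgroup.index_comap_of_surjective _ (QuotientGroup.mk'_surjective M₀)]
    have h1 : Nat.card K * K.index = Nat.card (G ⧸ M₀) := Subgroup.card_mul_index K
    rw [hK, hk] at h1
    have h2 : p ^ k = p ^ (k - 1) * p := by
      rw [← pow_succ]; congr 1; omega
    rw [h2] at h1
    exact Nat.eq_of_mul_eq_mul_left (pow_pos hp.pos _) h1

/-- B5. -/
theorem mnm_exists_max (hG : IsPGroup p G) {u v : G} (hg : Gam p G u v)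
    (h4 : Nat.card ↥((⊤ : Subgroup G).lowerCentralSeries 2) ≤
      p * Nat.card ↥((⊤ : Subgroup G).lowerCentralSeries 3))
    (hne : (⊤ : Subgroup G).lowerCentralSeries 2 ≠ ⊥) :
    ∃ M : Subgroup G, M.index = p ∧ ⁅M, M⁆ = (⊤ : Subgroup G).lowerCentralSeries 2 := by
  have hp : p.Prime := Fact.out
  have hnil : Group.IsNilpotent G := hG.isNilpotent
  set γ₃ := (⊤ : Subgroup G).lowerCentralSeries 2 with hγ₃
  set γ₄ := (⊤ : Subgroup G).lowerCentralSeries 3 with hγ₄
  set c := ⁅u, v⁆ with hc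
  have hG' : commutator G = Subgroup.zpowers c ⊔ γ₃ := hg.comm
  have h34 : γ₄ = ⁅γ₃, (⊤ : Subgroup G)⁆ := Subgroup.lowerCentralSeries_succ _ 2
  have h23 : γ₃ = ⁅commutator G, (⊤ : Subgroup G)⁆ := by
    rw [hγ₃, Subgroup.lowerCentralSeries_succ, Subgroup.top_lowerCentralSeries_one]
  have hγ₃G' : γ₃ ≤ commutator G := by rw [hG']; exact le_sup_right
  have hcG' : c ∈ commutator G := by
    rw [hG']; exact le_sup_left (a := Subgroup.zpowers c) (Subgroup.mem_zpowers c)
  -- Step A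
  have hA : ∃ w : G, (w = u ∨ w = v) ∧ ⁅c, w⁆ ∉ γ₄ := by
    by_contra hcon
    push Not at hcon
    have hu : ⁅c, u⁆ ∈ γ₄ := hcon u (Or.inl rfl)
    have hv : ⁅c, v⁆ ∈ γ₄ := hcon v (Or.inr rfl)
    have hcC : c ∈ b5Cen γ₄ := by
      intro g
      apply b5_comm_mem_of_gen γ₄ c {u, v} hg.gen
      rintro s (rfl | hs)
      · exact hu
      · rw [Set.mem_singleton_iff] at hs; rw [hs]; exact hv
    have hγC : γ₃ ≤ b5Cen γ₄ := by
      intro d hd g
      rw [h34]
      exact Subgroup.commutator_mem_commutator hd (Subgroup.mem_top g)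
    have hle : commutator G ≤ b5Cen γ₄ := by
      rw [hG']
      exact sup_le ((Subgroup.zpowers_le).mpr hcC) hγC
    have h1 : γ₃ ≤ γ₄ := by
      rw [h23, Subgroup.commutator_le]
      intro d hd g _
      exact hle hd g
    exact hne (b5_lcs_eq_bot 2 h1)
  obtain ⟨w, hw, hcw⟩ := hA
  -- Step B
  set M₀ := Subgroup.zpowers w ⊔ commutator G with hM₀
  have hM₀n : M₀.Normal := by
    have : commutator G ≤ M₀ := le_sup_right
    constructor
    intro n hn g
    have e : g * n * g⁻¹ = ⁅g, n⁆ * n := by rw [commutatorElement_def]; group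
    rw [e]
    exact M₀.mul_mem (this (Subgroup.commutator_mem_commutator (Subgroup.mem_top g)
      (Subgroup.mem_top n))) hn
  have hM₀top : M₀ ≠ ⊤ := by
    intro htop
    apply hg.cnot
    -- every commutator lies in `γ₃`
    have hG'C : commutator G ≤ b5Cen γ₃ := by
      intro d hd g
      rw [h23]
      exact Subgroup.commutator_mem_commutator hd (Subgroup.mem_top g)
    have hwC : w ∈ b5Cen γ₃ := by
      intro g
      apply b5_comm_mem_of_gen γ₃ w ({w} ∪ (commutator G : Set G)) _ _ g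
      · rw [Subgroup.closure_union, Subgroup.closure_eq, ← Subgroup.zpowers_eq_closure]
        exact htop
      · rintro s (hs | hs)
        · rw [Set.mem_singleton_iff] at hs
          rw [hs, commutatorElement_self]; exact γ₃.one_mem
        · rw [← commutatorElement_inv]
          exact γ₃.inv_mem (hG'C hs w)
    have hall : M₀ ≤ b5Cen γ₃ := sup_le ((Subgroup.zpowers_le).mpr hwC) hG'C
    rw [htop] at hall
    exact hall (Subgroup.mem_top u) v
  obtain ⟨M, hM₀M, hMidx⟩ := b5_exists_index_p hG M₀ hM₀top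
  have hG'M : commutator G ≤ M := le_sup_right.trans hM₀M
  have hwM : w ∈ M := hM₀M (le_sup_left (a := Subgroup.zpowers w) (Subgroup.mem_zpowers w))
  have hγ₃M : γ₃ ≤ M := hγ₃G'.trans hG'M
  have hMn : M.Normal := by
    constructor
    intro n hn g
    have e : g * n * g⁻¹ = ⁅g, n⁆ * n := by rw [commutatorElement_def]; group
    rw [e]
    exact M.mul_mem (hG'M (Subgroup.commutator_mem_commutator (Subgroup.mem_top g)
      (Subgroup.mem_top n))) hn
  refine ⟨M, hMidx, ?_⟩
  -- Step C: `M' ≤ γ₃`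
  have hC : ⁅M, M⁆ ≤ γ₃ := by
    have hrel : γ₃.relIndex M = p ^ 2 := by
      have h1 := Subgroup.relIndex_mul_index hγ₃M
      rw [hg.idx, hMidx] at h1
      have h2 : p ^ 3 = p ^ 2 * p := by ring
      rw [h2] at h1
      exact Nat.eq_of_mul_eq_mul_right hp.pos h1
    have hcardQ : Nat.card (↥M ⧸ γ₃.subgroupOf M) = p ^ 2 := by
      rw [← Subgroup.index_eq_card]; exact hrel
    have hcomm := IsPGroup.commutative_of_card_eq_prime_sq hcardQ
    rw [Subgroup.commutator_le]
    intro m₁ hm₁ m₂ hm₂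
    have h1 : (QuotientGroup.mk' (γ₃.subgroupOf M)) ⁅(⟨m₁, hm₁⟩ : ↥M), ⟨m₂, hm₂⟩⁆ = 1 := by
      rw [map_commutatorElement, commutatorElement_eq_one_iff_mul_comm]
      exact hcomm _ _
    rw [QuotientGroup.mk'_apply, QuotientGroup.eq_one_iff, Subgroup.mem_subgroupOf] at h1
    exact h1
  -- Step D
  set K := ⁅M, M⁆ with hK
  have hcwK : ⁅c, w⁆ ∈ K := Subgroup.commutator_mem_commutator (hG'M hcG') hwM
  have hγ₄γ₃ : γ₄ ≤ γ₃ := Subgroup.lowerCentralSeries_antitone _ (by norm_num)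
  have hsup : K ⊔ γ₄ = γ₃ := by
    have hle : K ⊔ γ₄ ≤ γ₃ := sup_le hC hγ₄γ₃
    have hlt : γ₄ < K ⊔ γ₄ := by
      refine lt_of_le_of_ne le_sup_right ?_
      intro he
      apply hcw
      rw [he]
      exact le_sup_left (a := K) hcwK
    obtain ⟨a, ha⟩ := IsPGroup.iff_card.mp (hG.to_subgroup γ₄)
    obtain ⟨b, hb⟩ := IsPGroup.iff_card.mp (hG.to_subgroup (K ⊔ γ₄))
    have hab : a < b := by
      have := b5_card_lt hlt
      rw [ha, hb] at this
      exact (Nat.pow_lt_pow_iff_right hp.one_lt).mp this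
    apply Subgroup.eq_of_le_of_card_ge hle
    rw [hb]
    refine h4.trans ?_
    rw [ha, ← pow_succ']
    exact Nat.pow_le_pow_right hp.pos hab
  have hγ₃K : γ₃ ≤ K := by
    set f := QuotientGroup.mk' K with hf
    have hfs : Function.Surjective f := QuotientGroup.mk'_surjective K
    have htop : (⊤ : Subgroup G).map f = ⊤ := by
      rw [← MonoidHom.range_eq_map, MonoidHom.range_eq_top]; exact hfs
    have h2 : (⊤ : Subgroup (G ⧸ K)).lowerCentralSeries 2 = γ₃.map f := by
      rw [hγ₃, Subgroup.map_lowerCentralSeries, htop]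
    have h3 : (⊤ : Subgroup (G ⧸ K)).lowerCentralSeries 3 = γ₄.map f := by
      rw [hγ₄, Subgroup.map_lowerCentralSeries, htop]
    have hKf : K.map f = ⊥ :=
      (Subgroup.map_eq_bot_iff _).mpr (le_of_eq (QuotientGroup.ker_mk' K).symm)
    have h4' : γ₃.map f = γ₄.map f := by
      rw [← hsup, Subgroup.map_sup, hKf, bot_sup_eq]
    haveI : Group.IsNilpotent (G ⧸ K) := (hG.to_quotient K).isNilpotent
    have h5 := b5_lcs_eq_bot (G := G ⧸ K) 2 (by rw [h2, h3, h4'])
    rw [h2] at h5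
    have h6 := (Subgroup.map_eq_bot_iff _).mp h5
    rwa [hf, QuotientGroup.ker_mk'] at h6
  exact le_antisymm hC hγ₃K

end Cfsg.Agent.Lib.H14.R2
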