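import Mathlib
import Cfsg.Prelude.Def_OddOrderLocal
import Cfsg.Prelude.Def_CaseTheorems
import Cfsg.Prelude.Def_PLocal
import Cfsg.Agent.Lib.H19.R2Defs
import Cfsg.Agent.Lib.H22.UniqueOrderP
import Cfsg.Agent.Lib.H9.R2C1E

/-!
# S3888 piece C1A (helper14): Case 1 with `G = E * ⟨z⟩`, `z` central ⇒ `T2`.
-/

set_option autoImplicit false

namespace Cfsg.Agent.Lib.H14.R2

open Cfsg Cfsg.Agent.Lib.H19.R2
open scoped commutatorElement Pointwise

universe u

variable {p : ℕ} [Fact p.Prime] {G : Type u} [Group G] [Finite G]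

omit [Fact p.Prime] in
theorem c1a_card_lt {H K : Subgroup G} (h : H < K) : Nat.card H < Nat.card K := by
  refine lt_of_le_of_ne (Subgroup.card_le_of_le h.le) ?_
  intro he
  exact h.ne (Subgroup.eq_of_le_of_card_ge h.le he.ge)

/-- a subgroup of prime order is generated by any of its nontrivial elements -/
theorem c1a_zpowers_eq (Z : Subgroup G) (hZ : Nat.card Z = p) (d : G) (hd : d ∈ Z) (hd1 : d ≠ 1) :
    Subgroup.zpowers d = Z := by
  have hp : p.Prime := Fact.out
  have hle : Subgroup.zpowers d ≤ Z := (Subgroup.zpowers_le).mpr hd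
  apply Subgroup.eq_of_le_of_card_ge hle
  have h1 : Nat.card (Subgroup.zpowers d) ∣ p := by
    rw [← hZ]; exact Subgroup.card_dvd_of_le hle
  rcases (Nat.dvd_prime hp).mp h1 with h2 | h2
  · rw [Nat.card_zpowers, orderOf_eq_one_iff] at h2
    exact absurd h2 hd1
  · rw [hZ, h2]

/-- C1A. -/
theorem c1_A (hp2 : p ≠ 2) {n : ℕ} (hcard : Nat.card G = p ^ n) {N : Subgroup G} {x : G}
    (h : C1 p G N x) (hA : StructA N x) :
    T2 p n G ∧ ∀ g : G, g ^ p = 1 → g ∈ N ⊔ Subgroup.zpowers x := by
  have hp : p.Prime := Fact.out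
  obtain ⟨hE3, hEexp, hZcard, hδ, hord⟩ := Cfsg.Agent.Lib.H9.R2.c1_E hp2 h
  obtain ⟨z, hzx, hzN, hgen⟩ := hA
  obtain ⟨⟨hNn, hNc, hNe, hNcard⟩, hx, hxC, hrk⟩ := h
  have hG : IsPGroup p G := IsPGroup.of_card hcard
  set E := N ⊔ Subgroup.zpowers x with hE
  set Z := N ⊓ Subgroup.centralizer ({x} : Set G) with hZ
  have hNE : N ≤ E := le_sup_left
  have hxE : x ∈ E := le_sup_right (a := N) (Subgroup.mem_zpowers x)
  have hZN : Z ≤ N := inf_le_left
  have hZE : Z ≤ E := hZN.trans hNE
  -- a criterion for centrality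
  have hcen : ∀ a : G, (∀ b ∈ N, b * a = a * b) → x * a = a * x → z * a = a * z →
      a ∈ Subgroup.center G := by
    intro a h1 h2 h3
    have hle : (⊤ : Subgroup G) ≤ Subgroup.centralizer ({a} : Set G) := by
      rw [← hgen]
      refine sup_le (sup_le ?_ ?_) ?_
      · intro b hb
        rw [Subgroup.mem_centralizer_singleton_iff]
        exact h1 b hb
      · rw [Subgroup.zpowers_le, Subgroup.mem_centralizer_singleton_iff]; exact h2
      · rw [Subgroup.zpowers_le, Subgroup.mem_centralizer_singleton_iff]; exact h3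
    rw [Subgroup.mem_center_iff]
    intro g
    have := hle (Subgroup.mem_top g)
    rw [Subgroup.mem_centralizer_singleton_iff] at this
    exact this
  have hzc : z ∈ Subgroup.center G :=
    hcen z (fun b hb => (hzN b hb).symm) hzx.symm rfl
  have hZc : Z ≤ Subgroup.center G := by
    intro a ha
    have haN : a ∈ N := (Subgroup.mem_inf.mp ha).1
    have hax : x * a = a * x := by
      have := (Subgroup.mem_inf.mp ha).2
      rw [Subgroup.mem_centralizer_singleton_iff] at this
      exact this.symm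
    exact hcen a (fun b hb => hNc b hb a haN) hax (hzN a haN)
  set A := Subgroup.zpowers z ⊔ Z with hAdef
  have hAc : A ≤ Subgroup.center G := sup_le ((Subgroup.zpowers_le).mpr hzc) hZc
  have hZA : Z ≤ A := le_sup_right
  have hzA : z ∈ A := le_sup_left (a := Subgroup.zpowers z) (Subgroup.mem_zpowers z)
  -- elements of order `p` of `A` lie in `Z`
  have hAp : ∀ g ∈ A, g ^ p = 1 → g ∈ Z := by
    intro g hg hgp
    have hgc := Subgroup.mem_center_iff.mp (hAc hg)
    have hgN : g ∈ N := by
      apply hord g hgp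
      rw [Subgroup.mem_centralizer_iff]
      intro b _
      exact hgc b
    refine Subgroup.mem_inf.mpr ⟨hgN, ?_⟩
    rw [Subgroup.mem_centralizer_singleton_iff]
    exact (hgc x).symm
  -- `A` is cyclic
  have hAcomm : ∀ a b : ↥A, a * b = b * a := by
    intro a b
    apply Subtype.ext
    show (a : G) * b = b * a
    exact Subgroup.mem_center_iff.mp (hAc b.2) a
  have huniq : Cfsg.Agent.Lib.H22.AtMostOneOrderP p ↥A := by
    have key : ∀ H : Subgroup ↥A, Nat.card H = p → H.map A.subtype = Z := by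
      intro H hH
      have hle : H.map A.subtype ≤ Z := by
        rintro _ ⟨a, ha, rfl⟩
        apply hAp _ a.2
        have h1 : (⟨a, ha⟩ : ↥H) ^ p = 1 := by
          rw [← hH]; exact pow_card_eq_one'
        have h2 := congrArg (fun t : ↥H => ((t : ↥A) : G)) h1
        simpa using h2
      apply Subgroup.eq_of_le_of_card_ge hle
      rw [Subgroup.card_map_of_injective A.subtype_injective, hH, hZcard]
    intro H K hH hK
    apply Subgroup.map_injective A.subtype_injective
    rw [key H hH, key K hK]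
  haveI hAcyc : IsCyclic ↥A :=
    Cfsg.Agent.Lib.H22.isCyclic_of_comm_of_atMostOne (hG.to_subgroup A) huniq hAcomm
  obtain ⟨g₁, hg₁⟩ := IsCyclic.exists_generator (α := ↥A)
  set z₁ : G := (g₁ : G) with hz₁
  have hz₁A : z₁ ∈ A := g₁.2
  have hAz₁ : A = Subgroup.zpowers z₁ := by
    apply le_antisymm
    · intro a ha
      obtain ⟨k, hk⟩ := Subgroup.mem_zpowers_iff.mp (hg₁ ⟨a, ha⟩)
      rw [Subgroup.mem_zpowers_iff]
      refine ⟨k, ?_⟩
      have := congrArg (fun t : ↥A => (t : G)) hk
      simpa using this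
    · exact (Subgroup.zpowers_le).mpr hz₁A
  -- `E` is normal
  haveI hEn : E.Normal := by
    rw [← Subgroup.normalizer_eq_top_iff, eq_top_iff, ← hgen]
    refine sup_le Subgroup.le_normalizer ?_
    rw [Subgroup.zpowers_le, Subgroup.mem_normalizer_iff]
    intro h'
    have e : z * h' * z⁻¹ = h' := by
      rw [← Subgroup.mem_center_iff.mp hzc h']; group
    rw [e]
  have hEA : A ⊔ E = ⊤ := by
    rw [eq_top_iff, ← hgen]
    exact sup_le le_sup_right (((Subgroup.zpowers_le).mpr hzA).trans le_sup_left)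
  have hEinfA : E ⊓ A = Z := by
    apply le_antisymm
    · intro g hg
      exact hAp g (Subgroup.mem_inf.mp hg).2 (hEexp g (Subgroup.mem_inf.mp hg).1)
    · exact le_inf hZE hZA
  -- the order of `A`
  obtain ⟨m, hm⟩ := IsPGroup.iff_card.mp (hG.to_subgroup A)
  have hidx : E.index = Z.relIndex A := by
    rw [← Subgroup.relIndex_top_right, ← hEA, Subgroup.relIndex_sup_right,
      ← Subgroup.inf_relIndex_right, hEinfA]
  have hcardA : Z.relIndex A * p = p ^ m := by
    have h1 : Nat.card (Z.subgroupOf A) * (Z.subgroupOf A).index = Nat.card ↥A :=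
      Subgroup.card_mul_index _
    have h2 : Nat.card (Z.subgroupOf A) = p := by
      rw [Nat.card_congr (Subgroup.subgroupOfEquivOfLe hZA).toEquiv, hZcard]
    rw [h2, hm, mul_comm] at h1
    exact h1
  have hnm : n + 1 = m + 3 := by
    have h1 : Nat.card E * E.index = Nat.card G := Subgroup.card_mul_index E
    rw [hE3, hidx, hcard] at h1
    have h2 : p ^ (n + 1) = p ^ (m + 3) := by
      calc p ^ (n + 1) = p ^ n * p := pow_succ p n
        _ = p ^ 3 * Z.relIndex A * p := by rw [h1]
        _ = p ^ 3 * (Z.relIndex A * p) := by ring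
        _ = p ^ (m + 3) := by rw [hcardA]; ring
    exact Nat.pow_right_injective hp.two_le h2
  have hm1 : 1 ≤ m := by
    have h1 : Nat.card Z ≤ Nat.card A := Subgroup.card_le_of_le hZA
    rw [hZcard, hm] at h1
    by_contra h0
    have : m = 0 := by omega
    rw [this, pow_zero] at h1
    exact absurd h1 (by have := hp.two_le; omega)
  have hn3 : 3 ≤ n := by omega
  have hmn : m = n - 2 := by omega
  have hordz₁ : orderOf z₁ = p ^ (n - 2) := by
    rw [← Nat.card_zpowers, ← hAz₁, hm, hmn]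
  -- the element `ζ`
  set ζ := z₁ ^ p ^ (n - 3) with hζ
  have hζp : ζ ^ p = 1 := by
    rw [hζ, ← pow_mul, ← pow_succ, show n - 3 + 1 = n - 2 by omega, ← hordz₁]
    exact pow_orderOf_eq_one z₁
  have hζ1 : ζ ≠ 1 := by
    rw [hζ]
    apply pow_ne_one_of_lt_orderOf (pow_pos hp.pos _).ne'
    rw [hordz₁]
    exact Nat.pow_lt_pow_right hp.one_lt (by omega)
  have hζA : ζ ∈ A := A.pow_mem hz₁A _
  have hζZ : ζ ∈ Z := hAp ζ hζA hζp
  have hZζ : Subgroup.zpowers ζ = Z := c1a_zpowers_eq Z hZcard ζ hζZ hζ1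
  -- an element `y ∈ N ∖ Z`
  obtain ⟨y, hyN, hyZ⟩ : ∃ y ∈ N, y ∉ Z := by
    by_contra hcon
    push Not at hcon
    have h1 : Nat.card N ≤ Nat.card Z := Subgroup.card_le_of_le fun y hy => hcon y hy
    rw [hNcard, hZcard] at h1
    have : p * p ≤ p * 1 := by rw [mul_one, ← sq]; exact h1
    have := Nat.le_of_mul_le_mul_left this hp.pos
    have := hp.two_le
    omega
  set d := y⁻¹ * x⁻¹ * y * x with hd
  have hdZ : d ∈ Z := hδ y hyN
  have hxyx : x⁻¹ * y * x = y * d := by rw [hd]; group
  have hd1 : d ≠ 1 := by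
    intro h1
    apply hyZ
    refine Subgroup.mem_inf.mpr ⟨hyN, ?_⟩
    rw [Subgroup.mem_centralizer_singleton_iff]
    rw [h1, mul_one] at hxyx
    calc y * x = x * (x⁻¹ * y * x) := by group
      _ = x * y := by rw [hxyx]
  have hZd : Subgroup.zpowers d = Z := c1a_zpowers_eq Z hZcard d hdZ hd1
  obtain ⟨i, hi⟩ : ∃ i : ℕ, d ^ i = ζ := by
    have h1 : ζ ∈ Subgroup.zpowers d := by rw [hZd]; exact hζZ
    rw [← mem_powers_iff_mem_zpowers] at h1
    exact (Submonoid.mem_powers_iff _ _).mp h1
  set y' := y ^ i with hy'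
  have hy'N : y' ∈ N := N.pow_mem hyN i
  have hydcomm : Commute y d := hNc y hyN d (hZN hdZ)
  have hy'rel : x⁻¹ * y' * x = y' * ζ := by
    rw [hy', ← hi, ← hydcomm.mul_pow, ← hxyx]
    have : ∀ k : ℕ, x⁻¹ * y ^ k * x = (x⁻¹ * y * x) ^ k := by
      intro k
      induction k with
      | zero => simp
      | succ k ih => rw [pow_succ, pow_succ, ← ih]; group
    exact this i
  have hy'Z : y' ∉ Z := by
    intro h1
    have h2 := (Subgroup.mem_inf.mp h1).2
    rw [Subgroup.mem_centralizer_singleton_iff] at h2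
    apply hζ1
    have h3 : x⁻¹ * y' * x = y' := by
      calc x⁻¹ * y' * x = x⁻¹ * (x * y') := by rw [← h2]; group
        _ = y' := by group
    rw [h3] at hy'rel
    exact (mul_eq_left.mp hy'rel.symm)
  -- `N = ⟨y'⟩ Z`
  have hNgen : N = Subgroup.zpowers y' ⊔ Z := by
    symm
    have hle : Subgroup.zpowers y' ⊔ Z ≤ N := sup_le ((Subgroup.zpowers_le).mpr hy'N) hZN
    apply Subgroup.eq_of_le_of_card_ge hle
    have hlt : Z < Subgroup.zpowers y' ⊔ Z := by
      refine lt_of_le_of_ne le_sup_right ?_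
      intro he
      apply hy'Z
      rw [he]
      exact le_sup_left (a := Subgroup.zpowers y') (Subgroup.mem_zpowers y')
    have h1 := c1a_card_lt hlt
    rw [hZcard] at h1
    obtain ⟨j, hj⟩ := IsPGroup.iff_card.mp (hG.to_subgroup (Subgroup.zpowers y' ⊔ Z))
    rw [hj] at h1 ⊢
    rw [hNcard]
    have h2 : 1 < j := by
      have : p ^ 1 < p ^ j := by rwa [pow_one]
      exact (Nat.pow_lt_pow_iff_right hp.one_lt).mp this
    exact Nat.pow_le_pow_right hp.pos h2
  have hz₁c := Subgroup.mem_center_iff.mp (hAc hz₁A)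
  constructor
  · refine ⟨hn3, x, y', z₁, ?_, hx, hNe y' hy'N, ?_, ?_, ?_, hy'rel⟩
    · rw [eq_top_iff, ← hgen]
      have hxC : x ∈ Subgroup.closure ({x, y', z₁} : Set G) :=
        Subgroup.subset_closure (Set.mem_insert _ _)
      have hyC : y' ∈ Subgroup.closure ({x, y', z₁} : Set G) :=
        Subgroup.subset_closure (Set.mem_insert_of_mem _ (Set.mem_insert _ _))
      have hzC : z₁ ∈ Subgroup.closure ({x, y', z₁} : Set G) :=
        Subgroup.subset_closure (Set.mem_insert_of_mem _ (Set.mem_insert_of_mem _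
          (Set.mem_singleton _)))
      have hAC : A ≤ Subgroup.closure ({x, y', z₁} : Set G) := by
        rw [hAz₁, Subgroup.zpowers_le]; exact hzC
      refine sup_le (sup_le ?_ ((Subgroup.zpowers_le).mpr hxC)) ?_
      · rw [hNgen]
        exact sup_le ((Subgroup.zpowers_le).mpr hyC) (hZA.trans hAC)
      · exact ((Subgroup.zpowers_le).mpr hzA).trans hAC
    · rw [← hordz₁]; exact pow_orderOf_eq_one z₁
    · exact hz₁c x
    · exact hz₁c y'
  · intro g hgp
    have hAn : A.Normal := by
      constructor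
      intro a ha g'
      have := Subgroup.mem_center_iff.mp (hAc ha) g'
      have e : g' * a * g'⁻¹ = a := by rw [this]; group
      rw [e]; exact ha
    have hg : g ∈ (↑(E ⊔ A) : Set G) := by
      rw [sup_comm, hEA]; exact Set.mem_univ g
    rw [Subgroup.mul_normal, Set.mem_mul] at hg
    obtain ⟨e, he, a, ha, rfl⟩ := hg
    have hac : Commute e a := (Subgroup.mem_center_iff.mp (hAc ha) e)
    rw [hac.mul_pow, hEexp e he, one_mul] at hgp
    exact E.mul_mem he (hZE (hAp a ha hgp))

end Cfsg.Agent.Lib.H14.R2
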