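import Mathlib
import Cfsg.Prelude.Def_OddOrderLocal
import Cfsg.Prelude.Def_CaseTheorems
import Cfsg.Prelude.Def_PLocal
import Cfsg.Agent.Lib.H19.R2Defs
import Cfsg.Agent.Lib.H22.UniqueOrderP

/-!
# S3888 piece HUP2 (helper14): class at most two, commutators of order at most `p`,
`|G : ℧₁(G)| ≤ p²`, `p` odd ⇒ metacyclic.
-/

set_option autoImplicit false

namespace Cfsg.Agent.Lib.H14.R2

open Cfsg Cfsg.Agent.Lib.H19.R2
open scoped commutatorElement

universe u

variable {p : ℕ} [Fact p.Prime] {G : Type u} [Group G] [Finite G]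

omit [Finite G] in
theorem hup2_central (hcl : ∀ a b c : G, ⁅⁅a, b⁆, c⁆ = 1) (a b g : G) :
    g * ⁅a, b⁆ = ⁅a, b⁆ * g :=
  ((commutatorElement_eq_one_iff_commute.mp (hcl a b g)).eq).symm

omit [Finite G] in
theorem hup2_mul_pow (hp2 : p ≠ 2) (hcl : ∀ a b c : G, ⁅⁅a, b⁆, c⁆ = 1)
    (hexp : ∀ a b : G, ⁅a, b⁆ ^ p = 1) (u v : G) : (u * v) ^ p = u ^ p * v ^ p := by
  have hp : p.Prime := Fact.out
  have hc : ∀ g : G, g * (v * u * v⁻¹ * u⁻¹) = (v * u * v⁻¹ * u⁻¹) * g := by
    intro g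
    have := hup2_central hcl v u g
    rwa [commutatorElement_def] at this
  rw [Cfsg.Agent.Lib.H22.mul_pow_of_central hc p]
  obtain ⟨m, hm⟩ := hp.odd_of_ne_two hp2
  have h1 : p * (p - 1) / 2 = p * m := by
    have h2 : p - 1 = 2 * m := by omega
    rw [h2, show p * (2 * m) = 2 * (p * m) by ring]
    exact Nat.mul_div_cancel_left _ (by norm_num)
  have h3 : v * u * v⁻¹ * u⁻¹ = ⁅v, u⁆ := (commutatorElement_def v u).symm
  rw [h1, h3, pow_mul, hexp, one_pow, mul_one]

/-- the `p`-power endomorphism -/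
def hup2Pi (hp2 : p ≠ 2) (hcl : ∀ a b c : G, ⁅⁅a, b⁆, c⁆ = 1)
    (hexp : ∀ a b : G, ⁅a, b⁆ ^ p = 1) : G →* G where
  toFun g := g ^ p
  map_one' := one_pow p
  map_mul' := hup2_mul_pow hp2 hcl hexp

omit [Finite G] in
theorem hup2Pi_apply (hp2 : p ≠ 2) (hcl : ∀ a b c : G, ⁅⁅a, b⁆, c⁆ = 1)
    (hexp : ∀ a b : G, ⁅a, b⁆ ^ p = 1) (g : G) : hup2Pi hp2 hcl hexp g = g ^ p := rfl

omit [Finite G] in
theorem hup2_range_eq (hp2 : p ≠ 2) (hcl : ∀ a b c : G, ⁅⁅a, b⁆, c⁆ = 1)
    (hexp : ∀ a b : G, ⁅a, b⁆ ^ p = 1) : (hup2Pi hp2 hcl hexp).range = agemo p G := by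
  apply le_antisymm
  · rintro _ ⟨g, rfl⟩
    exact pow_mem_agemo p g
  · unfold agemo
    apply agemoOf_le
    intro d _
    exact ⟨d, rfl⟩

/-- the iterated images of the `p`-power endomorphism -/
def hup2R (π : G →* G) : ℕ → Subgroup G
  | 0 => ⊤
  | k + 1 => (hup2R π k).map π

omit [Fact p.Prime] [Finite G] in
theorem hup2_mem_R (π : G →* G) (hπ : ∀ g, π g = g ^ p) (k : ℕ) (x : G) :
    x ∈ hup2R π k ↔ ∃ y : G, y ^ (p ^ k) = x := by
  induction k generalizing x with
  | zero =>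
    constructor
    · intro _
      exact ⟨x, by simp⟩
    · intro _
      exact Subgroup.mem_top x
  | succ k ih =>
    constructor
    · rintro ⟨z, hz, rfl⟩
      obtain ⟨y, rfl⟩ := (ih z).mp hz
      exact ⟨y, by rw [hπ, pow_succ, pow_mul]⟩
    · rintro ⟨y, rfl⟩
      refine ⟨y ^ (p ^ k), (ih _).mpr ⟨y, rfl⟩, ?_⟩
      rw [hπ, pow_succ, pow_mul]

theorem hup2_R_eq_bot (hG : IsPGroup p G) (π : G →* G) (hπ : ∀ g, π g = g ^ p) :
    ∃ K : ℕ, hup2R π K = ⊥ := by
  obtain ⟨K, hK⟩ := IsPGroup.iff_card.mp hG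
  refine ⟨K, ?_⟩
  rw [eq_bot_iff]
  intro x hx
  obtain ⟨y, rfl⟩ := (hup2_mem_R π hπ K x).mp hx
  rw [Subgroup.mem_bot, ← hK]
  exact pow_card_eq_one'

/-- the filtration argument: a subgroup that generates `G` modulo `p`-th powers is `G` -/
theorem hup2_eq_top (hG : IsPGroup p G) (π : G →* G) (hπ : ∀ g, π g = g ^ p)
    (X : Subgroup G) (hX : X ⊔ π.range = ⊤) : X = ⊤ := by
  have hXπ : X.map π ≤ X := by
    rintro _ ⟨x, hx, rfl⟩
    rw [hπ]
    exact X.pow_mem hx p
  have key : ∀ k : ℕ, X ⊔ hup2R π k = ⊤ := by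
    intro k
    induction k with
    | zero => exact sup_top_eq X
    | succ k ih =>
      rw [eq_top_iff, ← hX]
      refine sup_le le_sup_left ?_
      rw [MonoidHom.range_eq_map, ← ih, Subgroup.map_sup]
      exact sup_le (hXπ.trans le_sup_left) le_sup_right
  obtain ⟨K, hK⟩ := hup2_R_eq_bot hG π hπ
  have := key K
  rwa [hK, sup_bot_eq] at this

omit [Fact p.Prime] [Finite G] in
/-- a group generated by `c` and `d` with `⟨c⟩` normal is metacyclic -/
theorem hup2_metacyclic_of_gen (c d : G) (hgen : Subgroup.closure ({c, d} : Set G) = ⊤)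
    (hn : ∀ g : G, ⁅g, c⁆ ∈ Subgroup.zpowers c) : Cfsg.IsMetacyclic G := by
  have hN : (Subgroup.zpowers c).Normal := by
    constructor
    intro n hn' g
    obtain ⟨k, rfl⟩ := hn'
    have h1 : g * c * g⁻¹ ∈ Subgroup.zpowers c := by
      have h2 : g * c * g⁻¹ = ⁅g, c⁆ * c := by rw [commutatorElement_def]; group
      rw [h2]
      exact (Subgroup.zpowers c).mul_mem (hn g) (Subgroup.mem_zpowers c)
    have h3 : g * c ^ k * g⁻¹ = (g * c * g⁻¹) ^ k := by
      rw [conj_zpow]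
    rw [h3]
    exact (Subgroup.zpowers c).zpow_mem h1 k
  refine ⟨Subgroup.zpowers c, hN, inferInstance, ?_⟩
  rw [isCyclic_iff_exists_zpowers_eq_top]
  refine ⟨QuotientGroup.mk' (Subgroup.zpowers c) d, ?_⟩
  rw [eq_top_iff]
  have h1 : (Subgroup.closure ({c, d} : Set G)).map (QuotientGroup.mk' (Subgroup.zpowers c)) = ⊤ := by
    rw [hgen, ← MonoidHom.range_eq_map, MonoidHom.range_eq_top]
    exact QuotientGroup.mk'_surjective _
  rw [← h1, MonoidHom.map_closure, Subgroup.closure_le]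
  rintro _ ⟨x, hx, rfl⟩
  rcases hx with rfl | hx
  · have : QuotientGroup.mk' (Subgroup.zpowers x) x = 1 := by
      rw [QuotientGroup.mk'_apply, QuotientGroup.eq_one_iff]
      exact Subgroup.mem_zpowers x
    rw [this]
    exact Subgroup.one_mem _
  · rw [Set.mem_singleton_iff] at hx
    rw [hx]
    exact Subgroup.mem_zpowers _

omit [Fact p.Prime] in
theorem hup2_card_lt {H K : Subgroup G} (h : H < K) : Nat.card H < Nat.card K := by
  refine lt_of_le_of_ne (Subgroup.card_le_of_le h.le) ?_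
  intro he
  exact h.ne (Subgroup.eq_of_le_of_card_ge h.le he.ge)

/-- a `p`-group of order at most `p²` is generated by two elements -/
theorem hup2_two_gen {Q : Type*} [Group Q] [Finite Q] (hQ : IsPGroup p Q)
    (hc : Nat.card Q ≤ p ^ 2) : ∃ a b : Q, Subgroup.closure ({a, b} : Set Q) = ⊤ := by
  have hp : p.Prime := Fact.out
  by_cases h1 : ∀ a : Q, a = 1
  · refine ⟨1, 1, ?_⟩
    rw [eq_top_iff]
    intro x _
    rw [h1 x]
    exact Subgroup.one_mem _
  push Not at h1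
  obtain ⟨a, ha⟩ := h1
  by_cases hz : Subgroup.zpowers a = ⊤
  · refine ⟨a, 1, ?_⟩
    rw [eq_top_iff, ← hz, Subgroup.zpowers_le]
    exact Subgroup.subset_closure (Set.mem_insert _ _)
  obtain ⟨b, hb⟩ : ∃ b : Q, b ∉ Subgroup.zpowers a := by
    by_contra hcon
    push Not at hcon
    exact hz (eq_top_iff.mpr fun x _ => hcon x)
  refine ⟨a, b, ?_⟩
  set H := Subgroup.closure ({a, b} : Set Q) with hH
  have haH : a ∈ H := Subgroup.subset_closure (Set.mem_insert _ _)
  have hbH : b ∈ H := Subgroup.subset_closure (Set.mem_insert_of_mem _ (Set.mem_singleton _))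
  have hlt : Subgroup.zpowers a < H := by
    refine lt_of_le_of_ne ((Subgroup.zpowers_le).mpr haH) ?_
    intro he
    exact hb (he ▸ hbH)
  obtain ⟨i, hi⟩ := IsPGroup.iff_card.mp (hQ.to_subgroup (Subgroup.zpowers a))
  obtain ⟨l, hl⟩ := IsPGroup.iff_card.mp (hQ.to_subgroup H)
  have hi1 : i ≠ 0 := by
    intro h0
    rw [h0, pow_zero, Nat.card_zpowers, orderOf_eq_one_iff] at hi
    exact ha hi
  have hil : i < l := by
    have := hup2_card_lt hlt
    rw [hi, hl] at this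
    exact (Nat.pow_lt_pow_iff_right hp.one_lt).mp this
  have hl2 : p ^ 2 ≤ Nat.card H := by
    rw [hl]
    exact Nat.pow_le_pow_right hp.pos (by omega)
  apply Subgroup.eq_top_of_le_card
  exact hc.trans hl2

omit [Fact p.Prime] [Finite G] in
/-- lifting generators through a surjection -/
theorem hup2_lift_gen {Q : Type*} [Group Q] (f : G →* Q) (hf : Function.Surjective f)
    (a b : G) (h : Subgroup.closure ({f a, f b} : Set Q) = ⊤) :
    Subgroup.closure ({a, b} : Set G) ⊔ f.ker = ⊤ := by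
  have h1 : (Subgroup.closure ({a, b} : Set G)).map f = ⊤ := by
    rw [MonoidHom.map_closure, Set.image_pair, h]
  rw [← Subgroup.comap_map_eq, h1, Subgroup.comap_top]

omit [Fact p.Prime] [Finite G] in
/-- in a group of class two generated by `a` and `b`, every commutator is a power of `⁅a, b⁆` -/
theorem hup2_comm_mem (hcl : ∀ a b c : G, ⁅⁅a, b⁆, c⁆ = 1) (a b : G)
    (hgen : Subgroup.closure ({a, b} : Set G) = ⊤) (g h : G) :
    ⁅g, h⁆ ∈ Subgroup.zpowers ⁅a, b⁆ := by
  set w := ⁅a, b⁆ with hw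
  set N := Subgroup.zpowers w with hN
  have hcen : ∀ x y g : G, g * ⁅x, y⁆ = ⁅x, y⁆ * g := hup2_central hcl
  -- bilinearity
  have hl : ∀ x y z : G, ⁅x * y, z⁆ = ⁅x, z⁆ * ⁅y, z⁆ := by
    intro x y z
    have h1 : ⁅x * y, z⁆ = x * ⁅y, z⁆ * x⁻¹ * ⁅x, z⁆ := by
      simp only [commutatorElement_def]; group
    rw [h1, hcen y z x, mul_inv_cancel_right, ← hcen x z]
  have hr : ∀ x y z : G, ⁅x, y * z⁆ = ⁅x, y⁆ * ⁅x, z⁆ := by
    intro x y z
    have h1 : ⁅x, y * z⁆ = ⁅x, y⁆ * (y * ⁅x, z⁆ * y⁻¹) := by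
      simp only [commutatorElement_def]; group
    rw [h1, hcen x z y, mul_inv_cancel_right]
  have hinvl : ∀ x z : G, ⁅x⁻¹, z⁆ = ⁅x, z⁆⁻¹ := by
    intro x z
    have h1 := hl x x⁻¹ z
    rw [mul_inv_cancel, commutatorElement_one_left] at h1
    exact eq_inv_of_mul_eq_one_right h1.symm
  have hinvr : ∀ x z : G, ⁅x, z⁻¹⁆ = ⁅x, z⁆⁻¹ := by
    intro x z
    have h1 := hr x z z⁻¹
    rw [mul_inv_cancel, commutatorElement_one_right] at h1
    exact eq_inv_of_mul_eq_one_right h1.symm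
  -- the subgroup of elements whose commutators with `a` and `b` lie in `N`
  let L : Subgroup G :=
    { carrier := {x | ⁅x, a⁆ ∈ N ∧ ⁅x, b⁆ ∈ N}
      one_mem' := by
        constructor <;> · rw [commutatorElement_one_left]; exact N.one_mem
      mul_mem' := by
        rintro x y ⟨hx1, hx2⟩ ⟨hy1, hy2⟩
        exact ⟨by rw [hl]; exact N.mul_mem hx1 hy1, by rw [hl]; exact N.mul_mem hx2 hy2⟩
      inv_mem' := by
        rintro x ⟨hx1, hx2⟩
        exact ⟨by rw [hinvl]; exact N.inv_mem hx1, by rw [hinvl]; exact N.inv_mem hx2⟩ }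
  have hLtop : L = ⊤ := by
    rw [eq_top_iff, ← hgen, Subgroup.closure_le]
    rintro x (rfl | hx)
    · refine ⟨?_, Subgroup.mem_zpowers _⟩
      rw [commutatorElement_self]; exact N.one_mem
    · rw [Set.mem_singleton_iff] at hx
      subst hx
      refine ⟨?_, ?_⟩
      · have : ⁅x, a⁆ = w⁻¹ := by rw [hw, commutatorElement_inv]
        rw [this]; exact N.inv_mem (Subgroup.mem_zpowers _)
      · rw [commutatorElement_self]; exact N.one_mem
  have hgL : g ∈ L := by rw [hLtop]; exact Subgroup.mem_top g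
  let L' : Subgroup G :=
    { carrier := {y | ⁅g, y⁆ ∈ N}
      one_mem' := by
        show ⁅g, (1 : G)⁆ ∈ N
        rw [commutatorElement_one_right]; exact N.one_mem
      mul_mem' := by
        intro x y hx hy
        show ⁅g, x * y⁆ ∈ N
        rw [hr]; exact N.mul_mem hx hy
      inv_mem' := by
        intro x hx
        show ⁅g, x⁻¹⁆ ∈ N
        rw [hinvr]; exact N.inv_mem hx }
  have hL'top : L' = ⊤ := by
    rw [eq_top_iff, ← hgen, Subgroup.closure_le]
    rintro x (rfl | hx)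
    · exact hgL.1
    · rw [Set.mem_singleton_iff] at hx
      subst hx
      exact hgL.2
  have : h ∈ L' := by rw [hL'top]; exact Subgroup.mem_top h
  exact this

/-- HUP2.  class ≤ 2, commutators of order ≤ p, `|G : ℧₁(G)| ≤ p²`, `p` odd ⇒ metacyclic. -/
theorem metacyclic_of_class_two (hp2 : p ≠ 2) (hG : IsPGroup p G)
    (hcl : ∀ a b c : G, ⁅⁅a, b⁆, c⁆ = 1) (hexp : ∀ a b : G, ⁅a, b⁆ ^ p = 1)
    (hidx : (agemo p G).index ≤ p ^ 2) : Cfsg.IsMetacyclic G := by
  have hp : p.Prime := Fact.out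
  set π := hup2Pi hp2 hcl hexp with hπdef
  have hπ : ∀ g, π g = g ^ p := fun g => rfl
  have hrange : π.range = agemo p G := hup2_range_eq hp2 hcl hexp
  -- `π.range` is normal
  haveI hRn : (π.range).Normal := by
    constructor
    rintro _ ⟨d, rfl⟩ g
    refine ⟨g * d * g⁻¹, ?_⟩
    rw [hπ, hπ, conj_pow]
  -- two generators
  have hQp : IsPGroup p (G ⧸ π.range) := hG.to_quotient _
  have hQc : Nat.card (G ⧸ π.range) ≤ p ^ 2 := by
    rw [← Subgroup.index_eq_card, hrange]; exact hidx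
  obtain ⟨a', b', hab'⟩ := hup2_two_gen hQp hQc
  obtain ⟨a, rfl⟩ := QuotientGroup.mk'_surjective _ a'
  obtain ⟨b, rfl⟩ := QuotientGroup.mk'_surjective _ b'
  have hgen0 := hup2_lift_gen (QuotientGroup.mk' π.range) (QuotientGroup.mk'_surjective _) a b hab'
  rw [QuotientGroup.ker_mk'] at hgen0
  have hgen : Subgroup.closure ({a, b} : Set G) = ⊤ := hup2_eq_top hG π hπ _ hgen0
  set w := ⁅a, b⁆ with hw
  have hcomm : ∀ g h : G, ⁅g, h⁆ ∈ Subgroup.zpowers w := hup2_comm_mem hcl a b hgen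
  by_cases hw1 : w = 1
  · -- abelian case
    apply hup2_metacyclic_of_gen a b hgen
    intro g
    have := hcomm g a
    rw [hw1, Subgroup.zpowers_one_eq_bot, Subgroup.mem_bot] at this
    rw [this]
    exact Subgroup.one_mem _
  -- `w ≠ 1`: the largest `k` with `w ∈ π^k(G)`
  obtain ⟨K, hK⟩ := hup2_R_eq_bot hG π hπ
  have hex : ∃ k : ℕ, w ∉ hup2R π k := ⟨K, by rw [hK, Subgroup.mem_bot]; exact hw1⟩
  classical
  set k₀ := Nat.find hex with hk₀
  have hk₀spec : w ∉ hup2R π k₀ := Nat.find_spec hex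
  have hk₀ne : k₀ ≠ 0 := by
    intro h0
    rw [h0] at hk₀spec
    exact hk₀spec (Subgroup.mem_top w)
  obtain ⟨k, hk⟩ := Nat.exists_eq_succ_of_ne_zero hk₀ne
  have hwk : w ∈ hup2R π k := by
    by_contra hcon
    have := Nat.find_min' hex hcon
    omega
  obtain ⟨c, hc⟩ := (hup2_mem_R π hπ k w).mp hwk
  have hcR : c ∉ π.range := by
    rintro ⟨e, rfl⟩
    apply hk₀spec
    rw [hk, hup2_mem_R π hπ]
    refine ⟨e, ?_⟩
    rw [← hc, hπ, pow_succ', pow_mul]
  have hwc : Subgroup.zpowers w ≤ Subgroup.zpowers c := by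
    rw [Subgroup.zpowers_le, ← hc]
    exact Subgroup.npow_mem_zpowers c _
  -- the subgroup `⟨c⟩ π(G)`
  set K' := Subgroup.zpowers c ⊔ π.range with hK'
  have hlt1 : π.range < K' := by
    refine lt_of_le_of_ne le_sup_right ?_
    intro he
    apply hcR
    rw [he]
    exact le_sup_left (a := Subgroup.zpowers c) (Subgroup.mem_zpowers c)
  obtain ⟨n, hn⟩ := IsPGroup.iff_card.mp hG
  obtain ⟨r, hr⟩ := IsPGroup.iff_card.mp (hG.to_subgroup π.range)
  obtain ⟨r', hr'⟩ := IsPGroup.iff_card.mp (hG.to_subgroup K')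
  have hnr : n ≤ r + 2 := by
    have h1 : Nat.card π.range * (π.range).index = Nat.card G := Subgroup.card_mul_index _
    rw [hrange] at h1 hr
    rw [hr, hn] at h1
    have h2 : p ^ n ≤ p ^ r * p ^ 2 := by
      rw [← h1]; exact Nat.mul_le_mul_left _ hidx
    rw [← pow_add] at h2
    exact (Nat.pow_le_pow_iff_right hp.one_lt).mp h2
  have hrr' : r < r' := by
    have := hup2_card_lt hlt1
    rw [hr, hr'] at this
    exact (Nat.pow_lt_pow_iff_right hp.one_lt).mp this
  -- a generator `d` modulo `K'`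
  obtain ⟨d, hd⟩ : ∃ d : G, Subgroup.zpowers d ⊔ K' = ⊤ := by
    by_cases hK'top : K' = ⊤
    · exact ⟨1, by rw [hK'top, sup_top_eq]⟩
    obtain ⟨d, hd⟩ : ∃ d : G, d ∉ K' := by
      by_contra hcon
      push Not at hcon
      exact hK'top (eq_top_iff.mpr fun x _ => hcon x)
    refine ⟨d, ?_⟩
    have hlt2 : K' < Subgroup.zpowers d ⊔ K' := by
      refine lt_of_le_of_ne le_sup_right ?_
      intro he
      apply hd
      rw [he]
      exact le_sup_left (a := Subgroup.zpowers d) (Subgroup.mem_zpowers d)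
    obtain ⟨r'', hr''⟩ := IsPGroup.iff_card.mp (hG.to_subgroup (Subgroup.zpowers d ⊔ K'))
    have h3 : r' < r'' := by
      have := hup2_card_lt hlt2
      rw [hr', hr''] at this
      exact (Nat.pow_lt_pow_iff_right hp.one_lt).mp this
    apply Subgroup.eq_top_of_le_card
    rw [hr'', hn]
    exact Nat.pow_le_pow_right hp.pos (by omega)
  have hgen2 : Subgroup.closure ({c, d} : Set G) = ⊤ := by
    apply hup2_eq_top hG π hπ
    rw [eq_top_iff, ← hd, hK', ← sup_assoc]
    refine sup_le (sup_le ?_ ?_) le_sup_right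
    · refine le_trans ?_ le_sup_left
      rw [Subgroup.zpowers_le]
      exact Subgroup.subset_closure (Set.mem_insert_of_mem _ (Set.mem_singleton _))
    · refine le_trans ?_ le_sup_left
      rw [Subgroup.zpowers_le]
      exact Subgroup.subset_closure (Set.mem_insert _ _)
  apply hup2_metacyclic_of_gen c d hgen2
  intro g
  exact hwc (hcomm g c)

end Cfsg.Agent.Lib.H14.R2
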