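import Mathlib
import Cfsg.Agent.Lib.H7.T648Defs
import Cfsg.Agent.Lib.H7.T648Model

/-!
# S3702 piece MODA (helper14): every element of `A648` has a power in `J648 \ {1}`
-/

set_option autoImplicit false

namespace Cfsg.Agent.Lib.H14.T648

open Cfsg Cfsg.Agent.Lib.H7.T648

/-- componentwise form of `y = 1` (the derived `DecidableEq M648` does not reduce in `decide`) -/
def IsOne (y : M648) : Prop := y.v = 0 ∧ y.a = 1 ∧ y.b = 1 ∧ y.p = 1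

instance : DecidablePred IsOne := fun y => by unfold IsOne; infer_instance

theorem isOne_iff (y : M648) : IsOne y ↔ y = 1 := by
  constructor
  · rintro ⟨h1, h2, h3, h4⟩
    exact M648.ext h1 h2 h3 h4
  · rintro rfl
    exact ⟨rfl, rfl, rfl, rfl⟩

set_option maxRecDepth 1000000 in
theorem pow_mem_J648_aux : ∀ (v : Fin 3 → ZMod 3) (a b : ℤˣ) (p : Equiv.Perm (Fin 3)),
    (¬ IsOne ⟨v, a, b, p⟩ ∧ ((⟨v, a, b, p⟩ : M648) ∈ J648 ∨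
      (¬ IsOne ((⟨v, a, b, p⟩ : M648) ^ 3) ∧ ¬ IsOne ((⟨v, a, b, p⟩ : M648) ^ 4)))) →
    ((⟨v, a, b, p⟩ : M648) ^ 1 ∈ J648 ∧ ¬ IsOne ((⟨v, a, b, p⟩ : M648) ^ 1)) ∨
    ((⟨v, a, b, p⟩ : M648) ^ 2 ∈ J648 ∧ ¬ IsOne ((⟨v, a, b, p⟩ : M648) ^ 2)) ∨
    ((⟨v, a, b, p⟩ : M648) ^ 3 ∈ J648 ∧ ¬ IsOne ((⟨v, a, b, p⟩ : M648) ^ 3)) ∨
      ((⟨v, a, b, p⟩ : M648) ^ 4 ∈ J648 ∧ ¬ IsOne ((⟨v, a, b, p⟩ : M648) ^ 4)) := by
  decide +kernel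

theorem exists_pow_mem_J648 (x : M648) (hx : A648 x) : ∃ k : ℕ, x ^ k ∈ J648 ∧ x ^ k ≠ 1 := by
  obtain ⟨v, a, b, p⟩ := x
  have h := pow_mem_J648_aux v a b p
  simp only [isOne_iff] at h
  rcases h hx with h | h | h | h
  · exact ⟨1, h⟩
  · exact ⟨2, h⟩
  · exact ⟨3, h⟩
  · exact ⟨4, h⟩

end Cfsg.Agent.Lib.H14.T648
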