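import Mathlib
import Cfsg.Agent.Lib.H21.A6.Tri3

/-!
# S3702 piece TRI (helper14; copy of helper25's H25.K4.tri3' with `hK` only for `w = v`)

If `u³ = v³ = (uv)³ = 1` then `x = u v⁻¹`, `y = v⁻¹ u`, `z = u⁻¹ v⁻¹ u⁻¹` commute pairwise and are
permuted cyclically by `u`; `A = closure {x, y, z}` is abelian, `u`-invariant and every `α ∈ A` has
trivial norm `α · uαu⁻¹ · u²αu⁻² = 1`.  So an `α ∈ C_A(u)` has `α³ = 1`.
-/

set_option autoImplicit false

namespace Cfsg.Agent.Lib.H14.T648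

open Cfsg.Agent.Lib.H21.Tri3

theorem tri3'' {G : Type*} [Group G] [Finite G] (u v : G) (hu : u ^ 3 = 1) (hv : v ^ 3 = 1)
    (huv : (u * v) ^ 3 = 1)
    (hK : ∀ α : G, α ≠ 1 → α ^ 3 = 1 → α * u = u * α → v * α = α * v → v * u = u * v) :
    u * v = v * u ∨ (IsConj u v ∧ IsConj (u * v) u⁻¹) := by
  have hu2 : u * u = u⁻¹ := by
    have : u * u * u = 1 := by rw [← hu, pow_succ, pow_two]
    exact eq_inv_of_mul_eq_one_left this
  have hv3 : v⁻¹ * v⁻¹ * v⁻¹ = 1 := by
    have : v * v * v = 1 := by rw [← hv, pow_succ, pow_two]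
    calc v⁻¹ * v⁻¹ * v⁻¹ = (v * v * v)⁻¹ := by group
      _ = 1 := by rw [this, inv_one]
  have hvu : (u⁻¹ * v⁻¹) * (u⁻¹ * v⁻¹) * (u⁻¹ * v⁻¹) = 1 := by
    have h1 : (u * v) * (u * v) * (u * v) = 1 := by rw [← huv, pow_succ, pow_two]
    calc (u⁻¹ * v⁻¹) * (u⁻¹ * v⁻¹) * (u⁻¹ * v⁻¹)
        = u⁻¹ * ((u * v) * (u * v) * (u * v))⁻¹ * u := by group
      _ = 1 := by rw [h1]; group
  set x := u * v⁻¹ with hx
  set y := v⁻¹ * u with hy
  set z := u⁻¹ * v⁻¹ * u⁻¹ with hz
  have h1 : x * y * z = 1 := by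
    calc x * y * z = u * (v⁻¹ * v⁻¹ * v⁻¹) * u⁻¹ := by rw [hx, hy, hz]; group
      _ = 1 := by rw [hv3]; group
  have h2 : z * y * x = 1 := by
    calc z * y * x = u⁻¹ * v⁻¹ * u⁻¹ * v⁻¹ * (u * u) * v⁻¹ := by rw [hx, hy, hz]; group
      _ = (u⁻¹ * v⁻¹) * (u⁻¹ * v⁻¹) * (u⁻¹ * v⁻¹) := by rw [hu2]; group
      _ = 1 := hvu
  have hz1 : z = (x * y)⁻¹ := eq_inv_of_mul_eq_one_right h1
  have hz2 : z = (y * x)⁻¹ := by
    apply eq_inv_of_mul_eq_one_left
    rw [← h2]; group
  have hxy : x * y = y * x := by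
    have := hz1.symm.trans hz2
    exact inv_injective this
  have hxz : x * z = z * x := by
    rw [hz1]
    calc x * (x * y)⁻¹ = x * (y * x)⁻¹ := by rw [hxy]
      _ = (x * y)⁻¹ * x := by group
  have hyz : y * z = z * y := by
    rw [hz2]
    calc y * (y * x)⁻¹ = y * (x * y)⁻¹ := by rw [hxy]
      _ = (y * x)⁻¹ * y := by group
  have hu2' : u⁻¹ * u⁻¹ = u := by
    have h3 : u * u * u = 1 := by rw [← hu, pow_succ, pow_two]
    calc u⁻¹ * u⁻¹ = u⁻¹ * u⁻¹ * (u * u * u) := by rw [h3, mul_one]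
      _ = u := by group
  -- the action of `u`
  have cxy : u⁻¹ * x * u = y := by rw [hx, hy]; group
  have cyz : u⁻¹ * y * u = z := by
    calc u⁻¹ * y * u = u⁻¹ * v⁻¹ * (u * u) := by rw [hy]; group
      _ = z := by rw [hu2, hz]
  have czx : u⁻¹ * z * u = x := by
    calc u⁻¹ * z * u = (u⁻¹ * u⁻¹) * v⁻¹ := by rw [hz]; group
      _ = x := by rw [hu2', hx]
  have dxz : u * x * u⁻¹ = z := by rw [← czx]; group
  have dyx : u * y * u⁻¹ = x := by rw [← cxy]; group
  have dzy : u * z * u⁻¹ = y := by rw [← cyz]; group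
  set T : Set G := {x, y, z} with hT
  have hTmem : ∀ t, t ∈ T ↔ t = x ∨ t = y ∨ t = z := by
    intro t; rw [hT]; simp
  have hTc : ∀ t ∈ T, u⁻¹ * t * u ∈ T := by
    intro t ht
    rcases (hTmem t).1 ht with rfl | rfl | rfl
    · rw [cxy]; exact (hTmem _).2 (Or.inr (Or.inl rfl))
    · rw [cyz]; exact (hTmem _).2 (Or.inr (Or.inr rfl))
    · rw [czx]; exact (hTmem _).2 (Or.inl rfl)
  have hTd : ∀ t ∈ T, u * t * u⁻¹ ∈ T := by
    intro t ht
    rcases (hTmem t).1 ht with rfl | rfl | rfl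
    · rw [dxz]; exact (hTmem _).2 (Or.inr (Or.inr rfl))
    · rw [dyx]; exact (hTmem _).2 (Or.inl rfl)
    · rw [dzy]; exact (hTmem _).2 (Or.inr (Or.inl rfl))
  have hTcomm : ∀ s ∈ T, ∀ t ∈ T, s * t = t * s := by
    intro s hs t ht
    rcases (hTmem s).1 hs with rfl | rfl | rfl <;> rcases (hTmem t).1 ht with rfl | rfl | rfl
    · rfl
    · exact hxy
    · exact hxz
    · exact hxy.symm
    · rfl
    · exact hyz
    · exact hxz.symm
    · exact hyz.symm
    · rfl
  -- the abelian group `A = closure T`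
  set A : Subgroup G := Subgroup.closure T with hA
  have hTA : ∀ t ∈ T, t ∈ A := fun t ht => Subgroup.subset_closure ht
  have hAcomm : ∀ a ∈ A, ∀ b ∈ A, a * b = b * a := by
    have hle : A ≤ Subgroup.centralizer (A : Set G) := by
      rw [hA, Subgroup.closure_le]
      intro t ht
      rw [SetLike.mem_coe, Subgroup.mem_centralizer_iff]
      intro a ha
      have hle2 : Subgroup.closure T ≤ Subgroup.centralizer ({t} : Set G) := by
        rw [Subgroup.closure_le]
        intro s hs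
        rw [SetLike.mem_coe, Subgroup.mem_centralizer_iff]
        intro t' ht'
        rw [Set.mem_singleton_iff] at ht'
        subst ht'
        exact hTcomm _ ht s hs
      have := hle2 ha
      rw [Subgroup.mem_centralizer_iff] at this
      exact (this t rfl).symm
    intro a ha b hb
    have := hle hb
    rw [Subgroup.mem_centralizer_iff] at this
    exact this a ha
  -- invariance
  have hAd : ∀ α ∈ A, u * α * u⁻¹ ∈ A := by
    intro α hα
    induction hα using Subgroup.closure_induction with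
    | mem t ht => exact hTA _ (hTd t ht)
    | one => simp
    | mul a b _ _ iha ihb =>
      have : u * (a * b) * u⁻¹ = (u * a * u⁻¹) * (u * b * u⁻¹) := by group
      rw [this]; exact A.mul_mem iha ihb
    | inv a _ iha =>
      have : u * a⁻¹ * u⁻¹ = (u * a * u⁻¹)⁻¹ := by group
      rw [this]; exact A.inv_mem iha
  have hAc : ∀ α ∈ A, u⁻¹ * α * (u⁻¹)⁻¹ ∈ A := by
    intro α hα
    induction hα using Subgroup.closure_induction with
    | mem t ht => rw [inv_inv]; exact hTA _ (hTc t ht)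
    | one => simp
    | mul a b _ _ iha ihb =>
      have : u⁻¹ * (a * b) * (u⁻¹)⁻¹ = (u⁻¹ * a * (u⁻¹)⁻¹) * (u⁻¹ * b * (u⁻¹)⁻¹) := by group
      rw [this]; exact A.mul_mem iha ihb
    | inv a _ iha =>
      have : u⁻¹ * a⁻¹ * (u⁻¹)⁻¹ = (u⁻¹ * a * (u⁻¹)⁻¹)⁻¹ := by group
      rw [this]; exact A.inv_mem iha
  -- the norm is trivial on `A`
  have hnorm : ∀ α ∈ A, α * (u * α * u⁻¹) * (u * (u * α * u⁻¹) * u⁻¹) = 1 := by
    intro α hα
    induction hα using Subgroup.closure_induction with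
    | mem t ht =>
      rcases (hTmem t).1 ht with rfl | rfl | rfl
      · rw [dxz, dzy]
        calc x * z * y = x * (z * y) := by group
          _ = x * (y * z) := by rw [hyz]
          _ = x * y * z := by group
          _ = 1 := h1
      · rw [dyx, dxz]
        calc y * x * z = (x * y) * z := by rw [hxy]
          _ = 1 := h1
      · rw [dzy, dyx]; exact h2
    | one => simp
    | mul a b ha hb iha ihb =>
      have ha1 := hAd a ha
      have ha2 := hAd _ ha1
      have hb1 := hAd b hb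
      have hb2 := hAd _ hb1
      have hcm : ∀ c d : G, u * (c * d) * u⁻¹ = (u * c * u⁻¹) * (u * d * u⁻¹) := by
        intro c d; group
      have e1 : u * (a * b) * u⁻¹ = (u * a * u⁻¹) * (u * b * u⁻¹) := hcm a b
      have e2 : u * ((u * a * u⁻¹) * (u * b * u⁻¹)) * u⁻¹ =
          (u * (u * a * u⁻¹) * u⁻¹) * (u * (u * b * u⁻¹) * u⁻¹) := hcm _ _
      rw [e1, e2]
      set a1 := u * a * u⁻¹
      set a2 := u * a1 * u⁻¹
      set b1 := u * b * u⁻¹
      set b2 := u * b1 * u⁻¹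
      have c1 : b * a1 = a1 * b := hAcomm b hb a1 ha1
      have c2 : b * a2 = a2 * b := hAcomm b hb a2 ha2
      have c3 : b1 * a2 = a2 * b1 := hAcomm b1 hb1 a2 ha2
      calc a * b * (a1 * b1) * (a2 * b2) = a * (b * a1) * b1 * a2 * b2 := by group
        _ = a * (a1 * b) * b1 * a2 * b2 := by rw [c1]
        _ = a * a1 * b * (b1 * a2) * b2 := by group
        _ = a * a1 * b * (a2 * b1) * b2 := by rw [c3]
        _ = a * a1 * (b * a2) * b1 * b2 := by group
        _ = a * a1 * (a2 * b) * b1 * b2 := by rw [c2]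
        _ = (a * a1 * a2) * (b * b1 * b2) := by group
        _ = 1 := by rw [iha, ihb, one_mul]
    | inv a ha iha =>
      have ha1 := hAd a ha
      have ha2 := hAd _ ha1
      have hci : ∀ b : G, u * b⁻¹ * u⁻¹ = (u * b * u⁻¹)⁻¹ := by intro b; group
      have e1 : u * a⁻¹ * u⁻¹ = (u * a * u⁻¹)⁻¹ := hci a
      have e2 : u * (u * a * u⁻¹)⁻¹ * u⁻¹ = (u * (u * a * u⁻¹) * u⁻¹)⁻¹ := hci _
      rw [e1, e2]
      set a1 := u * a * u⁻¹
      set a2 := u * a1 * u⁻¹
      have c1 : a * a1 = a1 * a := hAcomm a ha a1 ha1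
      have c2 : a * a2 = a2 * a := hAcomm a ha a2 ha2
      have c3 : a1 * a2 = a2 * a1 := hAcomm a1 ha1 a2 ha2
      have : a2 * a1 * a = 1 := by
        calc a2 * a1 * a = a2 * (a1 * a) := by group
          _ = a2 * (a * a1) := by rw [c1]
          _ = (a2 * a) * a1 := by group
          _ = (a * a2) * a1 := by rw [c2]
          _ = a * (a2 * a1) := by group
          _ = a * (a1 * a2) := by rw [c3]
          _ = a * a1 * a2 := by group
          _ = 1 := iha
      calc a⁻¹ * a1⁻¹ * a2⁻¹ = (a2 * a1 * a)⁻¹ := by group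
        _ = 1 := by rw [this, inv_one]
  have hxA : x ∈ A := hTA x ((hTmem x).2 (Or.inl rfl))
  have hvx : v = x⁻¹ * u := by rw [hx]; group
  by_cases hfix : ∃ α ∈ A, α ≠ 1 ∧ α * u = u * α
  · left
    obtain ⟨α, hαA, hα1, hαu⟩ := hfix
    have hα3 : α ^ 3 = 1 := by
      have h3 := hnorm α hαA
      have e1 : u * α * u⁻¹ = α := by rw [← hαu]; group
      rw [e1, e1] at h3
      rw [pow_succ, pow_two]; exact h3
    have hvα : v * α = α * v := by
      rw [hvx]
      have c1 : x * α = α * x := hAcomm x hxA α hαA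
      calc x⁻¹ * u * α = x⁻¹ * (u * α) := by group
        _ = x⁻¹ * (α * u) := by rw [hαu]
        _ = x⁻¹ * (α * x) * x⁻¹ * u := by group
        _ = x⁻¹ * (x * α) * x⁻¹ * u := by rw [c1]
        _ = α * (x⁻¹ * u) := by group
    exact (hK α hα1 hα3 hαu hvα).symm
  · right
    push Not at hfix
    have hfix1 : ∀ α ∈ A, α * u = u * α → α = 1 := by
      intro α hα hαu
      by_contra hne
      exact hfix α hα hne hαu
    have hfix2 : ∀ α ∈ A, α * u⁻¹ = u⁻¹ * α → α = 1 := by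
      intro α hα hαu
      apply hfix1 α hα
      calc α * u = u * (u⁻¹ * α) * u := by group
        _ = u * (α * u⁻¹) * u := by rw [hαu]
        _ = u * α := by group
    constructor
    · obtain ⟨α, -, hα⟩ := coset_conj A u hAd hfix1 x⁻¹ (A.inv_mem hxA)
      rw [isConj_iff]
      exact ⟨α, by rw [hα, hvx]⟩
    · have hw : u * x⁻¹ * u⁻¹ ∈ A := hAd _ (A.inv_mem hxA)
      obtain ⟨β, -, hβ⟩ := coset_conj A u⁻¹ hAc hfix2 (u * x⁻¹ * u⁻¹) hw
      rw [isConj_comm, isConj_iff]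
      refine ⟨β, ?_⟩
      rw [hβ, hvx]
      calc u * x⁻¹ * u⁻¹ * u⁻¹ = u * x⁻¹ * (u⁻¹ * u⁻¹) := by group
        _ = u * (x⁻¹ * u) := by rw [hu2']; group

end Cfsg.Agent.Lib.H14.T648
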