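import Mathlib
import Cfsg.Agent.Lib.H23.Ito
import Cfsg.Agent.Lib.L0.CharIndChar

/-!
# S4591 piece PPC (helper14): a character of degree prime to `p` has an irreducible constituent of
degree prime to `p`.
-/

set_option autoImplicit false

namespace Cfsg.Agent.Lib.H14.KPP

open Cfsg Cfsg.Agent.Lib.L0 Cfsg.Agent.Lib.H23

variable {G : Type*} [Group G] [Fintype G] (p : ℕ) [hp : Fact p.Prime]

/-- the value at `1` of a sum of irreducible characters is the sum of the degrees -/
theorem list_sum_apply_one (l : List (G → ℂ)) (hl : ∀ χ ∈ l, IsIrrCharacter G χ) :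
    l.sum 1 = (((l.map fun χ => charDegree χ).sum : ℕ) : ℂ) := by
  induction l with
  | nil => simp
  | cons a l ih =>
    rw [List.sum_cons, Pi.add_apply, ih fun χ hχ => hl χ (by simp [hχ]),
      apply_one_eq_charDegree a (hl a (by simp)), List.map_cons, List.sum_cons]
    push_cast
    rfl

/-- PPC: a character of degree prime to `p` has an irreducible constituent of degree prime to `p`. -/
theorem exists_pprime_constituent (ψ : G → ℂ) (hψ : IsCharacter G ψ) (d : ℕ) (hd : ψ 1 = d)
    (hpd : ¬ p ∣ d) :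
    ∃ χ : IrrCharacter G, ¬ p ∣ charDegree (χ : G → ℂ) ∧ classInner ψ (χ : G → ℂ) ≠ 0 := by
  classical
  obtain ⟨l, hl, rfl⟩ := isCharacter_exists_irr_decomp hψ
  by_contra hcon
  apply hpd
  have hall : ∀ χ ∈ l, p ∣ charDegree χ := by
    intro χ hχ
    by_contra hnd
    apply hcon
    refine ⟨⟨χ, hl χ hχ⟩, hnd, ?_⟩
    rw [classInner_irr_list_sum hl (hl χ hχ)]
    have : 0 < l.count χ := List.count_pos_iff.mpr hχ
    exact_mod_cast this.ne'
  have h1 := list_sum_apply_one l hl
  rw [hd] at h1
  have h2 : d = (l.map fun χ => charDegree χ).sum := by exact_mod_cast h1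
  rw [h2]
  apply List.dvd_sum
  intro x hx
  obtain ⟨χ, hχ, rfl⟩ := List.mem_map.mp hx
  exact hall χ hχ

end Cfsg.Agent.Lib.H14.KPP
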