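import Mathlib
import Cfsg.Agent.Lib.H24.CharKer
import Cfsg.Agent.Lib.L0.CharIndChar

/-!
# S4591 piece RESK (helper14): if `χ x = χ 1` then every irreducible constituent `μ` of `χ_H` has
`μ x = μ 1`.
-/

set_option autoImplicit false

namespace Cfsg.Agent.Lib.H14.KPP

open Cfsg Cfsg.Agent.Lib.L0 Cfsg.Agent.Lib.H24

variable {G : Type*} [Group G] [Fintype G] (p : ℕ) [hp : Fact p.Prime]

theorem eq_of_re_eq_of_norm_le {z : ℂ} {n : ℝ} (h1 : ‖z‖ ≤ n) (h2 : z.re = n) : z = n := by
  have h0 : 0 ≤ ‖z‖ := norm_nonneg z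
  have h3 : z.re * z.re + z.im * z.im ≤ n * n := by
    have h4 : ‖z‖ ^ 2 = z.re * z.re + z.im * z.im := by
      rw [Complex.sq_norm, Complex.normSq_apply]
    nlinarith
  have h5 : z.im = 0 := by
    rw [h2] at h3
    nlinarith
  apply Complex.ext
  · simpa using h2
  · simpa using h5

/-- a character value is bounded by the degree -/
theorem irr_norm_le {K : Type*} [Group K] [Finite K] (ψ : K → ℂ) (hψ : IsIrrCharacter K ψ) (x : K) :
    ∃ n : ℕ, ψ 1 = n ∧ ‖ψ x‖ ≤ n := by
  obtain ⟨n, ρ, _, rfl⟩ := hψ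
  refine ⟨n, ?_, ?_⟩
  · rw [Representation.char_one]; simp
  · have := norm_char_le ρ x
    simpa using this

theorem list_re_eq {K : Type*} [Group K] [Finite K] (x : K) (l : List (K → ℂ))
    (hl : ∀ ψ ∈ l, IsIrrCharacter K ψ) :
    (l.sum x).re ≤ (l.sum 1).re ∧
      ((l.sum x).re = (l.sum 1).re → ∀ ψ ∈ l, ψ x = ψ 1) := by
  induction l with
  | nil => simp
  | cons a l ih =>
    obtain ⟨h1, h2⟩ := ih fun ψ hψ => hl ψ (by simp [hψ])
    obtain ⟨n, hn1, hn2⟩ := irr_norm_le a (hl a (by simp)) x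
    have hre : (a x).re ≤ (n : ℝ) := le_trans (Complex.re_le_norm _) hn2
    have ha1 : (a 1).re = n := by rw [hn1]; simp
    simp only [List.sum_cons, Pi.add_apply, Complex.add_re]
    refine ⟨by linarith, ?_⟩
    intro heq ψ hψ
    rcases List.mem_cons.mp hψ with rfl | hψ'
    · have : (ψ x).re = n := by linarith
      rw [hn1]
      exact eq_of_re_eq_of_norm_le hn2 this
    · exact h2 (by linarith) ψ hψ'

/-- RESK: if `χ x = χ 1` then every irreducible constituent `μ` of `χ_H` has `μ x = μ 1`. -/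
theorem constituent_apply_eq (H : Subgroup G) [Fintype H] (χ : G → ℂ) (hχ : IsCharacter G χ)
    (μ : H → ℂ) (hμ : IsIrrCharacter H μ)
    (hcon : classInner (fun x : H => χ x) μ ≠ 0) (x : H) (hx : χ x = χ 1) : μ x = μ 1 := by
  classical
  obtain ⟨l, hl, hsum⟩ := isCharacter_exists_irr_decomp (isCharacter_restrict H hχ)
  have hmem : μ ∈ l := by
    have h := classInner_irr_list_sum hl hμ
    rw [← hsum] at h
    rw [h] at hcon
    have : l.count μ ≠ 0 := by
      intro h0; apply hcon; rw [h0]; simp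
    exact List.count_pos_iff.mp (Nat.pos_of_ne_zero this)
  have hx' : l.sum x = l.sum 1 := by
    rw [← hsum]
    exact hx
  exact (list_re_eq x l hl).2 (by rw [hx']) μ hmem

end Cfsg.Agent.Lib.H14.KPP
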