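import Cfsg.Agent.Lib.H12.ReeW2

set_option autoImplicit false

namespace Cfsg.Agent.Lib.H14.Ree

open Cfsg.Agent.Lib.H12.ReeC Cfsg.Agent.Lib.H12.ReeC.RSys

/-- generic: if every involution is conjugate to the involution `a`, the involutions are counted by the index of `C(a)` -/
theorem card_involutions_of_conj {Γ : Type*} [Group Γ] [Finite Γ] (a : Γ) (ha1 : a ≠ 1) (ha2 : a * a = 1)
    (hconj : ∀ v : Γ, v ≠ 1 → v * v = 1 → ∃ g : Γ, g * a * g⁻¹ = v) :
    Nat.card {g : Γ // orderOf g = 2} = (Subgroup.centralizer ({a} : Set Γ)).index := by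
  classical
  have hinv : ∀ h : Γ, orderOf (h * a * h⁻¹) = 2 := by
    intro h
    have : Fact (Nat.Prime 2) := ⟨Nat.prime_two⟩
    rw [orderOf_eq_prime_iff]
    refine ⟨?_, ?_⟩
    · rw [pow_two]
      have : h * a * h⁻¹ * (h * a * h⁻¹) = h * (a * a) * h⁻¹ := by group
      rw [this, ha2]; group
    · intro h1
      apply ha1
      have : a = h⁻¹ * (h * a * h⁻¹) * h := by group
      rw [this, h1]; group
  let C := Subgroup.centralizer ({a} : Set Γ)
  let f : Γ ⧸ C → {g : Γ // orderOf g = 2} :=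
    Quotient.lift (s := QuotientGroup.leftRel C) (fun h => ⟨h * a * h⁻¹, hinv h⟩) (by
      intro x y hxy
      have hxy : x⁻¹ * y ∈ C := QuotientGroup.leftRel_apply.mp hxy
      have hc : (x⁻¹ * y) * a = a * (x⁻¹ * y) := by
        have := Subgroup.mem_centralizer_iff.mp hxy a (Set.mem_singleton a)
        exact this.symm
      apply Subtype.ext
      show x * a * x⁻¹ = y * a * y⁻¹
      have h1 : y = x * (x⁻¹ * y) := by group
      rw [h1]
      have h2 : x * (x⁻¹ * y) * a * (x * (x⁻¹ * y))⁻¹ = x * ((x⁻¹ * y) * a) * (x⁻¹ * y)⁻¹ * x⁻¹ := by group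
      rw [h2, hc]; group)
  have hf : Function.Bijective f := by
    constructor
    · intro x y
      induction x using QuotientGroup.induction_on with | _ x => ?_
      induction y using QuotientGroup.induction_on with | _ y => ?_
      intro hxy
      have h1 : x * a * x⁻¹ = y * a * y⁻¹ := congrArg Subtype.val hxy
      apply QuotientGroup.eq.mpr
      show x⁻¹ * y ∈ Subgroup.centralizer ({a} : Set Γ)
      rw [Subgroup.mem_centralizer_iff]
      intro z hz
      rw [Set.mem_singleton_iff] at hz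
      subst hz
      have h2 : z = x⁻¹ * (x * z * x⁻¹) * x := by group
      have : z * (x⁻¹ * y) = x⁻¹ * (x * z * x⁻¹) * y := by group
      rw [this, h1]; group
    · intro v
      have hv : orderOf v.1 = 2 := v.2
      have : Fact (Nat.Prime 2) := ⟨Nat.prime_two⟩
      rw [orderOf_eq_prime_iff] at hv
      obtain ⟨g, hg⟩ := hconj v.1 hv.2 (by rw [← pow_two]; exact hv.1)
      exact ⟨(g : Γ ⧸ C), Subtype.ext hg⟩
  rw [Subgroup.index, ← Nat.card_congr (Equiv.ofBijective f hf)]

variable {G K : Type*} [Group G] [Field K] {R : RSys G K} [Fintype K] [Finite G]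

/-- **REE-K3** -/
theorem ReeData.card_involutions {q : ℕ} (D : R.ReeData q) :
    Nat.card {g : G // orderOf g = 2} = q ^ 2 * (q ^ 2 - q + 1) := by
  obtain ⟨k, hN, hk⟩ := D.two_part
  have hconj := R.involution_conj D.hq8' k hN hk D.hZ
  have h3 := D.three_le
  obtain ⟨s, rfl⟩ : ∃ s, q = s + 1 := ⟨q - 1, by omega⟩
  have hcard : Nat.card G = (s + 1) ^ 3 * s * ((s + 1) ^ 3 + 1) := by
    have := D.hcard
    simpa using this
  have hidx := R.index_centralizer_a s D.hq hcard D.hodd (by omega)
  rw [card_involutions_of_conj R.a R.a_ne_one R.a_sq hconj, hidx]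
  have e : (s + 1) ^ 2 - (s + 1) + 1 = s ^ 2 + s + 1 := by
    have : (s + 1) ^ 2 = s ^ 2 + s + (s + 1) := by ring
    rw [this, Nat.add_sub_cancel]
  rw [e]

end Cfsg.Agent.Lib.H14.Ree
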