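import Mathlib
import Cfsg.Prelude.Def_Blocks
import Cfsg.Prelude.Def_CharExt
import Cfsg.Agent.Lib.H21.AD.Defs
import Cfsg.Agent.Lib.H28.NT.Defs
import Cfsg.Agent.Lib.H2.ADSOLCore
import Cfsg.Agent.Lib.H24.CharLinearMul
import Cfsg.Agent.Lib.L0.CharOps

/-!
# S4892, piece (SOLF), core (helper14)

Base-free version of `H2.AD.sol_core` (Alperin's induction): a principal extension of `θ` exists on
every `J ⊇ N` with `J / N` a solvable `p'`-group.  The uniqueness statement (KEYF) and the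
conjugation statement (CONJA) are hypotheses here; `Lib/H14/NTSOLF.lean` plugs in the landed pieces.
-/

set_option autoImplicit false
open Cfsg.Agent.Lib.H21.AD Cfsg.Agent.Lib.H28.NT

namespace Cfsg.Agent.Lib.H14.NT

variable {G : Type*} [Group G] [Finite G] {p : ℕ} {M : Ideal Cfsg.AlgInt} {N Q : Subgroup G}
  {θ : G → ℂ}

/-- an invariant irreducible character on a normal subgroup `J₁` of prime index in `J` extends to
`J` (as functions on `G`) -/
theorem exists_char_ext (J₁ J : Subgroup G) (h1J : J₁ ≤ J)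
    (hnorm : ∀ a ∈ J, ∀ b ∈ J₁, a * b * a⁻¹ ∈ J₁) (hprime : (J₁.relIndex J).Prime)
    (f₁ : G → ℂ) (hirr : Cfsg.IsIrrCharacter J₁ (fun y : J₁ => f₁ y))
    (hinv : ∀ t ∈ J, ∀ g ∈ J₁, f₁ (t⁻¹ * g * t) = f₁ g) :
    ∃ f' : G → ℂ, Cfsg.IsIrrCharacter J (fun y : J => f' y) ∧ ∀ g ∈ J₁, f' g = f₁ g := by
  classical
  set A : Subgroup ↥J := J₁.subgroupOf J with hA
  have hAn : A.Normal := ⟨fun n hn g => by
      rw [hA, Subgroup.mem_subgroupOf] at hn ⊢
      simpa using hnorm g g.2 n hn⟩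
  have hcyc : IsCyclic (↥J ⧸ A) := by
    have : Fact (J₁.relIndex J).Prime := ⟨hprime⟩
    exact isCyclic_of_prime_card (p := J₁.relIndex J) rfl
  have hmemA : ∀ n : ↥A, ((n : ↥J) : G) ∈ J₁ := fun n => Subgroup.mem_subgroupOf.1 n.2
  let e : ↥A ≃* ↥J₁ := Subgroup.subgroupOfEquivOfLe h1J
  have hϑ : Cfsg.IsIrrCharacter ↥A (fun n => f₁ ((n : ↥J) : G)) := by
    have := Cfsg.Agent.Lib.L0.isIrrCharacter_comp_of_surjective e.toMonoidHom e.surjective hirr
    exact this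
  obtain ⟨χ, hχirr, hχ⟩ := Cfsg.Agent.Lib.H23.exists_extension_of_cyclic A hcyc
    (fun n => f₁ ((n : ↥J) : G)) hϑ (by
      intro g n
      have := hinv ((g : G)⁻¹) (J.inv_mem g.2) ((n : ↥J) : G) (hmemA n)
      simpa using this)
  refine ⟨fun g => if h : g ∈ J then χ ⟨g, h⟩ else 0, ?_, ?_⟩
  · have : (fun y : J => (fun g => if h : g ∈ J then χ ⟨g, h⟩ else 0) (y : G)) = χ := by
      funext y
      beta_reduce
      rw [dif_pos y.2]
    rw [this]
    exact hχirr
  · intro g hg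
    have hgJ : g ∈ J := h1J hg
    beta_reduce
    rw [dif_pos hgJ]
    exact hχ ⟨⟨g, hgJ⟩, Subgroup.mem_subgroupOf.2 hg⟩

/-- twisting an irreducible character of `J` (as a function on `G`) by a linear twist -/
theorem isIrr_mul_twist (J₁ J : Subgroup G) (h1J : J₁ ≤ J) (f' μ : G → ℂ)
    (hirr : Cfsg.IsIrrCharacter J (fun y : J => f' y)) (hμ : IsTwist J₁ J μ) :
    Cfsg.IsIrrCharacter J (fun y : J => f' y * μ y) := by
  classical
  have h1 : μ 1 = 1 := hμ.2 1 J₁.one_mem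
  let m0 : ↥J →* ℂ :=
    { toFun := fun y => μ (y : G)
      map_one' := h1
      map_mul' := fun a b => hμ.1 _ a.2 _ b.2 }
  let m : ↥J →* ℂˣ := m0.toHomUnits
  have hm : ∀ y : ↥J, ((m y : ℂˣ) : ℂ) = μ (y : G) := fun y => rfl
  have := Cfsg.Agent.Lib.H24.isIrrCharacter_mul_hom (fun y : J => f' y) hirr m
  simpa only [hm] using this

/-- (SOLF) with (KEYF) and (CONJA) as hypotheses. -/
theorem exists_goodA_core [N.Normal] (h : Hyp p M N Q θ)
    (hkey : ∀ (J₁ J₂ : Subgroup G), N ≤ J₁ → J₁ ≤ J₂ → ¬ p ∣ N.relIndex J₂ →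
      ∀ f₁ f₂ : G → ℂ, GoodA p N θ J₁ f₁ → GoodA p N θ J₂ f₂ → ∀ g ∈ J₁, f₁ g = f₂ g)
    (hconj : ∀ (J : Subgroup G), N ≤ J → ∀ f : G → ℂ, GoodA p N θ J f → ∀ t : G,
      GoodA p N θ (J.map (MulAut.conj t).toMonoidHom) (fun x => f (t⁻¹ * x * t))) :
    ∀ (n : ℕ) (J : Subgroup G), Nat.card J = n → N ≤ J → ¬ p ∣ N.relIndex J →
      Group.IsSolvable (↥J ⧸ N.subgroupOf J) → ∃ f : G → ℂ, GoodA p N θ J f := by
  intro n
  induction n using Nat.strong_induction_on with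
  | _ n ih =>
    intro J hcard hNJ hp hsol
    by_cases hJN : J ≤ N
    · -- `J = N`
      have hJ : J = N := le_antisymm hJN hNJ
      subst hJ
      exact ⟨θ, ⟨h.hirr, fun _ _ => rfl⟩, h.hB⟩
    · obtain ⟨J₁, hN1, h1J, hnorm, hprime, hab, hsol₁⟩ :=
        Cfsg.Agent.Lib.H2.AD.exists_sub N J hNJ hJN hsol
      have hmul : N.relIndex J₁ * J₁.relIndex J = N.relIndex J :=
        Subgroup.relIndex_mul_relIndex N J₁ J hN1 h1J
      have hp₁ : ¬ p ∣ N.relIndex J₁ := fun h => hp (hmul ▸ Dvd.dvd.mul_right h _)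
      have hlt : Nat.card J₁ < Nat.card J := by
        have h1 : J₁.relIndex J * Nat.card J₁ = Nat.card J := by
          have := Subgroup.relIndex_mul_relIndex ⊥ J₁ J bot_le h1J
          rw [Subgroup.relIndex_bot_left, Subgroup.relIndex_bot_left] at this
          rw [mul_comm]
          exact this
        have h2 : 2 ≤ J₁.relIndex J := hprime.two_le
        have h3 : 0 < Nat.card J₁ := Nat.card_pos
        nlinarith
      obtain ⟨f₁, hgood₁⟩ := ih (Nat.card J₁) (hcard ▸ hlt) J₁ rfl hN1 hp₁ hsol₁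
      -- `f₁` is `J`-invariant
      have hinv : ∀ t ∈ J, ∀ g ∈ J₁, f₁ (t⁻¹ * g * t) = f₁ g := by
        intro t ht
        have hg := hconj J₁ hN1 f₁ hgood₁ t
        have hmap : J₁.map (MulAut.conj t).toMonoidHom = J₁ := by
          ext x
          constructor
          · rintro ⟨y, hy, rfl⟩
            exact hnorm t ht y hy
          · intro hx
            refine ⟨t⁻¹ * x * t, ?_, ?_⟩
            · have := hnorm t⁻¹ (J.inv_mem ht) x hx
              simpa using this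
            · simp [MulAut.conj_apply, mul_assoc]
        rw [hmap] at hg
        exact hkey J₁ J₁ hN1 le_rfl hp₁ _ f₁ hg hgood₁
      -- extend to `J`
      obtain ⟨f', hf'irr, hf'1⟩ := exists_char_ext J₁ J h1J hnorm hprime f₁ hgood₁.1.1 hinv
      -- correct by a twist of `J / J₁`
      have hf : sSum p J₁ f' ≠ 0 := by
        rw [Cfsg.Agent.Lib.H2.AD.sSum_congr p J₁ f' f₁ hf'1]
        exact hgood₁.2
      obtain ⟨μ, hμ, hμs⟩ := Cfsg.Agent.Lib.H28.AD.ab p J₁ J h1J hnorm hab f' hf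
      refine ⟨fun g => f' g * μ g, ⟨isIrr_mul_twist J₁ J h1J f' μ hf'irr hμ, ?_⟩, hμs⟩
      intro x hx
      show f' x * μ x = θ x
      rw [hf'1 x (hN1 hx), hμ.2 x (hN1 hx), mul_one]
      exact hgood₁.1.2 x hx

end Cfsg.Agent.Lib.H14.NT
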