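import Mathlib

/-!
# S4330 (Fumagalli's subnormality criterion, solvable case): basic definitions (helper14)

`V` is a finite abelian group written multiplicatively; groups of operators are subgroups of
`MulAut V` (so all actions are faithful by construction).
-/

set_option autoImplicit false

namespace Cfsg.Agent.Lib.H14.Fum

universe u

variable {V : Type u} [CommGroup V]

/-- The fixed points `C_V(B)` of a group `B` of automorphisms of `V`. -/
def fixedPts (B : Subgroup (MulAut V)) : Subgroup V where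
  carrier := {v | ∀ b ∈ B, b v = v}
  one_mem' := fun b _ => map_one b
  mul_mem' := fun {x y} hx hy b hb => by
    show b (x * y) = x * y
    rw [map_mul, hx b hb, hy b hb]
  inv_mem' := fun {x} hx b hb => by
    show b x⁻¹ = x⁻¹
    rw [map_inv, hx b hb]

theorem mem_fixedPts {B : Subgroup (MulAut V)} {v : V} : v ∈ fixedPts B ↔ ∀ b ∈ B, b v = v :=
  Iff.rfl

theorem fixedPts_anti {B C : Subgroup (MulAut V)} (h : B ≤ C) : fixedPts C ≤ fixedPts B :=
  fun _ hv b hb => hv b (h hb)

/-- `γ` maps `C_V(B)` onto `C_V(γ B γ⁻¹)`. -/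
theorem apply_mem_fixedPts_conj {B : Subgroup (MulAut V)} (γ : MulAut V) {v : V}
    (hv : v ∈ fixedPts B) : γ v ∈ fixedPts (B.map (MulAut.conj γ).toMonoidHom) := by
  intro b hb
  obtain ⟨c, hc, rfl⟩ := hb
  show (γ * c * γ⁻¹) (γ v) = γ v
  show γ (c (γ⁻¹ (γ v))) = γ v
  have : γ⁻¹ (γ v) = v := by
    show (γ⁻¹ * γ) v = v
    rw [inv_mul_cancel]; rfl
  rw [this, hv c hc]

/-- The subgroup `[V,B]` generated by the elements `b v * v⁻¹`. -/
def commPts (B : Subgroup (MulAut V)) : Subgroup V :=
  Subgroup.closure {x | ∃ b ∈ B, ∃ v : V, x = b v * v⁻¹}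

/-- Restriction to an invariant subgroup `W` of the automorphisms in `Δ`. -/
def resAut (W : Subgroup V) (Δ : Subgroup (MulAut V)) (hW : ∀ δ ∈ Δ, ∀ w ∈ W, δ w ∈ W) :
    ↥Δ →* MulAut ↥W where
  toFun δ :=
    { toFun := fun w => ⟨(δ : MulAut V) w, hW δ δ.2 w w.2⟩
      invFun := fun w => ⟨((δ : MulAut V)⁻¹) w, hW _ (Δ.inv_mem δ.2) w w.2⟩
      left_inv := fun w => by
        apply Subtype.ext
        show ((δ : MulAut V)⁻¹ * (δ : MulAut V)) (w : V) = w
        rw [inv_mul_cancel]; rfl
      right_inv := fun w => by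
        apply Subtype.ext
        show ((δ : MulAut V) * (δ : MulAut V)⁻¹) (w : V) = w
        rw [mul_inv_cancel]; rfl
      map_mul' := fun x y => by
        apply Subtype.ext
        show (δ : MulAut V) ((x : V) * y) = (δ : MulAut V) x * (δ : MulAut V) y
        rw [map_mul] }
  map_one' := by
    ext w
    rfl
  map_mul' := fun x y => by
    ext w
    rfl

@[simp] theorem resAut_apply_coe (W : Subgroup V) (Δ : Subgroup (MulAut V))
    (hW : ∀ δ ∈ Δ, ∀ w ∈ W, δ w ∈ W) (δ : ↥Δ) (w : ↥W) :
    ((resAut W Δ hW δ w : ↥W) : V) = (δ : MulAut V) w := rfl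

instance [Finite V] : Finite (MulAut V) :=
  Finite.of_injective (fun e : MulAut V => (e : V → V)) DFunLike.coe_injective

end Cfsg.Agent.Lib.H14.Fum
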