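import Mathlib
import Cfsg.Agent.Lib.H13.HSDefs

/-!
# S2536 piece L1A (helper14): first consequences of the no-carry conditions
-/

set_option autoImplicit false

namespace Cfsg.Agent.Lib.H14.HS

/-- if every exact prime power of `X` divides `Y` then `X ∣ Y` (local copy of L1D). -/
theorem l1_dvd_of_exact_pow_dvd {X Y : ℕ} (hX : X ≠ 0)
    (h : ∀ l : ℕ, l.Prime → l ∣ X → l ^ (X.factorization l) ∣ Y) : X ∣ Y := by
  rw [Nat.dvd_iff_prime_pow_dvd_dvd]
  intro p k hp hpk
  rcases Nat.eq_zero_or_pos k with rfl | hk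
  · simp
  · have hpX : p ∣ X := dvd_trans (dvd_pow_self p hk.ne') hpk
    have hle : k ≤ X.factorization p := (hp.pow_dvd_iff_le_factorization hX).mp hpk
    exact dvd_trans (pow_dvd_pow p hle) (h p hp hpX)

/-- `Q ∣ x + c` with `1 ≤ c ≤ Q` gives `x % Q = Q - c`. -/
theorem l1_mod_eq_sub_of_dvd_add {Q x c : ℕ} (hc : 1 ≤ c) (hcQ : c ≤ Q) (h : Q ∣ x + c) :
    x % Q = Q - c := by
  obtain ⟨t, ht⟩ := h
  have ht1 : 1 ≤ t := by
    rcases Nat.eq_zero_or_pos t with h0 | h0
    · subst h0
      omega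
    · exact h0
  obtain ⟨s, rfl⟩ : ∃ s, t = s + 1 := ⟨t - 1, by omega⟩
  have hx : x = (Q - c) + Q * s := by
    have : Q * (s + 1) = Q * s + Q := by ring
    omega
  rw [hx, Nat.add_mul_mod_self_left, Nat.mod_eq_of_lt (by omega)]

/-- no carry and `Q ∣ a + m` give `Q ∣ a`. -/
theorem l1_dvd_left_of_dvd_add {Q a m : ℕ} (hlt : a % Q + m % Q < Q) (h : Q ∣ a + m) : Q ∣ a := by
  have h0 : (a + m) % Q = 0 := Nat.mod_eq_zero_of_dvd h
  rw [Nat.add_mod, Nat.mod_eq_of_lt hlt] at h0
  exact Nat.dvd_of_mod_eq_zero (by omega)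

/-- a prime divisor of a non-prime `X` is at most `X / 2`. -/
theorem l1_two_mul_le_of_not_prime {X l : ℕ} (hX : X ≠ 0) (hnp : ¬ X.Prime) (hl : l.Prime)
    (hd : l ∣ X) : 2 * l ≤ X := by
  obtain ⟨c, hc⟩ := hd
  have hc0 : c ≠ 0 := by
    rintro rfl
    simp at hc
    exact hX hc
  have hc1 : c ≠ 1 := by
    rintro rfl
    rw [mul_one] at hc
    exact hnp (hc ▸ hl)
  have : 2 ≤ c := by omega
  calc 2 * l = l * 2 := by ring
    _ ≤ l * c := Nat.mul_le_mul_left l this
    _ = X := hc.symm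

/-- the exact prime power `l ^ v_l(X)` is at least `2`, divides `X`. -/
theorem l1_exact_pow_facts {X l : ℕ} (hX : X ≠ 0) (hl : l.Prime) (hd : l ∣ X) :
    2 ≤ l ^ X.factorization l ∧ l ^ X.factorization l ∣ X := by
  refine ⟨?_, Nat.ordProj_dvd X l⟩
  have hpos : 0 < X.factorization l := hl.factorization_pos_of_dvd hX hd
  calc 2 ≤ l := hl.two_le
    _ = l ^ 1 := (pow_one l).symm
    _ ≤ l ^ X.factorization l := Nat.pow_le_pow_right hl.pos hpos

/-- **L1A**: first consequences. -/
theorem L1A {a m : ℕ} (ha : 2 ≤ a) (ham : a ≤ m)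
    (hF : ∀ l : ℕ, l.Prime → l ≤ m → ∀ j : ℕ, a % l ^ j + m % l ^ j < l ^ j) :
    a < m ∧ (a + 1) ∣ m ∧ (a + m).Prime ∧ (m + 1).Prime ∧ Odd a ∧ Even m := by
  -- (1) a < m
  have h1 : a < m := by
    rcases Nat.lt_or_ge a m with h | h
    · exact h
    · exfalso
      have hEq : a = m := le_antisymm ham h
      subst hEq
      have h2 := hF 2 Nat.prime_two (by omega) (Nat.log 2 a + 1)
      have hlt : a < 2 ^ (Nat.log 2 a + 1) := Nat.lt_pow_succ_log_self (by norm_num) a
      have hle : 2 ^ Nat.log 2 a ≤ a := Nat.pow_log_le_self 2 (by omega)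
      rw [Nat.mod_eq_of_lt hlt] at h2
      have : 2 ^ (Nat.log 2 a + 1) = 2 * 2 ^ Nat.log 2 a := by ring
      omega
  -- (2) (a+1) ∣ m
  have h2 : (a + 1) ∣ m := by
    apply l1_dvd_of_exact_pow_dvd (by omega)
    intro l hl hd
    obtain ⟨hQ2, hQd⟩ := l1_exact_pow_facts (X := a + 1) (by omega) hl hd
    have hlm : l ≤ m := le_trans (Nat.le_of_dvd (by omega) hd) (by omega)
    have hmod := l1_mod_eq_sub_of_dvd_add (Q := l ^ (a + 1).factorization l) (x := a) (c := 1)
      le_rfl (by omega) hQd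
    have hlt := hF l hl hlm ((a + 1).factorization l)
    rw [hmod] at hlt
    apply Nat.dvd_of_mod_eq_zero
    generalize m % l ^ (a + 1).factorization l = x at hlt ⊢
    generalize l ^ (a + 1).factorization l = Q at hlt hQ2
    omega
  -- (3) a + m prime
  have h3 : (a + m).Prime := by
    by_contra hnp
    have hdiv : (a + m) ∣ a := by
      apply l1_dvd_of_exact_pow_dvd (by omega)
      intro l hl hd
      obtain ⟨hQ2, hQd⟩ := l1_exact_pow_facts (X := a + m) (by omega) hl hd
      have h2l := l1_two_mul_le_of_not_prime (by omega) hnp hl hd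
      have hlm : l ≤ m := by omega
      exact l1_dvd_left_of_dvd_add (hF l hl hlm _) hQd
    have := Nat.le_of_dvd (by omega) hdiv
    omega
  -- (4) m + 1 prime
  have h4 : (m + 1).Prime := by
    by_contra hnp
    have hdiv : (m + 1) ∣ a := by
      apply l1_dvd_of_exact_pow_dvd (by omega)
      intro l hl hd
      obtain ⟨hQ2, hQd⟩ := l1_exact_pow_facts (X := m + 1) (by omega) hl hd
      have h2l := l1_two_mul_le_of_not_prime (by omega) hnp hl hd
      have hlm : l ≤ m := by omega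
      have hmod := l1_mod_eq_sub_of_dvd_add (Q := l ^ (m + 1).factorization l) (x := m) (c := 1)
        le_rfl (by omega) hQd
      have hlt := hF l hl hlm ((m + 1).factorization l)
      rw [hmod] at hlt
      apply Nat.dvd_of_mod_eq_zero
      generalize a % l ^ (m + 1).factorization l = x at hlt ⊢
      generalize l ^ (m + 1).factorization l = Q at hlt hQ2
      omega
    have := Nat.le_of_dvd (by omega) hdiv
    omega
  -- (5) parities
  have h5 : Even m := by
    rcases h4.eq_two_or_odd with h | h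
    · omega
    · rw [Nat.even_iff]
      omega
  have h6 : Odd a := by
    rcases h3.eq_two_or_odd with h | h
    · omega
    · rw [Nat.even_iff] at h5
      rw [Nat.odd_iff]
      omega
  exact ⟨h1, h2, h3, h4, h6, h5⟩

end Cfsg.Agent.Lib.H14.HS
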