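import Mathlib
import Cfsg.Agent.Lib.H13.HSDefs
import Cfsg.Agent.Lib.H14.HSL1A

/-!
# S2536 piece L1B (helper14): `m = (a+1) k`; either `k = 1` and `a = 3`, or `a + 1 < 2 k`
-/

set_option autoImplicit false

namespace Cfsg.Agent.Lib.H14.HS

/-- no carry and `(a + m) % Q = 1` give `(a % Q, m % Q) = (0,1)` or `(1,0)`. -/
theorem l1_mod_cases_of_add_mod_one {Q a m : ℕ} (hlt : a % Q + m % Q < Q) (h : (a + m) % Q = 1) :
    (a % Q = 0 ∧ m % Q = 1) ∨ (a % Q = 1 ∧ m % Q = 0) := by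
  rw [Nat.add_mod, Nat.mod_eq_of_lt hlt] at h
  omega

/-- the case `k = 1`. -/
theorem l1b_one {a : ℕ} (ha : 3 ≤ a) (hodd : Odd a)
    (hF : ∀ l : ℕ, l.Prime → l ≤ a + 1 → ∀ j : ℕ, a % l ^ j + (a + 1) % l ^ j < l ^ j) : a = 3 := by
  have hnp : ¬ (a + 3).Prime := by
    intro hp
    rcases hp.eq_two_or_odd with h | h
    · omega
    · rw [Nat.odd_iff] at hodd
      omega
  have hdvd : (a + 3) ∣ 12 := by
    apply l1_dvd_of_exact_pow_dvd (by omega)
    intro l hl hd
    obtain ⟨hQ2, hQd⟩ := l1_exact_pow_facts (X := a + 3) (by omega) hl hd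
    have h2l := l1_two_mul_le_of_not_prime (by omega) hnp hl hd
    have hlm : l ≤ a + 1 := by omega
    have hlt := hF l hl hlm ((a + 3).factorization l)
    -- Q := exact power
    have hQle : l ^ (a + 3).factorization l ≤ 4 := by
      by_contra hgt
      have hQ5 : 5 ≤ l ^ (a + 3).factorization l := by omega
      have hmoda := l1_mod_eq_sub_of_dvd_add (Q := l ^ (a + 3).factorization l) (x := a) (c := 3)
        (by norm_num) (by omega) hQd
      have hmodm := l1_mod_eq_sub_of_dvd_add (Q := l ^ (a + 3).factorization l) (x := a + 1) (c := 2)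
        (by norm_num) (by omega) (by rw [show a + 1 + 2 = a + 3 by ring]; exact hQd)
      rw [hmoda, hmodm] at hlt
      generalize l ^ (a + 3).factorization l = Q at hlt hQ5
      omega
    -- Q ∈ {2,3,4}
    have hQpos : 2 ≤ l ^ (a + 3).factorization l := hQ2
    generalize l ^ (a + 3).factorization l = Q at hQle hQpos
    interval_cases Q <;> norm_num
  have hle : a + 3 ≤ 12 := Nat.le_of_dvd (by norm_num) hdvd
  rw [Nat.odd_iff] at hodd
  have hcases : a = 3 ∨ a = 5 ∨ a = 7 ∨ a = 9 := by omega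
  rcases hcases with h | h | h | h
  · exact h
  · subst h
    norm_num at hdvd
  · subst h
    norm_num at hdvd
  · subst h
    have := hF 2 Nat.prime_two (by norm_num) 4
    norm_num at this

/-- the case `k ≥ 2`. -/
theorem l1b_two {a m k : ℕ} (ha : 3 ≤ a) (hodd : Odd a) (hk : m = (a + 1) * k) (hk2 : 2 ≤ k)
    (hF : ∀ l : ℕ, l.Prime → l ≤ m → ∀ j : ℕ, a % l ^ j + m % l ^ j < l ^ j) :
    a + 1 < 2 * k := by
  have hmk : 2 * (a + 1) ≤ m := by
    rw [hk]
    calc 2 * (a + 1) = (a + 1) * 2 := by ring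
      _ ≤ (a + 1) * k := Nat.mul_le_mul_left _ hk2
  have hmeven : Even m := by
    rw [hk]
    have : Even (a + 1) := by
      rw [Nat.odd_iff] at hodd
      rw [Nat.even_iff]
      omega
    exact this.mul_right k
  -- X = a + m - 1 is even, ≥ 4, not prime
  have hXnp : ¬ (a + m - 1).Prime := by
    intro hp
    rcases hp.eq_two_or_odd with h | h
    · omega
    · rw [Nat.odd_iff] at hodd
      rw [Nat.even_iff] at hmeven
      omega
  have hdvd : (a + m - 1) ∣ 2 * k * (k - 1) := by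
    apply l1_dvd_of_exact_pow_dvd (by omega)
    intro l hl hd
    obtain ⟨hQ2, hQd⟩ := l1_exact_pow_facts (X := a + m - 1) (by omega) hl hd
    have h2l := l1_two_mul_le_of_not_prime (by omega) hXnp hl hd
    have hlm : l ≤ m := by omega
    have hlt := hF l hl hlm ((a + m - 1).factorization l)
    set Q := l ^ (a + m - 1).factorization l with hQ
    have hmod1 : (a + m) % Q = 1 := by
      obtain ⟨t, ht⟩ := hQd
      have : a + m = 1 + Q * t := by omega
      rw [this, Nat.add_mul_mod_self_left, Nat.mod_eq_of_lt (by omega)]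
    rcases l1_mod_cases_of_add_mod_one hlt hmod1 with ⟨h0, h1⟩ | ⟨h1, h0⟩
    · -- Q ∣ a, Q ∣ m - 1 ⇒ Q ∣ k - 1
      have hQa : Q ∣ a := Nat.dvd_of_mod_eq_zero h0
      have hQm : Q ∣ m - 1 := (Nat.modEq_iff_dvd' (by omega)).mp (by
        rw [Nat.ModEq, h1, Nat.mod_eq_of_lt (by omega)])
      have hm1 : m - 1 = a * k + (k - 1) := by
        rw [hk]
        have : (a + 1) * k = a * k + k := by ring
        omega
      have hQk : Q ∣ k - 1 := by
        rw [hm1] at hQm
        exact (Nat.dvd_add_right (dvd_mul_of_dvd_left hQa k)).mp hQm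
      exact dvd_mul_of_dvd_right hQk _
    · -- Q ∣ a - 1, Q ∣ m ⇒ Q ∣ 2 k
      have hQm : Q ∣ m := Nat.dvd_of_mod_eq_zero h0
      have hQa : Q ∣ a - 1 := (Nat.modEq_iff_dvd' (by omega)).mp (by
        rw [Nat.ModEq, h1, Nat.mod_eq_of_lt (by omega)])
      have hm2 : m = (a - 1) * k + 2 * k := by
        rw [hk]
        obtain ⟨b, rfl⟩ : ∃ b, a = b + 1 := ⟨a - 1, by omega⟩
        simp only [Nat.add_sub_cancel]
        ring
      have hQ2k : Q ∣ 2 * k := by
        rw [hm2] at hQm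
        exact (Nat.dvd_add_right (dvd_mul_of_dvd_left hQa k)).mp hQm
      exact dvd_mul_of_dvd_left hQ2k _
  have hpos : 0 < 2 * k * (k - 1) := by
    have : 1 ≤ k - 1 := by omega
    positivity
  have hle := Nat.le_of_dvd hpos hdvd
  -- (a+1)(k+1) - 2 ≤ 2k(k-1) < 2k(k+1) - 2
  obtain ⟨j, rfl⟩ : ∃ j, k = j + 2 := ⟨k - 2, by omega⟩
  have e1 : a + m - 1 = (a + 1) * (j + 3) - 2 := by
    rw [hk]
    have : (a + 1) * (j + 3) = (a + 1) * (j + 2) + (a + 1) := by ring
    omega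
  have e2 : 2 * (j + 2) * (j + 2 - 1) = 2 * (j + 2) * (j + 1) := by
    congr 1
  rw [e1, e2] at hle
  by_contra hcon
  have hge : 2 * (j + 2) ≤ a + 1 := by omega
  have : 2 * (j + 2) * (j + 3) ≤ (a + 1) * (j + 3) := Nat.mul_le_mul_right _ hge
  have e3 : 2 * (j + 2) * (j + 3) = 2 * (j + 2) * (j + 1) + 4 * (j + 2) := by ring
  omega

/-- **L1B**: `m = (a+1) k`; either `k = 1` and `a = 3`, or `a + 1 < 2 k`. -/
theorem L1B {a m k : ℕ} (ha : 3 ≤ a) (hodd : Odd a) (hk : m = (a + 1) * k) (hk1 : 1 ≤ k)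
    (hF : ∀ l : ℕ, l.Prime → l ≤ m → ∀ j : ℕ, a % l ^ j + m % l ^ j < l ^ j) :
    (k = 1 ∧ a = 3) ∨ a + 1 < 2 * k := by
  rcases Nat.eq_or_lt_of_le hk1 with h1 | h2
  · left
    subst h1
    rw [mul_one] at hk
    subst hk
    exact ⟨rfl, l1b_one ha hodd hF⟩
  · right
    exact l1b_two ha hodd hk h2 hF

end Cfsg.Agent.Lib.H14.HS
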