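import Cfsg.Agent.Lib.H13.HSDefs2

/-!
# HS project, stage 2, pieces F2 / F3 : the final assemblies for S2535 and S2534,
in the form "black boxes as explicit hypotheses at `Fin n`".
-/

namespace Cfsg.Agent.Lib.H14.HS

open Equiv MulAction Cfsg.Agent.Lib.H13.HS
open scoped Pointwise

/-- `IsPiHallOf` in terms of `subgroupOf`. -/
theorem f2_hallOf_iff {G : Type*} [Group G] {π : Set ℕ} {M A : Subgroup G} :
    Cfsg.IsPiHallOf π M A ↔ M ≤ A ∧ Cfsg.IsPiHall π (M.subgroupOf A) := by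
  unfold Cfsg.IsPiHallOf Cfsg.IsPiHall
  constructor
  · rintro ⟨hle, h1, h2⟩
    refine ⟨hle, ?_, h2⟩
    rw [Nat.card_congr (Subgroup.subgroupOfEquivOfLe hle).toEquiv]
    exact h1
  · rintro ⟨hle, h1, h2⟩
    refine ⟨hle, ?_, h2⟩
    rw [Nat.card_congr (Subgroup.subgroupOfEquivOfLe hle).toEquiv] at h1
    exact h1

/-- a subgroup of `↥A` is Hall iff its image in `G` is Hall in `A`. -/
theorem f2_hall_iff_map {G : Type*} [Group G] {π : Set ℕ} {A : Subgroup G} (M : Subgroup ↥A) :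
    Cfsg.IsPiHall π M ↔ Cfsg.IsPiHallOf π (M.map A.subtype) A := by
  rw [f2_hallOf_iff]
  have h : (M.map A.subtype).subgroupOf A = M :=
    Subgroup.comap_map_eq_self_of_injective (Subgroup.subtype_injective A) M
  rw [h]
  exact ⟨fun hM => ⟨Subgroup.map_subtype_le M, hM⟩, fun hM => hM.2⟩

/-- conjugation inside `↥A` versus conjugation in `G`. -/
theorem f2_map_conj_subtype {G : Type*} [Group G] {A : Subgroup G} (M : Subgroup ↥A) (g : ↥A) :
    (M.map (MulAut.conj g).toMonoidHom).map A.subtype =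
      (M.map A.subtype).map (MulAut.conj (g : G)).toMonoidHom := by
  rw [Subgroup.map_map, Subgroup.map_map]
  congr 1

/-- F2 core: the three equivalences of S2535 from the black boxes at `Fin n`. -/
theorem S2535_main_of (n : ℕ) (π : Set ℕ)
    (h_inf : ∀ {H : Subgroup (Perm (Fin n))}, Cfsg.IsPiHall π H →
      Cfsg.IsPiHallOf π (H ⊓ altSub (Fin n)) (altSub (Fin n)))
    (h_alt_main : ∀ {M : Subgroup (Perm (Fin n))}, Cfsg.IsPiHallOf π M (altSub (Fin n)) →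
      ∃ M₀ : Subgroup (Perm (Fin n)), Cfsg.IsPiHall π M₀ ∧ M = M₀ ⊓ altSub (Fin n))
    (h_sym_conj : ∀ {H K : Subgroup (Perm (Fin n))}, Cfsg.IsPiHall π H → Cfsg.IsPiHall π K →
      ∃ g : Perm (Fin n), K = H.map (MulAut.conj g).toMonoidHom)
    (h_alt_conj : ∀ {M M' : Subgroup (Perm (Fin n))}, Cfsg.IsPiHallOf π M (altSub (Fin n)) →
      Cfsg.IsPiHallOf π M' (altSub (Fin n)) →
      ∃ g ∈ altSub (Fin n), M' = M.map (MulAut.conj g).toMonoidHom) :
    (Cfsg.IsEPiGroup π (Equiv.Perm (Fin n)) ↔ Cfsg.IsCPiGroup π (Equiv.Perm (Fin n))) ∧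
    (Cfsg.IsEPiGroup π (Equiv.Perm (Fin n)) ↔ Cfsg.IsEPiGroup π ↥(alternatingGroup (Fin n))) ∧
    (Cfsg.IsEPiGroup π ↥(alternatingGroup (Fin n)) ↔
      Cfsg.IsCPiGroup π ↥(alternatingGroup (Fin n))) := by
  have hA : altSub (Fin n) = alternatingGroup (Fin n) := altSub_eq (Fin n)
  rw [hA] at h_inf h_alt_main h_alt_conj
  refine ⟨⟨fun h => ⟨h, fun H K hH hK => h_sym_conj hH hK⟩, fun h => h.1⟩, ⟨?_, ?_⟩,
    ⟨fun h => ⟨h, ?_⟩, fun h => h.1⟩⟩
  · rintro ⟨H, hH⟩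
    exact ⟨_, (f2_hallOf_iff.1 (h_inf hH)).2⟩
  · rintro ⟨M, hM⟩
    obtain ⟨M₀, hM₀, -⟩ := h_alt_main ((f2_hall_iff_map M).1 hM)
    exact ⟨M₀, hM₀⟩
  · intro M M' hM hM'
    obtain ⟨g, hg, hgM⟩ := h_alt_conj ((f2_hall_iff_map M).1 hM) ((f2_hall_iff_map M').1 hM')
    refine ⟨⟨g, hg⟩, ?_⟩
    apply Subgroup.map_injective (Subgroup.subtype_injective (alternatingGroup (Fin n)))
    rw [hgM, f2_map_conj_subtype]

end Cfsg.Agent.Lib.H14.HS
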