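import Cfsg.Agent.Lib.H14.HSF2

/-!
# HS project, stage 2, piece F3 : the final assembly for S2534 (D_π for A_n),
black boxes as explicit hypotheses at `Fin n`.
-/

namespace Cfsg.Agent.Lib.H14.HS

open Equiv MulAction Cfsg.Agent.Lib.H13.HS
open scoped Pointwise

/-- the primes dividing `|A_n|`, `n ≥ 4`, are the primes `≤ n`. -/
theorem f3_prime_dvd_card_alt (n : ℕ) (hn : 4 ≤ n) (r : ℕ) (hr : r.Prime) :
    r ∣ Nat.card ↥(alternatingGroup (Fin n)) ↔ r ≤ n := by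
  have : Nontrivial (Fin n) := Fin.nontrivial_iff_two_le.2 (by omega)
  have h2 : 2 * Nat.card ↥(alternatingGroup (Fin n)) = n.factorial := by
    rw [Nat.card_eq_fintype_card, two_mul_card_alternatingGroup, Fintype.card_perm,
      Fintype.card_fin]
  constructor
  · intro h
    have : r ∣ n.factorial := h2 ▸ Dvd.dvd.mul_left h 2
    exact (Nat.Prime.dvd_factorial hr).1 this
  · intro h
    have hd : r ∣ 2 * Nat.card ↥(alternatingGroup (Fin n)) := h2 ▸ (Nat.Prime.dvd_factorial hr).2 h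
    by_cases h2r : r = 2
    · subst h2r
      have h24 : (24 : ℕ) ∣ n.factorial := by
        have : (4 : ℕ).factorial ∣ n.factorial := Nat.factorial_dvd_factorial hn
        simpa [Nat.factorial] using this
      rw [← h2] at h24
      omega
    · have hcop : Nat.Coprime r 2 := by
        rw [Nat.coprime_primes hr Nat.prime_two]; exact h2r
      exact hcop.dvd_of_dvd_mul_left hd

/-- if every conjugate `g y g⁻¹`, `y ∈ X`, stabilizes `T`, then `X` stabilizes `g⁻¹ • T`. -/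
theorem f3_le_stabilizer_of_conj {α β : Type*} [MulAction (Perm α) β] (X : Subgroup (Perm α))
    (g : Perm α) (T : β) (h : ∀ y ∈ X, g * y * g⁻¹ ∈ stabilizer (Perm α) T) :
    X ≤ stabilizer (Perm α) (g⁻¹ • T) := by
  intro y hy
  have h1 := h y hy
  rw [mem_stabilizer_iff] at h1 ⊢
  calc y • g⁻¹ • T = g⁻¹ • ((g * y * g⁻¹) • T) := by simp [mul_smul]
    _ = g⁻¹ • T := by rw [h1]

theorem f3_smul_partition {α : Type*} (g : Perm α) (s : Set α) :
    g • ({s, sᶜ} : Set (Set α)) = {g • s, (g • s)ᶜ} := by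
  rw [Set.smul_set_insert, Set.smul_set_singleton, Set.smul_set_compl]

/-- F3 core: S2534 from the black boxes at `Fin n`. -/
theorem S2534_main_of (n : ℕ) (hn : 5 ≤ n) (π : Set ℕ)
    (h_dpi_few : (∀ r s : ℕ, r.Prime → s.Prime → r ∈ π → s ∈ π →
        r ∣ Nat.card ↥(alternatingGroup (Fin n)) → s ∣ Nat.card ↥(alternatingGroup (Fin n)) → r = s) →
      Cfsg.IsDPiGroup π ↥(alternatingGroup (Fin n)))
    (h_dpi_full : (∀ r : ℕ, r.Prime → r ∣ Nat.card ↥(alternatingGroup (Fin n)) → r ∈ π) →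
      Cfsg.IsDPiGroup π ↥(alternatingGroup (Fin n)))
    (h_hall_of_dpi : Cfsg.IsDPiGroup π ↥(alternatingGroup (Fin n)) →
      ∃ H : Subgroup ↥(alternatingGroup (Fin n)), Cfsg.IsPiHall π H ∧
        ∀ X : Subgroup ↥(alternatingGroup (Fin n)), Cfsg.IsPiSubgroup π X →
          ∃ g : ↥(alternatingGroup (Fin n)), X.map (MulAut.conj g).toMonoidHom ≤ H)
    (h_alt_main : ∀ {M : Subgroup (Perm (Fin n))}, Cfsg.IsPiHallOf π M (altSub (Fin n)) →
      ∃ M₀ : Subgroup (Perm (Fin n)), Cfsg.IsPiHall π M₀ ∧ M = M₀ ⊓ altSub (Fin n))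
    (h_main_aux : ∀ H : Subgroup (Perm (Fin n)), Cfsg.IsPiHall π H → Concl π H)
    (h_struct8 : Nat.card (Fin n) = 8 → TwoThree π 8 → ∀ {H : Subgroup (Perm (Fin n))},
      Cfsg.IsPiHall π H → ∃ s : Set (Fin n), s.ncard = 4 ∧ H = partStab s)
    (h_no_fixed : (∀ r : ℕ, r.Prime → r + 2 ≤ Nat.card (Fin n) → r ∈ π) →
      ∃ X : Subgroup (Perm (Fin n)), X ≤ altSub (Fin n) ∧ PiNum π (Nat.card X) ∧
        ∀ x : Fin n, ¬ X ≤ stabilizer (Perm (Fin n)) x)
    (h_no_three : Nat.card (Fin n) = 7 → 2 ∈ π → 3 ∈ π →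
      ∃ X : Subgroup (Perm (Fin n)), X ≤ altSub (Fin n) ∧ PiNum π (Nat.card X) ∧
        ∀ s : Set (Fin n), s.ncard = 3 → ¬ X ≤ stabilizer (Perm (Fin n)) s)
    (h_no_part : Nat.card (Fin n) = 8 → 2 ∈ π → 3 ∈ π →
      ∃ X : Subgroup (Perm (Fin n)), X ≤ altSub (Fin n) ∧ PiNum π (Nat.card X) ∧
        ∀ s : Set (Fin n), s.ncard = 4 → ¬ X ≤ partStab s) :
    Cfsg.IsDPiGroup π ↥(alternatingGroup (Fin n)) ↔
      ((∀ r s : ℕ, r.Prime → s.Prime → r ∈ π → s ∈ π →
          r ∣ Nat.card ↥(alternatingGroup (Fin n)) → s ∣ Nat.card ↥(alternatingGroup (Fin n)) → r = s) ∨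
        ∀ r : ℕ, r.Prime → r ∣ Nat.card ↥(alternatingGroup (Fin n)) → r ∈ π) := by
  have hA : altSub (Fin n) = alternatingGroup (Fin n) := altSub_eq (Fin n)
  rw [hA] at h_alt_main h_no_fixed h_no_three h_no_part
  have hcard : Nat.card (Fin n) = n := Nat.card_fin n
  have hdiv := f3_prime_dvd_card_alt n (by omega)
  constructor
  swap
  · rintro (h | h)
    · exact h_dpi_few h
    · exact h_dpi_full h
  intro hD
  by_contra hcon
  rw [not_or] at hcon
  obtain ⟨hnfew, hnfull⟩ := hcon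
  -- translate to `Few`, `Full`
  have hnFew : ¬ Few π (Nat.card (Fin n)) := by
    intro hfew
    apply hnfew
    intro r s hr hs hrπ hsπ hrd hsd
    exact hfew r s hr hs hrπ hsπ (by rw [hcard]; exact (hdiv r hr).1 hrd)
      (by rw [hcard]; exact (hdiv s hs).1 hsd)
  have hnFull : ¬ Full π (Nat.card (Fin n)) := by
    intro hfull
    apply hnfull
    intro r hr hrd
    exact hfull r hr (by rw [hcard]; exact (hdiv r hr).1 hrd)
  obtain ⟨H, hH, hX⟩ := h_hall_of_dpi hD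
  obtain ⟨M₀, hM₀, hMeq⟩ := h_alt_main ((f2_hall_iff_map H).1 hH)
  -- the key consequence: a π-subgroup `X ≤ A_n` of `Perm (Fin n)` is conjugate into `M₀`
  have key : ∀ X : Subgroup (Perm (Fin n)), X ≤ alternatingGroup (Fin n) → PiNum π (Nat.card X) →
      ∃ g : Perm (Fin n), ∀ y ∈ X, g * y * g⁻¹ ∈ M₀ := by
    intro X hXA hXπ
    have hXs : Cfsg.IsPiSubgroup π (X.subgroupOf (alternatingGroup (Fin n))) := by
      unfold Cfsg.IsPiSubgroup
      rw [Nat.card_congr (Subgroup.subgroupOfEquivOfLe hXA).toEquiv]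
      exact hXπ
    obtain ⟨g, hg⟩ := hX _ hXs
    refine ⟨(g : Perm (Fin n)), fun y hy => ?_⟩
    have hyA : y ∈ alternatingGroup (Fin n) := hXA hy
    have h1 : (MulAut.conj g).toMonoidHom ⟨y, hyA⟩ ∈ H := by
      apply hg
      exact Subgroup.mem_map_of_mem _ (by rw [Subgroup.mem_subgroupOf]; exact hy)
    have h2 : ((MulAut.conj g).toMonoidHom ⟨y, hyA⟩ : Perm (Fin n)) ∈
        H.map (alternatingGroup (Fin n)).subtype := Subgroup.mem_map_of_mem _ h1
    rw [hMeq] at h2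
    simpa using h2.1
  rcases h_main_aux M₀ hM₀ with h | h | ⟨hB, x, hx⟩ | ⟨h7, h23, s, hs, hMs⟩ | ⟨h8, h23⟩
  · exact hnFew h
  · exact hnFull h
  · -- point stabilizer
    obtain ⟨X, hXA, hXπ, hXnf⟩ := h_no_fixed (by
      intro r hr hrn
      exact (hB.2 r hr (by omega)).2 (by omega))
    obtain ⟨g, hg⟩ := key X hXA hXπ
    rw [hx] at hg
    exact hXnf _ (f3_le_stabilizer_of_conj X g x hg)
  · -- n = 7
    have h2 : 2 ∈ π := (h23 2 Nat.prime_two (by omega)).2 (Or.inl rfl)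
    have h3 : 3 ∈ π := (h23 3 Nat.prime_three (by omega)).2 (Or.inr rfl)
    obtain ⟨X, hXA, hXπ, hXnf⟩ := h_no_three h7 h2 h3
    obtain ⟨g, hg⟩ := key X hXA hXπ
    rw [hMs] at hg
    refine hXnf (g⁻¹ • s) ?_ (f3_le_stabilizer_of_conj X g s hg)
    rw [Set.ncard_smul_set]; exact hs
  · -- n = 8
    have h2 : 2 ∈ π := (h23 2 Nat.prime_two (by omega)).2 (Or.inl rfl)
    have h3 : 3 ∈ π := (h23 3 Nat.prime_three (by omega)).2 (Or.inr rfl)
    obtain ⟨s, hs, hMs⟩ := h_struct8 h8 h23 hM₀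
    obtain ⟨X, hXA, hXπ, hXnf⟩ := h_no_part h8 h2 h3
    obtain ⟨g, hg⟩ := key X hXA hXπ
    rw [hMs] at hg
    have := f3_le_stabilizer_of_conj X g ({s, sᶜ} : Set (Set (Fin n))) hg
    rw [f3_smul_partition] at this
    refine hXnf (g⁻¹ • s) ?_ this
    rw [Set.ncard_smul_set]; exact hs

end Cfsg.Agent.Lib.H14.HS
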