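import Mathlib
import Cfsg.Agent.Lib.H13.O7Defs
import Cfsg.Agent.Lib.H25.LieCrit

/-!
# S2647 piece FL (helper14): the fusion-system layer — from the abstract `Core G` to the three conclusions
-/

set_option autoImplicit false

namespace Cfsg.Agent.Lib.H13.O7

open Cfsg Cfsg.FusionSystem Cfsg.Agent.Lib.H26

/-- transport of `N_G(S₀) ≤ S₀` along conjugation -/
theorem fl_normalizer_cj {G : Type*} [Group G] (g : G) (S₀ : Subgroup G)
    (hN : Subgroup.normalizer (S₀ : Set G) ≤ S₀) :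
    Subgroup.normalizer ((cj g S₀ : Subgroup G) : Set G) ≤ cj g S₀ := by
  rw [← cj_normalizer]
  exact cj_mono g hN

/-- transport of the strongly closed hypothesis along conjugation -/
theorem fl_sc_cj {G : Type*} [Group G] (g : G) (S₀ : Subgroup G)
    (hsc : ∀ T : Subgroup G, Cfsg.IsStronglyClosed T S₀ → T = ⊥ ∨ T = S₀) :
    ∀ T : Subgroup G, Cfsg.IsStronglyClosed T (cj g S₀) → T = ⊥ ∨ T = cj g S₀ := by
  intro T hT
  have hT' : Cfsg.IsStronglyClosed (cj g⁻¹ T) S₀ := by
    refine ⟨?_, ?_⟩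
    · have := cj_mono g⁻¹ hT.1
      rwa [cj_inv_cj] at this
    · intro x hx k hk
      rw [mem_cj, inv_inv] at hx ⊢
      have h1 := hT.2 _ hx (g * k * g⁻¹)
      have e : g * k * g⁻¹ * (g * x * g⁻¹) * (g * k * g⁻¹)⁻¹ = g * (k * x * k⁻¹) * g⁻¹ := by
        group
      rw [e] at h1
      exact h1 (conj_mem_cj hk)
  rcases hsc _ hT' with h | h
  · left
    have := congrArg (cj g) h
    rw [cj_cj_inv] at this
    rw [this]
    exact Subgroup.map_bot _
  · right
    have := congrArg (cj g) h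
    rwa [cj_cj_inv] at this

/-- if `N_G(S) ≤ S` then `Aut_{F_S(G)}(S) = Inn(S)` -/
theorem fl_autGroup_eq_inn {G : Type*} [Group G] (S : Subgroup G)
    (hN : Subgroup.normalizer (S : Set G) ≤ S) :
    (groupFusionSystem S).autGroup S = Cfsg.Inn ↥S := by
  apply le_antisymm
  · intro α hα
    rw [Cfsg.Agent.Lib.H25.mem_autGroup_iff _ le_rfl] at hα
    obtain ⟨-, -, g, hg⟩ := hα
    have hg' : ∀ x : S, ((α x : S) : G) = g * (x : G) * g⁻¹ := fun x => hg x
    have hgN : g ∈ Subgroup.normalizer (S : Set G) := by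
      rw [Subgroup.mem_normalizer_iff]
      intro h
      constructor
      · intro hh
        have := hg' ⟨h, hh⟩
        rw [← this]
        exact (α ⟨h, hh⟩).2
      · intro hh
        obtain ⟨x, hx⟩ := α.surjective ⟨g * h * g⁻¹, hh⟩
        have h1 := hg' x
        rw [hx] at h1
        have h2 : h = (x : G) := by
          have h3 : g * h * g⁻¹ = g * (x : G) * g⁻¹ := h1
          exact mul_left_cancel (mul_right_cancel h3)
        rw [h2]
        exact x.2
    have hgS : g ∈ S := hN hgN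
    refine ⟨⟨g, hgS⟩, ?_⟩
    ext x
    rw [hg' x]
    rfl
  · rintro _ ⟨s, rfl⟩
    rw [Cfsg.Agent.Lib.H25.mem_autGroup_iff _ le_rfl]
    refine ⟨le_rfl, fun x => ?_, (s : G), fun x => ?_⟩
    · exact ((MulAut.conj s x : S)).2
    · rfl

/-- **FL**. -/
theorem conclusions_of_core {G : Type*} [Group G] [Finite G] (hG : Core G) (S : Sylow 2 G) :
    (groupFusionSystem (S : Subgroup G)).autGroup (S : Subgroup G) = Cfsg.Inn ↥(S : Subgroup G) ∧
    (∀ T : Subgroup G, (groupFusionSystem (S : Subgroup G)).StronglyClosed T →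
      T = ⊥ ∨ T = (S : Subgroup G)) ∧
    (groupFusionSystem (S : Subgroup G)).IsSimple 2 := by
  haveI : Fact (Nat.Prime 2) := ⟨Nat.prime_two⟩
  obtain ⟨S₀, hc, hv, hN, hsc⟩ := hG
  -- `S₀` is a Sylow 2-subgroup
  let P₀ : Sylow 2 G := Sylow.ofCard S₀ (by rw [hc, hv])
  have hP₀ : (P₀ : Subgroup G) = S₀ := rfl
  obtain ⟨g, hg⟩ := MulAction.exists_smul_eq G P₀ S
  have hS : (S : Subgroup G) = cj g S₀ := by
    rw [← hg, Sylow.coe_subgroup_smul, hP₀]
    rfl
  have hN' : Subgroup.normalizer ((S : Subgroup G) : Set G) ≤ (S : Subgroup G) := by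
    rw [hS]
    exact fl_normalizer_cj g S₀ hN
  have hsc' : ∀ T : Subgroup G, Cfsg.IsStronglyClosed T (S : Subgroup G) →
      T = ⊥ ∨ T = (S : Subgroup G) := by
    rw [hS]
    exact fl_sc_cj g S₀ hsc
  have hne : (S : Subgroup G) ≠ ⊥ := by
    intro h
    have h1 : Nat.card (S : Subgroup G) = 2 ^ 9 := by
      rw [hS, card_cj, hc]
    rw [h, Subgroup.card_bot] at h1
    norm_num at h1
  refine ⟨fl_autGroup_eq_inn _ hN', ?_, ?_⟩
  · intro T hT
    exact hsc' T (Cfsg.Agent.Lib.H25.SimpleCrit.isStronglyClosed_of_stronglyClosed hT)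
  · apply Cfsg.Agent.Lib.H25.LieCrit.isSimple_of_gen S hne hsc'
    intro x hx
    exact Subgroup.subset_closure (Or.inl (hN' hx))

end Cfsg.Agent.Lib.H13.O7
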