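import Cfsg.Prelude.Def_Amalgam
set_option autoImplicit false
open Cfsg

namespace Cfsg.Agent.Lib.H14

variable {X : Type*} [Group X] (M₁ M₂ : Subgroup X)

theorem cg_adj_iff (a b : Cfsg.CosetVertex M₁ M₂) : (Cfsg.cosetGraph M₁ M₂).Adj a b ↔
    (∃ x : X, a = Sum.inl (x : X ⧸ M₁) ∧ b = Sum.inr (x : X ⧸ M₂)) ∨
    (∃ x : X, b = Sum.inl (x : X ⧸ M₁) ∧ a = Sum.inr (x : X ⧸ M₂)) := by
  unfold Cfsg.cosetGraph
  rw [SimpleGraph.fromRel_adj]
  constructor
  · rintro ⟨_, h⟩; exact h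
  · intro h
    refine ⟨?_, h⟩
    rcases h with ⟨x, rfl, rfl⟩ | ⟨x, rfl, rfl⟩ <;> simp

theorem cg_adj_inl_inr (x : X) :
    (Cfsg.cosetGraph M₁ M₂).Adj (Sum.inl (x : X ⧸ M₁)) (Sum.inr (x : X ⧸ M₂)) := by
  rw [cg_adj_iff]
  exact Or.inl ⟨x, rfl, rfl⟩

theorem cg_adj_smul (g : X) (a b : Cfsg.CosetVertex M₁ M₂) (h : (Cfsg.cosetGraph M₁ M₂).Adj a b) :
    (Cfsg.cosetGraph M₁ M₂).Adj (g • a) (g • b) := by
  rw [cg_adj_iff] at *
  rcases h with ⟨x, rfl, rfl⟩ | ⟨x, rfl, rfl⟩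
  · exact Or.inl ⟨g * x, rfl, rfl⟩
  · exact Or.inr ⟨g * x, rfl, rfl⟩

theorem cg_adj_smul_iff (g : X) (a b : Cfsg.CosetVertex M₁ M₂) :
    (Cfsg.cosetGraph M₁ M₂).Adj (g • a) (g • b) ↔ (Cfsg.cosetGraph M₁ M₂).Adj a b := by
  constructor
  · intro h
    have := cg_adj_smul M₁ M₂ g⁻¹ _ _ h
    simpa using this
  · exact cg_adj_smul M₁ M₂ g a b

theorem cg_reach_smul (g : X) (a b : Cfsg.CosetVertex M₁ M₂)
    (h : (Cfsg.cosetGraph M₁ M₂).Reachable a b) :
    (Cfsg.cosetGraph M₁ M₂).Reachable (g • a) (g • b) := by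
  obtain ⟨w⟩ := h
  induction w with
  | nil => exact SimpleGraph.Reachable.refl _
  | cons hadj _ ih => exact (cg_adj_smul M₁ M₂ g _ _ hadj).reachable.trans ih

theorem cg_smul_inl (g x : X) :
    g • (Sum.inl (x : X ⧸ M₁) : Cfsg.CosetVertex M₁ M₂) = Sum.inl ((g * x : X) : X ⧸ M₁) := rfl

theorem cg_smul_inr (g x : X) :
    g • (Sum.inr (x : X ⧸ M₂) : Cfsg.CosetVertex M₁ M₂) = Sum.inr ((g * x : X) : X ⧸ M₂) := rfl

theorem cg_connected (hgen : M₁ ⊔ M₂ = ⊤) : (Cfsg.cosetGraph M₁ M₂).Connected := by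
  set v0 : Cfsg.CosetVertex M₁ M₂ := Sum.inl ((1 : X) : X ⧸ M₁) with hv0
  let H : Subgroup X :=
    { carrier := {g | (Cfsg.cosetGraph M₁ M₂).Reachable v0 (g • v0)}
      one_mem' := by simp
      mul_mem' := by
        intro a b ha hb
        simp only [Set.mem_ofPred_eq] at *
        rw [mul_smul]
        exact ha.trans (cg_reach_smul M₁ M₂ a _ _ hb)
      inv_mem' := by
        intro a ha
        simp only [Set.mem_ofPred_eq] at *
        have := cg_reach_smul M₁ M₂ a⁻¹ _ _ ha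
        rw [inv_smul_smul] at this
        exact this.symm }
  have h1 : M₁ ≤ H := by
    intro m hm
    show (Cfsg.cosetGraph M₁ M₂).Reachable v0 (m • v0)
    have : m • v0 = v0 := by
      simp only [hv0, Sum.smul_inl, MulAction.Quotient.smul_mk, smul_eq_mul, mul_one]
      congr 1
      rw [QuotientGroup.eq]; simpa using hm
    rw [this]
  have h2 : M₂ ≤ H := by
    intro m hm
    show (Cfsg.cosetGraph M₁ M₂).Reachable v0 (m • v0)
    have e1 : (Sum.inr ((m : X) : X ⧸ M₂) : Cfsg.CosetVertex M₁ M₂) = Sum.inr ((1 : X) : X ⧸ M₂) := by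
      congr 1
      rw [QuotientGroup.eq]; simpa using hm
    have a1 := cg_adj_inl_inr M₁ M₂ (1 : X)
    have a2 := cg_adj_inl_inr M₁ M₂ m
    rw [e1] at a2
    have : m • v0 = Sum.inl ((m : X) : X ⧸ M₁) := by
      simp [hv0, Sum.smul_inl, MulAction.Quotient.smul_mk]
    rw [this]
    exact a1.reachable.trans a2.reachable.symm
  have hH : H = ⊤ := by
    rw [eq_top_iff, ← hgen]
    exact sup_le h1 h2
  have hall : ∀ v, (Cfsg.cosetGraph M₁ M₂).Reachable v0 v := by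
    intro v
    rcases v with a | b
    · induction a using QuotientGroup.induction_on with
      | H x =>
        have hx : x ∈ H := by rw [hH]; trivial
        have hx' : (Cfsg.cosetGraph M₁ M₂).Reachable v0 (x • v0) := hx
        have : x • v0 = Sum.inl ((x : X) : X ⧸ M₁) := by
          simp [hv0, Sum.smul_inl, MulAction.Quotient.smul_mk]
        rwa [this] at hx'
    · induction b using QuotientGroup.induction_on with
      | H x =>
        have hx : x ∈ H := by rw [hH]; trivial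
        have hx' : (Cfsg.cosetGraph M₁ M₂).Reachable v0 (x • v0) := hx
        have : x • v0 = Sum.inl ((x : X) : X ⧸ M₁) := by
          simp [hv0, Sum.smul_inl, MulAction.Quotient.smul_mk]
        rw [this] at hx'
        exact hx'.trans (cg_adj_inl_inr M₁ M₂ x).reachable
  have : Nonempty (Cfsg.CosetVertex M₁ M₂) := ⟨v0⟩
  exact ⟨fun a b => (hall a).symm.trans (hall b)⟩

theorem cg_stab_inl (a : X ⧸ M₁) :
    MulAction.stabilizer X (Sum.inl a : Cfsg.CosetVertex M₁ M₂) = MulAction.stabilizer X a := by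
  ext g
  simp [MulAction.mem_stabilizer_iff]

theorem cg_stab_inr (a : X ⧸ M₂) :
    MulAction.stabilizer X (Sum.inr a : Cfsg.CosetVertex M₁ M₂) = MulAction.stabilizer X a := by
  ext g
  simp [MulAction.mem_stabilizer_iff]

theorem cg_stab_mk (M : Subgroup X) (x : X) :
    MulAction.stabilizer X ((x : X) : X ⧸ M) = M.map (MulAut.conj x).toMonoidHom := by
  have : ((x : X) : X ⧸ M) = x • ((1 : X) : X ⧸ M) := by
    simp [MulAction.Quotient.smul_mk]
  rw [this, MulAction.stabilizer_smul_eq_stabilizer_map_conj, MulAction.stabilizer_quotient]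

theorem cg_stab_inl_mk (x : X) :
    MulAction.stabilizer X (Sum.inl (x : X ⧸ M₁) : Cfsg.CosetVertex M₁ M₂) =
      M₁.map (MulAut.conj x).toMonoidHom :=
  (cg_stab_inl M₁ M₂ (x : X ⧸ M₁)).trans (cg_stab_mk M₁ x)

theorem cg_stab_inr_mk (x : X) :
    MulAction.stabilizer X (Sum.inr (x : X ⧸ M₂) : Cfsg.CosetVertex M₁ M₂) =
      M₂.map (MulAut.conj x).toMonoidHom :=
  (cg_stab_inr M₁ M₂ (x : X ⧸ M₂)).trans (cg_stab_mk M₂ x)

theorem cg_edgeStab (x : X) :
    Cfsg.edgeStabilizer (Sum.inl (x : X ⧸ M₁) : Cfsg.CosetVertex M₁ M₂) (Sum.inr (x : X ⧸ M₂)) =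
      (M₁ ⊓ M₂).map (MulAut.conj x).toMonoidHom := by
  unfold Cfsg.edgeStabilizer
  rw [cg_stab_inl_mk, cg_stab_inr_mk]
  exact (Subgroup.map_inf_eq _ _ _ (MulAut.conj x).injective).symm

/-- an element fixing all vertices lies in a normal subgroup inside `M₁ ⊓ M₂`. -/
theorem cg_fixAll_le (g : X) (hg : ∀ v : Cfsg.CosetVertex M₁ M₂, g • v = v) :
    g ∈ (MulAction.toPermHom X (Cfsg.CosetVertex M₁ M₂)).ker := by
  rw [MonoidHom.mem_ker]
  ext v
  simpa using hg v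

theorem cg_ker_le : (MulAction.toPermHom X (Cfsg.CosetVertex M₁ M₂)).ker ≤ M₁ ⊓ M₂ := by
  intro g hg
  rw [MonoidHom.mem_ker] at hg
  have h1 := congrArg (fun e => e (Sum.inl ((1 : X) : X ⧸ M₁) : Cfsg.CosetVertex M₁ M₂)) hg
  have h2 := congrArg (fun e => e (Sum.inr ((1 : X) : X ⧸ M₂) : Cfsg.CosetVertex M₁ M₂)) hg
  simp only [MulAction.toPermHom_apply, MulAction.toPerm_apply, Sum.smul_inl, Sum.smul_inr,
    MulAction.Quotient.smul_mk, smul_eq_mul, mul_one, Equiv.Perm.coe_one, id_eq, Sum.inl.injEq,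
    Sum.inr.injEq] at h1 h2
  rw [QuotientGroup.eq] at h1 h2
  constructor
  · simpa using h1
  · simpa using h2

theorem cg_faithful (h : ∀ N : Subgroup X, N ≤ M₁ ⊓ M₂ → N.Normal → N = ⊥) :
    Function.Injective (MulAction.toPermHom X (Cfsg.CosetVertex M₁ M₂)) := by
  rw [← MonoidHom.ker_eq_bot_iff]
  exact h _ (cg_ker_le M₁ M₂) (MonoidHom.normal_ker _)

theorem cg_nbr_trans (δ μ μ' : Cfsg.CosetVertex M₁ M₂) (hμ : (Cfsg.cosetGraph M₁ M₂).Adj δ μ)
    (hμ' : (Cfsg.cosetGraph M₁ M₂).Adj δ μ') : ∃ g ∈ MulAction.stabilizer X δ, g • μ = μ' := by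
  rw [cg_adj_iff] at hμ hμ'
  rcases hμ with ⟨z, rfl, rfl⟩ | ⟨z, rfl, rfl⟩
  · rcases hμ' with ⟨z', h1, rfl⟩ | ⟨z', _, h1⟩
    · refine ⟨z' * z⁻¹, ?_, ?_⟩
      · rw [MulAction.mem_stabilizer_iff, Sum.smul_inl, MulAction.Quotient.smul_mk, smul_eq_mul,
          inv_mul_cancel_right]
        exact h1.symm
      · simp [Sum.smul_inr, MulAction.Quotient.smul_mk]
    · exact absurd h1 (by simp)
  · rcases hμ' with ⟨z', h1, _⟩ | ⟨z', rfl, h1⟩
    · exact absurd h1 (by simp)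
    · refine ⟨z' * z⁻¹, ?_, ?_⟩
      · rw [MulAction.mem_stabilizer_iff, Sum.smul_inr, MulAction.Quotient.smul_mk, smul_eq_mul,
          inv_mul_cancel_right]
        exact h1.symm
      · simp [Sum.smul_inl, MulAction.Quotient.smul_mk]

end Cfsg.Agent.Lib.H14
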