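import Cfsg.Agent.Lib.H14.Amalgam7
import Cfsg.Agent.Lib.H14.PIrr
import Cfsg.Agent.Lib.H7.PLocal2
import Cfsg.Agent.S2745

/-! Vertex groups of an amalgam pair: `G_λ = O^p(L_λ)·G_{λμ}`, `Z_λ ≠ 1`, subgroups normalized by
two adjacent vertex groups are trivial. -/

set_option autoImplicit false
open Cfsg

namespace Cfsg.Agent.Lib.H14

variable {X : Type*} [Group X] (M₁ M₂ : Subgroup X)

theorem exists_adj (δ : Cfsg.CosetVertex M₁ M₂) : ∃ μ, (Cfsg.cosetGraph M₁ M₂).Adj δ μ := by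
  rcases δ with a | b
  · induction a using QuotientGroup.induction_on with
    | H x => exact ⟨_, cg_adj_inl_inr M₁ M₂ x⟩
  · induction b using QuotientGroup.induction_on with
    | H x => exact ⟨_, (cg_adj_inl_inr M₁ M₂ x).symm⟩

/-- A subgroup of an edge stabilizer normalized by both vertex stabilizers is trivial. -/
theorem eq_bot_of_normalized_both (h : Cfsg.IsAmalgamPair M₁ M₂) (δ μ : Cfsg.CosetVertex M₁ M₂)
    (hadj : (Cfsg.cosetGraph M₁ M₂).Adj δ μ) (U : Subgroup X)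
    (hU : U ≤ MulAction.stabilizer X δ ⊓ MulAction.stabilizer X μ)
    (h1 : MulAction.stabilizer X δ ≤ Subgroup.normalizer (U : Set X))
    (h2 : MulAction.stabilizer X μ ≤ Subgroup.normalizer (U : Set X)) : U = ⊥ := by
  apply Cfsg.Agent.S2745.result M₁ M₂ h δ μ hadj U hU
  · intro ν ν' a b
    obtain ⟨g, hg, hgν⟩ := cg_nbr_trans M₁ M₂ δ ν ν' a b
    exact ⟨g, Subgroup.mem_inf.mpr ⟨h1 hg, hg⟩, hgν⟩
  · intro ν ν' a b
    obtain ⟨g, hg, hgν⟩ := cg_nbr_trans M₁ M₂ μ ν ν' a b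
    exact ⟨g, Subgroup.mem_inf.mpr ⟨h2 hg, hg⟩, hgν⟩

theorem oz_ne_bot {Y : Type*} [Group Y] [Finite Y] {p : ℕ} [Fact p.Prime] (T : Subgroup Y)
    (hT : IsPGroup p T) (hT1 : T ≠ ⊥) : oz p T ≠ ⊥ := by
  obtain ⟨t, htT, hto, htc⟩ := Cfsg.Agent.Lib.H7.exists_orderOf_eq_prime_central p hT hT1
  have ht1 : t ≠ 1 := by
    intro h
    rw [h, orderOf_one] at hto
    exact (Fact.out : p.Prime).one_lt.ne hto
  have htp : t ^ p = 1 := by rw [← hto]; exact pow_orderOf_eq_one t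
  have htO : t ∈ oz p T := by
    unfold oz Cfsg.omegaOne
    refine Subgroup.subset_closure ⟨Subgroup.mem_inf.mpr ⟨htT, ?_⟩, htp⟩
    rw [Subgroup.mem_centralizer_iff]
    intro x hx
    exact htc x hx
  intro h
  rw [h] at htO
  exact ht1 (Subgroup.mem_bot.mp htO)

/-- `Z_H ≠ 1` when `p` divides the order of the finite subgroup `H`. -/
theorem sylowCenterClosure_ne_bot {Y : Type*} [Group Y] {p : ℕ} [Fact p.Prime] (H : Subgroup Y)
    [Finite H] (hp : p ∣ Nat.card H) : Cfsg.sylowCenterClosure p H ≠ ⊥ := by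
  have S : Sylow p H := Classical.arbitrary _
  have hS1 : (S : Subgroup H) ≠ ⊥ := S.ne_bot_of_dvd_card hp
  obtain ⟨t, htT, hto, htc⟩ := Cfsg.Agent.Lib.H7.exists_orderOf_eq_prime_central p S.2 hS1
  have ht1 : t ≠ 1 := by
    intro h
    rw [h, orderOf_one] at hto
    exact (Fact.out : p.Prime).one_lt.ne hto
  have htp : t ^ p = 1 := by rw [← hto]; exact pow_orderOf_eq_one t
  have htO : (t : Y) ∈ oz p ((S : Subgroup H).map H.subtype) := by
    unfold oz Cfsg.omegaOne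
    refine Subgroup.subset_closure ⟨Subgroup.mem_inf.mpr ⟨⟨t, htT, rfl⟩, ?_⟩, ?_⟩
    · rw [Subgroup.mem_centralizer_iff]
      rintro _ ⟨x, hx, rfl⟩
      exact congrArg Subtype.val (htc x hx)
    · have := congrArg Subtype.val htp
      simpa using this
  intro h
  have h2 := oz_le_sylowCenterClosure p H S htO
  rw [h] at h2
  exact ht1 (Subtype.ext (Subgroup.mem_bot.mp h2))

theorem vertexZ_ne_bot {p : ℕ} [Fact p.Prime] (h : Cfsg.IsCharPAmalgamPair p M₁ M₂)
    (δ : Cfsg.CosetVertex M₁ M₂) : Cfsg.vertexZ p δ ≠ ⊥ := by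
  have hfin1 : Finite M₁ := h.2.1
  have hfin2 : Finite M₂ := h.2.2.1
  have hfin := stab_finite M₁ M₂ δ
  apply sylowCenterClosure_ne_bot
  rcases δ with a | b
  · induction a using QuotientGroup.induction_on with
    | H x =>
      rw [cg_stab_inl_mk, card_map_conj]
      exact h.2.2.2.1
  · induction b using QuotientGroup.induction_on with
    | H x =>
      rw [cg_stab_inr_mk, card_map_conj]
      exact h.2.2.2.2.1

/-- `L = O^p(L)·T` elementwise, where the Sylow `p`-subgroup `T` of the finite subgroup `L`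
contains a given `p`-subgroup. -/
theorem exists_mul_of_mem_presidual_sup {Y : Type*} [Group Y] {p : ℕ} [Fact p.Prime]
    (L : Subgroup Y) [Finite L] (T : Sylow p L) (a : Y) (ha : a ∈ L) :
    ∃ r ∈ (Cfsg.pResidual p ↥L).map L.subtype, ∃ t ∈ (T : Subgroup L).map L.subtype, a = r * t := by
  have hn : (Cfsg.pResidual p ↥L).Normal := pResidual_normal'
  have h1 := pResidual_sup_sylow T
  have h2 : (⟨a, ha⟩ : L) ∈ ((Cfsg.pResidual p ↥L ⊔ (T : Subgroup L) : Subgroup L) : Set L) := by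
    rw [h1]; exact Subgroup.mem_top _
  rw [Subgroup.normal_mul] at h2
  obtain ⟨r, hr, t, ht, hrt⟩ := Set.mem_mul.mp h2
  refine ⟨r, ⟨r, hr, rfl⟩, t, ⟨t, ht, rfl⟩, ?_⟩
  have := congrArg Subtype.val hrt
  simpa using this.symm

/-- `G_λ = O^p(L_λ)·G_{λμ}` elementwise. -/
theorem stab_factor {p : ℕ} [Fact p.Prime] (h : Cfsg.IsSpeAmalgamPair p M₁ M₂)
    (δ μ : Cfsg.CosetVertex M₁ M₂) (hadj : (Cfsg.cosetGraph M₁ M₂).Adj δ μ)
    (g : X) (hg : g ∈ MulAction.stabilizer X δ) :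
    ∃ r ∈ (Cfsg.pResidual p ↥(Cfsg.pElementClosure p (MulAction.stabilizer X δ))).map
        (Cfsg.pElementClosure p (MulAction.stabilizer X δ)).subtype,
      ∃ t ∈ MulAction.stabilizer X δ ⊓ MulAction.stabilizer X μ, g = r * t := by
  obtain ⟨hf1, hf2⟩ := charP_fac M₁ M₂ h.1
  have hfin1 : Finite M₁ := h.1.2.1
  have hfin2 : Finite M₂ := h.1.2.2.1
  have hfinδ := stab_finite M₁ M₂ δ
  set Gδ := MulAction.stabilizer X δ with hGδ
  set L := Cfsg.pElementClosure p Gδ with hL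
  have hLG : L ≤ Gδ := pElementClosure_le p Gδ
  have hfinL : Finite L := Finite.of_injective (Subgroup.inclusion hLG) (Subgroup.inclusion_injective _)
  -- a Sylow subgroup of `Gδ` inside `G_μ`
  obtain ⟨e1, _⟩ := adj_fac M₁ M₂ hf1 hf2 δ μ hadj
  obtain ⟨P, hP⟩ := exists_sylow_le_of_factorization Gδ (MulAction.stabilizer X μ) e1
  have hPL : (P : Subgroup Gδ).map Gδ.subtype ≤ L :=
    pgroup_le_pElementClosure p Gδ _ (Subgroup.map_subtype_le _) (P.2.map _)
  -- a Sylow subgroup of `L` containing it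
  have hT'p : IsPGroup p ↥(((P : Subgroup Gδ).map Gδ.subtype).subgroupOf L) :=
    (P.2.map Gδ.subtype).comap_subtype
  obtain ⟨T, hT⟩ := hT'p.exists_le_sylow
  -- `T` maps into `P`
  have hTP : (T : Subgroup L).map L.subtype ≤ (P : Subgroup Gδ).map Gδ.subtype := by
    have hQp : IsPGroup p ↥(((T : Subgroup L).map L.subtype).subgroupOf Gδ) :=
      (T.2.map L.subtype).comap_subtype
    have hPQ : (P : Subgroup Gδ) ≤ ((T : Subgroup L).map L.subtype).subgroupOf Gδ := by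
      intro x hx
      rw [Subgroup.mem_subgroupOf]
      have hxL : (x : X) ∈ L := hPL ⟨x, hx, rfl⟩
      refine ⟨⟨x, hxL⟩, hT ?_, rfl⟩
      rw [Subgroup.mem_subgroupOf]
      exact ⟨x, hx, rfl⟩
    have heq := P.3 hQp hPQ
    rintro _ ⟨t, ht, rfl⟩
    have htG : (t : X) ∈ Gδ := hLG t.2
    have : (⟨(t : X), htG⟩ : Gδ) ∈ ((T : Subgroup L).map L.subtype).subgroupOf Gδ := by
      rw [Subgroup.mem_subgroupOf]
      exact ⟨t, ht, rfl⟩
    rw [heq] at this
    exact ⟨⟨(t : X), htG⟩, this, rfl⟩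
  -- transitivity of `L` on neighbours
  have hadj' : (Cfsg.cosetGraph M₁ M₂).Adj δ (g • μ) := by
    have := cg_adj_smul M₁ M₂ g δ μ hadj
    rwa [MulAction.mem_stabilizer_iff.mp hg] at this
  obtain ⟨a, ha, haμ⟩ := spe_pElementClosure_trans M₁ M₂ h δ μ (g • μ) hadj hadj'
  obtain ⟨r, hr, t, ht, hart⟩ := exists_mul_of_mem_presidual_sup L T a ha
  have htμ : t ∈ MulAction.stabilizer X μ := hP (hTP ht)
  have htδ : t ∈ Gδ := hLG ((Subgroup.map_subtype_le _) ht)
  have haδ : a ∈ Gδ := hLG ha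
  refine ⟨r, hr, r⁻¹ * g, ?_, by group⟩
  have hr_eq : r⁻¹ = t * a⁻¹ := by rw [hart]; group
  have hrδ : r ∈ Gδ := hLG ((Subgroup.map_subtype_le _) hr)
  refine Subgroup.mem_inf.mpr ⟨Gδ.mul_mem (Gδ.inv_mem hrδ) hg, ?_⟩
  rw [MulAction.mem_stabilizer_iff, mul_smul, ← haμ, hr_eq, mul_smul, inv_smul_smul]
  exact MulAction.mem_stabilizer_iff.mp htμ

end Cfsg.Agent.Lib.H14
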