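import Mathlib
import Cfsg.Agent.Lib.H5.QuasiDihedral

set_option autoImplicit false

/-! # `A₄` in `GL₂(ℤ/2ᵏ)`: ring facts about `ZMod (2 ^ k)` -/

namespace Cfsg.Agent.Lib.H14.A4GL

open Cfsg.Agent.Lib.H5.SD

variable {k : ℕ}

theorem two_pow_eq_zero : (2 : ZMod (2 ^ k)) ^ k = 0 := by
  have h : ((2 ^ k : ℕ) : ZMod (2 ^ k)) = 0 := ZMod.natCast_self _
  push_cast at h
  exact h

theorem isUnit_odd (y : ZMod (2 ^ k)) : IsUnit (1 + 2 * y) := by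
  apply IsNilpotent.isUnit_one_add
  exact ⟨k, by rw [mul_pow, two_pow_eq_zero, zero_mul]⟩

theorem parity (x : ZMod (2 ^ k)) : (∃ y, x = 2 * y) ∨ (∃ y, x = 1 + 2 * y) := by
  rcases even_or_odd x with ⟨b, hb⟩ | ⟨b, hb⟩
  · exact Or.inl ⟨b, hb⟩
  · exact Or.inr ⟨b, by rw [hb, add_comm]⟩

/-- if `1` is even then the ring is trivial -/
theorem eq_of_one_even {z : ZMod (2 ^ k)} (h : (1 : ZMod (2 ^ k)) = 2 * z) (a b : ZMod (2 ^ k)) :
    a = b := by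
  have h1 : (1 : ZMod (2 ^ k)) = 0 := by
    calc (1 : ZMod (2 ^ k)) = 1 ^ k := (one_pow k).symm
      _ = (2 * z) ^ k := by rw [← h]
      _ = 0 := by rw [mul_pow, two_pow_eq_zero, zero_mul]
  calc a = a * 1 := (mul_one a).symm
    _ = b * 1 := by rw [h1, mul_zero, mul_zero]
    _ = b := mul_one b

theorem eq_one_of_pow_three {d : ZMod (2 ^ k)} (h : d ^ 3 = 1) : d = 1 := by
  rcases parity d with ⟨y, rfl⟩ | ⟨y, rfl⟩
  · have h1 : (1 : ZMod (2 ^ k)) = 2 * (4 * y ^ 3) := by rw [← h]; ring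
    exact eq_of_one_even h1 _ _
  · have hu : IsUnit (1 + 2 * (1 + 3 * y + 2 * y ^ 2) : ZMod (2 ^ k)) := isUnit_odd _
    have h2 : (1 + 2 * (1 + 3 * y + 2 * y ^ 2)) * (2 * y) = (0 : ZMod (2 ^ k)) := by
      linear_combination h
    have h3 : (2 * y : ZMod (2 ^ k)) = 0 := (hu.mul_right_eq_zero).mp h2
    rw [h3, add_zero]

/-- reduction mod 2 -/
noncomputable def red (hk : k ≠ 0) : ZMod (2 ^ k) →+* ZMod 2 :=
  ZMod.castHom (dvd_pow_self 2 hk) (ZMod 2)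

theorem red_two (hk : k ≠ 0) : red hk 2 = 0 := by
  rw [map_ofNat]; rfl

theorem even_of_red (hk : k ≠ 0) {x : ZMod (2 ^ k)} (h : red hk x = 0) : ∃ y, x = 2 * y := by
  rcases parity x with ⟨y, rfl⟩ | ⟨y, rfl⟩
  · exact ⟨y, rfl⟩
  · exfalso
    rw [map_add, map_mul, red_two, zero_mul, add_zero, map_one] at h
    exact one_ne_zero h

theorem odd_of_red (hk : k ≠ 0) {x : ZMod (2 ^ k)} (h : red hk x = 1) : ∃ y, x = 1 + 2 * y := by
  rcases parity x with ⟨y, rfl⟩ | ⟨y, rfl⟩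
  · exfalso
    rw [map_mul, red_two, zero_mul] at h
    exact zero_ne_one h
  · exact ⟨y, rfl⟩

/-- `3` is invertible -/
theorem exists_inv_three : ∃ i3 : ZMod (2 ^ k), 3 * i3 = 1 := by
  have hu : IsUnit (1 + 2 * 1 : ZMod (2 ^ k)) := isUnit_odd 1
  obtain ⟨u, hu⟩ := hu
  refine ⟨((u⁻¹ : (ZMod (2 ^ k))ˣ) : ZMod (2 ^ k)), ?_⟩
  have : (3 : ZMod (2 ^ k)) = u := by rw [hu]; norm_num
  rw [this, Units.mul_inv]

end Cfsg.Agent.Lib.H14.A4GL
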