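import Mathlib
import Cfsg.Agent.Lib.H14.A4GL1

set_option autoImplicit false

namespace Cfsg.Agent.Lib.H14.A4GL

open Matrix

variable {k : ℕ}

/-- the companion matrix of `x² + x + 1` -/
def CC (k : ℕ) : Matrix (Fin 2) (Fin 2) (ZMod (2 ^ k)) := !![0, -1; 1, -1]

theorem CC_cube : CC k * CC k * CC k = 1 := by
  unfold CC
  ext i j
  fin_cases i <;> fin_cases j <;> simp [Matrix.mul_apply, Fin.sum_univ_two]

/-- entries of an element of order 3 -/
theorem order_three_entries (hk : k ≠ 0) (p q r s : ZMod (2 ^ k))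
    (h3 : !![p, q; r, s] * !![p, q; r, s] * !![p, q; r, s] = (1 : Matrix (Fin 2) (Fin 2) (ZMod (2 ^ k))))
    (h1 : !![p, q; r, s] ≠ (1 : Matrix (Fin 2) (Fin 2) (ZMod (2 ^ k)))) :
    p * s - q * r = 1 ∧ p + s = -1 ∧ (IsUnit q ∨ IsUnit r) := by
  -- determinant
  have hd3 : (p * s - q * r) ^ 3 = 1 := by
    have := congrArg Matrix.det h3
    rw [Matrix.det_mul, Matrix.det_mul, Matrix.det_one, Matrix.det_fin_two_of] at this
    rw [← this]; ring
  have hd : p * s - q * r = 1 := eq_one_of_pow_three hd3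
  -- entries of the cube
  have e00 := congrFun (congrFun h3 0) 0
  have e01 := congrFun (congrFun h3 0) 1
  have e10 := congrFun (congrFun h3 1) 0
  have e11 := congrFun (congrFun h3 1) 1
  simp [Matrix.mul_apply, Fin.sum_univ_two] at e00 e01 e10 e11
  -- `(τ² - 1) t = (1 + τ)`
  have c00 : ((p + s) ^ 2 - 1) * p = 1 + (p + s) := by
    linear_combination e00 + (2 * p + s) * hd
  have c01 : ((p + s) ^ 2 - 1) * q = 0 := by
    linear_combination e01 + q * hd
  have c10 : ((p + s) ^ 2 - 1) * r = 0 := by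
    linear_combination e10 + r * hd
  have c11 : ((p + s) ^ 2 - 1) * s = 1 + (p + s) := by
    linear_combination e11 + (2 * s + p) * hd
  -- the trace is odd
  have hτ : ∃ y, p + s = 1 + 2 * y := by
    rcases parity (p + s) with ⟨y, hy⟩ | h
    · exfalso
      have hu : IsUnit ((p + s) ^ 2 - 1) := by
        have : (p + s) ^ 2 - 1 = -(1 + 2 * (-2 * y ^ 2)) := by rw [hy]; ring
        rw [this]
        exact (isUnit_odd _).neg
      have hq : q = 0 := (hu.mul_right_eq_zero).mp c01
      have hr : r = 0 := (hu.mul_right_eq_zero).mp c10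
      have hps : p - s = 0 := by
        apply (hu.mul_right_eq_zero).mp
        linear_combination c00 - c11
      have hps' : p = s := by linear_combination hps
      subst hq hr hps'
      have hp3 : p ^ 3 = 1 := by linear_combination e00
      have hp1 : p = 1 := eq_one_of_pow_three hp3
      apply h1
      rw [hp1, Matrix.one_fin_two]
    · exact h
  obtain ⟨y, hy⟩ := hτ
  have hτ1 : p + s = -1 := by
    have key : ((p + s) + 1) * (2 - (p + s)) = 0 := by
      linear_combination ((p + s - 1) * s - 1) * c00 - ((p + s - 1) * r) * c01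
        - ((p + s) + 1) * (p + s - 1) ^ 2 * hd
    have hu : IsUnit (2 - (p + s)) := by
      have : 2 - (p + s) = 1 + 2 * (-y) := by rw [hy]; ring
      rw [this]; exact isUnit_odd _
    have := (hu.mul_left_eq_zero).mp key
    linear_combination this
  refine ⟨hd, hτ1, ?_⟩
  have hdec : ∀ a b c d : ZMod 2, a + d = 1 → a * d - b * c = 1 → b = 1 ∨ c = 1 := by decide
  have h1' : red hk p + red hk s = 1 := by
    rw [← map_add, hτ1, map_neg, map_one]; decide
  have h2' : red hk p * red hk s - red hk q * red hk r = 1 := by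
    rw [← map_mul, ← map_mul, ← map_sub, hd, map_one]
  rcases hdec _ _ _ _ h1' h2' with h | h
  · left
    obtain ⟨z, rfl⟩ := odd_of_red hk h
    exact isUnit_odd z
  · right
    obtain ⟨z, rfl⟩ := odd_of_red hk h
    exact isUnit_odd z

theorem det_CC : (CC k).det = 1 := by
  unfold CC
  rw [Matrix.det_fin_two_of]; ring

/-- the companion matrix as an element of `GL₂` -/
noncomputable def CG (k : ℕ) : GL (Fin 2) (ZMod (2 ^ k)) :=
  Matrix.GeneralLinearGroup.mk'' (CC k) (by rw [det_CC]; exact isUnit_one)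

theorem coe_CG : ((CG k : GL (Fin 2) (ZMod (2 ^ k))) : Matrix (Fin 2) (Fin 2) (ZMod (2 ^ k))) = CC k :=
  rfl

theorem CG_cube : (CG k) ^ 3 = 1 := by
  apply Units.ext
  rw [Units.val_pow_eq_pow_val, Units.val_one, coe_CG, pow_succ, pow_two]
  exact CC_cube

theorem conj_companion (hk : k ≠ 0) (T : GL (Fin 2) (ZMod (2 ^ k))) (h3 : T ^ 3 = 1) (h1 : T ≠ 1) :
    ∃ g : GL (Fin 2) (ZMod (2 ^ k)), g⁻¹ * T * g = CG k := by
  obtain ⟨t, htdef⟩ : ∃ t : Matrix (Fin 2) (Fin 2) (ZMod (2 ^ k)), t = (T : Matrix _ _ _) := ⟨_, rfl⟩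
  obtain ⟨p, hp⟩ : ∃ p, p = t 0 0 := ⟨_, rfl⟩
  obtain ⟨q, hq⟩ : ∃ q, q = t 0 1 := ⟨_, rfl⟩
  obtain ⟨r, hr⟩ : ∃ r, r = t 1 0 := ⟨_, rfl⟩
  obtain ⟨s, hs⟩ : ∃ s, s = t 1 1 := ⟨_, rfl⟩
  have ht : t = !![p, q; r, s] := by
    rw [hp, hq, hr, hs]; exact Matrix.eta_fin_two t
  have ht3 : t * t * t = 1 := by
    have := congrArg (fun x : GL (Fin 2) (ZMod (2 ^ k)) => (x : Matrix (Fin 2) (Fin 2) (ZMod (2 ^ k)))) h3
    simp only [Units.val_pow_eq_pow_val, Units.val_one] at this
    rw [htdef, ← this, pow_succ, pow_two]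
  have ht1 : t ≠ 1 := by
    intro h
    apply h1
    apply Units.ext
    rw [← htdef, h, Units.val_one]
  rw [ht] at ht3 ht1
  obtain ⟨hd, hτ, hu⟩ := order_three_entries hk p q r s ht3 ht1
  have hfin : ∀ g : GL (Fin 2) (ZMod (2 ^ k)),
      t * (g : Matrix _ _ _) = (g : Matrix _ _ _) * CC k → g⁻¹ * T * g = CG k := by
    intro g hg
    have h2 : T * g = g * CG k := by
      apply Units.ext
      rw [Units.val_mul, Units.val_mul, coe_CG, ← htdef]
      exact hg
    rw [mul_assoc, h2, inv_mul_cancel_left]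
  rcases hu with hu | hu
  · -- `q` is a unit : basis `e₂, t e₂`
    have hdet : IsUnit (!![0, q; 1, s] : Matrix (Fin 2) (Fin 2) (ZMod (2 ^ k))).det := by
      rw [Matrix.det_fin_two_of]
      have : (0 : ZMod (2 ^ k)) * s - q * 1 = -q := by ring
      rw [this]; exact hu.neg
    refine ⟨Matrix.GeneralLinearGroup.mk'' _ hdet, hfin _ ?_⟩
    show t * !![0, q; 1, s] = !![0, q; 1, s] * CC k
    rw [ht]
    unfold CC
    ext i j
    fin_cases i <;> fin_cases j <;> simp [Matrix.mul_apply, Fin.sum_univ_two]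
    · linear_combination q * hτ
    · linear_combination (-1 : ZMod (2 ^ k)) * hd + s * hτ
  · have hdet : IsUnit (!![1, p; 0, r] : Matrix (Fin 2) (Fin 2) (ZMod (2 ^ k))).det := by
      rw [Matrix.det_fin_two_of]
      have : (1 : ZMod (2 ^ k)) * r - p * 0 = r := by ring
      rw [this]; exact hu
    refine ⟨Matrix.GeneralLinearGroup.mk'' _ hdet, hfin _ ?_⟩
    show t * !![1, p; 0, r] = !![1, p; 0, r] * CC k
    rw [ht]
    unfold CC
    ext i j
    fin_cases i <;> fin_cases j <;> simp [Matrix.mul_apply, Fin.sum_univ_two]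
    · linear_combination (-1 : ZMod (2 ^ k)) * hd + p * hτ
    · linear_combination r * hτ

end Cfsg.Agent.Lib.H14.A4GL
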