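import Mathlib
import Cfsg.Agent.Lib.H14.A4GL2

set_option autoImplicit false

namespace Cfsg.Agent.Lib.H14.A4GL

open Matrix Cfsg.Agent.Lib.H5.SD

variable {k : ℕ}

/-- the scalar core of the uniqueness of the Klein four group -/
theorem klein_scalars (hk : 2 ≤ k) (r₀ r₁ s₀ s₁ : ZMod (2 ^ k))
    (hA : r₀ = 1 - 2 * (s₀ ^ 2 - s₀ * s₁ + s₁ ^ 2))
    (hB : r₁ = -(s₀ ^ 2 - s₀ * s₁ + s₁ ^ 2))
    (hC : s₀ * (2 * r₀ - r₁) = 0) (hD : s₁ * (2 * r₀ - r₁) = 0) :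
    r₀ = 1 ∧ r₁ = 0 ∧ (s₀ = 0 ∨ s₀ = hh k) ∧ (s₁ = 0 ∨ s₁ = hh k) := by
  have hk0 : k ≠ 0 := by omega
  have hk1 : 1 ≤ k := by omega
  -- parity
  have hdec : ∀ a b c : ZMod 2, a = -(b ^ 2 - b * c + c ^ 2) → b * (0 - a) = 0 → c * (0 - a) = 0 →
      b = 0 ∧ c = 0 := by decide
  have hB' : red hk0 r₁ = -((red hk0 s₀) ^ 2 - red hk0 s₀ * red hk0 s₁ + (red hk0 s₁) ^ 2) := by
    rw [hB]; simp only [map_neg, map_add, map_sub, map_mul, map_pow]
  have hC' : red hk0 s₀ * (0 - red hk0 r₁) = 0 := by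
    have := congrArg (red hk0) hC
    simp only [map_mul, map_sub, map_zero, red_two, zero_mul] at this
    exact this
  have hD' : red hk0 s₁ * (0 - red hk0 r₁) = 0 := by
    have := congrArg (red hk0) hD
    simp only [map_mul, map_sub, map_zero, red_two, zero_mul] at this
    exact this
  obtain ⟨h0, h1⟩ := hdec _ _ _ hB' hC' hD'
  obtain ⟨x, hx⟩ := even_of_red hk0 h0
  obtain ⟨y, hy⟩ := even_of_red hk0 h1
  have hρ : 2 * r₀ - r₁ = 2 * (1 + 2 * (-3 * (x ^ 2 - x * y + y ^ 2))) := by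
    rw [hA, hB, hx, hy]; ring
  have hu : IsUnit (1 + 2 * (-3 * (x ^ 2 - x * y + y ^ 2)) : ZMod (2 ^ k)) := isUnit_odd _
  have h2s₀ : 2 * s₀ = 0 := by
    apply (hu.mul_left_eq_zero).mp
    rw [hρ] at hC
    linear_combination hC
  have h2s₁ : 2 * s₁ = 0 := by
    apply (hu.mul_left_eq_zero).mp
    rw [hρ] at hD
    linear_combination hD
  have hs₀ := two_torsion hk1 s₀ h2s₀
  have hs₁ := two_torsion hk1 s₁ h2s₁
  have hhh := hh_mul_hh hk
  have hN : s₀ ^ 2 - s₀ * s₁ + s₁ ^ 2 = 0 := by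
    rcases hs₀ with h | h <;> rcases hs₁ with h' | h' <;> rw [h, h']
    · ring
    · linear_combination hhh
    · linear_combination hhh
    · linear_combination hhh
  refine ⟨?_, ?_, hs₀, hs₁⟩
  · rw [hA, hN]; ring
  · rw [hB, hN]; ring

theorem klein_unique (hk : 2 ≤ k) (b : Matrix (Fin 2) (Fin 2) (ZMod (2 ^ k))) (hb2 : b * b = 1)
    (hb1 : b ≠ 1) (hprod : b * (CC k * CC k * b * CC k) = CC k * b * (CC k * CC k)) :
    b = !![1, hh k; hh k, 1] ∨ b = !![1 + hh k, 0; hh k, 1 + hh k] ∨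
      b = !![1 + hh k, hh k; 0, 1 + hh k] := by
  have hk1 : 1 ≤ k := by omega
  obtain ⟨i3, h3⟩ := exists_inv_three (k := k)
  obtain ⟨α, hα⟩ : ∃ α, α = b 0 0 := ⟨_, rfl⟩
  obtain ⟨β, hβ⟩ : ∃ β, β = b 0 1 := ⟨_, rfl⟩
  obtain ⟨γ, hγ⟩ : ∃ γ, γ = b 1 0 := ⟨_, rfl⟩
  obtain ⟨δ, hδ⟩ : ∃ δ, δ = b 1 1 := ⟨_, rfl⟩
  obtain ⟨s₀, hs₀⟩ : ∃ s₀, s₀ = i3 * (2 * α + β - γ - 2 * δ) := ⟨_, rfl⟩
  obtain ⟨s₁, hs₁⟩ : ∃ s₁, s₁ = i3 * (α + 2 * β + γ - δ) := ⟨_, rfl⟩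
  obtain ⟨r₀, hr₀⟩ : ∃ r₀, r₀ = α - s₀ := ⟨_, rfl⟩
  obtain ⟨r₁, hr₁⟩ : ∃ r₁, r₁ = γ - s₁ := ⟨_, rfl⟩
  have hb : b = !![r₀ + s₀, -r₁ - s₀ + s₁; r₁ + s₁, r₀ - r₁ - s₀] := by
    have e1 : r₀ + s₀ = α := by rw [hr₀]; ring
    have e2 : -r₁ - s₀ + s₁ = β := by
      rw [hr₁, hs₀, hs₁]; linear_combination (β + γ) * h3
    have e3 : r₁ + s₁ = γ := by rw [hr₁]; ring
    have e4 : r₀ - r₁ - s₀ = δ := by
      rw [hr₀, hr₁, hs₀, hs₁]; linear_combination (-α + γ + δ) * h3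
    rw [e1, e2, e3, e4, hα, hβ, hγ, hδ]
    exact Matrix.eta_fin_two b
  clear hα hβ hγ hδ hs₀ hs₁ hr₀ hr₁
  subst hb
  have e00 := congrFun (congrFun hb2 0) 0
  have e01 := congrFun (congrFun hb2 0) 1
  have e10 := congrFun (congrFun hb2 1) 0
  have e11 := congrFun (congrFun hb2 1) 1
  have f00 := congrFun (congrFun hprod 0) 0
  have f01 := congrFun (congrFun hprod 0) 1
  have f10 := congrFun (congrFun hprod 1) 0
  have f11 := congrFun (congrFun hprod 1) 1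
  unfold CC at f00 f01 f10 f11
  simp [Matrix.mul_apply, Fin.sum_univ_two] at e00 e01 e10 e11 f00 f01 f10 f11
  have hu3 : IsUnit (3 : ZMod (2 ^ k)) := by
    have := isUnit_odd (k := k) 1
    have h : (1 + 2 * 1 : ZMod (2 ^ k)) = 3 := by norm_num
    rwa [h] at this
  have hA : r₀ = 1 - 2 * (s₀ ^ 2 - s₀ * s₁ + s₁ ^ 2) := by
    have : 3 * (r₀ - (1 - 2 * (s₀ ^ 2 - s₀ * s₁ + s₁ ^ 2))) = 0 := by
      linear_combination (e00 - e01 + e10 + 2 * e11) - (f00 - f01 + f10 + 2 * f11)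
    have := (hu3.mul_right_eq_zero).mp this
    linear_combination this
  have hB : r₁ = -(s₀ ^ 2 - s₀ * s₁ + s₁ ^ 2) := by
    have : 3 * (r₁ + (s₀ ^ 2 - s₀ * s₁ + s₁ ^ 2)) = 0 := by
      linear_combination (-e00 - 2 * e01 + 2 * e10 + e11) - (-f00 - 2 * f01 + 2 * f10 + f11)
    have := (hu3.mul_right_eq_zero).mp this
    linear_combination this
  have hC : s₀ * (2 * r₀ - r₁) = 0 := by
    have : 3 * (s₀ * (2 * r₀ - r₁)) = 0 := by
      linear_combination (2 * e00 + e01 - e10 - 2 * e11)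
    exact (hu3.mul_right_eq_zero).mp this
  have hD : s₁ * (2 * r₀ - r₁) = 0 := by
    have : 3 * (s₁ * (2 * r₀ - r₁)) = 0 := by
      linear_combination (e00 + 2 * e01 + e10 - e11)
    exact (hu3.mul_right_eq_zero).mp this
  obtain ⟨h0, h1, hs₀, hs₁⟩ := klein_scalars hk r₀ r₁ s₀ s₁ hA hB hC hD
  have hneg : -hh k = hh k := by
    have := two_hh (n := k) hk1
    linear_combination -this
  have hmat : ∀ a b c d a' b' c' d' : ZMod (2 ^ k), a = a' → b = b' → c = c' → d = d' →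
      (!![a, b; c, d] : Matrix (Fin 2) (Fin 2) (ZMod (2 ^ k))) = !![a', b'; c', d'] := by
    intro a b c d a' b' c' d' h1 h2 h3 h4
    rw [h1, h2, h3, h4]
  subst h0 h1
  rcases hs₀ with rfl | rfl <;> rcases hs₁ with rfl | rfl
  · exfalso
    apply hb1
    rw [Matrix.one_fin_two]
    apply hmat <;> ring
  · left
    apply hmat
    · ring
    · ring
    · ring
    · ring
  · right; right
    apply hmat
    · ring
    · linear_combination hneg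
    · ring
    · linear_combination hneg
  · right; left
    apply hmat
    · ring
    · ring
    · ring
    · linear_combination hneg

end Cfsg.Agent.Lib.H14.A4GL
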