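import Mathlib
import Cfsg.Agent.Lib.H14.A4GL3

set_option autoImplicit false

namespace Cfsg.Agent.Lib.H14.A4GL

open Matrix Equiv

/-- a 3-cycle in `A₄` -/
def c₀ : alternatingGroup (Fin 4) := ⟨swap 0 1 * swap 1 2, Equiv.Perm.mem_alternatingGroup.mpr (by decide)⟩

/-- a double transposition in `A₄` -/
def v₀ : alternatingGroup (Fin 4) := ⟨swap 0 1 * swap 2 3, Equiv.Perm.mem_alternatingGroup.mpr (by decide)⟩

theorem c₀_cube : c₀ ^ 3 = 1 := by decide
theorem c₀_ne : c₀ ≠ 1 := by decide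
theorem v₀_sq : v₀ * v₀ = 1 := by decide
theorem v₀_ne : v₀ ≠ 1 := by decide
theorem v₀_rel : v₀ * (c₀⁻¹ * v₀ * c₀) = c₀ * v₀ * c₀⁻¹ := by decide
theorem a4_gen : ∀ x : alternatingGroup (Fin 4), ∃ i : Fin 3, ∃ j : Fin 2, ∃ l : Fin 2,
    x = c₀ ^ (i : ℕ) * v₀ ^ (j : ℕ) * (c₀ * v₀ * c₀⁻¹) ^ (l : ℕ) := by decide

variable {Γ : Type*} [Group Γ]

/-- generators and relations of a subgroup isomorphic to `A₄` -/
theorem a4_data (H : Subgroup Γ) (e : H ≃* alternatingGroup (Fin 4)) :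
    ∃ T a : Γ, T ^ 3 = 1 ∧ T ≠ 1 ∧ a * a = 1 ∧ a ≠ 1 ∧
      a * (T⁻¹ * a * T) = T * a * T⁻¹ ∧ H = Subgroup.closure {T, a} := by
  obtain ⟨T', hT'⟩ : ∃ T' : H, T' = e.symm c₀ := ⟨_, rfl⟩
  obtain ⟨a', ha'⟩ : ∃ a' : H, a' = e.symm v₀ := ⟨_, rfl⟩
  have h1 : T' ^ 3 = 1 := by rw [hT', ← map_pow, c₀_cube, map_one]
  have h2 : T' ≠ 1 := by
    rw [hT']
    intro h
    apply c₀_ne
    apply e.symm.injective
    rw [h, map_one]
  have h3 : a' * a' = 1 := by rw [ha', ← map_mul, v₀_sq, map_one]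
  have h4 : a' ≠ 1 := by
    rw [ha']
    intro h
    apply v₀_ne
    apply e.symm.injective
    rw [h, map_one]
  have h5 : a' * (T'⁻¹ * a' * T') = T' * a' * T'⁻¹ := by
    rw [hT', ha', ← map_inv, ← map_mul, ← map_mul, ← map_mul, ← map_mul, ← map_mul, v₀_rel]
  refine ⟨(T' : Γ), (a' : Γ), ?_, ?_, ?_, ?_, ?_, ?_⟩
  · have := congrArg Subtype.val h1
    simpa using this
  · intro h
    apply h2
    exact Subtype.ext (by simpa using h)
  · have := congrArg Subtype.val h3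
    simpa using this
  · intro h
    apply h4
    exact Subtype.ext (by simpa using h)
  · have := congrArg Subtype.val h5
    simpa using this
  · apply le_antisymm
    · intro x hx
      obtain ⟨i, j, l, hijl⟩ := a4_gen (e ⟨x, hx⟩)
      have hx' : (⟨x, hx⟩ : H) = T' ^ (i : ℕ) * a' ^ (j : ℕ) * (T' * a' * T'⁻¹) ^ (l : ℕ) := by
        apply e.injective
        rw [hijl, hT', ha']
        simp only [map_mul, map_pow, map_inv, MulEquiv.apply_symm_apply]
      have hx'' : x = (T' : Γ) ^ (i : ℕ) * (a' : Γ) ^ (j : ℕ) *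
          ((T' : Γ) * (a' : Γ) * (T' : Γ)⁻¹) ^ (l : ℕ) := by
        have := congrArg Subtype.val hx'
        simpa using this
      rw [hx'']
      have hTc : (T' : Γ) ∈ Subgroup.closure ({(T' : Γ), (a' : Γ)} : Set Γ) :=
        Subgroup.subset_closure (by simp)
      have hac : (a' : Γ) ∈ Subgroup.closure ({(T' : Γ), (a' : Γ)} : Set Γ) :=
        Subgroup.subset_closure (by simp)
      exact Subgroup.mul_mem _ (Subgroup.mul_mem _ (Subgroup.pow_mem _ hTc _)
        (Subgroup.pow_mem _ hac _)) (Subgroup.pow_mem _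
          (Subgroup.mul_mem _ (Subgroup.mul_mem _ hTc hac) (Subgroup.inv_mem _ hTc)) _)
    · rw [Subgroup.closure_le]
      rintro x (rfl | rfl)
      · exact T'.2
      · exact a'.2

end Cfsg.Agent.Lib.H14.A4GL
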