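import Mathlib
import Cfsg.Agent.Lib.H14.A4GL4

set_option autoImplicit false

namespace Cfsg.Agent.Lib.H14.A4GL

open Matrix Cfsg.Agent.Lib.H5.SD

variable {k : ℕ}

/-- the three involutions of the standard Klein four group -/
def InK (x : GL (Fin 2) (ZMod (2 ^ k))) : Prop :=
  (x : Matrix (Fin 2) (Fin 2) (ZMod (2 ^ k))) = !![1, hh k; hh k, 1] ∨
  (x : Matrix (Fin 2) (Fin 2) (ZMod (2 ^ k))) = !![1 + hh k, 0; hh k, 1 + hh k] ∨
  (x : Matrix (Fin 2) (Fin 2) (ZMod (2 ^ k))) = !![1 + hh k, hh k; 0, 1 + hh k]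

/-- the standard copy of `A₄` -/
def H₀ (k : ℕ) : Subgroup (GL (Fin 2) (ZMod (2 ^ k))) :=
  Subgroup.closure ({CG k} ∪ {x | InK x})

theorem CG_inv : (CG k)⁻¹ = CG k * CG k := by
  rw [inv_eq_iff_mul_eq_one, ← mul_assoc, ← pow_two, ← pow_succ]
  exact CG_cube

theorem coe_conj_CG (y : GL (Fin 2) (ZMod (2 ^ k))) :
    (((CG k)⁻¹ * y * CG k : GL (Fin 2) (ZMod (2 ^ k))) : Matrix (Fin 2) (Fin 2) (ZMod (2 ^ k))) =
      CC k * CC k * (y : Matrix (Fin 2) (Fin 2) (ZMod (2 ^ k))) * CC k := by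
  rw [CG_inv]
  simp only [Units.val_mul, coe_CG]

theorem ff_entries (α β γ δ : ZMod (2 ^ k)) :
    CC k * CC k * !![α, β; γ, δ] * CC k = !![δ - β, α + β - γ - δ; -β, α + β] := by
  unfold CC
  ext i j
  fin_cases i <;> fin_cases j <;> simp [Matrix.mul_apply, Fin.sum_univ_two] <;> ring

theorem mem_closure_of_inK (hk : 1 ≤ k) (b x : GL (Fin 2) (ZMod (2 ^ k))) (hb : InK b) (hx : InK x) :
    x ∈ Subgroup.closure ({CG k, b} : Set (GL (Fin 2) (ZMod (2 ^ k)))) := by
  have h2 := two_hh (n := k) hk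
  have hneg : -hh k = hh k := by linear_combination -h2
  have hmat : ∀ a b c d a' b' c' d' : ZMod (2 ^ k), a = a' → b = b' → c = c' → d = d' →
      (!![a, b; c, d] : Matrix (Fin 2) (Fin 2) (ZMod (2 ^ k))) = !![a', b'; c', d'] := by
    intro a b c d a' b' c' d' h1 h2 h3 h4
    rw [h1, h2, h3, h4]
  have f1 : CC k * CC k * !![1, hh k; hh k, 1] * CC k = !![1 + hh k, 0; hh k, 1 + hh k] := by
    rw [ff_entries]
    apply hmat
    · linear_combination hneg
    · ring
    · exact hneg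
    · ring
  have f2 : CC k * CC k * !![1 + hh k, 0; hh k, 1 + hh k] * CC k = !![1 + hh k, hh k; 0, 1 + hh k] := by
    rw [ff_entries]
    apply hmat
    · ring
    · linear_combination hneg
    · ring
    · ring
  have f3 : CC k * CC k * !![1 + hh k, hh k; 0, 1 + hh k] * CC k = !![1, hh k; hh k, 1] := by
    rw [ff_entries]
    apply hmat
    · ring
    · ring
    · exact hneg
    · linear_combination h2
  have hCm : CG k ∈ Subgroup.closure ({CG k, b} : Set (GL (Fin 2) (ZMod (2 ^ k)))) :=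
    Subgroup.subset_closure (by simp)
  have hbm : b ∈ Subgroup.closure ({CG k, b} : Set (GL (Fin 2) (ZMod (2 ^ k)))) :=
    Subgroup.subset_closure (by simp)
  have hb'm : (CG k)⁻¹ * b * CG k ∈ Subgroup.closure ({CG k, b} : Set (GL (Fin 2) (ZMod (2 ^ k)))) :=
    Subgroup.mul_mem _ (Subgroup.mul_mem _ (Subgroup.inv_mem _ hCm) hbm) hCm
  have hb''m : (CG k)⁻¹ * ((CG k)⁻¹ * b * CG k) * CG k ∈
      Subgroup.closure ({CG k, b} : Set (GL (Fin 2) (ZMod (2 ^ k)))) :=
    Subgroup.mul_mem _ (Subgroup.mul_mem _ (Subgroup.inv_mem _ hCm) hb'm) hCm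
  have e1 := coe_conj_CG b
  have e2 := coe_conj_CG ((CG k)⁻¹ * b * CG k)
  rw [e1] at e2
  rcases hb with hb | hb | hb <;> rw [hb] at e1 e2
  · rw [f1] at e1 e2
    rw [f2] at e2
    rcases hx with hx | hx | hx
    · have : x = b := Units.ext (by rw [hx, hb])
      rw [this]; exact hbm
    · have : x = (CG k)⁻¹ * b * CG k := Units.ext (by rw [hx, e1])
      rw [this]; exact hb'm
    · have : x = (CG k)⁻¹ * ((CG k)⁻¹ * b * CG k) * CG k := Units.ext (by rw [hx, e2])
      rw [this]; exact hb''m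
  · rw [f2] at e1 e2
    rw [f3] at e2
    rcases hx with hx | hx | hx
    · have : x = (CG k)⁻¹ * ((CG k)⁻¹ * b * CG k) * CG k := Units.ext (by rw [hx, e2])
      rw [this]; exact hb''m
    · have : x = b := Units.ext (by rw [hx, hb])
      rw [this]; exact hbm
    · have : x = (CG k)⁻¹ * b * CG k := Units.ext (by rw [hx, e1])
      rw [this]; exact hb'm
  · rw [f3] at e1 e2
    rw [f1] at e2
    rcases hx with hx | hx | hx
    · have : x = (CG k)⁻¹ * b * CG k := Units.ext (by rw [hx, e1])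
      rw [this]; exact hb'm
    · have : x = (CG k)⁻¹ * ((CG k)⁻¹ * b * CG k) * CG k := Units.ext (by rw [hx, e2])
      rw [this]; exact hb''m
    · have : x = b := Units.ext (by rw [hx, hb])
      rw [this]; exact hbm

theorem closure_eq_H₀ (hk : 1 ≤ k) (b : GL (Fin 2) (ZMod (2 ^ k))) (hb : InK b) :
    Subgroup.closure ({CG k, b} : Set (GL (Fin 2) (ZMod (2 ^ k)))) = H₀ k := by
  apply le_antisymm
  · rw [Subgroup.closure_le]
    rintro x (rfl | rfl)
    · exact Subgroup.subset_closure (Or.inl rfl)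
    · exact Subgroup.subset_closure (Or.inr hb)
  · unfold H₀
    rw [Subgroup.closure_le]
    rintro x (hx | hx)
    · rw [Set.mem_singleton_iff] at hx
      rw [hx]
      exact Subgroup.subset_closure (by simp)
    · exact mem_closure_of_inK hk b x hb hx

end Cfsg.Agent.Lib.H14.A4GL
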