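import Mathlib
import Cfsg.Agent.Lib.H14.A4GL5

set_option autoImplicit false

namespace Cfsg.Agent.Lib.H14.A4GL

open Matrix Cfsg.Agent.Lib.H5.SD

variable {k : ℕ}

theorem std (hk : 2 ≤ k) (T a : GL (Fin 2) (ZMod (2 ^ k))) (hT3 : T ^ 3 = 1) (hT1 : T ≠ 1)
    (ha2 : a * a = 1) (ha1 : a ≠ 1) (hrel : a * (T⁻¹ * a * T) = T * a * T⁻¹) :
    ∃ g : GL (Fin 2) (ZMod (2 ^ k)),
      (Subgroup.closure ({T, a} : Set (GL (Fin 2) (ZMod (2 ^ k))))).map (MulAut.conj g).toMonoidHom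
        = H₀ k := by
  have hk0 : k ≠ 0 := by omega
  have hk1 : 1 ≤ k := by omega
  obtain ⟨g₀, hg₀⟩ := conj_companion hk0 T hT3 hT1
  refine ⟨g₀⁻¹, ?_⟩
  rw [MonoidHom.map_closure, Set.image_pair]
  have hfT : (MulAut.conj g₀⁻¹).toMonoidHom T = CG k := by
    simp only [MulEquiv.coe_toMonoidHom, MulAut.conj_apply, inv_inv]
    exact hg₀
  obtain ⟨b, hbdef⟩ : ∃ b, b = (MulAut.conj g₀⁻¹).toMonoidHom a := ⟨_, rfl⟩
  rw [hfT, ← hbdef]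
  have hb2 : b * b = 1 := by rw [hbdef, ← map_mul, ha2, map_one]
  have hb1 : b ≠ 1 := by
    rw [hbdef]
    intro h
    apply ha1
    apply (MulAut.conj g₀⁻¹).injective
    rw [map_one]
    exact h
  have hbrel : b * ((CG k)⁻¹ * b * CG k) = CG k * b * (CG k)⁻¹ := by
    rw [hbdef, ← hfT, ← map_inv, ← map_mul, ← map_mul, ← map_mul, ← map_mul, ← map_mul, hrel]
  have hB2 : (b : Matrix (Fin 2) (Fin 2) (ZMod (2 ^ k))) * (b : Matrix _ _ _) = 1 := by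
    have := congrArg (fun x : GL (Fin 2) (ZMod (2 ^ k)) => (x : Matrix (Fin 2) (Fin 2) (ZMod (2 ^ k)))) hb2
    simpa using this
  have hB1 : (b : Matrix (Fin 2) (Fin 2) (ZMod (2 ^ k))) ≠ 1 := by
    intro h
    apply hb1
    apply Units.ext
    rw [h, Units.val_one]
  have hBrel : (b : Matrix (Fin 2) (Fin 2) (ZMod (2 ^ k))) *
      (CC k * CC k * (b : Matrix _ _ _) * CC k) = CC k * (b : Matrix _ _ _) * (CC k * CC k) := by
    have := congrArg (fun x : GL (Fin 2) (ZMod (2 ^ k)) => (x : Matrix (Fin 2) (Fin 2) (ZMod (2 ^ k)))) hbrel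
    rw [CG_inv] at this
    simpa only [Units.val_mul, coe_CG] using this
  have hInK : InK b := klein_unique hk _ hB2 hB1 hBrel
  exact closure_eq_H₀ hk1 b hInK

theorem main (hk : 2 ≤ k) (H₁ H₂ : Subgroup (GL (Fin 2) (ZMod (2 ^ k))))
    (h₁ : Nonempty (↥H₁ ≃* ↥(alternatingGroup (Fin 4))))
    (h₂ : Nonempty (↥H₂ ≃* ↥(alternatingGroup (Fin 4)))) :
    ∃ g : GL (Fin 2) (ZMod (2 ^ k)), H₂ = H₁.map (MulAut.conj g).toMonoidHom := by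
  obtain ⟨e₁⟩ := h₁
  obtain ⟨e₂⟩ := h₂
  obtain ⟨T₁, a₁, h11, h12, h13, h14, h15, hH₁⟩ := a4_data H₁ e₁
  obtain ⟨T₂, a₂, h21, h22, h23, h24, h25, hH₂⟩ := a4_data H₂ e₂
  obtain ⟨g₁, hg₁⟩ := std hk T₁ a₁ h11 h12 h13 h14 h15
  obtain ⟨g₂, hg₂⟩ := std hk T₂ a₂ h21 h22 h23 h24 h25
  rw [← hH₁] at hg₁
  rw [← hH₂] at hg₂
  refine ⟨g₂⁻¹ * g₁, ?_⟩
  have hcomp : (MulAut.conj (g₂⁻¹ * g₁)).toMonoidHom =
      (MulAut.conj g₂⁻¹).toMonoidHom.comp (MulAut.conj g₁).toMonoidHom := by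
    ext x
    simp [mul_assoc]
  rw [hcomp, ← Subgroup.map_map, hg₁, ← hg₂, Subgroup.map_map]
  have hid : (MulAut.conj g₂⁻¹).toMonoidHom.comp (MulAut.conj g₂).toMonoidHom =
      MonoidHom.id _ := by
    ext x
    simp [mul_assoc]
  rw [hid, Subgroup.map_id]

end Cfsg.Agent.Lib.H14.A4GL
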