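import Cfsg.Agent.Lib.H14.AGH13Core

/-!
# S4150 piece H13 (twin, helper14): kernel chunk c3 = 7, c4 = 4

The 5040 normalised 11-cycles `(2 3 7 4 ..)`, seven kernel computations of 720 leaves each.
-/

set_option autoImplicit false
set_option maxRecDepth 100000

namespace Cfsg.Agent.Lib.H14.AG

theorem sub_7_4_5 : Cfsg.Agent.Lib.H18.AG.searchAll leafOK 6 [5, 4, 7, 3, 2]
    (List.erase [5, 6, 8, 9, 10, 11, 12] 5) = true := by
  decide +kernel

theorem sub_7_4_6 : Cfsg.Agent.Lib.H18.AG.searchAll leafOK 6 [6, 4, 7, 3, 2]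
    (List.erase [5, 6, 8, 9, 10, 11, 12] 6) = true := by
  decide +kernel

theorem sub_7_4_8 : Cfsg.Agent.Lib.H18.AG.searchAll leafOK 6 [8, 4, 7, 3, 2]
    (List.erase [5, 6, 8, 9, 10, 11, 12] 8) = true := by
  decide +kernel

theorem sub_7_4_9 : Cfsg.Agent.Lib.H18.AG.searchAll leafOK 6 [9, 4, 7, 3, 2]
    (List.erase [5, 6, 8, 9, 10, 11, 12] 9) = true := by
  decide +kernel

theorem sub_7_4_10 : Cfsg.Agent.Lib.H18.AG.searchAll leafOK 6 [10, 4, 7, 3, 2]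
    (List.erase [5, 6, 8, 9, 10, 11, 12] 10) = true := by
  decide +kernel

theorem sub_7_4_11 : Cfsg.Agent.Lib.H18.AG.searchAll leafOK 6 [11, 4, 7, 3, 2]
    (List.erase [5, 6, 8, 9, 10, 11, 12] 11) = true := by
  decide +kernel

theorem sub_7_4_12 : Cfsg.Agent.Lib.H18.AG.searchAll leafOK 6 [12, 4, 7, 3, 2]
    (List.erase [5, 6, 8, 9, 10, 11, 12] 12) = true := by
  decide +kernel

theorem chunk_7_4 : Cfsg.Agent.Lib.H18.AG.searchAll leafOK 7 [4, 7, 3, 2]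
    [5, 6, 8, 9, 10, 11, 12] = true :=
  searchAll_step leafOK 6 [4, 7, 3, 2] [5, 6, 8, 9, 10, 11, 12]
    (List.forall_mem_cons.2 ⟨sub_7_4_5,
    List.forall_mem_cons.2 ⟨sub_7_4_6,
    List.forall_mem_cons.2 ⟨sub_7_4_8,
    List.forall_mem_cons.2 ⟨sub_7_4_9,
    List.forall_mem_cons.2 ⟨sub_7_4_10,
    List.forall_mem_cons.2 ⟨sub_7_4_11,
    List.forall_mem_cons.2 ⟨sub_7_4_12,
    fun _ h => absurd h List.not_mem_nil⟩⟩⟩⟩⟩⟩⟩)

end Cfsg.Agent.Lib.H14.AG
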