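import Cfsg.Agent.Lib.H14.AGH13Core
import Cfsg.Agent.Lib.H14.AGH13C04x05
import Cfsg.Agent.Lib.H14.AGH13C04x06
import Cfsg.Agent.Lib.H14.AGH13C04x07
import Cfsg.Agent.Lib.H14.AGH13C04x08
import Cfsg.Agent.Lib.H14.AGH13C04x09
import Cfsg.Agent.Lib.H14.AGH13C04x10
import Cfsg.Agent.Lib.H14.AGH13C04x11
import Cfsg.Agent.Lib.H14.AGH13C04x12
import Cfsg.Agent.Lib.H14.AGH13C05x04
import Cfsg.Agent.Lib.H14.AGH13C05x06
import Cfsg.Agent.Lib.H14.AGH13C05x07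
import Cfsg.Agent.Lib.H14.AGH13C05x08
import Cfsg.Agent.Lib.H14.AGH13C05x09
import Cfsg.Agent.Lib.H14.AGH13C05x10
import Cfsg.Agent.Lib.H14.AGH13C05x11
import Cfsg.Agent.Lib.H14.AGH13C05x12
import Cfsg.Agent.Lib.H14.AGH13C06x04
import Cfsg.Agent.Lib.H14.AGH13C06x05
import Cfsg.Agent.Lib.H14.AGH13C06x07
import Cfsg.Agent.Lib.H14.AGH13C06x08
import Cfsg.Agent.Lib.H14.AGH13C06x09
import Cfsg.Agent.Lib.H14.AGH13C06x10
import Cfsg.Agent.Lib.H14.AGH13C06x11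
import Cfsg.Agent.Lib.H14.AGH13C06x12
import Cfsg.Agent.Lib.H14.AGH13C07x04
import Cfsg.Agent.Lib.H14.AGH13C07x05
import Cfsg.Agent.Lib.H14.AGH13C07x06
import Cfsg.Agent.Lib.H14.AGH13C07x08
import Cfsg.Agent.Lib.H14.AGH13C07x09
import Cfsg.Agent.Lib.H14.AGH13C07x10
import Cfsg.Agent.Lib.H14.AGH13C07x11
import Cfsg.Agent.Lib.H14.AGH13C07x12
import Cfsg.Agent.Lib.H14.AGH13C08x04
import Cfsg.Agent.Lib.H14.AGH13C08x05
import Cfsg.Agent.Lib.H14.AGH13C08x06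
import Cfsg.Agent.Lib.H14.AGH13C08x07
import Cfsg.Agent.Lib.H14.AGH13C08x09
import Cfsg.Agent.Lib.H14.AGH13C08x10
import Cfsg.Agent.Lib.H14.AGH13C08x11
import Cfsg.Agent.Lib.H14.AGH13C08x12
import Cfsg.Agent.Lib.H14.AGH13C09x04
import Cfsg.Agent.Lib.H14.AGH13C09x05
import Cfsg.Agent.Lib.H14.AGH13C09x06
import Cfsg.Agent.Lib.H14.AGH13C09x07
import Cfsg.Agent.Lib.H14.AGH13C09x08
import Cfsg.Agent.Lib.H14.AGH13C09x10
import Cfsg.Agent.Lib.H14.AGH13C09x11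
import Cfsg.Agent.Lib.H14.AGH13C09x12
import Cfsg.Agent.Lib.H14.AGH13C10x04
import Cfsg.Agent.Lib.H14.AGH13C10x05
import Cfsg.Agent.Lib.H14.AGH13C10x06
import Cfsg.Agent.Lib.H14.AGH13C10x07
import Cfsg.Agent.Lib.H14.AGH13C10x08
import Cfsg.Agent.Lib.H14.AGH13C10x09
import Cfsg.Agent.Lib.H14.AGH13C10x11
import Cfsg.Agent.Lib.H14.AGH13C10x12
import Cfsg.Agent.Lib.H14.AGH13C11x04
import Cfsg.Agent.Lib.H14.AGH13C11x05
import Cfsg.Agent.Lib.H14.AGH13C11x06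
import Cfsg.Agent.Lib.H14.AGH13C11x07
import Cfsg.Agent.Lib.H14.AGH13C11x08
import Cfsg.Agent.Lib.H14.AGH13C11x09
import Cfsg.Agent.Lib.H14.AGH13C11x10
import Cfsg.Agent.Lib.H14.AGH13C11x12
import Cfsg.Agent.Lib.H14.AGH13C12x04
import Cfsg.Agent.Lib.H14.AGH13C12x05
import Cfsg.Agent.Lib.H14.AGH13C12x06
import Cfsg.Agent.Lib.H14.AGH13C12x07
import Cfsg.Agent.Lib.H14.AGH13C12x08
import Cfsg.Agent.Lib.H14.AGH13C12x09
import Cfsg.Agent.Lib.H14.AGH13C12x10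
import Cfsg.Agent.Lib.H14.AGH13C12x11

/-!
# S4150 piece H13 (twin, helper14): `normalized13`

Assembly of the 72 kernel chunks `AGH13C<c3>x<c4>` on the leaf engine `AGH13Core`
(enumeration bridge: helper18's `exists_cycle_list13` / `searchAll_sound`; final step: helper26's
`alt_le_of_small_cycle`).
-/

set_option autoImplicit false

namespace Cfsg.Agent.Lib.H14.AG

open Equiv Equiv.Perm Subgroup

theorem lvl8_4 : Cfsg.Agent.Lib.H18.AG.searchAll leafOK 8 [4, 3, 2]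
    [5, 6, 7, 8, 9, 10, 11, 12] = true :=
  searchAll_step leafOK 7 [4, 3, 2] [5, 6, 7, 8, 9, 10, 11, 12]
    (List.forall_mem_cons.2 ⟨(show Cfsg.Agent.Lib.H18.AG.searchAll leafOK 7 [5, 4, 3, 2]
      (List.erase [5, 6, 7, 8, 9, 10, 11, 12] 5) = true from chunk_4_5),
    List.forall_mem_cons.2 ⟨(show Cfsg.Agent.Lib.H18.AG.searchAll leafOK 7 [6, 4, 3, 2]
      (List.erase [5, 6, 7, 8, 9, 10, 11, 12] 6) = true from chunk_4_6),
    List.forall_mem_cons.2 ⟨(show Cfsg.Agent.Lib.H18.AG.searchAll leafOK 7 [7, 4, 3, 2]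
      (List.erase [5, 6, 7, 8, 9, 10, 11, 12] 7) = true from chunk_4_7),
    List.forall_mem_cons.2 ⟨(show Cfsg.Agent.Lib.H18.AG.searchAll leafOK 7 [8, 4, 3, 2]
      (List.erase [5, 6, 7, 8, 9, 10, 11, 12] 8) = true from chunk_4_8),
    List.forall_mem_cons.2 ⟨(show Cfsg.Agent.Lib.H18.AG.searchAll leafOK 7 [9, 4, 3, 2]
      (List.erase [5, 6, 7, 8, 9, 10, 11, 12] 9) = true from chunk_4_9),
    List.forall_mem_cons.2 ⟨(show Cfsg.Agent.Lib.H18.AG.searchAll leafOK 7 [10, 4, 3, 2]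
      (List.erase [5, 6, 7, 8, 9, 10, 11, 12] 10) = true from chunk_4_10),
    List.forall_mem_cons.2 ⟨(show Cfsg.Agent.Lib.H18.AG.searchAll leafOK 7 [11, 4, 3, 2]
      (List.erase [5, 6, 7, 8, 9, 10, 11, 12] 11) = true from chunk_4_11),
    List.forall_mem_cons.2 ⟨(show Cfsg.Agent.Lib.H18.AG.searchAll leafOK 7 [12, 4, 3, 2]
      (List.erase [5, 6, 7, 8, 9, 10, 11, 12] 12) = true from chunk_4_12),
    fun _ h => absurd h List.not_mem_nil⟩⟩⟩⟩⟩⟩⟩⟩)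

theorem lvl8_5 : Cfsg.Agent.Lib.H18.AG.searchAll leafOK 8 [5, 3, 2]
    [4, 6, 7, 8, 9, 10, 11, 12] = true :=
  searchAll_step leafOK 7 [5, 3, 2] [4, 6, 7, 8, 9, 10, 11, 12]
    (List.forall_mem_cons.2 ⟨(show Cfsg.Agent.Lib.H18.AG.searchAll leafOK 7 [4, 5, 3, 2]
      (List.erase [4, 6, 7, 8, 9, 10, 11, 12] 4) = true from chunk_5_4),
    List.forall_mem_cons.2 ⟨(show Cfsg.Agent.Lib.H18.AG.searchAll leafOK 7 [6, 5, 3, 2]
      (List.erase [4, 6, 7, 8, 9, 10, 11, 12] 6) = true from chunk_5_6),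
    List.forall_mem_cons.2 ⟨(show Cfsg.Agent.Lib.H18.AG.searchAll leafOK 7 [7, 5, 3, 2]
      (List.erase [4, 6, 7, 8, 9, 10, 11, 12] 7) = true from chunk_5_7),
    List.forall_mem_cons.2 ⟨(show Cfsg.Agent.Lib.H18.AG.searchAll leafOK 7 [8, 5, 3, 2]
      (List.erase [4, 6, 7, 8, 9, 10, 11, 12] 8) = true from chunk_5_8),
    List.forall_mem_cons.2 ⟨(show Cfsg.Agent.Lib.H18.AG.searchAll leafOK 7 [9, 5, 3, 2]
      (List.erase [4, 6, 7, 8, 9, 10, 11, 12] 9) = true from chunk_5_9),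
    List.forall_mem_cons.2 ⟨(show Cfsg.Agent.Lib.H18.AG.searchAll leafOK 7 [10, 5, 3, 2]
      (List.erase [4, 6, 7, 8, 9, 10, 11, 12] 10) = true from chunk_5_10),
    List.forall_mem_cons.2 ⟨(show Cfsg.Agent.Lib.H18.AG.searchAll leafOK 7 [11, 5, 3, 2]
      (List.erase [4, 6, 7, 8, 9, 10, 11, 12] 11) = true from chunk_5_11),
    List.forall_mem_cons.2 ⟨(show Cfsg.Agent.Lib.H18.AG.searchAll leafOK 7 [12, 5, 3, 2]
      (List.erase [4, 6, 7, 8, 9, 10, 11, 12] 12) = true from chunk_5_12),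
    fun _ h => absurd h List.not_mem_nil⟩⟩⟩⟩⟩⟩⟩⟩)

theorem lvl8_6 : Cfsg.Agent.Lib.H18.AG.searchAll leafOK 8 [6, 3, 2]
    [4, 5, 7, 8, 9, 10, 11, 12] = true :=
  searchAll_step leafOK 7 [6, 3, 2] [4, 5, 7, 8, 9, 10, 11, 12]
    (List.forall_mem_cons.2 ⟨(show Cfsg.Agent.Lib.H18.AG.searchAll leafOK 7 [4, 6, 3, 2]
      (List.erase [4, 5, 7, 8, 9, 10, 11, 12] 4) = true from chunk_6_4),
    List.forall_mem_cons.2 ⟨(show Cfsg.Agent.Lib.H18.AG.searchAll leafOK 7 [5, 6, 3, 2]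
      (List.erase [4, 5, 7, 8, 9, 10, 11, 12] 5) = true from chunk_6_5),
    List.forall_mem_cons.2 ⟨(show Cfsg.Agent.Lib.H18.AG.searchAll leafOK 7 [7, 6, 3, 2]
      (List.erase [4, 5, 7, 8, 9, 10, 11, 12] 7) = true from chunk_6_7),
    List.forall_mem_cons.2 ⟨(show Cfsg.Agent.Lib.H18.AG.searchAll leafOK 7 [8, 6, 3, 2]
      (List.erase [4, 5, 7, 8, 9, 10, 11, 12] 8) = true from chunk_6_8),
    List.forall_mem_cons.2 ⟨(show Cfsg.Agent.Lib.H18.AG.searchAll leafOK 7 [9, 6, 3, 2]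
      (List.erase [4, 5, 7, 8, 9, 10, 11, 12] 9) = true from chunk_6_9),
    List.forall_mem_cons.2 ⟨(show Cfsg.Agent.Lib.H18.AG.searchAll leafOK 7 [10, 6, 3, 2]
      (List.erase [4, 5, 7, 8, 9, 10, 11, 12] 10) = true from chunk_6_10),
    List.forall_mem_cons.2 ⟨(show Cfsg.Agent.Lib.H18.AG.searchAll leafOK 7 [11, 6, 3, 2]
      (List.erase [4, 5, 7, 8, 9, 10, 11, 12] 11) = true from chunk_6_11),
    List.forall_mem_cons.2 ⟨(show Cfsg.Agent.Lib.H18.AG.searchAll leafOK 7 [12, 6, 3, 2]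
      (List.erase [4, 5, 7, 8, 9, 10, 11, 12] 12) = true from chunk_6_12),
    fun _ h => absurd h List.not_mem_nil⟩⟩⟩⟩⟩⟩⟩⟩)

theorem lvl8_7 : Cfsg.Agent.Lib.H18.AG.searchAll leafOK 8 [7, 3, 2]
    [4, 5, 6, 8, 9, 10, 11, 12] = true :=
  searchAll_step leafOK 7 [7, 3, 2] [4, 5, 6, 8, 9, 10, 11, 12]
    (List.forall_mem_cons.2 ⟨(show Cfsg.Agent.Lib.H18.AG.searchAll leafOK 7 [4, 7, 3, 2]
      (List.erase [4, 5, 6, 8, 9, 10, 11, 12] 4) = true from chunk_7_4),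
    List.forall_mem_cons.2 ⟨(show Cfsg.Agent.Lib.H18.AG.searchAll leafOK 7 [5, 7, 3, 2]
      (List.erase [4, 5, 6, 8, 9, 10, 11, 12] 5) = true from chunk_7_5),
    List.forall_mem_cons.2 ⟨(show Cfsg.Agent.Lib.H18.AG.searchAll leafOK 7 [6, 7, 3, 2]
      (List.erase [4, 5, 6, 8, 9, 10, 11, 12] 6) = true from chunk_7_6),
    List.forall_mem_cons.2 ⟨(show Cfsg.Agent.Lib.H18.AG.searchAll leafOK 7 [8, 7, 3, 2]
      (List.erase [4, 5, 6, 8, 9, 10, 11, 12] 8) = true from chunk_7_8),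
    List.forall_mem_cons.2 ⟨(show Cfsg.Agent.Lib.H18.AG.searchAll leafOK 7 [9, 7, 3, 2]
      (List.erase [4, 5, 6, 8, 9, 10, 11, 12] 9) = true from chunk_7_9),
    List.forall_mem_cons.2 ⟨(show Cfsg.Agent.Lib.H18.AG.searchAll leafOK 7 [10, 7, 3, 2]
      (List.erase [4, 5, 6, 8, 9, 10, 11, 12] 10) = true from chunk_7_10),
    List.forall_mem_cons.2 ⟨(show Cfsg.Agent.Lib.H18.AG.searchAll leafOK 7 [11, 7, 3, 2]
      (List.erase [4, 5, 6, 8, 9, 10, 11, 12] 11) = true from chunk_7_11),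
    List.forall_mem_cons.2 ⟨(show Cfsg.Agent.Lib.H18.AG.searchAll leafOK 7 [12, 7, 3, 2]
      (List.erase [4, 5, 6, 8, 9, 10, 11, 12] 12) = true from chunk_7_12),
    fun _ h => absurd h List.not_mem_nil⟩⟩⟩⟩⟩⟩⟩⟩)

theorem lvl8_8 : Cfsg.Agent.Lib.H18.AG.searchAll leafOK 8 [8, 3, 2]
    [4, 5, 6, 7, 9, 10, 11, 12] = true :=
  searchAll_step leafOK 7 [8, 3, 2] [4, 5, 6, 7, 9, 10, 11, 12]
    (List.forall_mem_cons.2 ⟨(show Cfsg.Agent.Lib.H18.AG.searchAll leafOK 7 [4, 8, 3, 2]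
      (List.erase [4, 5, 6, 7, 9, 10, 11, 12] 4) = true from chunk_8_4),
    List.forall_mem_cons.2 ⟨(show Cfsg.Agent.Lib.H18.AG.searchAll leafOK 7 [5, 8, 3, 2]
      (List.erase [4, 5, 6, 7, 9, 10, 11, 12] 5) = true from chunk_8_5),
    List.forall_mem_cons.2 ⟨(show Cfsg.Agent.Lib.H18.AG.searchAll leafOK 7 [6, 8, 3, 2]
      (List.erase [4, 5, 6, 7, 9, 10, 11, 12] 6) = true from chunk_8_6),
    List.forall_mem_cons.2 ⟨(show Cfsg.Agent.Lib.H18.AG.searchAll leafOK 7 [7, 8, 3, 2]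
      (List.erase [4, 5, 6, 7, 9, 10, 11, 12] 7) = true from chunk_8_7),
    List.forall_mem_cons.2 ⟨(show Cfsg.Agent.Lib.H18.AG.searchAll leafOK 7 [9, 8, 3, 2]
      (List.erase [4, 5, 6, 7, 9, 10, 11, 12] 9) = true from chunk_8_9),
    List.forall_mem_cons.2 ⟨(show Cfsg.Agent.Lib.H18.AG.searchAll leafOK 7 [10, 8, 3, 2]
      (List.erase [4, 5, 6, 7, 9, 10, 11, 12] 10) = true from chunk_8_10),
    List.forall_mem_cons.2 ⟨(show Cfsg.Agent.Lib.H18.AG.searchAll leafOK 7 [11, 8, 3, 2]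
      (List.erase [4, 5, 6, 7, 9, 10, 11, 12] 11) = true from chunk_8_11),
    List.forall_mem_cons.2 ⟨(show Cfsg.Agent.Lib.H18.AG.searchAll leafOK 7 [12, 8, 3, 2]
      (List.erase [4, 5, 6, 7, 9, 10, 11, 12] 12) = true from chunk_8_12),
    fun _ h => absurd h List.not_mem_nil⟩⟩⟩⟩⟩⟩⟩⟩)

theorem lvl8_9 : Cfsg.Agent.Lib.H18.AG.searchAll leafOK 8 [9, 3, 2]
    [4, 5, 6, 7, 8, 10, 11, 12] = true :=
  searchAll_step leafOK 7 [9, 3, 2] [4, 5, 6, 7, 8, 10, 11, 12]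
    (List.forall_mem_cons.2 ⟨(show Cfsg.Agent.Lib.H18.AG.searchAll leafOK 7 [4, 9, 3, 2]
      (List.erase [4, 5, 6, 7, 8, 10, 11, 12] 4) = true from chunk_9_4),
    List.forall_mem_cons.2 ⟨(show Cfsg.Agent.Lib.H18.AG.searchAll leafOK 7 [5, 9, 3, 2]
      (List.erase [4, 5, 6, 7, 8, 10, 11, 12] 5) = true from chunk_9_5),
    List.forall_mem_cons.2 ⟨(show Cfsg.Agent.Lib.H18.AG.searchAll leafOK 7 [6, 9, 3, 2]
      (List.erase [4, 5, 6, 7, 8, 10, 11, 12] 6) = true from chunk_9_6),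
    List.forall_mem_cons.2 ⟨(show Cfsg.Agent.Lib.H18.AG.searchAll leafOK 7 [7, 9, 3, 2]
      (List.erase [4, 5, 6, 7, 8, 10, 11, 12] 7) = true from chunk_9_7),
    List.forall_mem_cons.2 ⟨(show Cfsg.Agent.Lib.H18.AG.searchAll leafOK 7 [8, 9, 3, 2]
      (List.erase [4, 5, 6, 7, 8, 10, 11, 12] 8) = true from chunk_9_8),
    List.forall_mem_cons.2 ⟨(show Cfsg.Agent.Lib.H18.AG.searchAll leafOK 7 [10, 9, 3, 2]
      (List.erase [4, 5, 6, 7, 8, 10, 11, 12] 10) = true from chunk_9_10),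
    List.forall_mem_cons.2 ⟨(show Cfsg.Agent.Lib.H18.AG.searchAll leafOK 7 [11, 9, 3, 2]
      (List.erase [4, 5, 6, 7, 8, 10, 11, 12] 11) = true from chunk_9_11),
    List.forall_mem_cons.2 ⟨(show Cfsg.Agent.Lib.H18.AG.searchAll leafOK 7 [12, 9, 3, 2]
      (List.erase [4, 5, 6, 7, 8, 10, 11, 12] 12) = true from chunk_9_12),
    fun _ h => absurd h List.not_mem_nil⟩⟩⟩⟩⟩⟩⟩⟩)

theorem lvl8_10 : Cfsg.Agent.Lib.H18.AG.searchAll leafOK 8 [10, 3, 2]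
    [4, 5, 6, 7, 8, 9, 11, 12] = true :=
  searchAll_step leafOK 7 [10, 3, 2] [4, 5, 6, 7, 8, 9, 11, 12]
    (List.forall_mem_cons.2 ⟨(show Cfsg.Agent.Lib.H18.AG.searchAll leafOK 7 [4, 10, 3, 2]
      (List.erase [4, 5, 6, 7, 8, 9, 11, 12] 4) = true from chunk_10_4),
    List.forall_mem_cons.2 ⟨(show Cfsg.Agent.Lib.H18.AG.searchAll leafOK 7 [5, 10, 3, 2]
      (List.erase [4, 5, 6, 7, 8, 9, 11, 12] 5) = true from chunk_10_5),
    List.forall_mem_cons.2 ⟨(show Cfsg.Agent.Lib.H18.AG.searchAll leafOK 7 [6, 10, 3, 2]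
      (List.erase [4, 5, 6, 7, 8, 9, 11, 12] 6) = true from chunk_10_6),
    List.forall_mem_cons.2 ⟨(show Cfsg.Agent.Lib.H18.AG.searchAll leafOK 7 [7, 10, 3, 2]
      (List.erase [4, 5, 6, 7, 8, 9, 11, 12] 7) = true from chunk_10_7),
    List.forall_mem_cons.2 ⟨(show Cfsg.Agent.Lib.H18.AG.searchAll leafOK 7 [8, 10, 3, 2]
      (List.erase [4, 5, 6, 7, 8, 9, 11, 12] 8) = true from chunk_10_8),
    List.forall_mem_cons.2 ⟨(show Cfsg.Agent.Lib.H18.AG.searchAll leafOK 7 [9, 10, 3, 2]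
      (List.erase [4, 5, 6, 7, 8, 9, 11, 12] 9) = true from chunk_10_9),
    List.forall_mem_cons.2 ⟨(show Cfsg.Agent.Lib.H18.AG.searchAll leafOK 7 [11, 10, 3, 2]
      (List.erase [4, 5, 6, 7, 8, 9, 11, 12] 11) = true from chunk_10_11),
    List.forall_mem_cons.2 ⟨(show Cfsg.Agent.Lib.H18.AG.searchAll leafOK 7 [12, 10, 3, 2]
      (List.erase [4, 5, 6, 7, 8, 9, 11, 12] 12) = true from chunk_10_12),
    fun _ h => absurd h List.not_mem_nil⟩⟩⟩⟩⟩⟩⟩⟩)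

theorem lvl8_11 : Cfsg.Agent.Lib.H18.AG.searchAll leafOK 8 [11, 3, 2]
    [4, 5, 6, 7, 8, 9, 10, 12] = true :=
  searchAll_step leafOK 7 [11, 3, 2] [4, 5, 6, 7, 8, 9, 10, 12]
    (List.forall_mem_cons.2 ⟨(show Cfsg.Agent.Lib.H18.AG.searchAll leafOK 7 [4, 11, 3, 2]
      (List.erase [4, 5, 6, 7, 8, 9, 10, 12] 4) = true from chunk_11_4),
    List.forall_mem_cons.2 ⟨(show Cfsg.Agent.Lib.H18.AG.searchAll leafOK 7 [5, 11, 3, 2]
      (List.erase [4, 5, 6, 7, 8, 9, 10, 12] 5) = true from chunk_11_5),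
    List.forall_mem_cons.2 ⟨(show Cfsg.Agent.Lib.H18.AG.searchAll leafOK 7 [6, 11, 3, 2]
      (List.erase [4, 5, 6, 7, 8, 9, 10, 12] 6) = true from chunk_11_6),
    List.forall_mem_cons.2 ⟨(show Cfsg.Agent.Lib.H18.AG.searchAll leafOK 7 [7, 11, 3, 2]
      (List.erase [4, 5, 6, 7, 8, 9, 10, 12] 7) = true from chunk_11_7),
    List.forall_mem_cons.2 ⟨(show Cfsg.Agent.Lib.H18.AG.searchAll leafOK 7 [8, 11, 3, 2]
      (List.erase [4, 5, 6, 7, 8, 9, 10, 12] 8) = true from chunk_11_8),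
    List.forall_mem_cons.2 ⟨(show Cfsg.Agent.Lib.H18.AG.searchAll leafOK 7 [9, 11, 3, 2]
      (List.erase [4, 5, 6, 7, 8, 9, 10, 12] 9) = true from chunk_11_9),
    List.forall_mem_cons.2 ⟨(show Cfsg.Agent.Lib.H18.AG.searchAll leafOK 7 [10, 11, 3, 2]
      (List.erase [4, 5, 6, 7, 8, 9, 10, 12] 10) = true from chunk_11_10),
    List.forall_mem_cons.2 ⟨(show Cfsg.Agent.Lib.H18.AG.searchAll leafOK 7 [12, 11, 3, 2]
      (List.erase [4, 5, 6, 7, 8, 9, 10, 12] 12) = true from chunk_11_12),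
    fun _ h => absurd h List.not_mem_nil⟩⟩⟩⟩⟩⟩⟩⟩)

theorem lvl8_12 : Cfsg.Agent.Lib.H18.AG.searchAll leafOK 8 [12, 3, 2]
    [4, 5, 6, 7, 8, 9, 10, 11] = true :=
  searchAll_step leafOK 7 [12, 3, 2] [4, 5, 6, 7, 8, 9, 10, 11]
    (List.forall_mem_cons.2 ⟨(show Cfsg.Agent.Lib.H18.AG.searchAll leafOK 7 [4, 12, 3, 2]
      (List.erase [4, 5, 6, 7, 8, 9, 10, 11] 4) = true from chunk_12_4),
    List.forall_mem_cons.2 ⟨(show Cfsg.Agent.Lib.H18.AG.searchAll leafOK 7 [5, 12, 3, 2]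
      (List.erase [4, 5, 6, 7, 8, 9, 10, 11] 5) = true from chunk_12_5),
    List.forall_mem_cons.2 ⟨(show Cfsg.Agent.Lib.H18.AG.searchAll leafOK 7 [6, 12, 3, 2]
      (List.erase [4, 5, 6, 7, 8, 9, 10, 11] 6) = true from chunk_12_6),
    List.forall_mem_cons.2 ⟨(show Cfsg.Agent.Lib.H18.AG.searchAll leafOK 7 [7, 12, 3, 2]
      (List.erase [4, 5, 6, 7, 8, 9, 10, 11] 7) = true from chunk_12_7),
    List.forall_mem_cons.2 ⟨(show Cfsg.Agent.Lib.H18.AG.searchAll leafOK 7 [8, 12, 3, 2]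
      (List.erase [4, 5, 6, 7, 8, 9, 10, 11] 8) = true from chunk_12_8),
    List.forall_mem_cons.2 ⟨(show Cfsg.Agent.Lib.H18.AG.searchAll leafOK 7 [9, 12, 3, 2]
      (List.erase [4, 5, 6, 7, 8, 9, 10, 11] 9) = true from chunk_12_9),
    List.forall_mem_cons.2 ⟨(show Cfsg.Agent.Lib.H18.AG.searchAll leafOK 7 [10, 12, 3, 2]
      (List.erase [4, 5, 6, 7, 8, 9, 10, 11] 10) = true from chunk_12_10),
    List.forall_mem_cons.2 ⟨(show Cfsg.Agent.Lib.H18.AG.searchAll leafOK 7 [11, 12, 3, 2]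
      (List.erase [4, 5, 6, 7, 8, 9, 10, 11] 11) = true from chunk_12_11),
    fun _ h => absurd h List.not_mem_nil⟩⟩⟩⟩⟩⟩⟩⟩)

theorem search9 : Cfsg.Agent.Lib.H18.AG.searchAll leafOK 9 [3, 2] R9 = true :=
  searchAll_step leafOK 8 [3, 2] [4, 5, 6, 7, 8, 9, 10, 11, 12]
    (List.forall_mem_cons.2 ⟨(show Cfsg.Agent.Lib.H18.AG.searchAll leafOK 8 [4, 3, 2]
      (List.erase [4, 5, 6, 7, 8, 9, 10, 11, 12] 4) = true from lvl8_4),
    List.forall_mem_cons.2 ⟨(show Cfsg.Agent.Lib.H18.AG.searchAll leafOK 8 [5, 3, 2]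
      (List.erase [4, 5, 6, 7, 8, 9, 10, 11, 12] 5) = true from lvl8_5),
    List.forall_mem_cons.2 ⟨(show Cfsg.Agent.Lib.H18.AG.searchAll leafOK 8 [6, 3, 2]
      (List.erase [4, 5, 6, 7, 8, 9, 10, 11, 12] 6) = true from lvl8_6),
    List.forall_mem_cons.2 ⟨(show Cfsg.Agent.Lib.H18.AG.searchAll leafOK 8 [7, 3, 2]
      (List.erase [4, 5, 6, 7, 8, 9, 10, 11, 12] 7) = true from lvl8_7),
    List.forall_mem_cons.2 ⟨(show Cfsg.Agent.Lib.H18.AG.searchAll leafOK 8 [8, 3, 2]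
      (List.erase [4, 5, 6, 7, 8, 9, 10, 11, 12] 8) = true from lvl8_8),
    List.forall_mem_cons.2 ⟨(show Cfsg.Agent.Lib.H18.AG.searchAll leafOK 8 [9, 3, 2]
      (List.erase [4, 5, 6, 7, 8, 9, 10, 11, 12] 9) = true from lvl8_9),
    List.forall_mem_cons.2 ⟨(show Cfsg.Agent.Lib.H18.AG.searchAll leafOK 8 [10, 3, 2]
      (List.erase [4, 5, 6, 7, 8, 9, 10, 11, 12] 10) = true from lvl8_10),
    List.forall_mem_cons.2 ⟨(show Cfsg.Agent.Lib.H18.AG.searchAll leafOK 8 [11, 3, 2]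
      (List.erase [4, 5, 6, 7, 8, 9, 10, 11, 12] 11) = true from lvl8_11),
    List.forall_mem_cons.2 ⟨(show Cfsg.Agent.Lib.H18.AG.searchAll leafOK 8 [12, 3, 2]
      (List.erase [4, 5, 6, 7, 8, 9, 10, 11, 12] 12) = true from lvl8_12),
    fun _ h => absurd h List.not_mem_nil⟩⟩⟩⟩⟩⟩⟩⟩⟩)

/-- (H13) the 362880 normalised 11-cycles in degree 13 (kernel computation). -/
theorem normalized13 : ∀ x : Perm (Fin 13), x 0 = 0 → x 1 = 1 → x 2 = 3 → x.cycleType = {11} →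
    alternatingGroup (Fin 13) ≤ closure ({x, finRotate 13} : Set (Perm (Fin 13))) :=
  normalized13_of_search search9

end Cfsg.Agent.Lib.H14.AG
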