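import Cfsg.Agent.Lib.H14.AGH13Core

/-!
# S4150 piece H13 (twin, helper14): kernel chunk c3 = 9, c4 = 11

The 5040 normalised 11-cycles `(2 3 9 11 ..)`, seven kernel computations of 720 leaves each.
-/

set_option autoImplicit false
set_option maxRecDepth 100000

namespace Cfsg.Agent.Lib.H14.AG

theorem sub_9_11_4 : Cfsg.Agent.Lib.H18.AG.searchAll leafOK 6 [4, 11, 9, 3, 2]
    (List.erase [4, 5, 6, 7, 8, 10, 12] 4) = true := by
  decide +kernel

theorem sub_9_11_5 : Cfsg.Agent.Lib.H18.AG.searchAll leafOK 6 [5, 11, 9, 3, 2]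
    (List.erase [4, 5, 6, 7, 8, 10, 12] 5) = true := by
  decide +kernel

theorem sub_9_11_6 : Cfsg.Agent.Lib.H18.AG.searchAll leafOK 6 [6, 11, 9, 3, 2]
    (List.erase [4, 5, 6, 7, 8, 10, 12] 6) = true := by
  decide +kernel

theorem sub_9_11_7 : Cfsg.Agent.Lib.H18.AG.searchAll leafOK 6 [7, 11, 9, 3, 2]
    (List.erase [4, 5, 6, 7, 8, 10, 12] 7) = true := by
  decide +kernel

theorem sub_9_11_8 : Cfsg.Agent.Lib.H18.AG.searchAll leafOK 6 [8, 11, 9, 3, 2]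
    (List.erase [4, 5, 6, 7, 8, 10, 12] 8) = true := by
  decide +kernel

theorem sub_9_11_10 : Cfsg.Agent.Lib.H18.AG.searchAll leafOK 6 [10, 11, 9, 3, 2]
    (List.erase [4, 5, 6, 7, 8, 10, 12] 10) = true := by
  decide +kernel

theorem sub_9_11_12 : Cfsg.Agent.Lib.H18.AG.searchAll leafOK 6 [12, 11, 9, 3, 2]
    (List.erase [4, 5, 6, 7, 8, 10, 12] 12) = true := by
  decide +kernel

theorem chunk_9_11 : Cfsg.Agent.Lib.H18.AG.searchAll leafOK 7 [11, 9, 3, 2]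
    [4, 5, 6, 7, 8, 10, 12] = true :=
  searchAll_step leafOK 6 [11, 9, 3, 2] [4, 5, 6, 7, 8, 10, 12]
    (List.forall_mem_cons.2 ⟨sub_9_11_4,
    List.forall_mem_cons.2 ⟨sub_9_11_5,
    List.forall_mem_cons.2 ⟨sub_9_11_6,
    List.forall_mem_cons.2 ⟨sub_9_11_7,
    List.forall_mem_cons.2 ⟨sub_9_11_8,
    List.forall_mem_cons.2 ⟨sub_9_11_10,
    List.forall_mem_cons.2 ⟨sub_9_11_12,
    fun _ h => absurd h List.not_mem_nil⟩⟩⟩⟩⟩⟩⟩)

end Cfsg.Agent.Lib.H14.AG
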