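import Mathlib
import Cfsg.Agent.Lib.H18.AGENUM
import Cfsg.Agent.Lib.H26.AGCERT

/-!
# S4150 piece H13 (twin, helper14): the leaf engine on packed tables

Permutations of `Fin 13` are packed in one natural number, base 16 (digit `i` = image of `i`).
The leaf function `leafOK` takes the cycle `[2, 3, c3, .., c11]` of the normalised 11-cycle `x`
as a list of naturals, builds the table of `x`, looks for a word `(x ^ b * y ^ a) ^ k`
(`y = finRotate 13`) which is an `r`-cycle, `r ∈ {3, 5, 7}`, and re-checks it by a small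
verifier; only the verifier is used in the soundness proof.
-/

set_option autoImplicit false

namespace Cfsg.Agent.Lib.H14.AG

open Equiv Equiv.Perm Subgroup

/-- digit `i` (base 16) of `T` -/
def lk (T i : ℕ) : ℕ := Nat.mod (Nat.div T (Nat.pow 16 i)) 16

theorem lk_eq (T i : ℕ) : lk T i = T / 16 ^ i % 16 := rfl

theorem lk_lt (T i : ℕ) : lk T i < 16 := by
  rw [lk_eq]; exact Nat.mod_lt _ (by norm_num)

/-- little-endian base-16 packing -/
def pack : List ℕ → ℕ
  | [] => 0
  | d :: ds => Nat.add d (Nat.mul 16 (pack ds))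

theorem pack_nil : pack [] = 0 := rfl

theorem pack_cons (d : ℕ) (ds : List ℕ) : pack (d :: ds) = d + 16 * pack ds := rfl

theorem lk_pack : ∀ (ds : List ℕ), (∀ d ∈ ds, d < 16) → ∀ i, lk (pack ds) i = ds.getD i 0 := by
  intro ds
  induction ds with
  | nil => intro _ i; simp [lk_eq, pack_nil]
  | cons d ds ih =>
    intro h i
    have hd : d < 16 := h d List.mem_cons_self
    have hds : ∀ e ∈ ds, e < 16 := fun e he => h e (List.mem_cons_of_mem _ he)
    cases i with
    | zero =>
      rw [lk_eq, pack_cons]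
      simp only [pow_zero, Nat.div_one, List.getD_cons_zero]
      omega
    | succ i =>
      rw [lk_eq, pack_cons, pow_succ', ← Nat.div_div_eq_div_mul]
      have : (d + 16 * pack ds) / 16 = pack ds := by omega
      rw [this, ← lk_eq, ih hds i]
      simp

/-- the table of a function on `0, .., 12` -/
def tabOf (f : ℕ → ℕ) : ℕ :=
  pack [f 0, f 1, f 2, f 3, f 4, f 5, f 6, f 7, f 8, f 9, f 10, f 11, f 12]

theorem lk_tabOf (f : ℕ → ℕ) (hf : ∀ i, i < 13 → f i < 16) (i : ℕ) (hi : i < 13) :
    lk (tabOf f) i = f i := by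
  rw [tabOf, lk_pack]
  · interval_cases i <;> rfl
  · intro d hd
    simp only [List.mem_cons, List.not_mem_nil, or_false] at hd
    rcases hd with rfl | rfl | rfl | rfl | rfl | rfl | rfl | rfl | rfl | rfl | rfl | rfl | rfl <;>
      exact hf _ (by norm_num)

/-- `T` is the table of `σ` -/
def IsTab (σ : Perm (Fin 13)) (T : ℕ) : Prop := ∀ i : Fin 13, lk T i.val = (σ i).val

/-- table of the composition -/
def cmp (F G : ℕ) : ℕ := tabOf (fun i => lk F (lk G i))

theorem isTab_mul {f g : Perm (Fin 13)} {F G : ℕ} (hf : IsTab f F) (hg : IsTab g G) :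
    IsTab (f * g) (cmp F G) := by
  intro i
  rw [cmp, lk_tabOf _ (fun j _ => lk_lt _ _) _ i.isLt, hg i, hf (g i)]
  rfl

/-- table of the identity -/
def idTab : ℕ := tabOf (fun i => i)

theorem isTab_one : IsTab 1 idTab := by
  intro i
  rw [idTab, lk_tabOf _ (fun j hj => by omega) _ i.isLt]
  rfl

/-- table of the power -/
def powTab (F : ℕ) : ℕ → ℕ
  | 0 => idTab
  | k + 1 => match k with
    | 0 => F
    | _ => cmp (powTab F k) F

theorem powTab_zero (F : ℕ) : powTab F 0 = idTab := rfl
theorem powTab_one (F : ℕ) : powTab F 1 = F := rfl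
theorem powTab_succ_succ (F k : ℕ) : powTab F (k + 2) = cmp (powTab F (k + 1)) F := rfl

theorem isTab_pow {f : Perm (Fin 13)} {F : ℕ} (hf : IsTab f F) (k : ℕ) :
    IsTab (f ^ k) (powTab F k) := by
  induction k with
  | zero =>
    rw [powTab_zero, pow_zero]
    exact isTab_one
  | succ k ih =>
    cases k with
    | zero =>
      rw [powTab_one, zero_add, pow_one]
      exact hf
    | succ k =>
      rw [powTab_succ_succ, pow_succ]
      exact isTab_mul ih hf

/-- table of `finRotate 13 ^ a` -/
def rotTab (a : ℕ) : ℕ := tabOf (fun i => Nat.mod (Nat.add i a) 13)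

theorem finRotate_pow_apply13 (a : ℕ) (i : Fin 13) :
    ((finRotate 13 ^ a) i).val = (i.val + a) % 13 := by
  induction a generalizing i with
  | zero => simp [Nat.mod_eq_of_lt i.isLt]
  | succ a ih =>
    rw [pow_succ, Perm.mul_apply, ih]
    have h1 : (finRotate 13 i).val = (i.val + 1) % 13 := by
      rw [finRotate_apply]
      rw [Fin.val_add]
      rfl
    rw [h1]
    omega

theorem isTab_rot (a : ℕ) : IsTab (finRotate 13 ^ a) (rotTab a) := by
  intro i
  rw [rotTab, lk_tabOf _ _ _ i.isLt, finRotate_pow_apply13]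
  · rfl
  · intro j _
    show (j + a) % 13 < 16
    omega

theorem nbeq_false {a b : ℕ} (h : a ≠ b) : Nat.beq a b = false := by
  cases hb : Nat.beq a b
  · rfl
  · exact absurd (Nat.eq_of_beq_eq_true hb) h

theorem nbeq_iff {a b : ℕ} : Nat.beq a b = true ↔ a = b :=
  ⟨Nat.eq_of_beq_eq_true, fun h => h ▸ Nat.beq_refl a⟩

/-- successor in a cycle list, default `d` -/
def nxt (d : ℕ) : List ℕ → ℕ → ℕ
  | [], _ => d
  | y :: rest, x => cond (Nat.beq x y) (rest.headD d) (nxt d rest x)

theorem nxt_eq_nextOr (d : ℕ) (L : List ℕ) (x : ℕ) : nxt d L x = List.nextOr L x d := by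
  induction L with
  | nil => rfl
  | cons y rest ih =>
    cases rest with
    | nil =>
      show cond (Nat.beq x y) d d = d
      cases Nat.beq x y <;> rfl
    | cons z xs =>
      show cond (Nat.beq x y) z (nxt d (z :: xs) x) = _
      by_cases h : x = y
      · subst h
        rw [List.nextOr_self_cons_cons]
        simp
      · rw [List.nextOr_cons_of_ne _ _ _ _ h, ← ih]
        rw [nbeq_false h]
        rfl

theorem nextOr_map_of_injective {α β : Type*} [DecidableEq α] [DecidableEq β] (f : α → β)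
    (hf : Function.Injective f) (l : List α) (x d : α) :
    f (List.nextOr l x d) = List.nextOr (l.map f) (f x) (f d) := by
  induction l with
  | nil => rfl
  | cons y t ih =>
    cases t with
    | nil => rfl
    | cons z xs =>
      by_cases h : x = y
      · subst h
        simp only [List.map_cons, List.nextOr_self_cons_cons]
      · have h' : f x ≠ f y := fun e => h (hf e)
        simp only [List.map_cons] at ih ⊢
        rw [List.nextOr_cons_of_ne _ _ _ _ h, List.nextOr_cons_of_ne _ _ _ _ h', ih]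

/-- table of `formPerm L` for a cycle list `L` through `2, .., 12` starting with `2` -/
def xTab (L : List ℕ) : ℕ := tabOf (fun i => cond (Nat.ble 2 i) (nxt 2 L i) i)

theorem isTab_x (l : List (Fin 13)) (hl : l.Perm [4, 5, 6, 7, 8, 9, 10, 11, 12]) :
    IsTab (List.formPerm (2 :: 3 :: l)) (xTab (2 :: 3 :: l.map Fin.val)) := by
  have hmem : ∀ c : Fin 13, c ∈ (2 :: 3 :: l) ↔ (c ≠ 0 ∧ c ≠ 1) := by
    intro c
    simp only [List.mem_cons, hl.mem_iff, List.not_mem_nil, or_false]
    revert c
    decide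
  have hnd : (2 :: 3 :: l).Nodup := by
    have h1 : l.Nodup := hl.nodup_iff.2 (by decide)
    have h2 : (2 : Fin 13) ∉ l := by rw [hl.mem_iff]; decide
    have h3 : (3 : Fin 13) ∉ l := by rw [hl.mem_iff]; decide
    rw [List.nodup_cons, List.nodup_cons]
    refine ⟨?_, h3, h1⟩
    simp only [List.mem_cons, not_or]
    exact ⟨by decide, h2⟩
  have hmap : (2 :: 3 :: l.map Fin.val : List ℕ) = (2 :: 3 :: l).map Fin.val := by
    simp
  have hlt : ∀ j, j < 13 → cond (Nat.ble 2 j) (nxt 2 (2 :: 3 :: l.map Fin.val) j) j < 16 := by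
    intro j hj
    cases h : Nat.ble 2 j
    · show j < 16
      omega
    · show nxt 2 (2 :: 3 :: l.map Fin.val) j < 16
      rw [nxt_eq_nextOr]
      have hm : List.nextOr (2 :: 3 :: l.map Fin.val) j 2 ∈ (2 :: 3 :: l.map Fin.val) :=
        List.nextOr_mem List.mem_cons_self
      rw [hmap] at hm ⊢
      rw [List.mem_map] at hm
      obtain ⟨c, _, hc⟩ := hm
      rw [← hc]
      have := c.isLt
      omega
  intro i
  rw [xTab, lk_tabOf _ hlt _ i.isLt]
  by_cases hi : i ≠ 0 ∧ i ≠ 1
  · have him : i ∈ (2 :: 3 :: l) := (hmem i).2 hi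
    have hble : Nat.ble 2 i.val = true := by
      rw [Nat.ble_eq]
      obtain ⟨h0, h1⟩ := hi
      have h0' : i.val ≠ 0 := fun e => h0 (Fin.ext e)
      have h1' : i.val ≠ 1 := fun e => h1 (Fin.ext e)
      omega
    rw [hble]
    show nxt 2 (2 :: 3 :: l.map Fin.val) i.val = _
    rw [nxt_eq_nextOr, List.formPerm_apply_mem_eq_next hnd i him, hmap]
    have := nextOr_map_of_injective (Fin.val : Fin 13 → ℕ) Fin.val_injective (2 :: 3 :: l) i 2
    rw [List.next]
    exact this.symm
  · have him : i ∉ (2 :: 3 :: l) := fun h => hi ((hmem i).1 h)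
    rw [List.formPerm_apply_of_notMem him]
    have hble : Nat.ble 2 i.val = false := by
      rw [← Bool.not_eq_true, Nat.ble_eq]
      have : i = 0 ∨ i = 1 := by
        by_contra hcon
        rw [not_or] at hcon
        exact hi hcon
      rcases this with rfl | rfl <;> decide
    rw [hble]
    rfl

/-- `1` if `i` is moved by the table `W`, else `0` -/
def moved (W i : ℕ) : ℕ := cond (Nat.beq (lk W i) i) 0 1

/-- number of moved points -/
def countMoved (W : ℕ) : ℕ :=
  Nat.add (Nat.add (Nat.add (Nat.add (Nat.add (Nat.add (Nat.add (Nat.add (Nat.add (Nat.add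
    (Nat.add (Nat.add (moved W 0) (moved W 1)) (moved W 2)) (moved W 3)) (moved W 4))
    (moved W 5)) (moved W 6)) (moved W 7)) (moved W 8)) (moved W 9)) (moved W 10))
    (moved W 11)) (moved W 12)

theorem card_support_eq_countMoved {w : Perm (Fin 13)} {W : ℕ} (hW : IsTab w W) :
    w.support.card = countMoved W := by
  have h1 : w.support = Finset.univ.filter (fun i => w i ≠ i) := by
    ext i; simp
  rw [h1, Finset.card_filter]
  have h2 : ∀ i : Fin 13, (if w i ≠ i then 1 else 0) = moved W i.val := by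
    intro i
    rw [moved, hW i]
    by_cases h : w i = i
    · rw [h]; simp
    · rw [nbeq_false (fun e => h (Fin.ext e))]; simp [h]
  rw [Finset.sum_congr rfl (fun i _ => h2 i), Fin.sum_univ_eq_sum_range (fun j => moved W j) 13]
  simp only [Finset.sum_range_succ, Finset.sum_range_zero, zero_add]
  rfl

/-- the trusted check: `w = (x ^ b * y ^ a) ^ k` satisfies `w ^ r = 1` and moves `r` points -/
def verify (X b a k r : ℕ) : Bool :=
  and (or (Nat.beq r 3) (or (Nat.beq r 5) (Nat.beq r 7)))
    (and (Nat.beq (powTab (powTab (cmp (powTab X b) (rotTab a)) k) r) idTab)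
      (Nat.beq (countMoved (powTab (cmp (powTab X b) (rotTab a)) k)) r))

theorem verify_sound {x : Perm (Fin 13)} {X b a k r : ℕ} (hX : IsTab x X)
    (h : verify X b a k r = true) :
    ∃ w ∈ closure ({x, finRotate 13} : Set (Perm (Fin 13))),
      r.Prime ∧ r + 3 ≤ 13 ∧ w ^ r = 1 ∧ w.support.card = r := by
  have hxm : x ∈ closure ({x, finRotate 13} : Set (Perm (Fin 13))) :=
    subset_closure (by simp)
  have hym : finRotate 13 ∈ closure ({x, finRotate 13} : Set (Perm (Fin 13))) :=
    subset_closure (by simp)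
  refine ⟨(x ^ b * finRotate 13 ^ a) ^ k,
    pow_mem (mul_mem (pow_mem hxm b) (pow_mem hym a)) k, ?_⟩
  have hW : IsTab ((x ^ b * finRotate 13 ^ a) ^ k)
      (powTab (cmp (powTab X b) (rotTab a)) k) :=
    isTab_pow (isTab_mul (isTab_pow hX b) (isTab_rot a)) k
  simp only [verify, Bool.and_eq_true, Bool.or_eq_true, nbeq_iff] at h
  obtain ⟨hr, hpow, hcnt⟩ := h
  have hprime : r.Prime ∧ r + 3 ≤ 13 := by
    rcases hr with rfl | rfl | rfl <;> norm_num
  refine ⟨hprime.1, hprime.2, ?_, ?_⟩
  · have hWr := isTab_pow hW r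
    rw [hpow] at hWr
    ext i
    have e1 := hWr i
    have e2 := isTab_one i
    rw [e2] at e1
    simpa using e1.symm
  · rw [card_support_eq_countMoved hW, hcnt]

/-! ### the (untrusted) finder -/

/-- walk the cycle of `s` under `i ↦ lk T ((i + a) % 13)`: returns its length and the new
visited mask -/
def walk (T a s : ℕ) : ℕ → ℕ → ℕ → ℕ → ℕ × ℕ
  | 0, _, len, vis => (len, vis)
  | f + 1, cur, len, vis =>
    cond (Nat.beq (lk T (Nat.mod (Nat.add cur a) 13)) s)
      (Nat.succ len, Nat.add vis (Nat.pow 2 cur))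
      (walk T a s f (lk T (Nat.mod (Nat.add cur a) 13)) (Nat.succ len)
        (Nat.add vis (Nat.pow 2 cur)))

/-- cycle lengths of `i ↦ lk T ((i + a) % 13)` -/
def cycLens (T a : ℕ) : ℕ → ℕ → ℕ → List ℕ
  | 0, _, _ => []
  | f + 1, s, vis =>
    cond (Nat.beq (Nat.mod (Nat.div vis (Nat.pow 2 s)) 2) 1)
      (cycLens T a f (Nat.succ s) vis)
      ((walk T a s 13 s 0 vis).1 :: cycLens T a f (Nat.succ s) (walk T a s 13 s 0 vis).2)

/-- weighted number of cycle lengths divisible by `r`: it is `1` iff exactly one cycle length is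
divisible by `r` and that length is `r` -/
def cntMul (r : ℕ) : List ℕ → ℕ
  | [] => 0
  | l :: ls => cond (Nat.beq (Nat.mod l r) 0)
      (Nat.add (cond (Nat.beq l r) 1 2) (cntMul r ls)) (cntMul r ls)

/-- lcm of the cycle lengths other than `r` -/
def lcmOthers (r : ℕ) : List ℕ → ℕ
  | [] => 1
  | l :: ls => cond (Nat.beq l r) (lcmOthers r ls) (Nat.lcm l (lcmOthers r ls))

/-- try the prime `r` on the cycle lengths `ls` of the word `x ^ b * y ^ a` -/
def tryR (X b a r : ℕ) (ls : List ℕ) (els : Bool) : Bool :=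
  cond (Nat.beq (cntMul r ls) 1) (verify X b a (lcmOthers r ls) r) els

theorem tryR_sound {X b a r : ℕ} {ls : List ℕ} {els : Bool} (h : tryR X b a r ls els = true) :
    (∃ k r, verify X b a k r = true) ∨ els = true := by
  unfold tryR at h
  cases h3 : Nat.beq (cntMul r ls) 1
  · rw [h3] at h
    exact Or.inr h
  · rw [h3] at h
    exact Or.inl ⟨_, _, h⟩

/-- try the word `x ^ b * y ^ a` -/
def tryWord (X b a : ℕ) : Bool :=
  tryR X b a 3 (cycLens (powTab X b) a 13 0 0)
    (tryR X b a 5 (cycLens (powTab X b) a 13 0 0)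
      (tryR X b a 7 (cycLens (powTab X b) a 13 0 0) false))

theorem tryWord_sound {X b a : ℕ} (h : tryWord X b a = true) :
    ∃ k r, verify X b a k r = true := by
  rcases tryR_sound h with h | h
  · exact h
  · rcases tryR_sound h with h | h
    · exact h
    · rcases tryR_sound h with h | h
      · exact h
      · exact absurd h (by simp)

/-- try the words in turn -/
def findW (X : ℕ) : List (ℕ × ℕ) → Bool
  | [] => false
  | w :: ws => or (tryWord X w.1 w.2) (findW X ws)

theorem findW_sound {X : ℕ} : ∀ {ws : List (ℕ × ℕ)}, findW X ws = true →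
    ∃ b a k r, verify X b a k r = true := by
  intro ws
  induction ws with
  | nil => intro h; exact absurd h (by simp [findW])
  | cons w ws ih =>
    intro h
    simp only [findW, Bool.or_eq_true] at h
    rcases h with h | h
    · obtain ⟨k, r, hk⟩ := tryWord_sound h
      exact ⟨_, _, k, r, hk⟩
    · exact ih h

/-- the words `(b, a)` tried -/
def words : List (ℕ × ℕ) :=
  [(1, 1), (1, 2), (1, 3), (1, 4), (1, 5), (1, 6), (1, 7), (1, 8), (1, 9), (1, 10), (1, 11),
   (1, 12), (2, 1), (2, 2), (2, 3), (2, 4), (2, 5), (2, 6), (2, 7), (2, 8), (2, 9), (2, 10),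
   (2, 11), (2, 12), (3, 1), (3, 2), (3, 3), (3, 4), (3, 5), (3, 6), (3, 7), (3, 8), (3, 9),
   (3, 10), (3, 11), (3, 12)]

/-- the leaf check on the cycle list `[2, 3, c3, .., c11]` -/
def leafOK (L : List ℕ) : Bool := findW (xTab L) words

theorem leafOK_sound (l : List (Fin 13)) (hl : l.Perm [4, 5, 6, 7, 8, 9, 10, 11, 12])
    (h : leafOK (2 :: 3 :: l.map Fin.val) = true) :
    alternatingGroup (Fin 13) ≤
      closure ({List.formPerm (2 :: 3 :: l), finRotate 13} : Set (Perm (Fin 13))) := by
  obtain ⟨b, a, k, r, hv⟩ := findW_sound h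
  obtain ⟨w, hw, hr, hr3, hwr, hsupp⟩ := verify_sound (isTab_x l hl) hv
  have hy : (finRotate 13).cycleType = {13} := cycleType_finRotate (n := 11)
  exact Cfsg.Agent.Lib.H26.AG.alt_le_of_small_cycle (n := 13) (by norm_num) _ (finRotate 13) hy
    (subset_closure (by simp)) w hw hr hr3 hwr hsupp

/-- the remaining points -/
def R9 : List ℕ := [4, 5, 6, 7, 8, 9, 10, 11, 12]

/-- the whole search implies `normalized13` -/
theorem normalized13_of_search
    (h : Cfsg.Agent.Lib.H18.AG.searchAll leafOK 9 [3, 2] R9 = true) :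
    ∀ x : Perm (Fin 13), x 0 = 0 → x 1 = 1 → x 2 = 3 → x.cycleType = {11} →
      alternatingGroup (Fin 13) ≤ closure ({x, finRotate 13} : Set (Perm (Fin 13))) := by
  intro x h0 h1 h2 hc
  obtain ⟨l, hl, rfl⟩ := Cfsg.Agent.Lib.H18.AG.exists_cycle_list13 x h0 h1 h2 hc
  have e9 : List.map Fin.val ([4, 5, 6, 7, 8, 9, 10, 11, 12] : List (Fin 13)) = R9 := by
    decide
  have hperm : (l.map Fin.val).Perm R9 := by
    have := hl.map Fin.val
    rw [e9] at this
    exact this
  have hs := Cfsg.Agent.Lib.H18.AG.searchAll_sound leafOK 9 [3, 2] R9 rfl h (l.map Fin.val)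
    hperm
  have e2 : [3, 2].reverse ++ l.map Fin.val = 2 :: 3 :: l.map Fin.val := rfl
  rw [e2] at hs
  exact leafOK_sound l hl hs

/-- one level of the search unfolded -/
theorem searchAll_step (check : List ℕ → Bool) (n : ℕ) (acc rem : List ℕ)
    (h : ∀ a ∈ rem, Cfsg.Agent.Lib.H18.AG.searchAll check n (a :: acc) (rem.erase a) = true) :
    Cfsg.Agent.Lib.H18.AG.searchAll check (n + 1) acc rem = true := by
  rw [Cfsg.Agent.Lib.H18.AG.searchAll, List.all_eq_true]
  exact h

/-- two levels of the search unfolded -/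
theorem search_of_chunks
    (h : ∀ a ∈ R9, ∀ b ∈ R9.erase a,
      Cfsg.Agent.Lib.H18.AG.searchAll leafOK 7 [b, a, 3, 2] ((R9.erase a).erase b) = true) :
    Cfsg.Agent.Lib.H18.AG.searchAll leafOK 9 [3, 2] R9 = true := by
  rw [Cfsg.Agent.Lib.H18.AG.searchAll, List.all_eq_true]
  intro a ha
  rw [Cfsg.Agent.Lib.H18.AG.searchAll, List.all_eq_true]
  intro b hb
  exact h a ha b hb

end Cfsg.Agent.Lib.H14.AG
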