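import Mathlib

set_option autoImplicit false

namespace Cfsg.Agent.Lib.H14.AGL4

abbrev V4 := Fin 4 → ZMod 2
abbrev I5 := Fin 1 ⊕ Fin 4
abbrev M4 := Matrix (Fin 4) (Fin 4) (ZMod 2)
abbrev M5 := Matrix I5 I5 (ZMod 2)

/-- a vector as a column matrix -/
def colM (b : V4) : Matrix (Fin 4) (Fin 1) (ZMod 2) := fun i _ => b i

/-- translation matrices -/
def T0 (b : V4) : M5 := Matrix.fromBlocks 1 0 (colM b) 1
/-- linear parts -/
def D0 (A : M4) : M5 := Matrix.fromBlocks 1 0 0 A

theorem colM_add (b b' : V4) : colM (b + b') = colM b + colM b' := rfl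
theorem colM_zero : colM 0 = 0 := rfl

theorem T0_zero : T0 0 = 1 := by
  unfold T0; rw [colM_zero, Matrix.fromBlocks_one]

theorem T0_add (b b' : V4) : T0 (b + b') = T0 b * T0 b' := by
  unfold T0
  rw [Matrix.fromBlocks_multiply, colM_add]
  simp [add_comm]

theorem D0_one : D0 1 = 1 := by
  unfold D0; rw [Matrix.fromBlocks_one]

theorem D0_mul (A B : M4) : D0 (A * B) = D0 A * D0 B := by
  unfold D0
  rw [Matrix.fromBlocks_multiply]
  simp

theorem mul_colM (A : M4) (b : V4) : A * colM b = colM (A.mulVec b) := by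
  ext i j
  simp [colM, Matrix.mul_apply, Matrix.mulVec, dotProduct]

theorem D0_T0 (A : M4) (b : V4) : D0 A * T0 b = T0 (A.mulVec b) * D0 A := by
  unfold D0 T0
  rw [Matrix.fromBlocks_multiply, Matrix.fromBlocks_multiply, mul_colM]
  simp

theorem T0_injective : Function.Injective T0 := by
  intro b b' h
  unfold T0 at h
  rw [Matrix.fromBlocks_inj] at h
  funext i
  have := congrFun (congrFun h.2.2.1 i) 0
  exact this

theorem D0_injective : Function.Injective D0 := by
  intro A B h
  unfold D0 at h
  rw [Matrix.fromBlocks_inj] at h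
  exact h.2.2.2

/-- translations as a homomorphism into the units -/
def T : Multiplicative V4 →* M5ˣ :=
  MonoidHom.toHomUnits
    { toFun := fun b => T0 (Multiplicative.toAdd b)
      map_one' := T0_zero
      map_mul' := fun _ _ => T0_add _ _ }

/-- linear parts as a homomorphism into the units -/
def D : GL (Fin 4) (ZMod 2) →* M5ˣ :=
  Units.map
    { toFun := D0
      map_one' := D0_one
      map_mul' := D0_mul }

theorem T_val (b : Multiplicative V4) : ((T b : M5ˣ) : M5) = T0 (Multiplicative.toAdd b) := rfl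
theorem D_val (A : GL (Fin 4) (ZMod 2)) : ((D A : M5ˣ) : M5) = D0 (A : M4) := rfl


/-- the matrix of an additive endomorphism of `V4` -/
def matOf (α : V4 →+ V4) : M4 := fun i j => α (Pi.single j 1) i

theorem map_smul_zmod (α : V4 →+ V4) (c : ZMod 2) (v : V4) : α (c • v) = c • α v := by
  rcases (by decide : ∀ c : ZMod 2, c = 0 ∨ c = 1) c with rfl | rfl <;> simp

theorem matOf_mulVec (α : V4 →+ V4) (v : V4) : (matOf α).mulVec v = α v := by
  have hv : v = ∑ j : Fin 4, v j • (Pi.single j (1 : ZMod 2) : V4) := by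
    funext i
    simp [Finset.sum_apply, Pi.single_apply]
  conv_rhs => rw [hv]
  rw [map_sum]
  funext i
  simp only [Matrix.mulVec, dotProduct, matOf, Finset.sum_apply, map_smul_zmod, Pi.smul_apply, smul_eq_mul]
  apply Finset.sum_congr rfl
  intro j _
  ring

theorem matOf_comp (α β : V4 →+ V4) : matOf (α.comp β) = matOf α * matOf β := by
  ext i j
  have h := congrFun (matOf_mulVec α (β (Pi.single j 1))) i
  rw [Matrix.mul_apply]
  simp only [Matrix.mulVec, dotProduct] at h
  rw [show matOf (α.comp β) i j = α (β (Pi.single j 1)) i from rfl, ← h]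
  rfl

theorem matOf_id : matOf (AddMonoidHom.id V4) = 1 := by
  ext i j
  simp [matOf, Matrix.one_apply, Pi.single_apply]

/-- the additive map underlying an automorphism of `Multiplicative V4` -/
def addOf (α : MulAut (Multiplicative V4)) : V4 →+ V4 :=
  AddMonoidHom.toMultiplicative.symm α.toMonoidHom

theorem addOf_apply (α : MulAut (Multiplicative V4)) (v : V4) :
    addOf α v = Multiplicative.toAdd (α (Multiplicative.ofAdd v)) := rfl

/-- the matrix of an automorphism, as an element of `GL₄(2)` -/
def glOf : MulAut (Multiplicative V4) →* GL (Fin 4) (ZMod 2) :=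
  MonoidHom.toHomUnits
    { toFun := fun α => matOf (addOf α)
      map_one' := matOf_id
      map_mul' := fun α β => matOf_comp (addOf α) (addOf β) }

theorem glOf_mulVec (α : MulAut (Multiplicative V4)) (v : V4) :
    ((glOf α : GL (Fin 4) (ZMod 2)) : M4).mulVec v = Multiplicative.toAdd (α (Multiplicative.ofAdd v)) :=
  matOf_mulVec (addOf α) v

theorem glOf_injective : Function.Injective glOf := by
  intro α β h
  apply MulEquiv.ext
  intro v
  have h1 := glOf_mulVec α (Multiplicative.toAdd v)
  have h2 := glOf_mulVec β (Multiplicative.toAdd v)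
  rw [h, h2] at h1
  exact (Multiplicative.toAdd.injective h1).symm

theorem card_GL4 : Nat.card (GL (Fin 4) (ZMod 2)) = 20160 := by
  rw [Matrix.card_GL_field, ZMod.card, Fin.prod_univ_four]
  norm_num


/-- restriction of an injective homomorphism to a centralizer, when surjective onto it -/
noncomputable def centralizerEquiv {G H : Type*} [Group G] [Group H] (f : G →* H)
    (hf : Function.Injective f) (g : G)
    (hsurj : ∀ y ∈ Subgroup.centralizer ({f g} : Set H), ∃ x, f x = y) :
    ↥(Subgroup.centralizer ({g} : Set G)) ≃* ↥(Subgroup.centralizer ({f g} : Set H)) := by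
  have hmem : ∀ x : G, x ∈ Subgroup.centralizer ({g} : Set G) ↔
      f x ∈ Subgroup.centralizer ({f g} : Set H) := by
    intro x
    rw [Subgroup.mem_centralizer_singleton_iff, Subgroup.mem_centralizer_singleton_iff, ← map_mul,
      ← map_mul, hf.eq_iff]
  refine MulEquiv.ofBijective
    ((f.comp (Subgroup.centralizer ({g} : Set G)).subtype).codRestrict
      (Subgroup.centralizer ({f g} : Set H)) (fun x => (hmem x.1).1 x.2)) ⟨?_, ?_⟩
  · intro x y hxy
    apply Subtype.ext
    apply hf
    exact congrArg Subtype.val hxy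
  · intro y
    obtain ⟨x, hx⟩ := hsurj y.1 y.2
    refine ⟨⟨x, (hmem x).2 (by rw [hx]; exact y.2)⟩, Subtype.ext hx⟩

section Main

variable {X : Type*} [Group X] (K L : Subgroup X) [K.Normal]

/-- the conjugation action of `L` on `K` -/
def phi0 : ↥L →* MulAut ↥K :=
  K.normalizerMonoidHom.comp (Subgroup.inclusion (K.normalizer_eq_top ▸ le_top))

theorem phi0_apply (l : ↥L) (k : ↥K) : ((phi0 K L l k : ↥K) : X) = (l : X) * (k : X) * (l : X)⁻¹ := rfl

variable (θ : ↥K ≃* Multiplicative V4)

/-- the linear action of `L` -/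
def Mhom : ↥L →* GL (Fin 4) (ZMod 2) :=
  glOf.comp ((MulAut.congr θ).toMonoidHom.comp (phi0 K L))

theorem Mhom_mulVec (l : ↥L) (k : ↥K) :
    ((Mhom K L θ l : GL (Fin 4) (ZMod 2)) : M4).mulVec (Multiplicative.toAdd (θ k)) =
      Multiplicative.toAdd (θ (phi0 K L l k)) := by
  unfold Mhom
  rw [MonoidHom.comp_apply, glOf_mulVec]
  simp [MulAut.congr]

/-- the translation part -/
def fnHom : ↥K →* M5ˣ := T.comp θ.toMonoidHom
/-- the linear part -/
def fgHom : ↥L →* M5ˣ := D.comp (Mhom K L θ)

theorem compat (l : ↥L) : (fnHom K θ).comp (phi0 K L l).toMonoidHom =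
    (MulAut.conj (fgHom K L θ l)).toMonoidHom.comp (fnHom K θ) := by
  apply MonoidHom.ext
  intro k
  simp only [MonoidHom.comp_apply, MulEquiv.coe_toMonoidHom, MulAut.conj_apply]
  rw [eq_mul_inv_iff_mul_eq]
  apply Units.ext
  rw [Units.val_mul, Units.val_mul]
  unfold fnHom fgHom
  simp only [MonoidHom.comp_apply, MulEquiv.coe_toMonoidHom, T_val, D_val]
  rw [D0_T0, Mhom_mulVec]

/-- the embedding of the semidirect product into `GL₅(2)` -/
def PsiS : ↥K ⋊[phi0 K L] ↥L →* M5ˣ :=
  SemidirectProduct.lift (fnHom K θ) (fgHom K L θ) (compat K L θ)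

theorem PsiS_val (a : ↥K ⋊[phi0 K L] ↥L) : ((PsiS K L θ a : M5ˣ) : M5) =
    Matrix.fromBlocks 1 0 (colM (Multiplicative.toAdd (θ a.left)))
      ((Mhom K L θ a.right : GL (Fin 4) (ZMod 2)) : M4) := by
  unfold PsiS SemidirectProduct.lift
  simp only [MonoidHom.coe_mk, OneHom.coe_mk, Units.val_mul]
  unfold fnHom fgHom
  simp only [MonoidHom.comp_apply, MulEquiv.coe_toMonoidHom, T_val, D_val]
  unfold T0 D0
  rw [Matrix.fromBlocks_multiply]
  simp


theorem Mhom_injective (hfaith : ∀ l ∈ L, (∀ k ∈ K, l * k = k * l) → l = 1) :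
    Function.Injective (Mhom K L θ) := by
  rw [injective_iff_map_eq_one]
  intro l hl
  unfold Mhom at hl
  rw [MonoidHom.comp_apply] at hl
  have h1 := (injective_iff_map_eq_one glOf).1 glOf_injective _ hl
  rw [MonoidHom.comp_apply] at h1
  have h2 : phi0 K L l = 1 := by
    have := (MulAut.congr θ).injective (a₁ := phi0 K L l) (a₂ := 1) (by
      rw [map_one]; exact h1)
    exact this
  apply Subtype.ext
  apply hfaith l.1 l.2
  intro k hk
  have h3 := phi0_apply K L l ⟨k, hk⟩
  rw [h2] at h3
  simp only [MulAut.one_apply] at h3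
  calc (l : X) * k = ((l : X) * k * (l : X)⁻¹) * (l : X) := by group
    _ = k * (l : X) := by rw [← h3]

theorem PsiS_injective (hfaith : ∀ l ∈ L, (∀ k ∈ K, l * k = k * l) → l = 1) :
    Function.Injective (PsiS K L θ) := by
  rw [injective_iff_map_eq_one]
  intro a ha
  have h1 := PsiS_val K L θ a
  rw [ha, Units.val_one, ← Matrix.fromBlocks_one, Matrix.fromBlocks_inj] at h1
  obtain ⟨-, -, h3, h4⟩ := h1
  have hk : a.left = 1 := by
    apply θ.injective
    rw [map_one]
    apply Multiplicative.toAdd.injective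
    funext i
    have := congrFun (congrFun h3 i) 0
    exact this.symm
  have hl : a.right = 1 := by
    apply Mhom_injective K L θ hfaith
    rw [map_one]
    apply Units.ext
    exact h4.symm
  apply SemidirectProduct.ext
  · exact hk
  · exact hl

theorem Mhom_surjective [Finite X] (hfaith : ∀ l ∈ L, (∀ k ∈ K, l * k = k * l) → l = 1)
    (hL : Nat.card L = 20160) : Function.Surjective (Mhom K L θ) := by
  have := (Mhom_injective K L θ hfaith).bijective_of_nat_card_le (by rw [card_GL4, hL])
  exact this.2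

/-- every invertible matrix with zero upper right block is in the image -/
theorem PsiS_surj [Finite X] (hfaith : ∀ l ∈ L, (∀ k ∈ K, l * k = k * l) → l = 1)
    (hL : Nat.card L = 20160) (g : M5ˣ) (hg : (g : M5).toBlocks₁₂ = 0) :
    ∃ a, PsiS K L θ a = g := by
  have hg' := Matrix.fromBlocks_toBlocks (g : M5)
  rw [hg] at hg'
  have hdet : ((g : M5)).det ≠ 0 := by
    have : IsUnit (g : M5).det := (Matrix.isUnit_iff_isUnit_det _).1 g.isUnit
    exact this.ne_zero
  rw [← hg', Matrix.det_fromBlocks_zero₁₂] at hdet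
  have hd1 : (g : M5).toBlocks₁₁.det ≠ 0 := left_ne_zero_of_mul hdet
  have hd2 : (g : M5).toBlocks₂₂.det ≠ 0 := right_ne_zero_of_mul hdet
  have h11 : (g : M5).toBlocks₁₁ = 1 := by
    ext i j
    have hi : i = 0 := Subsingleton.elim _ _
    have hj : j = 0 := Subsingleton.elim _ _
    subst hi; subst hj
    rw [Matrix.det_unique] at hd1
    rw [Matrix.one_apply_eq]
    rcases (by decide : ∀ c : ZMod 2, c = 0 ∨ c = 1) ((g : M5).toBlocks₁₁ 0 0) with h | h
    · exact absurd h hd1
    · exact h
  obtain ⟨l, hl⟩ := Mhom_surjective K L θ hfaith hL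
    (Matrix.GeneralLinearGroup.mkOfDetNeZero _ hd2)
  let b : V4 := fun i => (g : M5).toBlocks₂₁ i 0
  refine ⟨⟨θ.symm (Multiplicative.ofAdd b), l⟩, ?_⟩
  apply Units.ext
  rw [PsiS_val, ← hg', h11]
  simp only
  rw [hl, MulEquiv.apply_symm_apply]
  congr 1
  ext i j
  have hj : j = 0 := Subsingleton.elim _ _
  subst hj
  rfl

/-- the centralizer of a translation matrix consists of matrices with zero upper right block -/
theorem toBlocks₁₂_eq_zero_of_comm (g : M5) (b : V4) (i0 : Fin 4) (hb : b i0 = 1)
    (hcomm : g * T0 b = T0 b * g) : g.toBlocks₁₂ = 0 := by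
  have hg' := Matrix.fromBlocks_toBlocks g
  rw [← hg'] at hcomm
  unfold T0 at hcomm
  rw [Matrix.fromBlocks_multiply, Matrix.fromBlocks_multiply, Matrix.fromBlocks_inj] at hcomm
  obtain ⟨-, -, -, h4⟩ := hcomm
  simp only [Matrix.mul_zero, Matrix.mul_one, zero_add, Matrix.one_mul] at h4
  have h5 : colM b * g.toBlocks₁₂ = 0 := by
    have := congrArg (fun m => m - g.toBlocks₂₂) h4
    simpa using this.symm
  ext i j
  have hi : i = 0 := Subsingleton.elim _ _
  subst hi
  have := congrFun (congrFun h5 i0) j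
  simp only [Matrix.mul_apply, colM, Finset.univ_unique, Fin.default_eq_zero, Finset.sum_singleton, hb, one_mul] at this
  exact this

end Main


/-! ### Coordinates on an elementary abelian group of order 16 -/

theorem exists_theta {K : Type*} [Group K] (hcard : Nat.card K = 16) (hexp : ∀ k : K, k * k = 1)
    (z : K) (hz : z ≠ 1) :
    ∃ θ : K ≃* Multiplicative V4, θ z = Multiplicative.ofAdd (Pi.single 0 1) := by
  classical
  have hfin : Finite K := Nat.finite_of_card_ne_zero (by rw [hcard]; norm_num)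
  have hcomm : ∀ a b : K, a * b = b * a := by
    intro a b
    have h1 := hexp (a * b)
    have h2 := hexp a
    have h3 := hexp b
    calc a * b = a * ((a * b) * (a * b)) * b := by rw [h1, mul_one]
      _ = (a * a) * b * a * (b * b) := by group
      _ = b * a := by rw [h2, h3, one_mul, mul_one]
  let _ : CommGroup K := { ‹Group K› with mul_comm := hcomm }
  let _ : Module (ZMod 2) (Additive K) := AddCommGroup.zmodModule (n := 2) (by
    intro x
    rw [two_nsmul]
    exact congrArg Additive.ofMul (hexp (Additive.toMul x)))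
  have hfinA : Finite (Additive K) := hfin
  have : Module.Finite (ZMod 2) (Additive K) := Module.Finite.of_finite
  have hrank : Module.finrank (ZMod 2) (Additive K) = 4 := by
    have h1 := Module.natCard_eq_pow_finrank (K := ZMod 2) (V := Additive K)
    have h2 : Nat.card (Additive K) = 16 := hcard
    rw [h2, Nat.card_zmod] at h1
    have : (2 : ℕ) ^ 4 = 2 ^ Module.finrank (ZMod 2) (Additive K) := by rw [← h1]; norm_num
    exact (Nat.pow_right_injective (le_refl 2) this).symm
  set v0 : Additive K := Additive.ofMul z with hv0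
  have hv0ne : v0 ≠ 0 := by
    intro h; exact hz (Additive.ofMul.injective h)
  have hli : LinearIndepOn (ZMod 2) id ({v0} : Set (Additive K)) := by
    rw [linearIndepOn_singleton_iff]; exact hv0ne
  let B := Module.Basis.extend hli
  have hmem : v0 ∈ hli.extend (Set.subset_univ _) := Module.Basis.subset_extend hli (Set.mem_singleton v0)
  let _ : Fintype ↥(hli.extend (Set.subset_univ _)) := Fintype.ofFinite _
  have hcardι : Fintype.card ↥(hli.extend (Set.subset_univ _)) = 4 := by
    rw [← Module.finrank_eq_card_basis B, hrank]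
  let e0 : ↥(hli.extend (Set.subset_univ _)) ≃ Fin 4 := Fintype.equivFinOfCardEq hcardι
  let e1 : ↥(hli.extend (Set.subset_univ _)) ≃ Fin 4 := e0.trans (Equiv.swap (e0 ⟨v0, hmem⟩) 0)
  have he1 : e1 ⟨v0, hmem⟩ = 0 := by
    simp [e1]
  let B' := B.reindex e1
  let f : Additive K ≃ₗ[ZMod 2] V4 := B'.equivFun
  have hf : f v0 = Pi.single 0 1 := by
    have h1 : B' 0 = v0 := by
      rw [Module.Basis.reindex_apply, ← he1, Equiv.symm_apply_apply, Module.Basis.extend_apply_self]
    rw [← h1]
    funext j
    rw [show f (B' 0) j = B'.equivFun (B' 0) j from rfl, Module.Basis.equivFun_self]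
    simp [Pi.single_apply, eq_comm]
  refine ⟨AddEquiv.toMultiplicativeRight f.toAddEquiv, ?_⟩
  exact congrArg Multiplicative.ofAdd hf


/-! ### The special linear group of degree five -/

/-- the indexing of the five coordinates: the distinguished coordinate is sent to `1`,
the first of the other four to `0`. -/
def e5 : I5 ≃ Fin 5 := finSumFinEquiv.trans (Equiv.swap (0 : Fin 5) 1)

/-- reindexing of matrices -/
noncomputable def reIdx : Matrix (Fin 5) (Fin 5) (ZMod 2) ≃ₐ[ZMod 2] M5 :=
  Matrix.reindexAlgEquiv (ZMod 2) (ZMod 2) e5.symm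

theorem reIdx_apply (m : Matrix (Fin 5) (Fin 5) (ZMod 2)) (i j : I5) : reIdx m i j = m (e5 i) (e5 j) := rfl

/-- `SL₅(2)` as the unit group of the ring of block matrices -/
noncomputable def omega0 : Matrix.SpecialLinearGroup (Fin 5) (ZMod 2) →* M5ˣ :=
  (Units.map (MonoidHomClass.toMonoidHom reIdx)).comp Matrix.SpecialLinearGroup.toGL

theorem omega0_val (g : Matrix.SpecialLinearGroup (Fin 5) (ZMod 2)) :
    ((omega0 g : M5ˣ) : M5) = reIdx (g : Matrix (Fin 5) (Fin 5) (ZMod 2)) := rfl

theorem omega0_injective : Function.Injective omega0 := by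
  intro g h hgh
  have h1 := congrArg Units.val hgh
  rw [omega0_val, omega0_val] at h1
  apply Subtype.ext
  exact reIdx.injective h1

theorem omega0_surjective : Function.Surjective omega0 := by
  intro u
  have hdet : (reIdx.symm (u : M5)).det = 1 := by
    have h1 : IsUnit (u : M5).det := (Matrix.isUnit_iff_isUnit_det _).1 u.isUnit
    have h2 : (reIdx (reIdx.symm (u : M5))).det = (reIdx.symm (u : M5)).det :=
      Matrix.det_reindexAlgEquiv _ _ _ _
    rw [AlgEquiv.apply_symm_apply] at h2
    rw [← h2]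
    rcases (by decide : ∀ c : ZMod 2, c = 0 ∨ c = 1) (u : M5).det with h | h
    · rw [h] at h1; exact absurd h1 not_isUnit_zero
    · exact h
  let g : Matrix.SpecialLinearGroup (Fin 5) (ZMod 2) := ⟨reIdx.symm (u : M5), hdet⟩
  have hg : (g : Matrix (Fin 5) (Fin 5) (ZMod 2)) = reIdx.symm (u : M5) := rfl
  refine ⟨g, ?_⟩
  apply Units.ext
  rw [omega0_val g, hg]
  exact AlgEquiv.apply_symm_apply _ _

theorem reIdx_transvection :
    reIdx (Matrix.transvection (0 : Fin 5) 1 (1 : ZMod 2)) = T0 (Pi.single 0 1) := by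
  ext i j
  rw [reIdx_apply]
  rcases i with i | i <;> rcases j with j | j <;> fin_cases i <;> fin_cases j <;> decide


/-- **Recognition of a transvection centralizer.** In a split extension of an elementary abelian group of
order `16` by a group of order `20160` acting faithfully (an affine group `AGL₄(2)`), the centralizer of a
nonidentity element of the normal subgroup is isomorphic to the centralizer of a transvection in `SL₅(2)`. -/
theorem centralizer_equiv_transvection {X : Type*} [Group X] [Finite X] (K L : Subgroup X) [K.Normal]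
    (hKL : K ⊓ L = ⊥) (hsup : K ⊔ L = ⊤) (hK16 : Nat.card K = 16) (hK2 : ∀ k ∈ K, k * k = 1)
    (hfaith : ∀ l ∈ L, (∀ k ∈ K, l * k = k * l) → l = 1) (hL : Nat.card L = 20160)
    (z : X) (hzK : z ∈ K) (hz1 : z ≠ 1)
    (s : Matrix.SpecialLinearGroup (Fin 5) (ZMod 2))
    (hs : (s : Matrix (Fin 5) (Fin 5) (ZMod 2)) = Matrix.transvection 0 1 1) :
    Nonempty (↥(Subgroup.centralizer ({z} : Set X)) ≃*
      ↥(Subgroup.centralizer ({s} : Set (Matrix.SpecialLinearGroup (Fin 5) (ZMod 2))))) := by
  have hc : K.IsComplement' L := by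
    apply Subgroup.isComplement'_of_disjoint_and_mul_eq_univ (disjoint_iff.2 hKL)
    rw [← Subgroup.normal_mul, hsup]; rfl
  obtain ⟨θ, hθ⟩ := exists_theta (K := ↥K) hK16 (fun k => Subtype.ext (hK2 k.1 k.2)) ⟨z, hzK⟩
    (fun h => hz1 (congrArg Subtype.val h))
  let E : ↥K ⋊[phi0 K L] ↥L ≃* X := SemidirectProduct.mulEquivSubgroup hc
  have hE : ∀ a : ↥K ⋊[phi0 K L] ↥L, E a = (a.left : X) * (a.right : X) :=
    fun a => SemidirectProduct.mulEquivSubgroup_apply hc a
  let Ψ : X →* M5ˣ := (PsiS K L θ).comp E.symm.toMonoidHom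
  have hΨinj : Function.Injective Ψ := by
    intro x y hxy
    exact E.symm.injective (PsiS_injective K L θ hfaith hxy)
  have hΨE : ∀ a, Ψ (E a) = PsiS K L θ a := by
    intro a
    show PsiS K L θ (E.symm (E a)) = _
    rw [MulEquiv.symm_apply_apply]
  have hz' : E (SemidirectProduct.inl ⟨z, hzK⟩) = z := by
    rw [hE]; simp
  have hΨz : Ψ z = omega0 s := by
    rw [← hz', hΨE]
    apply Units.ext
    rw [PsiS_val, omega0_val, hs, reIdx_transvection]
    simp only [SemidirectProduct.left_inl, SemidirectProduct.right_inl, map_one]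
    rw [hθ]
    rfl
  have hsurj : ∀ y ∈ Subgroup.centralizer ({Ψ z} : Set M5ˣ), ∃ x, Ψ x = y := by
    intro y hy
    rw [Subgroup.mem_centralizer_singleton_iff, hΨz] at hy
    have h1 := congrArg Units.val hy
    rw [Units.val_mul, Units.val_mul, omega0_val, hs, reIdx_transvection] at h1
    have h2 := toBlocks₁₂_eq_zero_of_comm (y : M5) (Pi.single 0 1) 0 (by simp) h1
    obtain ⟨a, ha⟩ := PsiS_surj K L θ hfaith hL y h2
    exact ⟨E a, by rw [hΨE, ha]⟩
  have e1 := centralizerEquiv Ψ hΨinj z hsurj
  have e2 := centralizerEquiv omega0 omega0_injective s (fun y _ => omega0_surjective y)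
  rw [hΨz] at e1
  exact ⟨e1.trans e2.symm⟩

end Cfsg.Agent.Lib.H14.AGL4
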