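import Cfsg.Agent.Lib.H14.APPART2
import Cfsg.Agent.Lib.H6.APPART1
import Cfsg.Agent.Lib.H23.ADBR

/-!
# S4551 (Alperin–Dade for `p'`-index, principal blocks): the statement in full (helper14)

Twin of the architect's final assembly: the frozen statement, proved from the landed general-form
pieces (PART1) `H6.AP.restrict_principal` and (PART2) `H14.AP.exists_principal_ext`,
`H14.AP.principal_ext_unique`, with Brauer's criterion `H23.AD.br0 / br` for the translation between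
`principalBlock` and `sSum`.
-/

set_option autoImplicit false
open Cfsg.Agent.Lib.H21.AD

namespace Cfsg.Agent.Lib.H14.AP

/-- a subgroup of `p`-power order lies in every normal subgroup of index prime to `p` -/
theorem pgroup_le_of_normal_of_not_dvd_index {G : Type*} [Group G] [Finite G] {p : ℕ}
    [Fact p.Prime] (N : Subgroup G) [N.Normal] (hidx : ¬ p ∣ N.index) (P : Subgroup G)
    (hP : IsPGroup p P) : P ≤ N := by
  have hmap : IsPGroup p (P.map (QuotientGroup.mk' N)) := hP.map _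
  obtain ⟨n, hn⟩ := IsPGroup.iff_card.1 hmap
  have hdvd : Nat.card (P.map (QuotientGroup.mk' N)) ∣ Nat.card (G ⧸ N) :=
    Subgroup.card_subgroup_dvd_card _
  have hn0 : n = 0 := by
    by_contra h0
    apply hidx
    rw [Subgroup.index_eq_card]
    refine dvd_trans ?_ hdvd
    rw [hn]
    exact dvd_pow_self p h0
  rw [hn0, pow_zero] at hn
  have hbot : P.map (QuotientGroup.mk' N) = ⊥ := Subgroup.eq_bot_of_card_eq _ hn
  have := (Subgroup.map_eq_bot_iff P).1 hbot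
  rwa [QuotientGroup.ker_mk'] at this

theorem sSum_top_eq {G : Type*} [Group G] (p : ℕ) (f : G → ℂ) :
    sSum p (⊤ : Subgroup G) f = ∑ᶠ x : G, if p ∣ orderOf x then 0 else f x := by
  classical
  unfold sSum
  refine finsum_congr (fun g => ?_)
  by_cases hg : p ∣ orderOf g
  · rw [if_neg (fun h => h.2 hg), if_pos hg]
  · rw [if_pos ⟨Subgroup.mem_top g, hg⟩, if_neg hg]

/-- the statement of S4551 -/
theorem alperin_dade_pprime_index {G : Type*} [Group G] [Finite G] (p : ℕ) [Fact p.Prime]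
    (M : Ideal Cfsg.AlgInt) (hM : Cfsg.IsPModular p M) (N : Subgroup G) [N.Normal]
    (hidx : ¬ p ∣ N.index) (P : Sylow p G)
    (hsup : N ⊔ Subgroup.centralizer ((P : Subgroup G) : Set G) = ⊤) :
    (∀ χ ∈ Cfsg.principalBlock M G, ∃ θ ∈ Cfsg.principalBlock M ↥N,
        ∀ n : N, (χ : G → ℂ) n = (θ : N → ℂ) n) ∧
      ∀ θ ∈ Cfsg.principalBlock M ↥N, ∃! χ : Cfsg.IrrCharacter G,
        χ ∈ Cfsg.principalBlock M G ∧ ∀ n : N, (χ : G → ℂ) n = (θ : N → ℂ) n := by
  classical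
  have hp : p.Prime := Fact.out
  set Q : Subgroup G := (P : Subgroup G) with hQdef
  have hQN : Q ≤ N := pgroup_le_of_normal_of_not_dvd_index N hidx Q P.isPGroup'
  have hQ : ¬ p ∣ Q.relIndex N := by
    intro hd
    apply P.not_dvd_index
    show p ∣ Q.index
    rw [← Subgroup.relIndex_mul_index hQN]
    exact Dvd.dvd.mul_right hd _
  have hcov : ∀ g : G, ∃ n ∈ N, ∃ z ∈ Subgroup.centralizer (Q : Set G), g = n * z := by
    intro g
    have hg : g ∈ N ⊔ Subgroup.centralizer (Q : Set G) := by rw [hsup]; exact Subgroup.mem_top g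
    obtain ⟨n, hn, c, hc, h⟩ := Subgroup.mem_sup_of_normal_left.1 hg
    exact ⟨n, hn, c, hc, h.symm⟩
  have hpart2 : ∀ θ : G → ℂ, Cfsg.IsIrrCharacter N (fun n : N => θ n) → sSum p N θ ≠ 0 →
      ∃ χ' : G → ℂ, Cfsg.IsIrrCharacter G χ' ∧ sSum p ⊤ χ' ≠ 0 ∧ ∀ n ∈ N, χ' n = θ n :=
    fun θ hirr hB => exists_principal_ext hp hM hQN hQ hidx hcov hirr hB
  have htop : ∀ χ : Cfsg.IrrCharacter G, χ ∈ Cfsg.principalBlock M G →
      sSum p ⊤ (χ : G → ℂ) ≠ 0 := by
    intro χ hχ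
    rw [sSum_top_eq]
    exact (Cfsg.Agent.Lib.H23.AD.br0 hM χ).1 hχ
  refine ⟨?_, ?_⟩
  · intro χ hχ
    obtain ⟨hirr, hsum⟩ := Cfsg.Agent.Lib.H6.AP.restrict_principal hM N Q hQN hQ hcov hidx hpart2
      (χ : G → ℂ) χ.2 (htop χ hχ)
    exact ⟨⟨fun n : N => (χ : G → ℂ) n, hirr⟩,
      (Cfsg.Agent.Lib.H23.AD.br hM N (χ : G → ℂ) hirr).2 hsum, fun n => rfl⟩
  · intro θ hθ
    -- extend `θ` by zero
    set θ' : G → ℂ := fun g => if h : g ∈ N then (θ : N → ℂ) ⟨g, h⟩ else 0 with hθ'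
    have hres : (fun n : N => θ' n) = (θ : N → ℂ) := by
      funext n
      show (if h : (n : G) ∈ N then (θ : N → ℂ) ⟨n, h⟩ else 0) = _
      rw [dif_pos n.2]
    have hirr : Cfsg.IsIrrCharacter N (fun n : N => θ' n) := by
      rw [hres]; exact θ.2
    have hB : sSum p N θ' ≠ 0 := by
      rw [← Cfsg.Agent.Lib.H23.AD.br hM N θ' hirr]
      have h : (⟨fun n : N => θ' n, hirr⟩ : Cfsg.IrrCharacter N) = θ := Subtype.ext hres
      rw [h]; exact hθ
    have hθN : ∀ n : N, θ' n = (θ : N → ℂ) n := fun n => congrFun hres n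
    obtain ⟨χf, hχf, hχB, hχN⟩ := exists_principal_ext hp hM hQN hQ hidx hcov hirr hB
    refine ⟨⟨χf, hχf⟩, ⟨?_, ?_⟩, ?_⟩
    · exact Cfsg.Agent.Lib.H6.AP.mem_principalBlock_of_sSum_top hM χf hχf hχB
    · intro n
      show χf n = _
      rw [hχN n n.2, hθN n]
    · rintro χ₂ ⟨h₂B, h₂N⟩
      apply Subtype.ext
      show (χ₂ : G → ℂ) = χf
      refine principal_ext_unique hp hM hQN hQ hidx hcov hirr (χ₂ : G → ℂ) χf χ₂.2 hχf
        (htop χ₂ h₂B) hχB ?_ hχN
      intro n hn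
      rw [h₂N ⟨n, hn⟩, ← hθN ⟨n, hn⟩]

end Cfsg.Agent.Lib.H14.AP
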