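import Cfsg.Agent.Lib.H14.APSOLFCore
import Cfsg.Agent.Lib.H9.NTCONJ
import Cfsg.Agent.Lib.H22.NTUNIQ
import Cfsg.Agent.Lib.H15.NTGLUE
import Cfsg.Agent.Lib.H23.ExtGeneral

/-!
# S4551, piece (GOODC) in general form (helper14)

`GoodC p N θ H f := IsExt N θ H f ∧ ∀ c ∈ H, sSum p (N ⊔ zpowers c) f ≠ 0` ("principal on every cyclic
layer").  The five hypotheses of the abstract `glue` for this predicate, with the uniqueness statement
(KEYF') as a hypothesis `hkey`, and the resulting extension of `θ` to `G`.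
-/

set_option autoImplicit false
open Cfsg.Agent.Lib.H21.AD Cfsg.Agent.Lib.H28.NT

namespace Cfsg.Agent.Lib.H14.AP

variable {G : Type*} [Group G] [Finite G] {p : ℕ} {N : Subgroup G} {θ : G → ℂ}

/-- an extension of `θ` to `H` that is principal on every `N⟨c⟩`, `c ∈ H` -/
def GoodC (p : ℕ) (N : Subgroup G) (θ : G → ℂ) (H : Subgroup G) (f : G → ℂ) : Prop :=
  IsExt N θ H f ∧ ∀ c ∈ H, sSum p (N ⊔ Subgroup.zpowers c) f ≠ 0

/-- (hres) -/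
theorem goodC_restrict (hirr : Cfsg.IsIrrCharacter N (fun n : N => θ n)) (K H : Subgroup G)
    (hNK : N ≤ K) (hKH : K ≤ H) (f : G → ℂ) (hf : GoodC p N θ H f) : GoodC p N θ K f :=
  ⟨Cfsg.Agent.Lib.H22.NT.isExt_restrict hirr hNK hKH hf.1, fun c hc => hf.2 c (hKH hc)⟩

/-- (hconj) -/
theorem goodC_conj [N.Normal] (hinv : ∀ g : G, ∀ n ∈ N, θ (g * n * g⁻¹) = θ n) (H : Subgroup G)
    (f : G → ℂ) (t : G) (hf : GoodC p N θ H f) :
    GoodC p N θ (H.map (MulAut.conj t).toMonoidHom) (fun x => f (t⁻¹ * x * t)) := by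
  obtain ⟨hext, hsum⟩ := hf
  refine ⟨Cfsg.Agent.Lib.H9.NT.isExt_conj hinv H f hext t, ?_⟩
  rintro c ⟨c₀, hc₀, rfl⟩
  have h1 : (MulAut.conj t).toMonoidHom c₀ = t * c₀ * t⁻¹ := by simp [MulAut.conj_apply]
  rw [h1, ← Cfsg.Agent.Lib.H9.NT.map_conj_sup_zpowers, Cfsg.Agent.Lib.H9.AD.sSum_conj]
  have : (fun g => f (t⁻¹ * (t * g * t⁻¹) * t)) = f := by
    funext g
    congr 1
    group
  rw [this]
  exact hsum c₀ hc₀

/-- every subgroup above `N` has index prime to `p` over `N` when `N` has index prime to `p` in `G` -/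
theorem not_dvd_relIndex_of_index (hidx : ¬ p ∣ N.index) (J : Subgroup G) (hNJ : N ≤ J) :
    ¬ p ∣ N.relIndex J := by
  intro hd
  apply hidx
  rw [← Subgroup.relIndex_mul_index hNJ]
  exact Dvd.dvd.mul_right hd _

/-- (huniq), with (KEYF') as a hypothesis -/
theorem goodC_unique (hirr : Cfsg.IsIrrCharacter N (fun n : N => θ n)) (hidx : ¬ p ∣ N.index)
    (hkey : ∀ (J₁ J₂ : Subgroup G), N ≤ J₁ → J₁ ≤ J₂ → ¬ p ∣ N.relIndex J₂ →
      ∀ f₁ f₂ : G → ℂ, GoodA p N θ J₁ f₁ → GoodA p N θ J₂ f₂ → ∀ g ∈ J₁, f₁ g = f₂ g)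
    (H : Subgroup G) (hNH : N ≤ H) (f₁ f₂ : G → ℂ) (h₁ : GoodC p N θ H f₁)
    (h₂ : GoodC p N θ H f₂) : ∀ g ∈ H, f₁ g = f₂ g := by
  intro g hg
  have hNJ : N ≤ N ⊔ Subgroup.zpowers g := le_sup_left
  have hJH : N ⊔ Subgroup.zpowers g ≤ H := sup_le hNH ((Subgroup.zpowers_le).2 hg)
  have hA₁ : GoodA p N θ (N ⊔ Subgroup.zpowers g) f₁ :=
    ⟨Cfsg.Agent.Lib.H22.NT.isExt_restrict hirr hNJ hJH h₁.1, h₁.2 g hg⟩
  have hA₂ : GoodA p N θ (N ⊔ Subgroup.zpowers g) f₂ :=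
    ⟨Cfsg.Agent.Lib.H22.NT.isExt_restrict hirr hNJ hJH h₂.1, h₂.2 g hg⟩
  exact hkey _ _ hNJ le_rfl (not_dvd_relIndex_of_index hidx _ hNJ) f₁ f₂ hA₁ hA₂ g
    (le_sup_right (a := N) (Subgroup.mem_zpowers g))

/-- (hex), with (KEYF') and (CONJA') as hypotheses -/
theorem goodC_exists [N.Normal] (hirr : Cfsg.IsIrrCharacter N (fun n : N => θ n))
    (hB : sSum p N θ ≠ 0) (hidx : ¬ p ∣ N.index)
    (hkey : ∀ (J₁ J₂ : Subgroup G), N ≤ J₁ → J₁ ≤ J₂ → ¬ p ∣ N.relIndex J₂ →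
      ∀ f₁ f₂ : G → ℂ, GoodA p N θ J₁ f₁ → GoodA p N θ J₂ f₂ → ∀ g ∈ J₁, f₁ g = f₂ g)
    (hconj : ∀ (J : Subgroup G), N ≤ J → ∀ f : G → ℂ, GoodA p N θ J f → ∀ t : G,
      GoodA p N θ (J.map (MulAut.conj t).toMonoidHom) (fun x => f (t⁻¹ * x * t)))
    (E : Subgroup G) (hE : Group.IsNilpotent E) : ∃ f : G → ℂ, GoodC p N θ (E ⊔ N) f := by
  have hsolE : Group.IsSolvable E := inferInstance
  have hsol : Group.IsSolvable (↥(E ⊔ N) ⧸ N.subgroupOf (E ⊔ N)) :=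
    Cfsg.Agent.Lib.H23.isSolvable_sup_quotient (N := N) E hsolE
  have hNJ : N ≤ E ⊔ N := le_sup_right
  have hsolf : ∀ J : Subgroup G, N ≤ J → ¬ p ∣ N.relIndex J →
      Group.IsSolvable (↥J ⧸ N.subgroupOf J) → ∃ f : G → ℂ, GoodA p N θ J f :=
    fun J hJ hpJ hs => exists_goodA_gen hirr hB hkey hconj (Nat.card J) J rfl hJ hpJ hs
  obtain ⟨f, hf⟩ := hsolf (E ⊔ N) hNJ (not_dvd_relIndex_of_index hidx _ hNJ) hsol
  exact ⟨f, hf.1, fun c hc =>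
    goodA_zpowers_gen hkey hsolf (E ⊔ N) hNJ (not_dvd_relIndex_of_index hidx _ hNJ) f hf c hc⟩

/-- (GOODC)+(GLUE): a `G`-invariant irreducible `θ` of `N` in the principal block extends to `G`, and
the extension is principal on every `N⟨g⟩`; (KEYF') is a hypothesis. -/
theorem exists_extension_of_key [N.Normal] (hirr : Cfsg.IsIrrCharacter N (fun n : N => θ n))
    (hinv : ∀ g : G, ∀ n ∈ N, θ (g * n * g⁻¹) = θ n)
    (hB : sSum p N θ ≠ 0) (hidx : ¬ p ∣ N.index)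
    (hkey : ∀ (J₁ J₂ : Subgroup G), N ≤ J₁ → J₁ ≤ J₂ → ¬ p ∣ N.relIndex J₂ →
      ∀ f₁ f₂ : G → ℂ, GoodA p N θ J₁ f₁ → GoodA p N θ J₂ f₂ → ∀ g ∈ J₁, f₁ g = f₂ g) :
    ∃ χ : G → ℂ, Cfsg.IsIrrCharacter G χ ∧ (∀ n ∈ N, χ n = θ n) ∧
      ∀ g : G, sSum p (N ⊔ Subgroup.zpowers g) χ ≠ 0 := by
  have hconj : ∀ (J : Subgroup G), N ≤ J → ∀ f : G → ℂ, GoodA p N θ J f → ∀ t : G,
      GoodA p N θ (J.map (MulAut.conj t).toMonoidHom) (fun x => f (t⁻¹ * x * t)) := by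
    intro J _ f hf t
    refine ⟨Cfsg.Agent.Lib.H9.NT.isExt_conj hinv J f hf.1 t, ?_⟩
    rw [Cfsg.Agent.Lib.H9.AD.sSum_conj]
    have : (fun g => f (t⁻¹ * (t * g * t⁻¹) * t)) = f := by
      funext g
      congr 1
      group
    rw [this]
    exact hf.2
  obtain ⟨χ, hχ, hχN, hglue⟩ := Cfsg.Agent.Lib.H15.NT.glue N θ hirr (GoodC p N θ)
    (fun H f _ hf => hf.1)
    (fun H f₁ f₂ hNH h₁ h₂ => goodC_unique hirr hidx hkey H hNH f₁ f₂ h₁ h₂)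
    (fun E hE => goodC_exists hirr hB hidx hkey hconj E hE)
    (fun K H f hNK hKH hf => goodC_restrict hirr K H hNK hKH f hf)
    (fun H f t _ hf => goodC_conj hinv H f t hf)
  refine ⟨χ, hχ, hχN, ?_⟩
  intro g
  -- a `GoodC` function on `zpowers g ⊔ N`
  have hnil : Group.IsNilpotent (Subgroup.zpowers g) := by
    have : ∀ a b : Subgroup.zpowers g, a * b = b * a := by
      rintro ⟨a, ha⟩ ⟨b, hb⟩
      obtain ⟨i, rfl⟩ := Subgroup.mem_zpowers_iff.mp ha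
      obtain ⟨j, rfl⟩ := Subgroup.mem_zpowers_iff.mp hb
      apply Subtype.ext
      show g ^ i * g ^ j = g ^ j * g ^ i
      rw [← zpow_add, ← zpow_add, add_comm]
    letI : CommGroup (Subgroup.zpowers g) := { (inferInstance : Group (Subgroup.zpowers g)) with mul_comm := this }
    exact CommGroup.isNilpotent
  obtain ⟨f, hf⟩ := goodC_exists hirr hB hidx hkey hconj (Subgroup.zpowers g) hnil
  have hNH : N ≤ Subgroup.zpowers g ⊔ N := le_sup_right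
  have heq := hglue _ f hNH hf
  have hgm : g ∈ Subgroup.zpowers g ⊔ N := le_sup_left (a := Subgroup.zpowers g) (Subgroup.mem_zpowers g)
  have hle : N ⊔ Subgroup.zpowers g ≤ Subgroup.zpowers g ⊔ N := by rw [sup_comm]
  rw [Cfsg.Agent.Lib.H2.AD.sSum_congr p _ χ f (fun x hx => heq x (hle hx))]
  exact hf.2 g hgm

end Cfsg.Agent.Lib.H14.AP
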