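import Cfsg.Agent.Lib.H14.APGOODC
import Cfsg.Agent.Lib.H28.AP.KEYFA
import Cfsg.Agent.Lib.H28.AP.INV
import Cfsg.Agent.Lib.H6.ADLC4
import Cfsg.Agent.Lib.H4.ADCOSET
import Cfsg.Agent.Lib.H4.ADEND1
import Cfsg.Agent.Lib.H24.CharLinearMul

/-!
# S4551, piece (PART2) (helper14): existence and uniqueness of the principal extension

`N ⊴ G` of index prime to `p`, `Q ≤ N` with `p ∤ |N : Q|`, `G = N C_G(Q)`.  Every irreducible `θ` of `N`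
with nonzero `p`-regular sum (i.e. in the principal block of `N`) is the restriction of exactly one
irreducible `χ` of `G` with nonzero `p`-regular sum (i.e. in the principal block of `G`).
-/

set_option autoImplicit false
open Cfsg.Agent.Lib.H21.AD Cfsg.Agent.Lib.H28.NT

namespace Cfsg.Agent.Lib.H14.AP

variable {G : Type*} [Group G] [Finite G] {p : ℕ} {M : Ideal Cfsg.AlgInt} {N Q : Subgroup G}
  {θ : G → ℂ}

/-- the statement of (KEYF') under the explicit standing hypotheses -/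
theorem key_of_hyps [N.Normal] (hp : p.Prime) (hM : Cfsg.IsPModular p M) (hQN : Q ≤ N)
    (hQ : ¬ p ∣ Q.relIndex N)
    (hcov : ∀ g : G, ∃ n ∈ N, ∃ z ∈ Subgroup.centralizer (Q : Set G), g = n * z)
    (hirr : Cfsg.IsIrrCharacter N (fun n : N => θ n)) :
    ∀ (J₁ J₂ : Subgroup G), N ≤ J₁ → J₁ ≤ J₂ → ¬ p ∣ N.relIndex J₂ →
      ∀ f₁ f₂ : G → ℂ, GoodA p N θ J₁ f₁ → GoodA p N θ J₂ f₂ → ∀ g ∈ J₁, f₁ g = f₂ g :=
  fun J₁ J₂ hN1 h12 hp2 f₁ f₂ h₁ h₂ =>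
    Cfsg.Agent.Lib.H28.AP.keyFA hp hM hQN hQ (fun _ _ _ g _ => hcov g) hirr J₁ J₂ hN1 h12 hp2
      f₁ f₂ h₁ h₂

/-- every `θ` in the principal block of `N` extends to an irreducible character of `G` -/
theorem exists_extension [N.Normal] (hp : p.Prime) (hM : Cfsg.IsPModular p M) (hQN : Q ≤ N)
    (hQ : ¬ p ∣ Q.relIndex N) (hidx : ¬ p ∣ N.index)
    (hcov : ∀ g : G, ∃ n ∈ N, ∃ z ∈ Subgroup.centralizer (Q : Set G), g = n * z)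
    (hirr : Cfsg.IsIrrCharacter N (fun n : N => θ n)) (hB : sSum p N θ ≠ 0) :
    ∃ χ : G → ℂ, Cfsg.IsIrrCharacter G χ ∧ (∀ n ∈ N, χ n = θ n) ∧
      ∀ g : G, sSum p (N ⊔ Subgroup.zpowers g) χ ≠ 0 :=
  exists_extension_of_key hirr
    (Cfsg.Agent.Lib.H28.AP.hinv_of_principal hp hM N Q hQN hQ θ hirr hB hidx hcov) hB hidx
    (key_of_hyps hp hM hQN hQ hcov hirr)

/-- (PART2), existence -/
theorem exists_principal_ext [N.Normal] (hp : p.Prime) (hM : Cfsg.IsPModular p M) (hQN : Q ≤ N)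
    (hQ : ¬ p ∣ Q.relIndex N) (hidx : ¬ p ∣ N.index)
    (hcov : ∀ g : G, ∃ n ∈ N, ∃ z ∈ Subgroup.centralizer (Q : Set G), g = n * z)
    (hirr : Cfsg.IsIrrCharacter N (fun n : N => θ n)) (hB : sSum p N θ ≠ 0) :
    ∃ χ : G → ℂ, Cfsg.IsIrrCharacter G χ ∧ sSum p ⊤ χ ≠ 0 ∧ ∀ n ∈ N, χ n = θ n := by
  obtain ⟨ψ, hψ, hψN, -⟩ := exists_extension hp hM hQN hQ hidx hcov hirr hB
  have hψirrN : Cfsg.IsIrrCharacter N (fun n : N => ψ n) := by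
    have h : (fun n : N => ψ n) = (fun n : N => θ n) := funext (fun n => hψN n n.2)
    rw [h]; exact hirr
  have hθ' : sSum p N ψ ≠ 0 := by
    rw [Cfsg.Agent.Lib.H2.AD.sSum_congr p N ψ θ hψN]
    exact hB
  obtain ⟨lam, hlamN, hlam⟩ :=
    Cfsg.Agent.Lib.H6.AD.exists_lam hM N Q hQN hQ hcov ψ hψ hψirrN hθ'
  set χf : G → ℂ := fun g => ψ g * (lam g : ℂ) with hχf
  have hχirr : Cfsg.IsIrrCharacter G χf := Cfsg.Agent.Lib.H24.isIrrCharacter_mul_hom ψ hψ lam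
  have hχN : ∀ n ∈ N, χf n = θ n := fun n hn => by
    show ψ n * (lam n : ℂ) = _
    rw [hlamN n hn, hψN n hn]; simp
  refine ⟨χf, hχirr, ?_, hχN⟩
  obtain ⟨k, hk, hsum⟩ := Cfsg.Agent.Lib.H4.AD.coset_count p N ⊤ le_top χf
    (fun y _ hyp =>
      Cfsg.Agent.Lib.H4.AD.coset_const hM N Q hQN hQ hcov ψ hψ hψirrN lam hlamN hlam y hyp)
  rw [hsum]
  have h1 : sSum p N χf = sSum p N θ := Cfsg.Agent.Lib.H2.AD.sSum_congr p N χf θ hχN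
  rw [h1]
  exact mul_ne_zero (Nat.cast_ne_zero.2 hk.ne') hB

/-- an irreducible character of `G` as an irreducible character of `↥⊤` -/
theorem isIrr_top (χ : G → ℂ) (hχ : Cfsg.IsIrrCharacter G χ) :
    Cfsg.IsIrrCharacter (⊤ : Subgroup G) (fun y : (⊤ : Subgroup G) => χ y) :=
  Cfsg.Agent.Lib.L0.isIrrCharacter_comp_of_surjective (Subgroup.topEquiv (G := G)).toMonoidHom
    (Subgroup.topEquiv (G := G)).surjective hχ

/-- (PART2), uniqueness -/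
theorem principal_ext_unique [N.Normal] (hp : p.Prime) (hM : Cfsg.IsPModular p M) (hQN : Q ≤ N)
    (hQ : ¬ p ∣ Q.relIndex N) (hidx : ¬ p ∣ N.index)
    (hcov : ∀ g : G, ∃ n ∈ N, ∃ z ∈ Subgroup.centralizer (Q : Set G), g = n * z)
    (hirr : Cfsg.IsIrrCharacter N (fun n : N => θ n))
    (χ₁ χ₂ : G → ℂ) (h₁ : Cfsg.IsIrrCharacter G χ₁) (h₂ : Cfsg.IsIrrCharacter G χ₂)
    (hB₁ : sSum p ⊤ χ₁ ≠ 0) (hB₂ : sSum p ⊤ χ₂ ≠ 0)
    (hN₁ : ∀ n ∈ N, χ₁ n = θ n) (hN₂ : ∀ n ∈ N, χ₂ n = θ n) : χ₁ = χ₂ := by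
  funext g
  exact key_of_hyps hp hM hQN hQ hcov hirr ⊤ ⊤ le_top le_rfl
    (not_dvd_relIndex_of_index hidx ⊤ le_top) χ₁ χ₂
    ⟨⟨isIrr_top χ₁ h₁, hN₁⟩, hB₁⟩ ⟨⟨isIrr_top χ₂ h₂, hN₂⟩, hB₂⟩ g (Subgroup.mem_top g)

end Cfsg.Agent.Lib.H14.AP
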