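import Cfsg.Agent.Lib.H14.Amalgam
set_option autoImplicit false
open Cfsg

namespace Cfsg.Agent.Lib.H14

theorem pCore_le_sylow {G : Type*} [Group G] {p : ℕ} (P : Sylow p G) : Cfsg.pCore p G ≤ P := by
  unfold Cfsg.pCore
  apply sSup_le
  rintro N ⟨hn, hp⟩
  exact @IsPGroup.le_sylow_of_normal _ _ _ N hn hp P

theorem pCore_normal {G : Type*} [Group G] {p : ℕ} : (Cfsg.pCore p G).Normal := by
  unfold Cfsg.pCore
  exact Subgroup.sSup_normal _ (fun H hH => hH.1)

theorem pCore_isPGroup {G : Type*} [Group G] {p : ℕ} : IsPGroup p (Cfsg.pCore p G) := by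
  have P : Sylow p G := Classical.arbitrary _
  exact P.isPGroup'.to_le (pCore_le_sylow P)

/-- If `H ⊓ K` contains a full Sylow `p`-subgroup of the finite `H` then `O_p(H) ≤ K`. -/
theorem pCoreOf_le_of_factorization {X : Type*} [Group X] {p : ℕ} [Fact p.Prime] (H K : Subgroup X)
    [Finite H]
    (hfac : (Nat.card H).factorization p = (Nat.card ↥(H ⊓ K)).factorization p) :
    Cfsg.pCoreOf p H ≤ K := by
  have S : Sylow p ↥(H ⊓ K) := Classical.arbitrary _
  have hfin : Finite ↥(H ⊓ K) := Finite.of_injective (Subgroup.inclusion (inf_le_left : H ⊓ K ≤ H))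
    (Subgroup.inclusion_injective _)
  let S' : Subgroup H := (S : Subgroup ↥(H ⊓ K)).map (Subgroup.inclusion inf_le_left)
  have hcard : Nat.card S' = p ^ (Nat.card H).factorization p := by
    rw [hfac, ← Sylow.card_eq_multiplicity S]
    exact Nat.card_congr ((S : Subgroup ↥(H ⊓ K)).equivMapOfInjective _
      (Subgroup.inclusion_injective _)).symm.toEquiv
  let P : Sylow p H := Sylow.ofCard S' hcard
  have h1 : Cfsg.pCore p H ≤ S' := by
    exact pCore_le_sylow P
  unfold Cfsg.pCoreOf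
  rintro x ⟨y, hy, rfl⟩
  obtain ⟨z, _, hz⟩ := h1 hy
  have : (y : X) = ((z : ↥(H ⊓ K)) : X) := by rw [← hz]; rfl
  simp only [Subgroup.coe_subtype]
  rw [this]
  exact z.2.2

theorem card_map_conj {X : Type*} [Group X] (M : Subgroup X) (x : X) :
    Nat.card ↥(M.map (MulAut.conj x).toMonoidHom) = Nat.card M :=
  (Nat.card_congr (M.equivMapOfInjective _ (MulAut.conj x).injective).toEquiv).symm

theorem vertexQ_le_stab {X : Type*} [Group X] {p : ℕ} [Fact p.Prime] (M₁ M₂ : Subgroup X)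
    [Finite M₁] [Finite M₂]
    (hfac1 : (Nat.card M₁).factorization p = (Nat.card ↥(M₁ ⊓ M₂)).factorization p)
    (hfac2 : (Nat.card M₂).factorization p = (Nat.card ↥(M₁ ⊓ M₂)).factorization p)
    (δ μ : Cfsg.CosetVertex M₁ M₂) (hadj : (Cfsg.cosetGraph M₁ M₂).Adj δ μ) :
    Cfsg.vertexQ p δ ≤ MulAction.stabilizer X μ := by
  rw [cg_adj_iff] at hadj
  rcases hadj with ⟨x, rfl, rfl⟩ | ⟨x, rfl, rfl⟩
  · have hfin : Finite ↥(MulAction.stabilizer X (Sum.inl (x : X ⧸ M₁) : Cfsg.CosetVertex M₁ M₂)) := by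
      rw [cg_stab_inl_mk]
      exact Finite.of_equiv _ (M₁.equivMapOfInjective _ (MulAut.conj x).injective).toEquiv
    apply pCoreOf_le_of_factorization
    have := cg_edgeStab M₁ M₂ x
    unfold Cfsg.edgeStabilizer at this
    rw [this, card_map_conj, cg_stab_inl_mk, card_map_conj]
    exact hfac1
  · have hfin : Finite ↥(MulAction.stabilizer X (Sum.inr (x : X ⧸ M₂) : Cfsg.CosetVertex M₁ M₂)) := by
      rw [cg_stab_inr_mk]
      exact Finite.of_equiv _ (M₂.equivMapOfInjective _ (MulAut.conj x).injective).toEquiv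
    apply pCoreOf_le_of_factorization
    have := cg_edgeStab M₁ M₂ x
    unfold Cfsg.edgeStabilizer at this
    rw [inf_comm, this, card_map_conj, cg_stab_inr_mk, card_map_conj]
    exact hfac2

theorem charP_fac {X : Type*} [Group X] {p : ℕ} [Fact p.Prime] (M₁ M₂ : Subgroup X)
    (h : Cfsg.IsCharPAmalgamPair p M₁ M₂) :
    (Nat.card M₁).factorization p = (Nat.card ↥(M₁ ⊓ M₂)).factorization p ∧
    (Nat.card M₂).factorization p = (Nat.card ↥(M₁ ⊓ M₂)).factorization p := by
  obtain ⟨_, hf1, hf2, _, _, hS, _, _⟩ := h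
  have hfin : Finite ↥(M₁ ⊓ M₂) := Finite.of_injective (Subgroup.inclusion (inf_le_left : M₁ ⊓ M₂ ≤ M₁))
    (Subgroup.inclusion_injective _)
  have S : Sylow p ↥(M₁ ⊓ M₂) := Classical.arbitrary _
  have P₁ : Sylow p M₁ := Classical.arbitrary _
  have P₂ : Sylow p M₂ := Classical.arbitrary _
  obtain ⟨e1, e2⟩ := hS S P₁ P₂
  rw [Sylow.card_eq_multiplicity, Sylow.card_eq_multiplicity] at e1 e2
  have hp : 1 < p := (Fact.out : p.Prime).one_lt
  exact ⟨(Nat.pow_right_injective hp e1).symm, (Nat.pow_right_injective hp e2).symm⟩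

end Cfsg.Agent.Lib.H14
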