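import Cfsg.Agent.Lib.H14.Amalgam2
set_option autoImplicit false
open Cfsg

namespace Cfsg.Agent.Lib.H14

open scoped Pointwise

theorem omegaOne_le {G : Type*} [Group G] (p : ℕ) (H : Subgroup G) : Cfsg.omegaOne p H ≤ H := by
  unfold Cfsg.omegaOne
  rw [Subgroup.closure_le]
  intro x hx
  exact hx.1

theorem sylowCenterClosure_le {X : Type*} [Group X] (p : ℕ) (H : Subgroup X) :
    Cfsg.sylowCenterClosure p H ≤ H := by
  unfold Cfsg.sylowCenterClosure
  refine iSup_le fun S => ?_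
  refine (omegaOne_le p _).trans ?_
  exact inf_le_left.trans (Subgroup.map_subtype_le _)

theorem sylowCenterClosure_conj_mem {X : Type*} [Group X] (p : ℕ) (H : Subgroup X) (g : X) (hg : g ∈ H)
    (z : X) (hz : z ∈ Cfsg.sylowCenterClosure p H) : g * z * g⁻¹ ∈ Cfsg.sylowCenterClosure p H := by
  have key : Cfsg.sylowCenterClosure p H ≤
      (Cfsg.sylowCenterClosure p H).comap (MulAut.conj g).toMonoidHom := by
    conv_lhs => unfold Cfsg.sylowCenterClosure
    refine iSup_le fun S => ?_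
    unfold Cfsg.omegaOne
    rw [Subgroup.closure_le]
    rintro x ⟨⟨hxS, hxC⟩, hxp⟩
    replace hxS : x ∈ Subgroup.map H.subtype (S : Subgroup H) := hxS
    replace hxC : x ∈ Subgroup.centralizer ((Subgroup.map H.subtype (S : Subgroup H) : Subgroup X) : Set X) := hxC
    show (MulAut.conj g) x ∈ Cfsg.sylowCenterClosure p H
    rw [MulAut.conj_apply]
    let g' : H := ⟨g, hg⟩
    have hmem : g * x * g⁻¹ ∈ Cfsg.omegaOne p ((((g' • S : Sylow p H) : Subgroup H).map H.subtype) ⊓
        Subgroup.centralizer ((((g' • S : Sylow p H) : Subgroup H).map H.subtype : Subgroup X) : Set X)) := by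
      apply Subgroup.subset_closure
      refine ⟨⟨?_, ?_⟩, ?_⟩
      · show g * x * g⁻¹ ∈ Subgroup.map H.subtype ((g' • S : Sylow p H) : Subgroup H)
        obtain ⟨y, hy, rfl⟩ := hxS
        refine ⟨g' * y * g'⁻¹, ?_, rfl⟩
        rw [Sylow.coe_subgroup_smul]
        exact ⟨y, hy, by simp [MulAut.conj_apply]⟩
      · show g * x * g⁻¹ ∈ Subgroup.centralizer
          ((Subgroup.map H.subtype ((g' • S : Sylow p H) : Subgroup H) : Subgroup X) : Set X)
        rw [Subgroup.mem_centralizer_iff]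
        rintro w ⟨w', hw', rfl⟩
        rw [SetLike.mem_coe, Sylow.coe_subgroup_smul] at hw'
        obtain ⟨v, hv, rfl⟩ := hw'
        have hvx : (v : X) * x = x * (v : X) := by
          rw [Subgroup.mem_centralizer_iff] at hxC
          exact hxC (v : X) ⟨v, hv, rfl⟩
        simp only [MulDistribMulAction.toMonoidEnd_apply, MulDistribMulAction.toMonoidHom_apply,
          MulAut.smul_def, MulAut.conj_apply, Subgroup.coe_subtype, Subgroup.coe_mul,
          InvMemClass.coe_inv, g']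
        calc g * ↑v * g⁻¹ * (g * x * g⁻¹) = g * (↑v * x) * g⁻¹ := by group
          _ = g * (x * ↑v) * g⁻¹ := by rw [hvx]
          _ = g * x * g⁻¹ * (g * ↑v * g⁻¹) := by group
      · rw [conj_pow, hxp]; simp
    exact (le_iSup (fun S : Sylow p H => Cfsg.omegaOne p ((((S : Sylow p H) : Subgroup H).map H.subtype) ⊓
        Subgroup.centralizer ((((S : Sylow p H) : Subgroup H).map H.subtype : Subgroup X) : Set X)))
        (g' • S)) hmem
  have := key hz
  simpa [MulAut.conj_apply] using this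

theorem commutator_le_of_normalizes {X : Type*} [Group X] (A B H : Subgroup X)
    (hB : B ≤ H) (hA : ∀ g ∈ H, ∀ z ∈ A, g * z * g⁻¹ ∈ A) : ⁅A, B⁆ ≤ A := by
  rw [Subgroup.commutator_le]
  intro a ha b hb
  rw [commutatorElement_def]
  have : a * b * a⁻¹ * b⁻¹ = a * (b * a⁻¹ * b⁻¹) := by group
  rw [this]
  exact A.mul_mem ha (hA b (hB hb) a⁻¹ (A.inv_mem ha))

theorem commutator_le_of_normalizes' {X : Type*} [Group X] (A B H : Subgroup X)
    (hA : A ≤ H) (hB : ∀ g ∈ H, ∀ z ∈ B, g * z * g⁻¹ ∈ B) : ⁅A, B⁆ ≤ B := by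
  rw [Subgroup.commutator_comm]
  exact commutator_le_of_normalizes B A H hA hB

variable {X : Type*} [Group X] (M₁ M₂ : Subgroup X)

theorem neighbourKernel_le_stab_of_adj (μ ν : Cfsg.CosetVertex M₁ M₂)
    (h : (Cfsg.cosetGraph M₁ M₂).Adj μ ν) : Cfsg.neighbourKernel μ ≤ MulAction.stabilizer X ν := by
  unfold Cfsg.neighbourKernel
  refine inf_le_right.trans ?_
  exact iInf₂_le ν h

theorem neighbourKernel_le_stab (μ : Cfsg.CosetVertex M₁ M₂) :
    Cfsg.neighbourKernel μ ≤ MulAction.stabilizer X μ := by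
  unfold Cfsg.neighbourKernel
  exact inf_le_left

theorem vertexZ_le_of_dist_lt (p : ℕ) (δ μ : Cfsg.CosetVertex M₁ M₂)
    (h : (Cfsg.cosetGraph M₁ M₂).dist δ μ < Cfsg.criticalDistance p M₁ M₂) :
    Cfsg.vertexZ p δ ≤ Cfsg.neighbourKernel μ := by
  by_contra hcon
  have : Cfsg.criticalDistance p M₁ M₂ ≤ (Cfsg.cosetGraph M₁ M₂).dist δ μ := by
    unfold Cfsg.criticalDistance
    exact Nat.sInf_le ⟨δ, μ, rfl, hcon⟩
  omega

end Cfsg.Agent.Lib.H14
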