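import Cfsg.Agent.Lib.H14.Amalgam3
set_option autoImplicit false
open Cfsg

namespace Cfsg.Agent.Lib.H14

open scoped Pointwise

/-- `Ω₁(Z(T))` as written in the statements. -/
abbrev oz {X : Type*} [Group X] (p : ℕ) (T : Subgroup X) : Subgroup X :=
  Cfsg.omegaOne p (T ⊓ Subgroup.centralizer (T : Set X))

theorem oz_le {X : Type*} [Group X] (p : ℕ) (T : Subgroup X) : oz p T ≤ T :=
  (omegaOne_le p _).trans inf_le_left

theorem oz_conj_mem {X : Type*} [Group X] (p : ℕ) (T : Subgroup X) (g x : X) (hx : x ∈ oz p T) :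
    g * x * g⁻¹ ∈ oz p (T.map (MulAut.conj g).toMonoidHom) := by
  have key : oz p T ≤ (oz p (T.map (MulAut.conj g).toMonoidHom)).comap (MulAut.conj g).toMonoidHom := by
    unfold oz Cfsg.omegaOne
    rw [Subgroup.closure_le]
    rintro y ⟨⟨hyT, hyC⟩, hyp⟩
    replace hyT : y ∈ T := hyT
    replace hyC : y ∈ Subgroup.centralizer (T : Set X) := hyC
    show (MulAut.conj g) y ∈ Subgroup.closure {x : X | x ∈ (T.map (MulAut.conj g).toMonoidHom) ⊓
      Subgroup.centralizer ((T.map (MulAut.conj g).toMonoidHom : Subgroup X) : Set X) ∧ x ^ p = 1}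
    apply Subgroup.subset_closure
    refine ⟨⟨?_, ?_⟩, ?_⟩
    · exact ⟨y, hyT, rfl⟩
    · show (MulAut.conj g) y ∈ Subgroup.centralizer ((T.map (MulAut.conj g).toMonoidHom : Subgroup X) : Set X)
      rw [Subgroup.mem_centralizer_iff]
      rintro w ⟨v, hv, rfl⟩
      have hvy : v * y = y * v := by
        rw [Subgroup.mem_centralizer_iff] at hyC
        exact hyC v hv
      show (MulAut.conj g) v * (MulAut.conj g) y = (MulAut.conj g) y * (MulAut.conj g) v
      rw [← map_mul, ← map_mul, hvy]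
    · show ((MulAut.conj g) y) ^ p = 1
      rw [← map_pow, hyp, map_one]
  have := key hx
  simpa [MulAut.conj_apply] using this

theorem map_conj_conj_inv {X : Type*} [Group X] (T : Subgroup X) (g : X) :
    (T.map (MulAut.conj g).toMonoidHom).map (MulAut.conj g⁻¹).toMonoidHom = T := by
  rw [Subgroup.map_map]
  have : (MulAut.conj g⁻¹).toMonoidHom.comp (MulAut.conj g).toMonoidHom = MonoidHom.id X := by
    ext x; simp [MulAut.conj_apply, mul_assoc]
  rw [this, Subgroup.map_id]

theorem oz_map_conj {X : Type*} [Group X] (p : ℕ) (T : Subgroup X) (g : X) :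
    oz p (T.map (MulAut.conj g).toMonoidHom) = (oz p T).map (MulAut.conj g).toMonoidHom := by
  apply le_antisymm
  · intro x hx
    have := oz_conj_mem p _ g⁻¹ x hx
    rw [map_conj_conj_inv] at this
    refine ⟨g⁻¹ * x * g⁻¹⁻¹, this, ?_⟩
    simp [MulAut.conj_apply, mul_assoc]
  · rintro _ ⟨x, hx, rfl⟩
    have := oz_conj_mem p T g x hx
    simpa [MulAut.conj_apply] using this

theorem sylow_smul_map_subtype {X : Type*} [Group X] {p : ℕ} (H : Subgroup X) (S : Sylow p H) (g : H) :
    ((g • S : Sylow p H) : Subgroup H).map H.subtype =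
      ((S : Subgroup H).map H.subtype).map (MulAut.conj (g : X)).toMonoidHom := by
  rw [Sylow.coe_subgroup_smul]
  ext x
  constructor
  · rintro ⟨y, ⟨z, hz, rfl⟩, rfl⟩
    exact ⟨z, ⟨z, hz, rfl⟩, by simp [MulAut.conj_apply]⟩
  · rintro ⟨_, ⟨z, hz, rfl⟩, rfl⟩
    exact ⟨g * z * g⁻¹, ⟨z, hz, by simp [MulAut.conj_apply]⟩, by simp [MulAut.conj_apply]⟩

theorem sylowCenterClosure_map_conj {X : Type*} [Group X] (p : ℕ) (H : Subgroup X) (g : X) (hg : g ∈ H) :
    (Cfsg.sylowCenterClosure p H).map (MulAut.conj g).toMonoidHom = Cfsg.sylowCenterClosure p H := by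
  apply le_antisymm
  · rintro _ ⟨x, hx, rfl⟩
    have := sylowCenterClosure_conj_mem p H g hg x hx
    simpa [MulAut.conj_apply] using this
  · intro x hx
    refine ⟨g⁻¹ * x * g⁻¹⁻¹, sylowCenterClosure_conj_mem p H g⁻¹ (H.inv_mem hg) x hx, ?_⟩
    simp [MulAut.conj_apply, mul_assoc]

/-- If `Z_H = Ω₁(Z(S))` for one Sylow `p`-subgroup `S` of the finite `H`, the same holds for all. -/
theorem sylowCenterClosure_eq_oz_all {X : Type*} [Group X] {p : ℕ} [Fact p.Prime] (H : Subgroup X)
    [Finite H] (S S' : Sylow p H)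
    (h : Cfsg.sylowCenterClosure p H = oz p ((S : Subgroup H).map H.subtype)) :
    Cfsg.sylowCenterClosure p H = oz p ((S' : Subgroup H).map H.subtype) := by
  obtain ⟨g, hg⟩ := MulAction.exists_smul_eq H S S'
  rw [← hg, sylow_smul_map_subtype, oz_map_conj, ← h, sylowCenterClosure_map_conj p H g g.2]

theorem oz_le_sylowCenterClosure {X : Type*} [Group X] (p : ℕ) (H : Subgroup X) (S : Sylow p H) :
    oz p ((S : Subgroup H).map H.subtype) ≤ Cfsg.sylowCenterClosure p H := by
  unfold Cfsg.sylowCenterClosure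
  exact le_iSup (fun S : Sylow p H => Cfsg.omegaOne p (((S : Subgroup H).map H.subtype) ⊓
      Subgroup.centralizer (((S : Subgroup H).map H.subtype : Subgroup X) : Set X))) S

/-- If `H ⊓ K` has full `p`-part of the finite `H`, some Sylow `p`-subgroup of `H` lies in `K`. -/
theorem exists_sylow_le_of_factorization {X : Type*} [Group X] {p : ℕ} [Fact p.Prime] (H K : Subgroup X)
    [Finite H]
    (hfac : (Nat.card H).factorization p = (Nat.card ↥(H ⊓ K)).factorization p) :
    ∃ P : Sylow p H, (P : Subgroup H).map H.subtype ≤ K := by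
  have S : Sylow p ↥(H ⊓ K) := Classical.arbitrary _
  have hfin : Finite ↥(H ⊓ K) := Finite.of_injective (Subgroup.inclusion (inf_le_left : H ⊓ K ≤ H))
    (Subgroup.inclusion_injective _)
  let S' : Subgroup H := (S : Subgroup ↥(H ⊓ K)).map (Subgroup.inclusion inf_le_left)
  have hcard : Nat.card S' = p ^ (Nat.card H).factorization p := by
    rw [hfac, ← Sylow.card_eq_multiplicity S]
    exact Nat.card_congr ((S : Subgroup ↥(H ⊓ K)).equivMapOfInjective _
      (Subgroup.inclusion_injective _)).symm.toEquiv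
  refine ⟨Sylow.ofCard S' hcard, ?_⟩
  rw [Sylow.coe_ofCard]
  rintro x ⟨y, ⟨z, _, rfl⟩, rfl⟩
  exact z.2.2

/-- A Sylow `p`-subgroup of the finite `H` that lies in the finite `K` of equal `p`-part is a Sylow
`p`-subgroup of `K`. -/
theorem exists_sylow_eq_of_le {X : Type*} [Group X] {p : ℕ} [Fact p.Prime] (H K : Subgroup X)
    [Finite H] [Finite K]
    (hfac : (Nat.card H).factorization p = (Nat.card K).factorization p)
    (P : Sylow p H) (hPK : (P : Subgroup H).map H.subtype ≤ K) :
    ∃ Q : Sylow p K, (Q : Subgroup K).map K.subtype = (P : Subgroup H).map H.subtype := by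
  let T : Subgroup X := (P : Subgroup H).map H.subtype
  let Q' : Subgroup K := T.subgroupOf K
  have hcard : Nat.card Q' = p ^ (Nat.card K).factorization p := by
    rw [← hfac, ← Sylow.card_eq_multiplicity P]
    have e1 : Nat.card Q' = Nat.card T := Nat.card_congr (Subgroup.subgroupOfEquivOfLe hPK).toEquiv
    rw [e1]
    exact (Nat.card_congr ((P : Subgroup H).equivMapOfInjective _ H.subtype_injective).toEquiv).symm
  refine ⟨Sylow.ofCard Q' hcard, ?_⟩
  rw [Sylow.coe_ofCard]
  show (T.subgroupOf K).map K.subtype = T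
  rw [Subgroup.map_subgroupOf_eq_of_le hPK]

variable {X : Type*} [Group X] (M₁ M₂ : Subgroup X)

theorem stab_finite [Finite M₁] [Finite M₂] (δ : Cfsg.CosetVertex M₁ M₂) :
    Finite ↥(MulAction.stabilizer X δ) := by
  rcases δ with a | b
  · induction a using QuotientGroup.induction_on with
    | H x =>
      rw [cg_stab_inl_mk]
      exact Finite.of_equiv _ (M₁.equivMapOfInjective _ (MulAut.conj x).injective).toEquiv
  · induction b using QuotientGroup.induction_on with
    | H x =>
      rw [cg_stab_inr_mk]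
      exact Finite.of_equiv _ (M₂.equivMapOfInjective _ (MulAut.conj x).injective).toEquiv

/-- `p`-parts along an edge. -/
theorem adj_fac {p : ℕ} [Fact p.Prime]
    (hfac1 : (Nat.card M₁).factorization p = (Nat.card ↥(M₁ ⊓ M₂)).factorization p)
    (hfac2 : (Nat.card M₂).factorization p = (Nat.card ↥(M₁ ⊓ M₂)).factorization p)
    (δ μ : Cfsg.CosetVertex M₁ M₂) (hadj : (Cfsg.cosetGraph M₁ M₂).Adj δ μ) :
    (Nat.card ↥(MulAction.stabilizer X δ)).factorization p =
      (Nat.card ↥(MulAction.stabilizer X δ ⊓ MulAction.stabilizer X μ)).factorization p ∧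
    (Nat.card ↥(MulAction.stabilizer X μ)).factorization p =
      (Nat.card ↥(MulAction.stabilizer X δ ⊓ MulAction.stabilizer X μ)).factorization p := by
  rw [cg_adj_iff] at hadj
  rcases hadj with ⟨x, rfl, rfl⟩ | ⟨x, rfl, rfl⟩
  · have := cg_edgeStab M₁ M₂ x
    unfold Cfsg.edgeStabilizer at this
    rw [this, card_map_conj, cg_stab_inl_mk, card_map_conj, cg_stab_inr_mk, card_map_conj]
    exact ⟨hfac1, hfac2⟩
  · have := cg_edgeStab M₁ M₂ x
    unfold Cfsg.edgeStabilizer at this
    rw [inf_comm, this, card_map_conj, cg_stab_inl_mk, card_map_conj, cg_stab_inr_mk, card_map_conj]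
    exact ⟨hfac2, hfac1⟩

end Cfsg.Agent.Lib.H14
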