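import Cfsg.Agent.Lib.H14.Amalgam5
set_option autoImplicit false
open Cfsg

namespace Cfsg.Agent.Lib.H14

open scoped Pointwise

/-- Frattini argument, elementwise: if `N` contains every Sylow `p`-subgroup of the finite `G`, every `g`
is `a * n` with `a ∈ N` and `n` normalizing a given Sylow subgroup. -/
theorem frattini_elt {G : Type*} [Group G] [Finite G] {p : ℕ} [Fact p.Prime] (N : Subgroup G)
    (hN : ∀ Q : Sylow p G, (Q : Subgroup G) ≤ N) (P : Sylow p G) (g : G) :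
    ∃ a ∈ N, a⁻¹ * g ∈ Subgroup.normalizer (P : Set G) := by
  have h1 := hN P
  have h2 := hN (g • P)
  obtain ⟨a, ha⟩ := MulAction.exists_smul_eq N (P.subtype h1) ((g • P).subtype h2)
  rw [Sylow.smul_subtype] at ha
  have ha' : (a : G) • P = g • P := Sylow.subtype_injective ha
  refine ⟨a, a.2, ?_⟩
  rw [← Sylow.smul_eq_iff_mem_normalizer, mul_smul, ← ha', inv_smul_smul]

theorem mem_map_conj_iff {X : Type*} [Group X] (K : Subgroup X) (x n : X) :
    n ∈ K.map (MulAut.conj x).toMonoidHom ↔ x⁻¹ * n * x ∈ K := by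
  constructor
  · rintro ⟨k, hk, rfl⟩
    simpa [MulAut.conj_apply, mul_assoc] using hk
  · intro h
    exact ⟨x⁻¹ * n * x, h, by simp [MulAut.conj_apply, mul_assoc]⟩

theorem normalizer_map_conj {X : Type*} [Group X] (K : Subgroup X) (g : X) :
    Subgroup.normalizer ((K.map (MulAut.conj g).toMonoidHom : Subgroup X) : Set X) =
      (Subgroup.normalizer (K : Set X)).map (MulAut.conj g).toMonoidHom := by
  ext n
  rw [mem_map_conj_iff, Subgroup.mem_normalizer_iff, Subgroup.mem_normalizer_iff]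
  constructor
  · intro h k
    have := h (g * k * g⁻¹)
    rw [mem_map_conj_iff, mem_map_conj_iff] at this
    have e1 : g⁻¹ * (g * k * g⁻¹) * g = k := by group
    have e2 : g⁻¹ * (n * (g * k * g⁻¹) * n⁻¹) * g = g⁻¹ * n * g * k * (g⁻¹ * n * g)⁻¹ := by group
    rw [e1, e2] at this
    exact this
  · intro h k
    rw [mem_map_conj_iff, mem_map_conj_iff]
    have := h (g⁻¹ * k * g)
    have e2 : g⁻¹ * n * g * (g⁻¹ * k * g) * (g⁻¹ * n * g)⁻¹ = g⁻¹ * (n * k * n⁻¹) * g := by group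
    rw [e2] at this
    exact this

/-- hypothesis (2) of `IsSpeAmalgamPair`, in a form free of Sylow structures. -/
theorem spe_norm_base {X : Type*} [Group X] {p : ℕ} [Fact p.Prime] (M₁ M₂ : Subgroup X)
    [Finite M₁] [Finite M₂]
    (h2 : ∀ S : Sylow p ↥(M₁ ⊓ M₂),
      M₁ ⊓ Subgroup.normalizer (((S : Subgroup ↥(M₁ ⊓ M₂)).map (M₁ ⊓ M₂).subtype : Subgroup X) : Set X) =
        M₂ ⊓ Subgroup.normalizer (((S : Subgroup ↥(M₁ ⊓ M₂)).map (M₁ ⊓ M₂).subtype : Subgroup X) : Set X) ∧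
      M₁ ⊓ Subgroup.normalizer (((S : Subgroup ↥(M₁ ⊓ M₂)).map (M₁ ⊓ M₂).subtype : Subgroup X) : Set X) ≤
        M₁ ⊓ M₂)
    (R : Subgroup X) (hR : R ≤ M₁ ⊓ M₂)
    (hcard : Nat.card R = p ^ (Nat.card ↥(M₁ ⊓ M₂)).factorization p) :
    M₁ ⊓ Subgroup.normalizer (R : Set X) ≤ M₁ ⊓ M₂ ∧ M₂ ⊓ Subgroup.normalizer (R : Set X) ≤ M₁ ⊓ M₂ := by
  have hfin : Finite ↥(M₁ ⊓ M₂) := Finite.of_injective (Subgroup.inclusion (inf_le_left : M₁ ⊓ M₂ ≤ M₁))
    (Subgroup.inclusion_injective _)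
  have hc : Nat.card (R.subgroupOf (M₁ ⊓ M₂)) = p ^ (Nat.card ↥(M₁ ⊓ M₂)).factorization p := by
    rw [← hcard]
    exact Nat.card_congr (Subgroup.subgroupOfEquivOfLe hR).toEquiv
  obtain ⟨e1, e2⟩ := h2 (Sylow.ofCard _ hc)
  rw [Sylow.coe_ofCard, Subgroup.map_subgroupOf_eq_of_le hR] at e1 e2
  exact ⟨e2, e1 ▸ e2⟩

theorem spe_norm_X {X : Type*} [Group X] {p : ℕ} [Fact p.Prime] (M₁ M₂ : Subgroup X)
    (h : Cfsg.IsSpeAmalgamPair p M₁ M₂)
    (δ ν : Cfsg.CosetVertex M₁ M₂) (hadj : (Cfsg.cosetGraph M₁ M₂).Adj δ ν)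
    (R : Subgroup X) (hR : R ≤ MulAction.stabilizer X δ ⊓ MulAction.stabilizer X ν)
    (hcard : Nat.card R = p ^ (Nat.card ↥(MulAction.stabilizer X δ)).factorization p)
    (n : X) (hn : n ∈ MulAction.stabilizer X δ) (hnR : n ∈ Subgroup.normalizer (R : Set X)) :
    n ∈ MulAction.stabilizer X ν := by
  obtain ⟨hf1, hf2⟩ := charP_fac M₁ M₂ h.1
  have hfin1 : Finite M₁ := h.1.2.1
  have hfin2 : Finite M₂ := h.1.2.2.1
  have h2 := h.2.1
  rw [cg_adj_iff] at hadj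
  -- conjugate back by x
  have key : ∀ x : X, R ≤ (M₁ ⊓ M₂).map (MulAut.conj x).toMonoidHom →
      Nat.card R = p ^ (Nat.card ↥(M₁ ⊓ M₂)).factorization p →
      ((M₁.map (MulAut.conj x).toMonoidHom) ⊓ Subgroup.normalizer (R : Set X) ≤
        (M₁ ⊓ M₂).map (MulAut.conj x).toMonoidHom) ∧
      ((M₂.map (MulAut.conj x).toMonoidHom) ⊓ Subgroup.normalizer (R : Set X) ≤
        (M₁ ⊓ M₂).map (MulAut.conj x).toMonoidHom) := by
    intro x hRx hc
    set R' := R.map (MulAut.conj x⁻¹).toMonoidHom with hR'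
    have hR'le : R' ≤ M₁ ⊓ M₂ := by
      have := Subgroup.map_mono (f := (MulAut.conj x⁻¹).toMonoidHom) hRx
      rwa [map_conj_conj_inv] at this
    have hc' : Nat.card R' = p ^ (Nat.card ↥(M₁ ⊓ M₂)).factorization p := by
      rw [hR', card_map_conj]; exact hc
    obtain ⟨b1, b2⟩ := spe_norm_base M₁ M₂ h2 R' hR'le hc'
    have hRR' : R = R'.map (MulAut.conj x).toMonoidHom := by
      have := map_conj_conj_inv R x⁻¹
      rw [inv_inv] at this
      exact this.symm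
    rw [hRR', normalizer_map_conj, ← Subgroup.map_inf_eq _ _ _ (MulAut.conj x).injective,
      ← Subgroup.map_inf_eq _ _ _ (MulAut.conj x).injective]
    exact ⟨Subgroup.map_mono b1, Subgroup.map_mono b2⟩
  rcases hadj with ⟨x, rfl, rfl⟩ | ⟨x, rfl, rfl⟩
  · have hE := cg_edgeStab M₁ M₂ x
    unfold Cfsg.edgeStabilizer at hE
    rw [hE] at hR
    rw [cg_stab_inl_mk, card_map_conj, hf1] at hcard
    rw [cg_stab_inl_mk] at hn
    obtain ⟨k1, _⟩ := key x hR hcard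
    have := k1 ⟨hn, hnR⟩
    rw [← hE] at this
    exact this.2
  · have hE := cg_edgeStab M₁ M₂ x
    unfold Cfsg.edgeStabilizer at hE
    rw [inf_comm, hE] at hR
    rw [cg_stab_inr_mk, card_map_conj, hf2] at hcard
    rw [cg_stab_inr_mk] at hn
    obtain ⟨_, k2⟩ := key x hR hcard
    have := k2 ⟨hn, hnR⟩
    rw [← hE] at this
    exact this.1

/-- Under the standing hypothesis, `O^{p'}(G_δ)` is transitive on the neighbours of `δ`. -/
theorem spe_pElementClosure_trans {X : Type*} [Group X] {p : ℕ} [Fact p.Prime] (M₁ M₂ : Subgroup X)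
    (h : Cfsg.IsSpeAmalgamPair p M₁ M₂)
    (δ ν ν' : Cfsg.CosetVertex M₁ M₂) (hν : (Cfsg.cosetGraph M₁ M₂).Adj δ ν)
    (hν' : (Cfsg.cosetGraph M₁ M₂).Adj δ ν') :
    ∃ a ∈ Cfsg.pElementClosure p (MulAction.stabilizer X δ), a • ν = ν' := by
  obtain ⟨hf1, hf2⟩ := charP_fac M₁ M₂ h.1
  have hfin1 : Finite M₁ := h.1.2.1
  have hfin2 : Finite M₂ := h.1.2.2.1
  have hfinδ := stab_finite M₁ M₂ δ
  obtain ⟨e1, _⟩ := adj_fac M₁ M₂ hf1 hf2 δ ν hν
  obtain ⟨g, hg, hgν⟩ := cg_nbr_trans M₁ M₂ δ ν ν' hν hν'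
  set Gδ := MulAction.stabilizer X δ with hGδ
  obtain ⟨P, hP⟩ := exists_sylow_le_of_factorization Gδ (MulAction.stabilizer X ν) e1
  let N : Subgroup Gδ := (Cfsg.pElementClosure p Gδ).subgroupOf Gδ
  have hN : ∀ Q : Sylow p Gδ, (Q : Subgroup Gδ) ≤ N := by
    intro Q y hy
    rw [Subgroup.mem_subgroupOf]
    exact pgroup_le_pElementClosure p Gδ ((Q : Subgroup Gδ).map Gδ.subtype) (Subgroup.map_subtype_le _)
      (Q.isPGroup'.map _) ⟨y, hy, rfl⟩
  obtain ⟨a, ha, han⟩ := frattini_elt N hN P ⟨g, hg⟩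
  refine ⟨(a : X), ha, ?_⟩
  -- the element a⁻¹ g normalizes R = P.map subtype and so fixes ν
  set R : Subgroup X := (P : Subgroup Gδ).map Gδ.subtype with hRdef
  have hRle : R ≤ Gδ ⊓ MulAction.stabilizer X ν := le_inf (Subgroup.map_subtype_le _) hP
  have hRcard : Nat.card R = p ^ (Nat.card ↥Gδ).factorization p := by
    rw [← Sylow.card_eq_multiplicity P]
    exact (Nat.card_congr ((P : Subgroup Gδ).equivMapOfInjective _ Gδ.subtype_injective).toEquiv).symm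
  have hnX : ((a⁻¹ * ⟨g, hg⟩ : Gδ) : X) ∈ Subgroup.normalizer (R : Set X) := by
    rw [Subgroup.mem_normalizer_iff]
    have han' := Subgroup.mem_normalizer_iff.mp han
    intro y
    constructor
    · rintro ⟨y', hy', rfl⟩
      exact ⟨_, (han' y').mp hy', rfl⟩
    · rintro ⟨z, hz, hzy⟩
      set n : Gδ := a⁻¹ * ⟨g, hg⟩ with hn
      have hy : y ∈ Gδ := by
        have : y = (n : X)⁻¹ * (z : X) * (n : X) := by
          rw [show (Gδ.subtype z : X) = (z : X) from rfl] at hzy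
          rw [hzy]; group
        rw [this]
        exact Gδ.mul_mem (Gδ.mul_mem (Gδ.inv_mem n.2) z.2) n.2
      refine ⟨⟨y, hy⟩, (han' ⟨y, hy⟩).mpr ?_, rfl⟩
      have : n * ⟨y, hy⟩ * n⁻¹ = z := Subtype.ext hzy.symm
      rw [this]; exact hz
  have hfix := spe_norm_X M₁ M₂ h δ ν hν R hRle hRcard _ (a⁻¹ * ⟨g, hg⟩ : Gδ).2 hnX
  rw [MulAction.mem_stabilizer_iff] at hfix
  have : (a : X) • ν = g • ν := by
    have e : g = (a : X) * ((a⁻¹ * ⟨g, hg⟩ : Gδ) : X) := by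
      simp only [Subgroup.coe_mul, InvMemClass.coe_inv]; group
    conv_rhs => rw [e, mul_smul, hfix]
  rw [this, hgν]

end Cfsg.Agent.Lib.H14
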