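import Cfsg.Agent.Lib.H14.Amalgam6
import Cfsg.Agent.Lib.H14.WeaklyClosed

/-! Equivariance of the coset-graph data: distances, `Z_δ`, `V_δ^{(n)}`. -/

set_option autoImplicit false
open Cfsg

namespace Cfsg.Agent.Lib.H14

variable {X : Type*} [Group X] (M₁ M₂ : Subgroup X)

/-- translation by `g` as a graph homomorphism of the coset graph. -/
def cgHom (g : X) : (Cfsg.cosetGraph M₁ M₂) →g (Cfsg.cosetGraph M₁ M₂) where
  toFun v := g • v
  map_rel' := fun {a b} h => cg_adj_smul M₁ M₂ g a b h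

theorem cg_dist_smul_le (g : X) (a b : Cfsg.CosetVertex M₁ M₂)
    (hr : (Cfsg.cosetGraph M₁ M₂).Reachable a b) :
    (Cfsg.cosetGraph M₁ M₂).dist (g • a) (g • b) ≤ (Cfsg.cosetGraph M₁ M₂).dist a b := by
  obtain ⟨w, hw⟩ := hr.exists_walk_length_eq_dist
  have := SimpleGraph.dist_le (w.map (cgHom M₁ M₂ g))
  rw [SimpleGraph.Walk.length_map, hw] at this
  exact this

theorem cg_dist_smul (hgen : M₁ ⊔ M₂ = ⊤) (g : X) (a b : Cfsg.CosetVertex M₁ M₂) :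
    (Cfsg.cosetGraph M₁ M₂).dist (g • a) (g • b) = (Cfsg.cosetGraph M₁ M₂).dist a b := by
  have hconn := cg_connected M₁ M₂ hgen
  apply le_antisymm (cg_dist_smul_le M₁ M₂ g a b (hconn.preconnected a b))
  have := cg_dist_smul_le M₁ M₂ g⁻¹ (g • a) (g • b) (hconn.preconnected _ _)
  simpa using this

theorem stab_smul (g : X) (δ : Cfsg.CosetVertex M₁ M₂) :
    MulAction.stabilizer X (g • δ) = (MulAction.stabilizer X δ).map (cj g) :=
  MulAction.stabilizer_smul_eq_stabilizer_map_conj g δ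

/-- transport of a Sylow subgroup of `H` to the conjugate `H.map (cj g)`. -/
theorem exists_sylow_map_cj {Y : Type*} [Group Y] {p : ℕ} (H : Subgroup Y) (g : Y) (S : Sylow p H) :
    ∃ S' : Sylow p ↥(H.map (cj g)),
      (S' : Subgroup ↥(H.map (cj g))).map (H.map (cj g)).subtype =
        ((S : Subgroup H).map H.subtype).map (cj g) := by
  have hinj : Function.Injective (cj g) := (MulAut.conj g).injective
  let e : ↥H ≃* ↥(H.map (cj g)) := H.equivMapOfInjective (cj g) hinj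
  let ψ : ↥(H.map (cj g)) →* ↥H := e.symm.toMonoidHom
  have hψ : ∀ y, ψ y = e.symm y := fun _ => rfl
  have hψinj : Function.Injective ψ := fun a b h => e.symm.injective h
  have hrange : (S : Subgroup H) ≤ ψ.range := by
    intro x _
    exact ⟨e x, e.symm_apply_apply x⟩
  refine ⟨S.comapOfInjective ψ hψinj hrange, ?_⟩
  rw [Sylow.coe_comapOfInjective]
  ext y
  constructor
  · rintro ⟨⟨y', hy'⟩, hyS, rfl⟩
    rw [SetLike.mem_coe, Subgroup.mem_comap, hψ] at hyS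
    refine ⟨((e.symm ⟨y', hy'⟩ : H) : Y), ⟨_, hyS, rfl⟩, ?_⟩
    have h1 : e (e.symm ⟨y', hy'⟩) = ⟨y', hy'⟩ := e.apply_symm_apply _
    have h2 := congrArg Subtype.val h1
    rw [Subgroup.coe_equivMapOfInjective_apply] at h2
    exact h2
  · rintro ⟨_, ⟨s, hs, rfl⟩, rfl⟩
    have hmem : (cj g) (s : Y) ∈ H.map (cj g) := ⟨s, s.2, rfl⟩
    refine ⟨⟨(cj g) (s : Y), hmem⟩, ?_, rfl⟩
    rw [SetLike.mem_coe, Subgroup.mem_comap, hψ]
    have h1 : e s = ⟨(cj g) (s : Y), hmem⟩ := by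
      apply Subtype.ext
      rw [Subgroup.coe_equivMapOfInjective_apply]
    have : e.symm ⟨(cj g) (s : Y), hmem⟩ = s := by
      rw [← h1]; exact e.symm_apply_apply s
    show e.symm ⟨(cj g) (s : Y), hmem⟩ ∈ (S : Subgroup H)
    rw [this]; exact hs

theorem sylowCenterClosure_map_cj_le {Y : Type*} [Group Y] (p : ℕ) (H : Subgroup Y) (g : Y) :
    (Cfsg.sylowCenterClosure p H).map (cj g) ≤ Cfsg.sylowCenterClosure p (H.map (cj g)) := by
  unfold Cfsg.sylowCenterClosure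
  rw [Subgroup.map_iSup]
  apply iSup_le
  intro S
  obtain ⟨S', hS'⟩ := exists_sylow_map_cj H g S
  have h1 := oz_le_sylowCenterClosure p (H.map (cj g)) S'
  unfold Cfsg.sylowCenterClosure at h1
  refine le_trans ?_ h1
  rw [hS']
  exact (oz_map_conj p _ g).ge

theorem sylowCenterClosure_map_cj {Y : Type*} [Group Y] (p : ℕ) (H : Subgroup Y) (g : Y) :
    Cfsg.sylowCenterClosure p (H.map (cj g)) = (Cfsg.sylowCenterClosure p H).map (cj g) := by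
  apply le_antisymm _ (sylowCenterClosure_map_cj_le p H g)
  have h1 := sylowCenterClosure_map_cj_le p (H.map (cj g)) g⁻¹
  rw [map_cj_cj_inv] at h1
  have h2 := Subgroup.map_mono (f := cj g) h1
  rw [map_cj_inv_cj] at h2
  exact h2

theorem vertexZ_smul (p : ℕ) (g : X) (δ : Cfsg.CosetVertex M₁ M₂) :
    Cfsg.vertexZ p (g • δ) = (Cfsg.vertexZ p δ).map (cj g) := by
  unfold Cfsg.vertexZ
  rw [stab_smul, sylowCenterClosure_map_cj]

theorem vertexVIter_smul_le (hgen : M₁ ⊔ M₂ = ⊤) (p : ℕ) (n : ℕ) (g : X)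
    (δ : Cfsg.CosetVertex M₁ M₂) :
    (Cfsg.vertexVIter p M₁ M₂ n δ).map (cj g) ≤ Cfsg.vertexVIter p M₁ M₂ n (g • δ) := by
  unfold Cfsg.vertexVIter
  rw [Subgroup.map_iSup]
  apply iSup_le
  rintro ⟨μ, hμ⟩
  rw [← vertexZ_smul]
  have hd : (Cfsg.cosetGraph M₁ M₂).dist (g • δ) (g • μ) ≤ n := by
    rw [cg_dist_smul M₁ M₂ hgen]; exact hμ
  exact le_iSup (fun ν : {ν : Cfsg.CosetVertex M₁ M₂ // (Cfsg.cosetGraph M₁ M₂).dist (g • δ) ν ≤ n} =>
    Cfsg.vertexZ p (ν : Cfsg.CosetVertex M₁ M₂)) ⟨g • μ, hd⟩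

theorem vertexVIter_smul (hgen : M₁ ⊔ M₂ = ⊤) (p : ℕ) (n : ℕ) (g : X)
    (δ : Cfsg.CosetVertex M₁ M₂) :
    Cfsg.vertexVIter p M₁ M₂ n (g • δ) = (Cfsg.vertexVIter p M₁ M₂ n δ).map (cj g) := by
  apply le_antisymm _ (vertexVIter_smul_le M₁ M₂ hgen p n g δ)
  have h1 := vertexVIter_smul_le M₁ M₂ hgen p n g⁻¹ (g • δ)
  rw [inv_smul_smul] at h1
  have h2 := Subgroup.map_mono (f := cj g) h1
  rw [map_cj_inv_cj] at h2
  exact h2

theorem vertexVIter_normalized (hgen : M₁ ⊔ M₂ = ⊤) (p : ℕ) (n : ℕ)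
    (δ : Cfsg.CosetVertex M₁ M₂) :
    MulAction.stabilizer X δ ≤
      Subgroup.normalizer ((Cfsg.vertexVIter p M₁ M₂ n δ : Subgroup X) : Set X) := by
  intro g hg
  apply mem_nzr_of_map_cj_eq
  rw [← vertexVIter_smul M₁ M₂ hgen, MulAction.mem_stabilizer_iff.mp hg]

theorem vertexZ_le_vertexVIter (p : ℕ) (n : ℕ) (δ μ : Cfsg.CosetVertex M₁ M₂)
    (h : (Cfsg.cosetGraph M₁ M₂).dist δ μ ≤ n) :
    Cfsg.vertexZ p μ ≤ Cfsg.vertexVIter p M₁ M₂ n δ := by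
  unfold Cfsg.vertexVIter
  exact le_iSup (fun ν : {ν : Cfsg.CosetVertex M₁ M₂ // (Cfsg.cosetGraph M₁ M₂).dist δ ν ≤ n} =>
    Cfsg.vertexZ p (ν : Cfsg.CosetVertex M₁ M₂)) ⟨μ, h⟩

theorem vertexVIter_le_of_adj (hgen : M₁ ⊔ M₂ = ⊤) (p : ℕ) (n : ℕ)
    (δ μ : Cfsg.CosetVertex M₁ M₂) (hadj : (Cfsg.cosetGraph M₁ M₂).Adj δ μ) :
    Cfsg.vertexVIter p M₁ M₂ n μ ≤ Cfsg.vertexVIter p M₁ M₂ (n + 1) δ := by
  have hconn := cg_connected M₁ M₂ hgen
  unfold Cfsg.vertexVIter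
  apply iSup_le
  rintro ⟨ν, hν⟩
  apply vertexZ_le_vertexVIter
  have h1 := hconn.dist_triangle (u := δ) (v := μ) (w := ν)
  have h2 : (Cfsg.cosetGraph M₁ M₂).dist δ μ = 1 := SimpleGraph.dist_eq_one_iff_adj.mpr hadj
  have hν' : (Cfsg.cosetGraph M₁ M₂).dist μ ν ≤ n := hν
  show (Cfsg.cosetGraph M₁ M₂).dist δ ν ≤ n + 1
  omega

end Cfsg.Agent.Lib.H14
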