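import Cfsg.Agent.Lib.H14.Norm

/-! Commutators with joins; supplements modulo `[V, Q]` in a nilpotent group. -/

set_option autoImplicit false

namespace Cfsg.Agent.Lib.H14

open scoped commutatorElement

/-- `[A ⊔ B, K] ≤ N` if `[A, K], [B, K] ≤ N` and `A`, `B` normalize `N`. -/
theorem commutator_sup_le {G : Type*} [Group G] (A B K N : Subgroup G)
    (hA : ⁅A, K⁆ ≤ N) (hB : ⁅B, K⁆ ≤ N)
    (hAN : A ≤ Subgroup.normalizer (N : Set G)) (hBN : B ≤ Subgroup.normalizer (N : Set G)) :
    ⁅A ⊔ B, K⁆ ≤ N := by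
  rw [Subgroup.commutator_le]
  intro a ha k hk
  have key : ∀ x ∈ A ⊔ B, x ∈ Subgroup.normalizer (N : Set G) ∧ ⁅x, k⁆ ∈ N := by
    intro x hx
    have hx' : x ∈ Subgroup.closure ((A : Set G) ∪ (B : Set G)) := by
      rw [Subgroup.closure_union, Subgroup.closure_eq, Subgroup.closure_eq]; exact hx
    induction hx' using Subgroup.closure_induction with
    | mem y hy =>
      rcases hy with hy | hy
      · exact ⟨hAN hy, (Subgroup.commutator_le.mp hA) y hy k hk⟩
      · exact ⟨hBN hy, (Subgroup.commutator_le.mp hB) y hy k hk⟩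
    | one => exact ⟨Subgroup.one_mem _, by rw [commutatorElement_one_left]; exact N.one_mem⟩
    | mul y z _ _ ihy ihz =>
      have hy := ihy (by rw [← Subgroup.closure_eq A, ← Subgroup.closure_eq B, ← Subgroup.closure_union]; assumption)
      have hz := ihz (by rw [← Subgroup.closure_eq A, ← Subgroup.closure_eq B, ← Subgroup.closure_union]; assumption)
      refine ⟨Subgroup.mul_mem _ hy.1 hz.1, ?_⟩
      rw [commutatorElement_mul_left_eq_conj_mul]
      refine N.mul_mem ?_ hy.2
      exact (Subgroup.mem_normalizer_iff.mp hy.1 _).mp hz.2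
    | inv y _ ihy =>
      have hy := ihy (by rw [← Subgroup.closure_eq A, ← Subgroup.closure_eq B, ← Subgroup.closure_union]; assumption)
      refine ⟨Subgroup.inv_mem _ hy.1, ?_⟩
      rw [commutatorElement_inv_left]
      have h1 : ⁅k, y⁆ ∈ N := by rw [← commutatorElement_inv]; exact N.inv_mem hy.2
      have h2 := (Subgroup.mem_normalizer_iff.mp (Subgroup.inv_mem _ hy.1) _).mp h1
      simpa using h2
  exact (key a ha).2

theorem lcs_le {G : Type*} [Group G] (Q : Subgroup G) (i : ℕ) : Q.lowerCentralSeries i ≤ Q := by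
  induction i with
  | zero => exact le_rfl
  | succ n ih =>
    rw [Subgroup.lowerCentralSeries_succ]
    exact (Subgroup.commutator_mono ih le_rfl).trans (Subgroup.commutator_le_self Q)

theorem le_nzr_lcs {G : Type*} [Group G] (Q : Subgroup G) (i : ℕ) :
    Q ≤ Subgroup.normalizer ((Q.lowerCentralSeries i : Subgroup G) : Set G) := by
  induction i with
  | zero => exact Subgroup.le_normalizer
  | succ n ih =>
    rw [Subgroup.lowerCentralSeries_succ]
    exact le_nzr_commutator Q _ _ ih Subgroup.le_normalizer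

/-- In a nilpotent group `Q`: if `V ≤ Y·[V, Q]` with `Y` normalized by `Q`, then `V ≤ Y`. -/
theorem le_of_le_sup_commutator_of_nilpotent {G : Type*} [Group G] (Q V Y : Subgroup G)
    [hQ : Group.IsNilpotent Q] (hVQ : V ≤ Q) (hYQ : Y ≤ Q)
    (hQY : Q ≤ Subgroup.normalizer (Y : Set G)) (h : V ≤ Y ⊔ ⁅V, Q⁆) : V ≤ Y := by
  have step : ∀ i, V ≤ Y ⊔ Q.lowerCentralSeries i := by
    intro i
    induction i with
    | zero => exact hVQ.trans le_sup_right
    | succ n ih =>
      refine h.trans (sup_le le_sup_left ?_)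
      refine (Subgroup.commutator_mono ih le_rfl).trans ?_
      have hN : Q ≤ Subgroup.normalizer ((Y ⊔ Q.lowerCentralSeries (n + 1) : Subgroup G) : Set G) :=
        le_nzr_sup Q _ _ hQY (le_nzr_lcs Q (n + 1))
      apply commutator_sup_le
      · exact ((Subgroup.le_normalizer_iff_commutator_le_left).mp hQY).trans le_sup_left
      · rw [← Subgroup.lowerCentralSeries_succ]; exact le_sup_right
      · exact hYQ.trans hN
      · exact (lcs_le Q n).trans hN
  obtain ⟨k, hk⟩ := (Subgroup.isNilpotent_iff_lowerCentralSeries Q).mp hQ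
  have := step k
  rwa [hk, sup_bot_eq] at this

end Cfsg.Agent.Lib.H14
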