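import Cfsg.Agent.Lib.H14.Frattini
set_option autoImplicit false
open Cfsg

namespace Cfsg.Agent.Lib.H14

/-- Elements of `Ω₁(Z(P))` lie in `P`, are central in `P` and have `p`-th power one. -/
theorem mem_oz_props {G : Type*} [Group G] (p : ℕ) (P : Subgroup G) (z : G)
    (hz : z ∈ Cfsg.omegaOne p (P ⊓ Subgroup.centralizer (P : Set G))) :
    z ∈ P ∧ (∀ g ∈ P, g * z = z * g) ∧ z ^ p = 1 := by
  unfold Cfsg.omegaOne at hz
  induction hz using Subgroup.closure_induction with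
  | mem x hx =>
    obtain ⟨⟨h1, h2⟩, h3⟩ := hx
    exact ⟨h1, fun g hg => (Subgroup.mem_centralizer_iff.mp h2) g hg, h3⟩
  | one => exact ⟨P.one_mem, fun g _ => by simp, one_pow p⟩
  | mul x y _ _ ihx ihy =>
    obtain ⟨x1, x2, x3⟩ := ihx
    obtain ⟨y1, y2, y3⟩ := ihy
    refine ⟨P.mul_mem x1 y1, fun g hg => ?_, ?_⟩
    · rw [← mul_assoc, x2 g hg, mul_assoc, y2 g hg, mul_assoc]
    · have hc : Commute x y := (y2 x x1)
      rw [hc.mul_pow, x3, y3, one_mul]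
  | inv x _ ih =>
    obtain ⟨x1, x2, x3⟩ := ih
    refine ⟨P.inv_mem x1, fun g hg => ?_, by rw [inv_pow, x3, inv_one]⟩
    have := x2 g hg
    calc g * x⁻¹ = x⁻¹ * (x * g) * x⁻¹ := by group
      _ = x⁻¹ * (g * x) * x⁻¹ := by rw [this]
      _ = x⁻¹ * g := by group

end Cfsg.Agent.Lib.H14
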