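import Cfsg.Agent.Lib.H14.Amalgam8
import Cfsg.Agent.Lib.H14.NilSupp
import Cfsg.Agent.Lib.H14.OmegaOne

/-! The amalgam method: a subgroup between `Z_μ` and `Q_λ` normalized by `G_μ` and `O^p(L_λ)`
cannot exist. -/

set_option autoImplicit false
open Cfsg

namespace Cfsg.Agent.Lib.H14

/-- If `O^p(L_λ)` and `G_μ` normalize `U` and `Z_μ ≤ U ≤ Q_λ`, contradiction. -/
theorem amalgam_core_false {X : Type*} [Group X] {p : ℕ} [Fact p.Prime] (M₁ M₂ : Subgroup X)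
    (h : Cfsg.IsSpeAmalgamPair p M₁ M₂) (lam μ : Cfsg.CosetVertex M₁ M₂)
    (hadj : (Cfsg.cosetGraph M₁ M₂).Adj lam μ) (U : Subgroup X)
    (hUQ : U ≤ Cfsg.vertexQ p lam) (hZU : Cfsg.vertexZ p μ ≤ U)
    (hμ : MulAction.stabilizer X μ ≤ Subgroup.normalizer (U : Set X))
    (hR : (Cfsg.pResidual p ↥(Cfsg.pElementClosure p (MulAction.stabilizer X lam))).map
        (Cfsg.pElementClosure p (MulAction.stabilizer X lam)).subtype ≤
      Subgroup.normalizer (U : Set X)) : False := by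
  obtain ⟨hf1, hf2⟩ := charP_fac M₁ M₂ h.1
  have hfin1 : Finite M₁ := h.1.2.1
  have hfin2 : Finite M₂ := h.1.2.2.1
  have hlam : MulAction.stabilizer X lam ≤ Subgroup.normalizer (U : Set X) := by
    intro g hg
    obtain ⟨r, hr, t, ht, rfl⟩ := stab_factor M₁ M₂ h lam μ hadj g hg
    exact Subgroup.mul_mem _ (hR hr) (hμ (Subgroup.mem_inf.mp ht).2)
  have hUe : U ≤ MulAction.stabilizer X lam ⊓ MulAction.stabilizer X μ := by
    refine le_inf (hUQ.trans ?_) (hUQ.trans (vertexQ_le_stab M₁ M₂ hf1 hf2 lam μ hadj))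
    exact pCoreOf_le p _
  have hU1 := eq_bot_of_normalized_both M₁ M₂ h.1.1 lam μ hadj U hUe hlam hμ
  apply vertexZ_ne_bot M₁ M₂ h.1 μ
  rw [eq_bot_iff, ← hU1]
  exact hZU

/-- `Z_H` centralizes `O_p(H)`. -/
theorem sylowCenterClosure_le_centralizer_pCoreOf {Y : Type*} [Group Y] (p : ℕ) (H : Subgroup Y) :
    Cfsg.sylowCenterClosure p H ≤ Subgroup.centralizer (Cfsg.pCoreOf p H : Set Y) := by
  unfold Cfsg.sylowCenterClosure
  apply iSup_le
  intro S z hz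
  obtain ⟨_, hzc, _⟩ := mem_oz_props p _ z hz
  rw [Subgroup.mem_centralizer_iff]
  rintro _ ⟨q, hq, rfl⟩
  exact hzc _ ⟨q, pCore_le_sylow S hq, rfl⟩

theorem vertexZ_normalized {X : Type*} [Group X] (M₁ M₂ : Subgroup X) (p : ℕ)
    (δ : Cfsg.CosetVertex M₁ M₂) :
    MulAction.stabilizer X δ ≤ Subgroup.normalizer ((Cfsg.vertexZ p δ : Subgroup X) : Set X) := by
  intro g hg
  apply mem_nzr_of_map_cj_eq
  exact sylowCenterClosure_map_conj p _ g hg

end Cfsg.Agent.Lib.H14
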