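import Cfsg.Agent.Lib.H16.AschM83Defs

/-!
# S5630 / M8.3, piece M83-B (part a): the product map of commuting matrix-unit systems
-/

set_option autoImplicit false

namespace Cfsg.Agent.Lib.H14.Asch

open Cfsg.Agent.Lib.H16.Asch
open scoped Matrix

variable {F : Type*} [Field F] {n m t : ℕ}

/-- the hypotheses of M83-B, bundled -/
structure CommSys (F : Type*) [Field F] (n m t : ℕ) where
  φ : Fin t → (Matrix (Fin m) (Fin m) F →ₐ[F] Matrix (Fin n) (Fin n) F)
  hcomm : ∀ i j, i ≠ j → ∀ a b, φ i a * φ j b = φ j b * φ i a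

namespace CommSys

variable (S : CommSys F n m t)

/-- the underlying monoid homomorphisms -/
def psi (i : Fin t) : Matrix (Fin m) (Fin m) F →* Matrix (Fin n) (Fin n) F :=
  ((S.φ i : Matrix (Fin m) (Fin m) F →+* Matrix (Fin n) (Fin n) F) :
      Matrix (Fin m) (Fin m) F →* Matrix (Fin n) (Fin n) F)

theorem psi_apply (i : Fin t) (a : Matrix (Fin m) (Fin m) F) : S.psi i a = S.φ i a := rfl

theorem pairwise_commute :
    Pairwise fun i j : Fin t => ∀ x y : Matrix (Fin m) (Fin m) F,
      Commute (S.psi i x) (S.psi j y) := by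
  intro i j hij x y
  rw [commute_iff_eq, psi_apply, psi_apply]
  exact S.hcomm i j hij x y

/-- the product map `(a_i)_i ↦ ∏ φ_i (a_i)` -/
noncomputable def Phi : (Fin t → Matrix (Fin m) (Fin m) F) →* Matrix (Fin n) (Fin n) F :=
  MonoidHom.noncommPiCoprod S.psi S.pairwise_commute

theorem Phi_mulSingle (i : Fin t) (a : Matrix (Fin m) (Fin m) F) :
    S.Phi (Pi.mulSingle i a) = S.φ i a := by
  unfold Phi
  rw [MonoidHom.noncommPiCoprod_mulSingle, psi_apply]

theorem mulSingle_mul (c : Fin t → Matrix (Fin m) (Fin m) F) (i : Fin t)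
    (a : Matrix (Fin m) (Fin m) F) :
    Pi.mulSingle i a * c = Function.update c i (a * c i) := by
  funext j
  by_cases h : j = i
  · subst h; simp
  · simp [h]

theorem update_one_mul_mulSingle (c : Fin t → Matrix (Fin m) (Fin m) F) (i : Fin t)
    (b : Matrix (Fin m) (Fin m) F) :
    Function.update c i 1 * Pi.mulSingle i b = Function.update c i b := by
  funext j
  by_cases h : j = i
  · subst h; simp
  · simp [h]

/-- left multiplication by `φ i a` -/
theorem phi_mul_Phi (i : Fin t) (a : Matrix (Fin m) (Fin m) F)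
    (c : Fin t → Matrix (Fin m) (Fin m) F) :
    S.φ i a * S.Phi c = S.Phi (Function.update c i (a * c i)) := by
  rw [← S.Phi_mulSingle, ← map_mul, mulSingle_mul]

/-- splitting off slot `i` -/
theorem Phi_update (c : Fin t → Matrix (Fin m) (Fin m) F) (i : Fin t)
    (b : Matrix (Fin m) (Fin m) F) :
    S.Phi (Function.update c i b) = S.Phi (Function.update c i 1) * S.φ i b := by
  rw [← S.Phi_mulSingle, ← map_mul, update_one_mul_mulSingle]

/-- a zero slot kills the product -/
theorem Phi_eq_zero (c : Fin t → Matrix (Fin m) (Fin m) F) (i : Fin t) (h : c i = 0) :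
    S.Phi c = 0 := by
  have h1 : c = Function.update c i 0 := by rw [← h, Function.update_eq_self]
  rw [h1, Phi_update, map_zero, mul_zero]

/-- linearity in slot `i` (finite sums with coefficients) -/
theorem Phi_update_sum {κ : Type*} (s : Finset κ) (c : Fin t → Matrix (Fin m) (Fin m) F)
    (i : Fin t) (r : κ → F) (b : κ → Matrix (Fin m) (Fin m) F) :
    S.Phi (Function.update c i (∑ k ∈ s, r k • b k)) =
      ∑ k ∈ s, r k • S.Phi (Function.update c i (b k)) := by
  rw [Phi_update, map_sum, Finset.mul_sum]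
  refine Finset.sum_congr rfl fun k _ => ?_
  rw [map_smul, Matrix.mul_smul, ← Phi_update]

/-- if every `φ i (c i)` fixes `v` then so does the product -/
theorem Phi_mulVec_fix (c : Fin t → Matrix (Fin m) (Fin m) F) (v : Fin n → F)
    (h : ∀ i, S.φ i (c i) *ᵥ v = v) : S.Phi c *ᵥ v = v := by
  unfold Phi
  rw [MonoidHom.noncommPiCoprod_apply]
  refine Finset.noncommProd_induction _ _ _ (fun M : Matrix (Fin n) (Fin n) F => M *ᵥ v = v)
    ?_ ?_ ?_
  · intro A B hA hB
    rw [← Matrix.mulVec_mulVec, hB, hA]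
  · exact Matrix.one_mulVec v
  · intro i _
    rw [psi_apply]
    exact h i

end CommSys

end Cfsg.Agent.Lib.H14.Asch
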