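import Cfsg.Agent.Lib.H14.AschM83Ba

/-!
# S5630 / M8.3, piece M83-B (part b): the common eigenvector and the tensor family of vectors
-/

set_option autoImplicit false

namespace Cfsg.Agent.Lib.H14.Asch

open Cfsg.Agent.Lib.H16.Asch
open scoped Matrix

variable {F : Type*} [Field F] {n m t : ℕ}

theorem sum_single_diag (m : ℕ) :
    (∑ a : Fin m, Matrix.single a a (1 : F)) = (1 : Matrix (Fin m) (Fin m) F) := by
  refine Matrix.ext fun r c => ?_
  rw [Matrix.sum_apply]
  by_cases h : r = c
  · subst h
    rw [Finset.sum_eq_single r, Matrix.single_apply_same, Matrix.one_apply_eq]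
    · intro b _ hb
      exact Matrix.single_apply_of_ne _ _ _ _ _ (fun hh => hb hh.1)
    · intro hh; exact absurd (Finset.mem_univ r) hh
  · rw [Matrix.one_apply_ne h]
    refine Finset.sum_eq_zero fun a _ => ?_
    exact Matrix.single_apply_of_ne _ _ _ _ _ (fun hh => h (hh.1.symm.trans hh.2))

namespace CommSys

variable (S : CommSys F n m t)

/-- a non-zero vector fixed by all `φ i (E_00)` -/
theorem exists_v0 [NeZero m] (hn : 0 < n) :
    ∃ v0 : Fin n → F, v0 ≠ 0 ∧ ∀ i, S.φ i (Matrix.single 0 0 1) *ᵥ v0 = v0 := by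
  have key : ∀ s : Finset (Fin t), ∃ v : Fin n → F, v ≠ 0 ∧
      ∀ i ∈ s, S.φ i (Matrix.single 0 0 1) *ᵥ v = v := by
    intro s
    induction s using Finset.induction_on with
    | empty =>
      refine ⟨Pi.single ⟨0, hn⟩ 1, ?_, by simp⟩
      intro h
      have := congrFun h ⟨0, hn⟩
      simp at this
    | insert i s his ih =>
      obtain ⟨v, hv0, hv⟩ := ih
      have hsum : ∑ a : Fin m, S.φ i (Matrix.single a a 1) *ᵥ v = v := by
        rw [← Matrix.sum_mulVec, ← map_sum, sum_single_diag, map_one, Matrix.one_mulVec]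
      obtain ⟨a, ha⟩ : ∃ a : Fin m, S.φ i (Matrix.single a a 1) *ᵥ v ≠ 0 := by
        by_contra hcon
        push Not at hcon
        rw [Finset.sum_eq_zero fun a _ => hcon a] at hsum
        exact hv0 hsum.symm
      refine ⟨S.φ i (Matrix.single 0 a 1) *ᵥ v, ?_, ?_⟩
      · intro h0
        apply ha
        have : S.φ i (Matrix.single a 0 1) *ᵥ (S.φ i (Matrix.single 0 a 1) *ᵥ v) =
            S.φ i (Matrix.single a a 1) *ᵥ v := by
          rw [Matrix.mulVec_mulVec, ← map_mul, Matrix.single_mul_single_same, mul_one]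
        rw [← this, h0, Matrix.mulVec_zero]
      · intro j hj
        rw [Finset.mem_insert] at hj
        rcases hj with rfl | hj
        · rw [Matrix.mulVec_mulVec, ← map_mul, Matrix.single_mul_single_same, mul_one]
        · have hji : j ≠ i := fun h => his (h ▸ hj)
          rw [Matrix.mulVec_mulVec, S.hcomm j i hji, ← Matrix.mulVec_mulVec, hv j hj]
  obtain ⟨v, hv0, hv⟩ := key Finset.univ
  exact ⟨v, hv0, fun i => hv i (Finset.mem_univ i)⟩

/-- the matrix-unit tuple `(E_{x_i,0})_i` -/
def ux [NeZero m] (x : Fin t → Fin m) : Fin t → Matrix (Fin m) (Fin m) F :=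
  fun i => Matrix.single (x i) 0 1

/-- the matrix-unit tuple `(E_{0,y_i})_i` -/
def dy [NeZero m] (y : Fin t → Fin m) : Fin t → Matrix (Fin m) (Fin m) F :=
  fun i => Matrix.single 0 (y i) 1

theorem update_ux [NeZero m] (x : Fin t → Fin m) (i : Fin t) (a' : Fin m) :
    Function.update (ux (F := F) x) i (Matrix.single a' 0 1) = ux (Function.update x i a') := by
  funext j
  by_cases h : j = i
  · subst h; simp [ux]
  · simp [ux, h]

theorem mul_single_col [NeZero m] (a : Matrix (Fin m) (Fin m) F) (k : Fin m) :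
    a * Matrix.single k (0 : Fin m) (1 : F) =
      ∑ a' : Fin m, a a' k • Matrix.single a' (0 : Fin m) (1 : F) := by
  refine Matrix.ext fun r c => ?_
  rw [Matrix.sum_apply, Matrix.mul_apply]
  by_cases hc : c = 0
  · subst hc
    rw [Finset.sum_eq_single k, Finset.sum_eq_single r]
    · rw [Matrix.smul_apply, Matrix.single_apply_same, Matrix.single_apply_same]
      simp
    · intro b _ hb
      rw [Matrix.smul_apply, Matrix.single_apply_of_ne _ _ _ _ _ (fun hh => hb hh.1), smul_zero]
    · intro hh; exact absurd (Finset.mem_univ r) hh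
    · intro b _ hb
      rw [Matrix.single_apply_of_ne _ _ _ _ _ (fun hh => hb hh.1.symm), mul_zero]
    · intro hh; exact absurd (Finset.mem_univ k) hh
  · rw [Finset.sum_eq_zero, Finset.sum_eq_zero]
    · intro b _
      rw [Matrix.smul_apply, Matrix.single_apply_of_ne _ _ _ _ _ (fun hh => hc hh.2.symm),
        smul_zero]
    · intro b _
      rw [Matrix.single_apply_of_ne _ _ _ _ _ (fun hh => hc hh.2.symm), mul_zero]

/-- the action of `φ i a` on the products `Φ(u_x)`: formula (P1) at matrix level -/
theorem phi_mul_Phi_ux [NeZero m] (i : Fin t) (a : Matrix (Fin m) (Fin m) F)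
    (x : Fin t → Fin m) :
    S.φ i a * S.Phi (ux x) =
      ∑ a' : Fin m, a a' (x i) • S.Phi (ux (Function.update x i a')) := by
  rw [phi_mul_Phi]
  have h1 : a * ux (F := F) x i =
      ∑ a' : Fin m, a a' (x i) • Matrix.single a' (0 : Fin m) (1 : F) := by
    show a * Matrix.single (x i) (0 : Fin m) (1 : F) = _
    exact mul_single_col a (x i)
  rw [h1, Phi_update_sum]
  refine Finset.sum_congr rfl fun a' _ => ?_
  rw [update_ux]

theorem dy_mul_ux [NeZero m] (y x : Fin t → Fin m) :
    dy (F := F) y * ux x = fun i => if y i = x i then Matrix.single 0 0 (1 : F) else 0 := by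
  funext i
  show Matrix.single 0 (y i) (1 : F) * Matrix.single (x i) 0 1 = _
  by_cases h : y i = x i
  · rw [if_pos h, h, Matrix.single_mul_single_same, mul_one]
  · rw [if_neg h, Matrix.single_mul_single_of_ne _ _ _ _ h]

end CommSys

end Cfsg.Agent.Lib.H14.Asch
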