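import Cfsg.Agent.Lib.H14.AschM83Bb

/-!
# S5630 / M8.3, piece M83-B (part c): the tensor family of vectors is a basis
-/

set_option autoImplicit false

namespace Cfsg.Agent.Lib.H14.Asch

open Cfsg.Agent.Lib.H16.Asch
open scoped Matrix

variable {F : Type*} [Field F] {n m t : ℕ}

namespace CommSys

variable (S : CommSys F n m t)

/-- the tensor family of vectors -/
noncomputable def vv [NeZero m] (v0 : Fin n → F) (x : Fin t → Fin m) : Fin n → F :=
  S.Phi (ux x) *ᵥ v0

/-- formula (P1) -/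
theorem phi_mulVec_vv [NeZero m] (v0 : Fin n → F) (i : Fin t) (a : Matrix (Fin m) (Fin m) F)
    (x : Fin t → Fin m) :
    S.φ i a *ᵥ S.vv v0 x = ∑ a' : Fin m, a a' (x i) • S.vv v0 (Function.update x i a') := by
  unfold vv
  rw [Matrix.mulVec_mulVec, phi_mul_Phi_ux, Matrix.sum_mulVec]
  refine Finset.sum_congr rfl fun a' _ => ?_
  rw [Matrix.smul_mulVec]

theorem dy_mulVec_vv [NeZero m] {v0 : Fin n → F}
    (hv0 : ∀ i, S.φ i (Matrix.single 0 0 1) *ᵥ v0 = v0) (y x : Fin t → Fin m) :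
    S.Phi (dy y) *ᵥ S.vv v0 x = if x = y then v0 else 0 := by
  unfold vv
  rw [Matrix.mulVec_mulVec, ← map_mul, dy_mul_ux]
  by_cases h : x = y
  · subst h
    rw [if_pos rfl]
    apply Phi_mulVec_fix
    intro i
    simp only [if_true]
    exact hv0 i
  · rw [if_neg h]
    obtain ⟨i, hi⟩ : ∃ i, x i ≠ y i := by
      by_contra hcon
      push Not at hcon
      exact h (funext hcon)
    rw [S.Phi_eq_zero _ i (by simp [Ne.symm hi]), Matrix.zero_mulVec]

theorem vv_zero [NeZero m] {v0 : Fin n → F}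
    (hv0 : ∀ i, S.φ i (Matrix.single 0 0 1) *ᵥ v0 = v0) : S.vv v0 (fun _ => 0) = v0 := by
  unfold vv
  apply Phi_mulVec_fix
  intro i
  exact hv0 i

theorem linearIndependent_vv [NeZero m] {v0 : Fin n → F} (hne : v0 ≠ 0)
    (hv0 : ∀ i, S.φ i (Matrix.single 0 0 1) *ᵥ v0 = v0) :
    LinearIndependent F (S.vv v0) := by
  rw [Fintype.linearIndependent_iff]
  intro g hg y
  have h1 := congrArg (fun w => S.Phi (dy y) *ᵥ w) hg
  simp only [Matrix.mulVec_sum, Matrix.mulVec_smul, Matrix.mulVec_zero] at h1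
  simp only [S.dy_mulVec_vv hv0] at h1
  rw [Finset.sum_eq_single y] at h1
  · rw [if_pos rfl] at h1
    rcases smul_eq_zero.mp h1 with h | h
    · exact h
    · exact absurd h hne
  · intro b _ hb
    rw [if_neg hb, smul_zero]
  · intro hh; exact absurd (Finset.mem_univ y) hh

theorem span_vv_eq_top [NeZero m] {v0 : Fin n → F} (hne : v0 ≠ 0)
    (hv0 : ∀ i, S.φ i (Matrix.single 0 0 1) *ᵥ v0 = v0)
    (hirr : ∀ W : Submodule F (Fin n → F),
      (∀ i a, W.map (Matrix.toLin' (S.φ i a)) ≤ W) → W = ⊥ ∨ W = ⊤) :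
    Submodule.span F (Set.range (S.vv v0)) = ⊤ := by
  have hW : ∀ i a, (Submodule.span F (Set.range (S.vv v0))).map (Matrix.toLin' (S.φ i a)) ≤
      Submodule.span F (Set.range (S.vv v0)) := by
    intro i a
    rw [Submodule.map_span_le]
    rintro _ ⟨x, rfl⟩
    rw [Matrix.toLin'_apply, phi_mulVec_vv]
    refine Submodule.sum_mem _ fun a' _ => Submodule.smul_mem _ _ ?_
    exact Submodule.subset_span ⟨_, rfl⟩
  rcases hirr (Submodule.span F (Set.range (S.vv v0))) hW with h | h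
  · exfalso
    have h1 : S.vv v0 (fun _ => 0) ∈ Submodule.span F (Set.range (S.vv v0)) :=
      Submodule.subset_span ⟨_, rfl⟩
    rw [S.vv_zero hv0, h, Submodule.mem_bot] at h1
    exact hne h1
  · exact h

end CommSys

end Cfsg.Agent.Lib.H14.Asch
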