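import Cfsg.Agent.Lib.H14.BasicProp1

set_option autoImplicit false

namespace Cfsg.Agent.Lib.H14
open scoped commutatorElement

universe u

section
variable {H : Type*} [Group H] [Finite H] {p : ℕ} [hp : Fact p.Prime]
set_option linter.unusedSectionVars false

/-- Hypothesis: normalizers of nontrivial `p`-subgroups normalized by `T` lie in `𝓛_H`. -/
def NzrHyp (p : ℕ) (T : Sylow p H) : Prop :=
  ∀ Y : Subgroup H, IsPGroup p ↥Y → Y ≠ ⊥ → (T : Subgroup H) ≤ Subgroup.normalizer (Y : Set H) →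
    Subgroup.normalizer (Y : Set H) ∈ Cfsg.charPSubgroups p H

theorem sylow_ne_bot_of_mem (T : Sylow p H) {L : Subgroup H} (hTL : (T : Subgroup H) ≤ L)
    (hL : L ∈ Cfsg.charPSubgroups p H) : (T : Subgroup H) ≠ ⊥ := by
  intro h
  apply ((mem_charPSubgroups_iff L).mp hL).1
  exact eq_bot_iff.mpr (h ▸ pCoreOf_le_sylow T L hTL)

theorem oz_le_largestPReducedOf (T : Sylow p H) {L : Subgroup H} (hTL : (T : Subgroup H) ≤ L)
    (hL : L ∈ Cfsg.charPSubgroups p H) :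
    oz p (T : Subgroup H) ≤ Cfsg.largestPReducedOf p L := by
  have h := Cfsg.Agent.S2821.result T L hTL (charP_type_of_mem hL) _ rfl
  exact h.2.2.2.1.trans h.2.2.2.2.1

theorem largestPReducedOf_ne_bot (T : Sylow p H) {L : Subgroup H} (hTL : (T : Subgroup H) ≤ L)
    (hL : L ∈ Cfsg.charPSubgroups p H) : Cfsg.largestPReducedOf p L ≠ ⊥ := by
  intro h
  apply oz_ne_bot (T : Subgroup H) T.2 (sylow_ne_bot_of_mem T hTL hL)
  exact eq_bot_iff.mpr (h ▸ oz_le_largestPReducedOf T hTL hL)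

/-- The maximal choice of `Y₀`. -/
theorem exists_max_family (T : Sylow p H) (hyp : NzrHyp p T) (L : Subgroup H)
    (hTL : (T : Subgroup H) ≤ L) (hL : L ∈ Cfsg.charPSubgroups p H) :
    ∃ Y₀ : Subgroup H,
      Subgroup.normalizer (Y₀ : Set H) ∈ Cfsg.charPSubgroups p H ∧
      (T : Subgroup H) ≤ Subgroup.normalizer (Y₀ : Set H) ∧
      Cfsg.largestPReducedOf p (Subgroup.normalizer (Y₀ : Set H)) = Y₀ ∧
      Cfsg.largestPReducedOf p L ≤ Y₀ ∧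
      (∀ l ∈ L, ∃ x ∈ Subgroup.normalizer (Y₀ : Set H),
        ∃ c ∈ Subgroup.centralizer (Cfsg.largestPReducedOf p L : Set H), l = x * c) ∧
      (∀ X ∈ Cfsg.charPSubgroups p H, (T : Subgroup H) ≤ X → Y₀ ≤ Cfsg.largestPReducedOf p X →
        (∀ l ∈ L, ∃ x ∈ X, ∃ c ∈ Subgroup.centralizer (Cfsg.largestPReducedOf p L : Set H),
          l = x * c) → Cfsg.largestPReducedOf p X = Y₀) := by
  set 𝓕 : Set (Subgroup H) := {X | X ∈ Cfsg.charPSubgroups p H ∧ (T : Subgroup H) ≤ X ∧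
    Cfsg.largestPReducedOf p L ≤ Cfsg.largestPReducedOf p X ∧
    ∀ l ∈ L, ∃ x ∈ X, ∃ c ∈ Subgroup.centralizer (Cfsg.largestPReducedOf p L : Set H),
      l = x * c} with h𝓕
  have hL𝓕 : L ∈ 𝓕 := ⟨hL, hTL, le_rfl, fun l hl => ⟨l, hl, 1, Subgroup.one_mem _, by simp⟩⟩
  obtain ⟨X₀, hX₀, hmax⟩ := Set.exists_max_image 𝓕
    (fun X => Nat.card ↥(Cfsg.largestPReducedOf p X)) (Set.toFinite 𝓕) ⟨L, hL𝓕⟩
  obtain ⟨hX₀L, hTX₀, hYLX₀, hprod₀⟩ := hX₀
  set Y₀ := Cfsg.largestPReducedOf p X₀ with hY₀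
  obtain ⟨h1, h2, -⟩ := largestPReducedOf_props (p := p) X₀
  have hmaxcl : ∀ X ∈ Cfsg.charPSubgroups p H, (T : Subgroup H) ≤ X →
      Y₀ ≤ Cfsg.largestPReducedOf p X →
      (∀ l ∈ L, ∃ x ∈ X, ∃ c ∈ Subgroup.centralizer (Cfsg.largestPReducedOf p L : Set H),
        l = x * c) → Cfsg.largestPReducedOf p X = Y₀ := by
    intro X hX hTX hYX hprod
    have hX𝓕 : X ∈ 𝓕 := ⟨hX, hTX, hYLX₀.trans hYX, hprod⟩
    exact (Subgroup.eq_of_le_of_card_ge hYX (hmax X hX𝓕)).symm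
  have hMt : Subgroup.normalizer (Y₀ : Set H) ∈ Cfsg.charPSubgroups p H :=
    hyp Y₀ (isPGroup_of_isElementaryAbelian _ h2) (largestPReducedOf_ne_bot T hTX₀ hX₀L)
      (hTX₀.trans h1)
  have hprodMt : ∀ l ∈ L, ∃ x ∈ Subgroup.normalizer (Y₀ : Set H),
      ∃ c ∈ Subgroup.centralizer (Cfsg.largestPReducedOf p L : Set H), l = x * c := by
    intro l hl
    obtain ⟨x, hx, c, hc, e⟩ := hprod₀ l hl
    exact ⟨x, h1 hx, c, hc, e⟩
  refine ⟨Y₀, hMt, hTX₀.trans h1, ?_, hYLX₀, hprodMt, hmaxcl⟩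
  exact hmaxcl _ hMt (hTX₀.trans h1)
    (largestPReducedOf_mono T X₀ _ hTX₀ h1 (charP_type_of_mem hMt)) hprodMt

end
end Cfsg.Agent.Lib.H14
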