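import Cfsg.Agent.Lib.H14.WeaklyClosed

/-! Weakly closed subgroups: subgroups, quotients. -/

set_option autoImplicit false

namespace Cfsg.Agent.Lib.H14

theorem map_subtype_map_cj {H : Type*} [Group H] (K : Subgroup H) (A : Subgroup ↥K) (k : ↥K) :
    (A.map (cj k)).map K.subtype = (A.map K.subtype).map (cj (k : H)) := by
  rw [Subgroup.map_map, Subgroup.map_map]
  congr 1

theorem map_hom_map_cj {H H' : Type*} [Group H] [Group H'] (f : H →* H') (A : Subgroup H) (g : H) :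
    (A.map (cj g)).map f = (A.map f).map (cj (f g)) := by
  rw [Subgroup.map_map, Subgroup.map_map]
  congr 1
  ext x
  simp [cj, MulAut.conj_apply]

/-- The key fact: with `T_K` a Sylow subgroup of `K` containing `Q`, a conjugate of `Q` inside `T_K`
is `Q`. -/
theorem wc_conj_eq_in {H : Type*} [Group H] [Finite H] {p : ℕ} [Fact p.Prime] (Q : Subgroup H)
    (hwc : Cfsg.IsWeaklyClosedSubgroup p Q) (K : Subgroup H)
    (TK : Sylow p ↥K) (hQT : Q ≤ (TK : Subgroup ↥K).map K.subtype) (g : H)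
    (hg : Q.map (cj g) ≤ (TK : Subgroup ↥K).map K.subtype) : Q.map (cj g) = Q := by
  obtain ⟨T, hT⟩ := hwc
  exact wc_conj_eq Q T hT _ (TK.2.map _) hQT g hg

theorem exists_sylow_subgroupOf_le {H : Type*} [Group H] {p : ℕ} (Q K : Subgroup H)
    (hQp : IsPGroup p Q) (hQK : Q ≤ K) :
    ∃ TK : Sylow p ↥K, Q ≤ (TK : Subgroup ↥K).map K.subtype := by
  obtain ⟨TK, hTK⟩ := (hQp.comap_subtype (K := K)).exists_le_sylow
  refine ⟨TK, fun q hq => ⟨⟨q, hQK hq⟩, hTK ?_, rfl⟩⟩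
  exact hq

/-- (a) -/
theorem wc_subgroupOf {H : Type*} [Group H] [Finite H] {p : ℕ} [Fact p.Prime] (Q : Subgroup H)
    (hQp : IsPGroup p Q) (hwc : Cfsg.IsWeaklyClosedSubgroup p Q) (K : Subgroup H) (hQK : Q ≤ K) :
    Cfsg.IsWeaklyClosedSubgroup p (Q.subgroupOf K) := by
  obtain ⟨TK, hTK⟩ := (hQp.comap_subtype (K := K)).exists_le_sylow
  have hQT : Q ≤ (TK : Subgroup ↥K).map K.subtype := by
    intro q hq
    exact ⟨⟨q, hQK hq⟩, hTK hq, rfl⟩
  refine ⟨TK, hTK, fun k hk => ?_⟩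
  apply Subgroup.map_injective K.subtype_injective
  rw [map_subtype_map_cj, Subgroup.map_subgroupOf_eq_of_le hQK]
  apply wc_conj_eq_in Q hwc K TK hQT
  have h1 := Subgroup.map_mono (f := K.subtype) hk
  rw [map_subtype_map_cj, Subgroup.map_subgroupOf_eq_of_le hQK] at h1
  exact h1

/-- (b) -/
theorem wc_conj_in {H : Type*} [Group H] [Finite H] {p : ℕ} [Fact p.Prime] (Q : Subgroup H)
    (hQp : IsPGroup p Q) (hwc : Cfsg.IsWeaklyClosedSubgroup p Q) (K : Subgroup H) (hQK : Q ≤ K)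
    (g : H) (hg : Q.map (cj g) ≤ K) : ∃ k ∈ K, Q.map (cj g) = Q.map (cj k) := by
  obtain ⟨TK, hQT⟩ := exists_sylow_subgroupOf_le Q K hQp hQK
  obtain ⟨S, hS⟩ := ((hQp.map (cj g)).comap_subtype (K := K)).exists_le_sylow
  obtain ⟨k, rfl⟩ := MulAction.exists_smul_eq ↥K TK S
  have h1 : Q.map (cj g) ≤ ((TK : Subgroup ↥K).map K.subtype).map (cj (k : H)) := by
    rw [← sylow_smul_map_subtype]
    intro y hy
    exact ⟨⟨y, hg hy⟩, hS hy, rfl⟩
  have h2 : Q.map (cj ((k : H)⁻¹ * g)) ≤ (TK : Subgroup ↥K).map K.subtype := by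
    rw [map_cj_mul, map_cj_le_iff, inv_inv]
    exact h1
  have h3 := wc_conj_eq_in Q hwc K TK hQT _ h2
  exact ⟨k, k.2, (map_cj_eq_map_cj_iff Q g k).mpr (mem_nzr_of_map_cj_eq Q _ h3)⟩

/-- (c) -/
theorem wc_normalizer_parabolic {H : Type*} [Group H] [Finite H] {p : ℕ} [Fact p.Prime]
    (Q : Subgroup H) (hQp : IsPGroup p Q) (hwc : Cfsg.IsWeaklyClosedSubgroup p Q) (K : Subgroup H)
    (hQK : Q ≤ K) : Cfsg.IsParabolic p ((Subgroup.normalizer (Q : Set H)).subgroupOf K) := by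
  obtain ⟨TK, hQT⟩ := exists_sylow_subgroupOf_le Q K hQp hQK
  refine ⟨TK, fun t ht => ?_⟩
  have h1 := wc_normalizer_le Q hwc _ (TK.2.map K.subtype) hQT
  exact h1 (Subgroup.le_normalizer (Subgroup.mem_map_of_mem _ ht))

theorem sylow_le_nzr_of_wc {H : Type*} [Group H] [Finite H] {p : ℕ} [Fact p.Prime]
    (Q : Subgroup H) (hwc : Cfsg.IsWeaklyClosedSubgroup p Q) (T : Sylow p H)
    (hQT : Q ≤ (T : Subgroup H)) : (T : Subgroup H) ≤ Subgroup.normalizer (Q : Set H) :=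
  Subgroup.le_normalizer.trans (wc_normalizer_le Q hwc T T.2 hQT)

/-- a conjugate of `Q` inside `T ⊔ N` (`N` normal, `T` a Sylow subgroup containing `Q`) is an
`N`-conjugate. -/
theorem wc_conj_in_sup_normal {H : Type*} [Group H] [Finite H] {p : ℕ} [Fact p.Prime]
    (Q : Subgroup H) (hQp : IsPGroup p Q) (hwc : Cfsg.IsWeaklyClosedSubgroup p Q)
    (A : Subgroup H) (hQA : Q ≤ A) (hAQ : A ≤ Subgroup.normalizer (Q : Set H))
    (N : Subgroup H) [N.Normal] (g : H) (hg : Q.map (cj g) ≤ N ⊔ A) :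
    ∃ n ∈ N, Q.map (cj g) = Q.map (cj n) := by
  obtain ⟨k, hk, hgk⟩ := wc_conj_in Q hQp hwc (N ⊔ A) (hQA.trans le_sup_right) g hg
  have hk' : k ∈ ((N ⊔ A : Subgroup H) : Set H) := hk
  rw [Subgroup.normal_mul] at hk'
  obtain ⟨n, hn, a, ha, rfl⟩ := Set.mem_mul.mp hk'
  refine ⟨n, hn, ?_⟩
  rw [hgk, map_cj_mul, map_cj_eq_of_mem_nzr Q a (hAQ ha)]

/-- (e) -/
theorem wc_quotient {H : Type*} [Group H] [Finite H] {p : ℕ} [Fact p.Prime] (Q : Subgroup H)
    (hQp : IsPGroup p Q) (hwc : Cfsg.IsWeaklyClosedSubgroup p Q) (N : Subgroup H) [N.Normal] :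
    Cfsg.IsWeaklyClosedSubgroup p (Q.map (QuotientGroup.mk' N)) := by
  obtain ⟨T, hQT⟩ := hQp.exists_le_sylow
  have hsurj := QuotientGroup.mk'_surjective N
  refine ⟨T.mapSurjective hsurj, ?_, ?_⟩
  · rw [Sylow.coe_mapSurjective]; exact Subgroup.map_mono hQT
  · intro gb hgb
    obtain ⟨g, rfl⟩ := hsurj gb
    rw [Sylow.coe_mapSurjective] at hgb
    change (Q.map (QuotientGroup.mk' N)).map (cj (QuotientGroup.mk' N g)) ≤ _ at hgb
    change (Q.map (QuotientGroup.mk' N)).map (cj (QuotientGroup.mk' N g)) = _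
    rw [← map_hom_map_cj] at hgb ⊢
    have h1 : Q.map (cj g) ≤ N ⊔ (T : Subgroup H) := by
      have h2 := Subgroup.map_le_iff_le_comap.mp hgb
      rw [Subgroup.comap_map_eq, QuotientGroup.ker_mk', sup_comm] at h2
      exact h2
    obtain ⟨n, hn, hgn⟩ := wc_conj_in_sup_normal Q hQp hwc T hQT
      (sylow_le_nzr_of_wc Q hwc T hQT) N g h1
    rw [hgn, map_hom_map_cj]
    have h3 : QuotientGroup.mk' N n = 1 := (QuotientGroup.eq_one_iff n).mpr hn
    rw [h3, map_cj_one]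

theorem presOf_normal_of_normal {H : Type*} [Group H] (p : ℕ) (N : Subgroup H) [hN : N.Normal] :
    (presOf p N).Normal := by
  rw [← Subgroup.normalizer_eq_top_iff, eq_top_iff]
  have h1 := presOf_normalized p N
  rw [Subgroup.normalizer_eq_top_iff.mpr hN] at h1
  exact h1

/-- (d) `N = N_N(Q) O^p(N)`. -/
theorem wc_normal_factor {H : Type*} [Group H] [Finite H] {p : ℕ} [Fact p.Prime] (Q : Subgroup H)
    (hQp : IsPGroup p Q) (hwc : Cfsg.IsWeaklyClosedSubgroup p Q) (N : Subgroup H) [hN : N.Normal] :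
    (N ⊓ Subgroup.normalizer (Q : Set H)) ⊔ (Cfsg.pResidual p ↥N).map N.subtype = N := by
  apply le_antisymm
  · exact sup_le inf_le_left (map_subtype_le' N _)
  intro n hn
  rw [pResidual_map_eq]
  have hRNn : (presOf p N).Normal := presOf_normal_of_normal p N
  have hsurj := QuotientGroup.mk'_surjective (presOf p N)
  obtain ⟨Tb, hTb⟩ := wc_quotient Q hQp hwc (presOf p N)
  have hNb : IsPGroup p (N.map (QuotientGroup.mk' (presOf p N))) := by
    rintro ⟨_, x, hx, rfl⟩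
    obtain ⟨k, hk⟩ := exists_pow_mem_presOf p N x hx
    refine ⟨k, Subtype.ext ?_⟩
    show (QuotientGroup.mk' (presOf p N) x) ^ (p ^ k) = 1
    rw [← map_pow]
    exact (QuotientGroup.eq_one_iff _).mpr hk
  have hNbn : (N.map (QuotientGroup.mk' (presOf p N))).Normal := hN.map _ hsurj
  have hR : IsPGroup p ↥(Q.map (QuotientGroup.mk' (presOf p N)) ⊔
      N.map (QuotientGroup.mk' (presOf p N))) :=
    IsPGroup.to_sup_of_normal_right (hQp.map _) hNb
  have h1 : (Q.map (cj n)).map (QuotientGroup.mk' (presOf p N)) ≤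
      Q.map (QuotientGroup.mk' (presOf p N)) ⊔ N.map (QuotientGroup.mk' (presOf p N)) := by
    rw [← Subgroup.map_sup]
    apply Subgroup.map_mono
    rintro _ ⟨q, hq, rfl⟩
    show n * q * n⁻¹ ∈ Q ⊔ N
    have e : n * q * n⁻¹ = q * (q⁻¹ * n * q * n⁻¹) := by group
    rw [e]
    refine Subgroup.mul_mem _ ((le_sup_left : Q ≤ Q ⊔ N) hq) ((le_sup_right : N ≤ Q ⊔ N) ?_)
    refine N.mul_mem ?_ (N.inv_mem hn)
    have h5 := hN.conj_mem n hn q⁻¹
    rwa [inv_inv] at h5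
  have h2 := wc_conj_eq _ Tb hTb _ hR le_sup_left (QuotientGroup.mk' (presOf p N) n)
    (by rw [← map_hom_map_cj]; exact h1)
  rw [← map_hom_map_cj] at h2
  have h3 : Q.map (cj n) ≤ presOf p N ⊔ Q := by
    have h4 := Subgroup.map_le_iff_le_comap.mp h2.le
    rwa [Subgroup.comap_map_eq, QuotientGroup.ker_mk', sup_comm] at h4
  obtain ⟨r, hr, hnr⟩ := wc_conj_in_sup_normal Q hQp hwc Q le_rfl Subgroup.le_normalizer
    (presOf p N) n h3
  have h4 := (map_cj_eq_map_cj_iff Q n r).mp hnr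
  have hrN : r ∈ N := presOf_le p N hr
  have e : n = r * (r⁻¹ * n) := by group
  rw [e]
  exact Subgroup.mul_mem _ ((le_sup_right : presOf p N ≤ _) hr)
    ((le_sup_left : N ⊓ Subgroup.normalizer (Q : Set H) ≤ _)
      ⟨N.mul_mem (N.inv_mem hrN) hn, h4⟩)

end Cfsg.Agent.Lib.H14
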