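import Cfsg.Agent.Lib.H14.FrakM1
import Cfsg.Agent.Lib.H14.WeaklyClosed2
import Cfsg.Agent.Lib.H14.BasicProp2

/-! Asymmetric `Y_M`: the word induction on the amalgam of two conjugates of `M`. -/

set_option autoImplicit false

namespace Cfsg.Agent.Lib.H14

section core

variable {G : Type*} [Group G] {p : ℕ} {ι : Type*}

/-- one step: if the conjugate `c(γ)Y_j` lies in `M_i` and `c(γ⁻¹)Y_i` lies in `M_j`, then
`c(γ)Y_j ≤ D_i`. -/
theorem asym_step (M D Y : ι → Subgroup G)
    (hMD : ∀ j, M j ≤ Subgroup.normalizer (D j : Set G))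
    (hMY : ∀ j, M j ≤ Subgroup.normalizer (Y j : Set G))
    (hYp : ∀ j, IsPGroup p (Y j))
    (hSyl : ∀ i, ∀ P : Subgroup G, IsPGroup p P → P ≤ Subgroup.centralizer (Y i : Set G) →
      P ≤ Subgroup.normalizer (D i : Set G) → P ≤ D i)
    (hAs : ∀ i j (γ : G), Y i ≤ Subgroup.normalizer (((Y j).map (cj γ) : Subgroup G) : Set G) →
      (Y j).map (cj γ) ≤ Subgroup.normalizer (Y i : Set G) →
      (Y j).map (cj γ) ≤ Subgroup.centralizer (Y i : Set G))
    (i j : ι) (γ : G) (h1 : (Y j).map (cj γ) ≤ M i) (h2 : (Y i).map (cj γ⁻¹) ≤ M j) :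
    (Y j).map (cj γ) ≤ D i := by
  apply hSyl i _ (isPGroup_map_cj _ (hYp j) γ)
  · apply hAs i j γ
    · rw [nzr_map_cj]
      have := Subgroup.map_mono (f := cj γ) (h2.trans (hMY j))
      rwa [map_cj_inv_cj] at this
    · exact h1.trans (hMY i)
  · exact h1.trans (hMD i)

theorem asym_core (M D Y : ι → Subgroup G)
    (hDM : ∀ k j, D k ≤ M j)
    (hMD : ∀ j, M j ≤ Subgroup.normalizer (D j : Set G))
    (hMY : ∀ j, M j ≤ Subgroup.normalizer (Y j : Set G))
    (hYp : ∀ j, IsPGroup p (Y j))
    (hYD : ∀ j, Y j ≤ D j)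
    (hSyl : ∀ i, ∀ P : Subgroup G, IsPGroup p P → P ≤ Subgroup.centralizer (Y i : Set G) →
      P ≤ Subgroup.normalizer (D i : Set G) → P ≤ D i)
    (hAs : ∀ i j (γ : G), Y i ≤ Subgroup.normalizer (((Y j).map (cj γ) : Subgroup G) : Set G) →
      (Y j).map (cj γ) ≤ Subgroup.normalizer (Y i : Set G) →
      (Y j).map (cj γ) ≤ Subgroup.centralizer (Y i : Set G)) :
    ∀ n : ℕ, ∀ l : List G, l.length ≤ n → (∀ m ∈ l, ∃ k, m ∈ M k) →
      ∀ i j, (Y j).map (cj l.prod) ≤ D i := by
  intro n
  induction n with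
  | zero =>
    intro l hl _ i j
    have : l = [] := List.length_eq_zero_iff.mp (Nat.le_zero.mp hl)
    subst this
    apply asym_step M D Y hMD hMY hYp hSyl hAs
    · rw [List.prod_nil, map_cj_one]; exact (hYD j).trans (hDM j i)
    · rw [List.prod_nil, inv_one, map_cj_one]; exact (hYD i).trans (hDM i j)
  | succ n ih =>
    intro l hl hlM i j
    rcases List.eq_nil_or_concat' l with rfl | ⟨init, b, hinit⟩
    · exact ih [] (Nat.zero_le _) (by simp) i j
    · have hne : l ≠ [] := by rw [hinit]; simp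
      obtain ⟨a, tl, htl⟩ := List.exists_cons_of_ne_nil hne
      obtain ⟨k₁, hk₁⟩ := hlM a (by rw [htl]; simp)
      obtain ⟨k, hk⟩ := hlM b (by rw [hinit]; simp)
      apply asym_step M D Y hMD hMY hYp hSyl hAs
      · -- first letter
        have h1 : (Y j).map (cj tl.prod) ≤ D k₁ := by
          apply ih tl
          · rw [htl] at hl; simpa using hl
          · intro m hm; exact hlM m (by rw [htl]; simp [hm])
        have h2 : (Y j).map (cj l.prod) ≤ D k₁ := by
          rw [htl, List.prod_cons, map_cj_mul]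
          have := Subgroup.map_mono (f := cj a) h1
          rwa [map_cj_eq_of_mem_nzr (D k₁) a (hMD k₁ hk₁)] at this
        exact h2.trans (hDM k₁ i)
      · -- last letter
        have h1 : (Y i).map (cj (init.map (fun x => x⁻¹)).reverse.prod) ≤ D k := by
          apply ih
          · rw [hinit] at hl; simpa using hl
          · intro m hm
            rw [List.mem_reverse, List.mem_map] at hm
            obtain ⟨m', hm', rfl⟩ := hm
            obtain ⟨k', hk'⟩ := hlM m' (by rw [hinit]; simp [hm'])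
            exact ⟨k', Subgroup.inv_mem _ hk'⟩
        rw [← List.prod_inv_reverse] at h1
        have h2 : (Y i).map (cj l.prod⁻¹) ≤ D k := by
          rw [hinit, List.prod_append, List.prod_singleton, mul_inv_rev, map_cj_mul]
          have := Subgroup.map_mono (f := cj b⁻¹) h1
          rwa [map_cj_eq_of_mem_nzr (D k) b⁻¹ (Subgroup.inv_mem _ (hMD k hk))] at this
        exact h2.trans (hDM k j)

end core

end Cfsg.Agent.Lib.H14
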