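import Mathlib

/-! The normalizer of a subgroup normalizes its centralizer (shared by `Large` and `PReduced3`). -/

set_option autoImplicit false

namespace Cfsg.Agent.Lib.H14

theorem nzr_le_nzr_centralizer {G : Type*} [Group G] (P : Subgroup G) :
    Subgroup.normalizer (P : Set G) ≤
      Subgroup.normalizer ((Subgroup.centralizer (P : Set G) : Subgroup G) : Set G) := by
  have := Subgroup.normal_subgroupOf_centralizer_normalizer (P : Set G)
  rwa [Subgroup.normal_subgroupOf_iff_le_normalizer (Subgroup.centralizer_le_normalizer _)] at this

end Cfsg.Agent.Lib.H14
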