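import Cfsg.Agent.Lib.H14.PReduced2
import Cfsg.Agent.Lib.H14.OmegaOne
import Cfsg.Agent.Lib.H14.Norm
import Cfsg.Agent.Lib.H14.NzrCent
set_option autoImplicit false
open Cfsg

namespace Cfsg.Agent.Lib.H14

section
variable {G : Type*} [Group G] {p : ℕ}

/-- Relative ambient form of "`Y` is reduced for `M`": every subgroup of `M` normalized by `M`
all of whose elements have a `p`-power centralizing `Y` centralizes `Y`. -/
def RedCritIn (p : ℕ) (M Y : Subgroup G) : Prop :=
  ∀ D : Subgroup G, D ≤ M → M ≤ Subgroup.normalizer (D : Set G) →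
    (∀ d ∈ D, ∃ k : ℕ, d ^ (p ^ k) ∈ Subgroup.centralizer (Y : Set G)) →
    D ≤ Subgroup.centralizer (Y : Set G)

theorem mem_centralizer_map_subtype_iff (M : Subgroup G) (X : Subgroup ↥M) (x : ↥M) :
    x ∈ Subgroup.centralizer (X : Set ↥M) ↔
      (x : G) ∈ Subgroup.centralizer ((X.map M.subtype : Subgroup G) : Set G) := by
  rw [Subgroup.mem_centralizer_iff, Subgroup.mem_centralizer_iff]
  constructor
  · rintro h y ⟨z, hz, rfl⟩
    have := congrArg Subtype.val (h z hz)
    simpa using this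
  · intro h z hz
    apply Subtype.ext
    have := h (z : G) ⟨z, hz, rfl⟩
    simpa using this

theorem redCrit_iff_redCritIn (M : Subgroup G) (X : Subgroup ↥M) :
    RedCrit p X ↔ RedCritIn p M (X.map M.subtype) := by
  constructor
  · intro h D hDM hMD hpow
    have hDn : (D.subgroupOf M).Normal := by
      rw [Subgroup.normal_subgroupOf_iff_le_normalizer hDM]; exact hMD
    have := h (D.subgroupOf M) hDn (by
      intro d hd
      rw [Subgroup.mem_subgroupOf] at hd
      obtain ⟨k, hk⟩ := hpow _ hd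
      refine ⟨k, ?_⟩
      rw [mem_centralizer_map_subtype_iff]
      simpa using hk)
    intro d hd
    have h1 : (⟨d, hDM hd⟩ : ↥M) ∈ D.subgroupOf M := by rw [Subgroup.mem_subgroupOf]; exact hd
    have h2 := this h1
    rw [mem_centralizer_map_subtype_iff] at h2
    exact h2
  · intro h D' hD' hpow
    have h1 : D'.map M.subtype ≤ Subgroup.centralizer ((X.map M.subtype : Subgroup G) : Set G) := by
      apply h
      · exact Subgroup.map_subtype_le _
      · intro m hm
        rw [Subgroup.mem_normalizer_iff]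
        intro x
        constructor
        · rintro ⟨y, hy, rfl⟩
          exact ⟨⟨m, hm⟩ * y * ⟨m, hm⟩⁻¹, hD'.conj_mem y hy ⟨m, hm⟩, by simp⟩
        · rintro ⟨y, hy, hyx⟩
          have hxM : x ∈ M := by
            have : m⁻¹ * (m * x * m⁻¹) * m ∈ M :=
              M.mul_mem (M.mul_mem (M.inv_mem hm) (hyx ▸ y.2)) hm
            have e : m⁻¹ * (m * x * m⁻¹) * m = x := by group
            rwa [e] at this
          refine ⟨⟨x, hxM⟩, ?_, rfl⟩
          have := hD'.conj_mem y hy ⟨m, hm⟩⁻¹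
          have e : (⟨m, hm⟩ : ↥M)⁻¹ * y * (⟨m, hm⟩ : ↥M)⁻¹⁻¹ = ⟨x, hxM⟩ := by
            apply Subtype.ext
            simp only [Subgroup.coe_mul, InvMemClass.coe_inv, inv_inv]
            have : (y : G) = m * x * m⁻¹ := hyx
            rw [this]; group
          rwa [e] at this
      · rintro d ⟨d', hd', rfl⟩
        obtain ⟨k, hk⟩ := hpow d' hd'
        refine ⟨k, ?_⟩
        rw [mem_centralizer_map_subtype_iff] at hk
        simpa using hk
    intro d hd
    rw [mem_centralizer_map_subtype_iff]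
    exact h1 ⟨d, hd, rfl⟩

theorem isElementaryAbelian_map_subtype_iff (M : Subgroup G) (X : Subgroup ↥M) :
    Cfsg.IsElementaryAbelian p X ↔ Cfsg.IsElementaryAbelian p (X.map M.subtype) := by
  constructor
  · rintro ⟨h1, h2⟩
    refine ⟨⟨⟨?_⟩⟩, ?_⟩
    · rintro ⟨a, a', ha', rfl⟩ ⟨b, b', hb', rfl⟩
      apply Subtype.ext
      have := congrArg Subtype.val (congrArg Subtype.val (h1.is_comm.comm ⟨a', ha'⟩ ⟨b', hb'⟩))
      simpa using this
    · rintro a ⟨a', ha', rfl⟩
      have := congrArg Subtype.val (h2 a' ha')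
      simpa using this
  · rintro ⟨h1, h2⟩
    refine ⟨⟨⟨?_⟩⟩, ?_⟩
    · rintro ⟨a, ha⟩ ⟨b, hb⟩
      apply Subtype.ext
      apply Subtype.ext
      have := congrArg Subtype.val (h1.is_comm.comm ⟨(a : G), ⟨a, ha, rfl⟩⟩ ⟨(b : G), ⟨b, hb, rfl⟩⟩)
      simpa using this
    · intro a ha
      apply Subtype.ext
      have := h2 (a : G) ⟨a, ha, rfl⟩
      simpa using this

theorem normal_iff_le_normalizer_map_subtype (M : Subgroup G) (X : Subgroup ↥M) :
    X.Normal ↔ M ≤ Subgroup.normalizer ((X.map M.subtype : Subgroup G) : Set G) := by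
  rw [← Subgroup.normal_subgroupOf_iff_le_normalizer (Subgroup.map_subtype_le X)]
  have : (X.map M.subtype).subgroupOf M = X := by
    ext x
    rw [Subgroup.mem_subgroupOf]
    constructor
    · rintro ⟨y, hy, hyx⟩
      have : y = x := Subtype.ext hyx
      rwa [← this]
    · intro hx
      exact ⟨x, hx, rfl⟩
  rw [this]

/-- Ambient description of `p`-reduced normal subgroups of a subgroup `M`. -/
theorem isPReducedNormal_iff_ambient (M : Subgroup G) (X : Subgroup ↥M) :
    Cfsg.IsPReducedNormal p X ↔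
      M ≤ Subgroup.normalizer ((X.map M.subtype : Subgroup G) : Set G) ∧
        Cfsg.IsElementaryAbelian p (X.map M.subtype) ∧ RedCritIn p M (X.map M.subtype) := by
  rw [isPReducedNormal_iff, normal_iff_le_normalizer_map_subtype,
    isElementaryAbelian_map_subtype_iff, redCrit_iff_redCritIn]

theorem isPReducedNormal_subgroupOf_iff (M Y : Subgroup G) (hYM : Y ≤ M) :
    Cfsg.IsPReducedNormal p (Y.subgroupOf M) ↔
      M ≤ Subgroup.normalizer (Y : Set G) ∧ Cfsg.IsElementaryAbelian p Y ∧ RedCritIn p M Y := by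
  rw [isPReducedNormal_iff_ambient, Subgroup.map_subgroupOf_eq_of_le hYM]

theorem exists_mul_pow_eq (C : Subgroup G) (d c : G) (hd : d ∈ Subgroup.normalizer (C : Set G))
    (hc : c ∈ C) (n : ℕ) : ∃ c' ∈ C, (d * c) ^ n = d ^ n * c' := by
  induction n with
  | zero => exact ⟨1, C.one_mem, by simp⟩
  | succ n ih =>
    obtain ⟨c', hc', h⟩ := ih
    refine ⟨d⁻¹ * c' * d * c, C.mul_mem ?_ hc, ?_⟩
    · have := (Subgroup.mem_normalizer_iff.mp (Subgroup.inv_mem _ hd) c').mp hc'
      simpa using this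
    · rw [pow_succ, h, pow_succ]; group

/-- Transfer of reducedness between two subgroups with the same product with `C(Y)`. -/
theorem redCritIn_transfer (M L Y : Subgroup G) (hM : RedCritIn p M Y)
    (hMY : M ≤ Subgroup.normalizer (Y : Set G))
    (h : L ⊔ Subgroup.centralizer (Y : Set G) = M ⊔ Subgroup.centralizer (Y : Set G)) :
    RedCritIn p L Y := by
  set C := Subgroup.centralizer (Y : Set G) with hC
  have hMC : M ≤ Subgroup.normalizer (C : Set G) := hMY.trans (nzr_le_nzr_centralizer Y)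
  have hCC : C ≤ Subgroup.normalizer (C : Set G) := Subgroup.le_normalizer
  have hLC : L ≤ Subgroup.normalizer (C : Set G) :=
    (le_sup_left.trans h.le).trans (sup_le hMC hCC)
  intro D hDL hLD hpow
  have hDC : D ≤ Subgroup.normalizer (C : Set G) := hDL.trans hLC
  have hL1 : L ≤ Subgroup.normalizer ((D ⊔ C : Subgroup G) : Set G) := le_nzr_sup L D C hLD hLC
  have hC1 : C ≤ Subgroup.normalizer ((D ⊔ C : Subgroup G) : Set G) :=
    le_sup_right.trans Subgroup.le_normalizer
  have hM1 : M ≤ Subgroup.normalizer ((D ⊔ C : Subgroup G) : Set G) :=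
    (le_sup_left.trans h.ge).trans (sup_le hL1 hC1)
  have hD' : (D ⊔ C) ⊓ M ≤ C := by
    apply hM _ inf_le_right (le_nzr_inf M _ _ hM1 Subgroup.le_normalizer)
    rintro x ⟨hx, -⟩
    have hx' : x ∈ ((D ⊔ C : Subgroup G) : Set G) := hx
    rw [Subgroup.coe_mul_of_left_le_normalizer_right D C hDC] at hx'
    obtain ⟨d, hd, c, hc, rfl⟩ := Set.mem_mul.mp hx'
    obtain ⟨k, hk⟩ := hpow d hd
    refine ⟨k, ?_⟩
    obtain ⟨c', hc', e⟩ := exists_mul_pow_eq C d c (hDC hd) hc (p ^ k)
    rw [e]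
    exact C.mul_mem hk hc'
  intro d hd
  have hdLC : d ∈ ((M ⊔ C : Subgroup G) : Set G) := h.le (le_sup_left (a := L) (hDL hd))
  rw [Subgroup.coe_mul_of_left_le_normalizer_right M C hMC] at hdLC
  obtain ⟨m, hm, c, hc, rfl⟩ := Set.mem_mul.mp hdLC
  have hm' : m ∈ (D ⊔ C) ⊓ M := by
    refine ⟨?_, hm⟩
    have : m = (m * c) * c⁻¹ := by group
    rw [this]
    exact Subgroup.mul_mem _ (le_sup_left (a := D) hd) (le_sup_right (a := D) (C.inv_mem hc))
  exact C.mul_mem (hD' hm') hc

theorem redCrit_iff_redCritIn_top (Y : Subgroup G) : RedCrit p Y ↔ RedCritIn p ⊤ Y := by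
  constructor
  · intro h D _ hD hpow
    exact h D (Subgroup.normalizer_eq_top_iff.mp (top_le_iff.mp hD)) hpow
  · intro h D hD hpow
    exact h D le_top (by rw [Subgroup.normalizer_eq_top_iff.mpr hD]) hpow

theorem nzr_le_nzr_oz (p : ℕ) (P : Subgroup G) :
    Subgroup.normalizer (P : Set G) ≤
      Subgroup.normalizer ((Cfsg.omegaOne p (P ⊓ Subgroup.centralizer (P : Set G)) : Subgroup G) : Set G) := by
  apply le_nzr_of_conj_mem
  intro g hg x hx
  have key : Cfsg.omegaOne p (P ⊓ Subgroup.centralizer (P : Set G)) ≤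
      (Cfsg.omegaOne p (P ⊓ Subgroup.centralizer (P : Set G))).comap (MulAut.conj g).toMonoidHom := by
    conv_lhs => unfold Cfsg.omegaOne
    rw [Subgroup.closure_le]
    rintro y ⟨⟨hyP, hyC⟩, hyp⟩
    rw [SetLike.mem_coe, Subgroup.mem_comap, MulEquiv.coe_toMonoidHom, MulAut.conj_apply]
    apply Subgroup.subset_closure
    refine ⟨⟨(Subgroup.mem_normalizer_iff.mp hg y).mp hyP, ?_⟩, by rw [conj_pow, hyp]; group⟩
    have hC := nzr_le_nzr_centralizer P hg
    exact (Subgroup.mem_normalizer_iff.mp hC y).mp hyC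
  have := key hx
  rwa [Subgroup.mem_comap, MulEquiv.coe_toMonoidHom, MulAut.conj_apply] at this

theorem isElementaryAbelian_oz (p : ℕ) (P : Subgroup G) :
    Cfsg.IsElementaryAbelian p (Cfsg.omegaOne p (P ⊓ Subgroup.centralizer (P : Set G))) := by
  refine ⟨⟨⟨?_⟩⟩, ?_⟩
  · rintro ⟨a, ha⟩ ⟨b, hb⟩
    apply Subtype.ext
    obtain ⟨ha1, ha2, ha3⟩ := mem_oz_props p P a ha
    obtain ⟨hb1, hb2, hb3⟩ := mem_oz_props p P b hb
    exact hb2 a ha1
  · intro a ha
    exact (mem_oz_props p P a ha).2.2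

end

end Cfsg.Agent.Lib.H14
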