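import Cfsg.Agent.Lib.H14.PReduced7
import Cfsg.Agent.Lib.H14.PIrr
import Cfsg.Agent.S2803

/-! Ambient forms of S2803 (c) and of the Frattini argument, for S2824. -/

set_option autoImplicit false
open Cfsg

namespace Cfsg.Agent.Lib.H14


section
variable {G : Type*} [Group G] {p : ℕ}

theorem omegaOne_map_subtype (L : Subgroup G) (X : Subgroup ↥L) :
    (Cfsg.omegaOne p X).map L.subtype = Cfsg.omegaOne p (X.map L.subtype) := by
  unfold Cfsg.omegaOne
  rw [MonoidHom.map_closure]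
  congr 1
  ext x
  constructor
  · rintro ⟨y, ⟨hy, hyp⟩, rfl⟩
    refine ⟨⟨y, hy, rfl⟩, ?_⟩
    rw [← map_pow, hyp, map_one]
  · rintro ⟨⟨y, hy, rfl⟩, hyp⟩
    refine ⟨y, ⟨hy, ?_⟩, rfl⟩
    apply L.subtype_injective
    rw [map_pow, hyp, map_one]

/-- `(X ⊓ C_L(Z)).map = X.map ⊓ C_G(Z.map)` for subgroups `X, Z` of `↥L`. -/
theorem map_subtype_inf_centralizer' (L : Subgroup G) (X Z : Subgroup ↥L) :
    (X ⊓ Subgroup.centralizer (Z : Set ↥L)).map L.subtype =
      X.map L.subtype ⊓ Subgroup.centralizer ((Z.map L.subtype : Subgroup G) : Set G) := by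
  ext x
  constructor
  · rintro ⟨y, ⟨hy1, hy2⟩, rfl⟩
    exact ⟨⟨y, hy1, rfl⟩, (mem_centralizer_map_subtype_iff L Z y).mp hy2⟩
  · rintro ⟨⟨y, hy, rfl⟩, h2⟩
    exact ⟨y, ⟨hy, (mem_centralizer_map_subtype_iff L Z y).mpr h2⟩, rfl⟩

/-- Ambient form of S2803 (c): `Y_L = Ω₁(Z(C_T(Y_L)))`. -/
theorem largestPReducedOf_eq_oz [Finite G] [Fact p.Prime] (T : Sylow p G) (L : Subgroup G)
    (hTL : (T : Subgroup G) ≤ L)
    (hL : Subgroup.centralizer (Cfsg.pCore p ↥L : Set ↥L) ≤ Cfsg.pCore p ↥L) :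
    Cfsg.largestPReducedOf p L =
      Cfsg.omegaOne p (((T : Subgroup G) ⊓
          Subgroup.centralizer ((Cfsg.largestPReducedOf p L : Subgroup G) : Set G)) ⊓
        Subgroup.centralizer ((((T : Subgroup G) ⊓
          Subgroup.centralizer ((Cfsg.largestPReducedOf p L : Subgroup G) : Set G)) :
            Subgroup G) : Set G)) := by
  have h := (Cfsg.Agent.S2803.aux hL (T.subtype hTL) (Cfsg.largestPReduced p ↥L)
    ⟨isPReducedNormal_largestPReduced, fun V hV => le_largestPReduced V hV⟩).2.2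
  have hT : ((T.subtype hTL : Sylow p ↥L) : Subgroup ↥L).map L.subtype = (T : Subgroup G) := by
    rw [Sylow.coe_subtype, Subgroup.map_subgroupOf_eq_of_le hTL]
  have h2 := congrArg (Subgroup.map L.subtype) h
  rw [omegaOne_map_subtype, map_subtype_inf_centralizer', map_subtype_inf_centralizer', hT] at h2
  exact h2

/-- Frattini argument in ambient form. -/
theorem le_nzr_sylow_inf_sup [Finite G] [Fact p.Prime] (T : Sylow p G) (M C : Subgroup G)
    (hTM : (T : Subgroup G) ≤ M) (hMC : M ≤ Subgroup.normalizer (C : Set G)) :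
    M ≤ (M ⊓ Subgroup.normalizer (((T : Subgroup G) ⊓ C : Subgroup G) : Set G)) ⊔ C := by
  have hCn : (C.subgroupOf M).Normal := by
    constructor
    intro n hn g
    rw [Subgroup.mem_subgroupOf] at *
    have := (Subgroup.mem_normalizer_iff.mp (hMC g.2) (n : G)).mp hn
    simpa using this
  have hsup := Sylow.normalizer_sup_eq_top (sylowInf (T.subtype hTM) (C.subgroupOf M))
  rw [sylowInf_map] at hsup
  intro m hm
  have hg : (⟨m, hm⟩ : ↥M) ∈ ((Subgroup.normalizer
      ((((T.subtype hTM : Sylow p ↥M) : Subgroup ↥M) ⊓ C.subgroupOf M : Subgroup ↥M) : Set ↥M) ⊔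
        C.subgroupOf M : Subgroup ↥M) : Set ↥M) := by rw [hsup]; trivial
  rw [Subgroup.mul_normal] at hg
  obtain ⟨a, ha, c, hc, e⟩ := Set.mem_mul.mp hg
  have e' : m = (a : G) * (c : G) := by
    have := congrArg Subtype.val e
    simpa using this.symm
  rw [e']
  refine Subgroup.mul_mem_sup ⟨a.2, ?_⟩ (Subgroup.mem_subgroupOf.mp hc)
  have ha' : a ∈ Subgroup.normalizer
      ((((T.subtype hTM : Sylow p ↥M) : Subgroup ↥M) ⊓ C.subgroupOf M : Subgroup ↥M) : Set ↥M) := ha
  show (a : G) ∈ Subgroup.normalizer (((T : Subgroup G) ⊓ C : Subgroup G) : Set G)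
  rw [Subgroup.mem_normalizer_iff] at ha' ⊢
  have key : ∀ y : ↥M, y ∈ (((T.subtype hTM : Sylow p ↥M) : Subgroup ↥M) ⊓ C.subgroupOf M) ↔
      (y : G) ∈ (T : Subgroup G) ⊓ C := by
    intro y
    rw [Subgroup.mem_inf, Subgroup.mem_inf, Sylow.coe_subtype, Subgroup.mem_subgroupOf,
      Subgroup.mem_subgroupOf]
  intro x
  by_cases hx : x ∈ M
  · have := ha' ⟨x, hx⟩
    rw [key, key] at this
    simpa using this
  · constructor
    · intro hx'
      exact absurd (hTM hx'.1) hx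
    · intro hx'
      exfalso
      apply hx
      have h1 : (a : G) * x * (a : G)⁻¹ ∈ M := hTM hx'.1
      have : x = (a : G)⁻¹ * ((a : G) * x * (a : G)⁻¹) * (a : G) := by group
      rw [this]
      exact M.mul_mem (M.mul_mem (M.inv_mem a.2) h1) a.2

end
end Cfsg.Agent.Lib.H14
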