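import Cfsg.Agent.Lib.H14.PReduced6
import Cfsg.Agent.Lib.H14.NilSupp
set_option autoImplicit false
open Cfsg

namespace Cfsg.Agent.Lib.H14

open scoped commutatorElement

section
variable {G : Type*} [Group G] {p : ℕ}

/-- Generalized core step: `V` reduced for `K`, `H ⊴ K`, `W ≤ V` normalized by `K` and containing
`[V, O^p(H)]`; then `W` is reduced for `H`. -/
theorem redCritIn_of_commutator_le [Finite G] [Fact p.Prime] (K H V W : Subgroup G) (hHK : H ≤ K)
    (hKH : K ≤ Subgroup.normalizer (H : Set G)) (hKV : K ≤ Subgroup.normalizer (V : Set G))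
    (hVe : Cfsg.IsElementaryAbelian p V) (hVr : RedCritIn p K V) (hWV : W ≤ V)
    (hKW : K ≤ Subgroup.normalizer (W : Set G)) (hc : ⁅V, presOf p H⁆ ≤ W) :
    RedCritIn p H W := by
  intro D hDH hHD hpow
  set CW := Subgroup.centralizer (W : Set G) with hCW
  have hKCW : K ≤ Subgroup.normalizer (CW : Set G) := hKW.trans (nzr_le_nzr_centralizer W)
  set 𝒮 : Set (Subgroup G) := {E | E ≤ H ∧ H ≤ Subgroup.normalizer (E : Set G) ∧ PMod p E CW}
    with h𝒮
  obtain ⟨e1, e2, e3⟩ := pmod_sSup_of_finite (p := p) H CW (hHK.trans hKCW) 𝒮 (Set.toFinite _)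
    (fun E hE => hE)
  set E₀ := sSup 𝒮 with hE₀
  have hDE : D ≤ E₀ := le_sSup ⟨hDH, hHD, hpow⟩
  have hKE : K ≤ Subgroup.normalizer (E₀ : Set G) := by
    apply le_nzr_of_conj_mem
    intro k hk x hx
    have key : E₀ ≤ E₀.comap (cj k) := by
      apply sSup_le
      rintro E ⟨hE1, hE2, hE3⟩
      rw [← Subgroup.map_le_iff_le_comap]
      apply le_sSup
      refine ⟨?_, ?_, ?_⟩
      · rintro _ ⟨e, he, rfl⟩
        exact (Subgroup.mem_normalizer_iff.mp (hKH hk) e).mp (hE1 he)
      · rw [nzr_map_cj]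
        have : H.map (cj k) = H := map_cj_eq_of_mem_nzr H k (hKH hk)
        rw [← this]
        exact Subgroup.map_mono hE2
      · rintro _ ⟨e, he, rfl⟩
        obtain ⟨j, hj⟩ := hE3 e he
        refine ⟨j, ?_⟩
        rw [← map_pow]
        exact (Subgroup.mem_normalizer_iff.mp (hKCW hk) _).mp hj
    have := key hx
    rwa [Subgroup.mem_comap, MulEquiv.coe_toMonoidHom, MulAut.conj_apply] at this
  have hVc := comm_of_isElementaryAbelian V hVe
  have hP : presOf p E₀ ≤ Subgroup.centralizer (V : Set G) := by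
    unfold presOf
    rw [Subgroup.closure_le]
    rintro x ⟨hxE, hxc⟩
    have hxCW : x ∈ CW := by
      obtain ⟨j, hj⟩ := e3 x hxE
      exact mem_of_pow_mem_of_coprime p CW x hxc j hj
    have hxR : x ∈ presOf p H := Subgroup.subset_closure ⟨e1 hxE, hxc⟩
    have hxK : x ∈ K := hHK (e1 hxE)
    rw [SetLike.mem_coe, Subgroup.mem_centralizer_iff]
    intro v hv
    have := commutator_mem_of_coprime (p := p) V ⊥ hVc hVe.2 bot_le x hxc (hKV hxK)
      (by rw [Subgroup.normalizer_eq_top_iff.mpr (inferInstance : (⊥ : Subgroup G).Normal)]; trivial)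
      (by
        intro v hv
        have hw : ⁅x, v⁆ ∈ W := by
          apply hc
          rw [Subgroup.commutator_comm]
          exact Subgroup.commutator_mem_commutator hxR hv
        rw [Subgroup.mem_bot, commutatorElement_eq_one_iff_commute]
        exact ((Subgroup.mem_centralizer_iff.mp hxCW) _ hw).symm) v hv
    rw [Subgroup.mem_bot, commutatorElement_eq_one_iff_commute] at this
    exact this.eq.symm
  have hE₀V : E₀ ≤ Subgroup.centralizer (V : Set G) := by
    apply hVr E₀ (e1.trans hHK) hKE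
    intro d hd
    obtain ⟨k, hk⟩ := exists_pow_mem_presOf p E₀ d hd
    exact ⟨k, hP hk⟩
  exact (hDE.trans hE₀V).trans
    (Subgroup.centralizer_le (show (W : Set G) ⊆ (V : Set G) from fun w hw => hWV hw))

/-- `p'`-generated part of `D` centralizes `V` as soon as it acts quadratically. -/
theorem presOf_le_centralizer_of_quadratic [Fact p.Prime] (D V W : Subgroup G)
    (hDV : D ≤ Subgroup.normalizer (V : Set G)) (hVe : Cfsg.IsElementaryAbelian p V)
    (h1 : ⁅V, D⁆ ≤ W) (h2 : D ≤ Subgroup.centralizer (W : Set G)) :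
    presOf p D ≤ Subgroup.centralizer (V : Set G) := by
  unfold presOf
  rw [Subgroup.closure_le]
  rintro x ⟨hxD, hxc⟩
  rw [SetLike.mem_coe, Subgroup.mem_centralizer_iff]
  intro v hv
  have := commutator_mem_of_coprime (p := p) V ⊥ (comm_of_isElementaryAbelian V hVe) hVe.2 bot_le x
    hxc (hDV hxD)
    (by rw [Subgroup.normalizer_eq_top_iff.mpr (inferInstance : (⊥ : Subgroup G).Normal)]; trivial)
    (by
      intro v hv
      have hw : ⁅x, v⁆ ∈ W := by
        apply h1
        rw [Subgroup.commutator_comm]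
        exact Subgroup.commutator_mem_commutator hxD hv
      rw [Subgroup.mem_bot, commutatorElement_eq_one_iff_commute]
      exact ((Subgroup.mem_centralizer_iff.mp (h2 hxD)) _ hw).symm) v hv
  rw [Subgroup.mem_bot, commutatorElement_eq_one_iff_commute] at this
  exact this.eq.symm

theorem pmod_of_presOf_le [Finite G] [Fact p.Prime] (D C : Subgroup G) (h : presOf p D ≤ C) :
    PMod p D C := by
  intro d hd
  obtain ⟨k, hk⟩ := exists_pow_mem_presOf p D d hd
  exact ⟨k, h hk⟩

theorem presOf_le_of_pmod (D C : Subgroup G) (h : PMod p D C) : presOf p D ≤ C := by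
  unfold presOf
  rw [Subgroup.closure_le]
  rintro x ⟨hxD, hxc⟩
  obtain ⟨k, hk⟩ := h x hxD
  exact mem_of_pow_mem_of_coprime p C x hxc k hk

/-- Normal case: `K' ⊴ K`, `V` reduced for `K`: `C_{K'}(V ∩ K') ≤ C(V)`. -/
theorem inf_centralizer_inf_le [Finite G] [Fact p.Prime] (K K' V : Subgroup G) (hK'K : K' ≤ K)
    (hKK' : K ≤ Subgroup.normalizer (K' : Set G)) (hVK : V ≤ K)
    (hKV : K ≤ Subgroup.normalizer (V : Set G))
    (hVe : Cfsg.IsElementaryAbelian p V) (hVr : RedCritIn p K V) :
    K' ⊓ Subgroup.centralizer ((V ⊓ K' : Subgroup G) : Set G) ≤ Subgroup.centralizer (V : Set G) := by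
  set D := K' ⊓ Subgroup.centralizer ((V ⊓ K' : Subgroup G) : Set G) with hD
  have hKW : K ≤ Subgroup.normalizer ((V ⊓ K' : Subgroup G) : Set G) := le_nzr_inf K V K' hKV hKK'
  have hKD : K ≤ Subgroup.normalizer (D : Set G) :=
    le_nzr_inf K K' _ hKK' (hKW.trans (nzr_le_nzr_centralizer _))
  apply hVr D (inf_le_left.trans hK'K) hKD
  apply pmod_of_presOf_le
  apply presOf_le_centralizer_of_quadratic D V (V ⊓ K') ((inf_le_left.trans hK'K).trans hKV) hVe
  · apply le_inf
    · exact Subgroup.le_normalizer_iff_commutator_le_left.mp ((inf_le_left.trans hK'K).trans hKV)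
    · refine le_trans (Subgroup.commutator_mono hVK (inf_le_left : D ≤ K')) ?_
      exact Subgroup.le_normalizer_iff_commutator_le_right.mp hKK'
  · exact inf_le_right

/-- A group acting as a `p`-group on a nontrivial finite `p`-group `X` has `[X, Q] < X`. -/
theorem eq_bot_of_le_commutator_of_pmod [Finite G] [Fact p.Prime] (X Q : Subgroup G)
    (hX : IsPGroup p X) (hQX : Q ≤ Subgroup.normalizer (X : Set G))
    (hpm : PMod p Q (Subgroup.centralizer (X : Set G))) (h : X ≤ ⁅X, Q⁆) : X = ⊥ := by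
  have S : Sylow p ↥Q := Classical.arbitrary _
  set P : Subgroup G := (S : Subgroup ↥Q).map Q.subtype with hP
  have hPp : IsPGroup p P := S.2.map Q.subtype
  have hPQ : P ≤ Q := Subgroup.map_subtype_le _
  have hRC : presOf p Q ≤ Subgroup.centralizer (X : Set G) := presOf_le_of_pmod Q _ hpm
  have hQeq : Q = presOf p Q ⊔ P := by
    have h1 := pResidual_sup_sylow S
    have h2 := congrArg (Subgroup.map Q.subtype) h1
    rw [Subgroup.map_sup, pResidual_map_eq, ← MonoidHom.range_eq_map, Subgroup.range_subtype] at h2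
    exact h2.symm
  have hPX : P ≤ Subgroup.normalizer (X : Set G) := hPQ.trans hQX
  have hBX : ⁅P, X⁆ ≤ X := Subgroup.le_normalizer_iff_commutator_le_right.mp hPX
  have h3 : ⁅X, Q⁆ ≤ ⁅X, P⁆ := by
    rw [Subgroup.commutator_comm X Q, Subgroup.commutator_comm X P, hQeq]
    apply commutator_sup_le
    · rw [Subgroup.commutator_eq_bot_iff_le_centralizer.mpr hRC]; exact bot_le
    · exact le_rfl
    · refine le_trans hRC ?_
      refine le_trans (Subgroup.centralizer_le (show ((⁅P, X⁆ : Subgroup G) : Set G) ⊆ (X : Set G) from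
        fun y hy => hBX hy)) (Subgroup.centralizer_le_normalizer _)
    · exact le_nzr_commutator P P X Subgroup.le_normalizer hPX
  set N := P ⊔ X with hN
  have hNp : IsPGroup p N := IsPGroup.to_sup_of_normal_right' hPp hX hPX
  have hNn : Group.IsNilpotent N := hNp.isNilpotent
  have := le_of_le_sup_commutator_of_nilpotent N X ⊥ le_sup_right bot_le
    (by rw [Subgroup.normalizer_eq_top_iff.mpr (inferInstance : (⊥ : Subgroup G).Normal)]; exact le_top)
    (by
      rw [bot_sup_eq]
      exact (h.trans h3).trans (Subgroup.commutator_mono le_rfl le_sup_left))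
  exact le_bot_iff.mp this

theorem redCritIn_map_cj (M Y : Subgroup G) (g : G) (h : RedCritIn p M Y) :
    RedCritIn p (M.map (cj g)) (Y.map (cj g)) := by
  intro D hDM hMD hpow
  have h1 : D.map (cj g⁻¹) ≤ Subgroup.centralizer (Y : Set G) := by
    apply h
    · rw [map_cj_le_iff, inv_inv]; exact hDM
    · rw [nzr_map_cj]
      have := Subgroup.map_mono (f := cj g⁻¹) hMD
      rwa [map_cj_cj_inv] at this
    · rintro _ ⟨d, hd, rfl⟩
      obtain ⟨k, hk⟩ := hpow d hd
      refine ⟨k, ?_⟩
      rw [← map_pow]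
      have hk' : d ^ p ^ k ∈ (Subgroup.centralizer (Y : Set G)).map (cj g) := by
        rw [← centralizer_map_conj]; exact hk
      obtain ⟨c, hc, e⟩ := hk'
      rw [← e]
      have : (cj g⁻¹) ((cj g) c) = c := by
        simp [MulAut.conj_apply, mul_assoc]
      rw [this]; exact hc
  have h2 := Subgroup.map_mono (f := cj g) h1
  rw [map_cj_inv_cj] at h2
  rw [centralizer_map_conj]
  exact h2

theorem isElementaryAbelian_map_cj (Y : Subgroup G) (g : G) (h : Cfsg.IsElementaryAbelian p Y) :
    Cfsg.IsElementaryAbelian p (Y.map (cj g)) := by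
  refine ⟨⟨⟨?_⟩⟩, ?_⟩
  · rintro ⟨_, a, ha, rfl⟩ ⟨_, b, hb, rfl⟩
    apply Subtype.ext
    show (cj g) a * (cj g) b = (cj g) b * (cj g) a
    rw [← map_mul, ← map_mul, comm_of_isElementaryAbelian Y h a ha b hb]
  · rintro _ ⟨a, ha, rfl⟩
    rw [← map_pow, h.2 a ha, map_one]

/-- `Y_{K'}` is normalized by everything normalizing `K'`. -/
theorem nzr_le_nzr_largestPReducedOf [Fact p.Prime] (K' : Subgroup G) [Finite K'] :
    Subgroup.normalizer (K' : Set G) ≤
      Subgroup.normalizer ((Cfsg.largestPReducedOf p K' : Subgroup G) : Set G) := by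
  apply le_nzr_of_conj_mem
  intro g hg x hx
  obtain ⟨h1, h2, h3⟩ := largestPReducedOf_props (p := p) K'
  have hK' : K'.map (cj g) = K' := map_cj_eq_of_mem_nzr K' g hg
  have hle : (Cfsg.largestPReducedOf p K').map (cj g) ≤ Cfsg.largestPReducedOf p K' := by
    apply le_largestPReducedOf K'
    · exact (Subgroup.map_mono (largestPReducedOf_le K')).trans hK'.le
    · rw [nzr_map_cj]
      exact hK'.ge.trans (Subgroup.map_mono h1)
    · exact isElementaryAbelian_map_cj _ g h2
    · have := redCritIn_map_cj K' _ g h3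
      rwa [hK'] at this
  exact hle ⟨x, hx, by simp [MulAut.conj_apply]⟩

end

end Cfsg.Agent.Lib.H14
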