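import Cfsg.Agent.Lib.H14.PReduced3
import Cfsg.Agent.Lib.H14.Amalgam5
set_option autoImplicit false
open Cfsg

namespace Cfsg.Agent.Lib.H14

section
variable {G : Type*} [Group G] {p : ℕ}

theorem pCoreOf_le_sylow (T : Sylow p G) (M : Subgroup G) (hTM : (T : Subgroup G) ≤ M) :
    Cfsg.pCoreOf p M ≤ (T : Subgroup G) := by
  have := pCore_le_sylow (T.subtype hTM)
  rw [Sylow.coe_subtype] at this
  unfold Cfsg.pCoreOf
  rintro x ⟨y, hy, rfl⟩
  have := this hy
  rw [Subgroup.mem_subgroupOf] at this
  exact this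

/-- Ambient facts on `Y_M = largestPReducedOf p M`. -/
theorem largestPReducedOf_props [Fact p.Prime] (M : Subgroup G) [Finite M] :
    M ≤ Subgroup.normalizer ((Cfsg.largestPReducedOf p M : Subgroup G) : Set G) ∧
      Cfsg.IsElementaryAbelian p (Cfsg.largestPReducedOf p M) ∧
        RedCritIn p M (Cfsg.largestPReducedOf p M) := by
  have := isPReducedNormal_largestPReduced (L := ↥M) (p := p)
  rw [isPReducedNormal_iff_ambient] at this
  exact this

theorem largestPReducedOf_le (M : Subgroup G) : Cfsg.largestPReducedOf p M ≤ M := by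
  unfold Cfsg.largestPReducedOf
  exact Subgroup.map_subtype_le _

theorem le_largestPReducedOf (M Y : Subgroup G) (hYM : Y ≤ M)
    (h1 : M ≤ Subgroup.normalizer (Y : Set G)) (h2 : Cfsg.IsElementaryAbelian p Y)
    (h3 : RedCritIn p M Y) : Y ≤ Cfsg.largestPReducedOf p M := by
  have h := (isPReducedNormal_subgroupOf_iff M Y hYM).mpr ⟨h1, h2, h3⟩
  have := Subgroup.map_mono (f := M.subtype) (le_largestPReduced _ h)
  rwa [Subgroup.map_subgroupOf_eq_of_le hYM] at this

theorem largestPReducedOf_le_pCoreOf [Fact p.Prime] (M : Subgroup G) [Finite M] :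
    Cfsg.largestPReducedOf p M ≤ Cfsg.pCoreOf p M := by
  obtain ⟨h1, h2, -⟩ := largestPReducedOf_props (p := p) M
  exact le_pCoreOf p M _ (largestPReducedOf_le M) h1 (isPGroup_of_isElementaryAbelian _ h2)

theorem pCoreOf_le_centralizer_largestPReducedOf [Fact p.Prime] (M : Subgroup G) [Finite M] :
    Cfsg.pCoreOf p M ≤ Subgroup.centralizer ((Cfsg.largestPReducedOf p M : Subgroup G) : Set G) := by
  obtain ⟨-, -, h3⟩ := largestPReducedOf_props (p := p) M
  apply h3 _ (pCoreOf_le p M) (pCoreOf_normalized p M)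
  intro d hd
  obtain ⟨k, hk⟩ := (pCoreOf_isPGroup p M) ⟨d, hd⟩
  refine ⟨k, ?_⟩
  have hk' := congrArg Subtype.val hk
  simp only [SubgroupClass.coe_pow, OneMemClass.coe_one] at hk'
  rw [hk']; exact Subgroup.one_mem _

/-- Ambient version of `isPReducedNormal_normalClosure`. -/
theorem isPReducedNormal_normalClosure' [Finite G] [Fact p.Prime]
    (hchar : Subgroup.centralizer (Cfsg.pCore p G : Set G) ≤ Cfsg.pCore p G) (T : Sylow p G)
    (R : Subgroup G) (hTR : (T : Subgroup G) ≤ R) (X : Subgroup G) (hXR : X ≤ R)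
    (hRX : R ≤ Subgroup.normalizer (X : Set G)) (hXe : Cfsg.IsElementaryAbelian p X)
    (hXr : RedCritIn p R X) :
    Cfsg.IsPReducedNormal p (Subgroup.normalClosure (X : Set G)) := by
  have h := (isPReducedNormal_subgroupOf_iff R X hXR).mpr ⟨hRX, hXe, hXr⟩
  have := isPReducedNormal_normalClosure hchar T R hTR _ h
  rwa [Subgroup.map_subgroupOf_eq_of_le hXR] at this

/-- In a group of characteristic `p`, `Ω₁(Z(S)) ≤ Y_L` for every Sylow `p`-subgroup `S`. -/
theorem oz_sylow_le_largestPReduced [Finite G] [Fact p.Prime]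
    (hchar : Subgroup.centralizer (Cfsg.pCore p G : Set G) ≤ Cfsg.pCore p G) (S : Sylow p G) :
    Cfsg.omegaOne p ((S : Subgroup G) ⊓ Subgroup.centralizer ((S : Subgroup G) : Set G)) ≤
      Cfsg.largestPReduced p G := by
  set X := Cfsg.omegaOne p ((S : Subgroup G) ⊓ Subgroup.centralizer ((S : Subgroup G) : Set G))
  have hXS : X ≤ (S : Subgroup G) := (omegaOne_le p _).trans inf_le_left
  have hSC : (S : Subgroup G) ≤ Subgroup.centralizer (X : Set G) := by
    intro t ht
    rw [Subgroup.mem_centralizer_iff]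
    intro x hx
    exact ((mem_oz_props p _ x hx).2.1 t ht).symm
  have := isPReducedNormal_normalClosure' hchar S (S : Subgroup G) le_rfl X hXS
    (Subgroup.le_normalizer.trans (nzr_le_nzr_oz p _)) (isElementaryAbelian_oz p _)
    (fun D hD _ _ => hD.trans hSC)
  exact Subgroup.le_normalClosure.trans (le_largestPReduced _ this)

/-- `T ∩ C` is a Sylow `p`-subgroup of `C` when the Sylow `p`-subgroup `T` normalizes `C`. -/
theorem exists_sylow_inf_of_le_normalizer [Finite G] [Fact p.Prime] (T : Sylow p G)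
    (C : Subgroup G) (h : (T : Subgroup G) ≤ Subgroup.normalizer (C : Set G)) :
    ∃ P : Sylow p ↥C, (P : Subgroup ↥C) = ((T : Subgroup G) ⊓ C).subgroupOf C := by
  have hp : IsPGroup p (((T : Subgroup G) ⊓ C).subgroupOf C) :=
    (T.2.to_le inf_le_left).comap_subtype
  have hidx : ¬ p ∣ (((T : Subgroup G) ⊓ C).subgroupOf C).index := by
    intro hdvd
    have h1 : (((T : Subgroup G) ⊓ C).subgroupOf C).index = (T : Subgroup G).relIndex C := by
      rw [← Subgroup.inf_relIndex_right]; rfl
    rw [h1] at hdvd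
    set N := Subgroup.normalizer (C : Set G) with hN
    have hCN : C ≤ N := Subgroup.le_normalizer
    have hCn : (C.subgroupOf N).Normal := by
      rw [Subgroup.normal_subgroupOf_iff_le_normalizer hCN]
    have h2 := relIndex_dvd_index_of_normal_right ((T : Subgroup G).subgroupOf N) (C.subgroupOf N)
    rw [Subgroup.relIndex_subgroupOf hCN] at h2
    have h3 : ((T : Subgroup G).subgroupOf N).index = (T : Subgroup G).relIndex N := rfl
    rw [h3] at h2
    exact T.not_dvd_index ((hdvd.trans h2).trans (Subgroup.relIndex_dvd_index_of_le h))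
  exact ⟨IsPGroup.toSylow hp hidx, rfl⟩

end

end Cfsg.Agent.Lib.H14
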