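import Cfsg.Agent.Lib.H14.Asym1
import Cfsg.Agent.Lib.H14.PReduced10
import Cfsg.Agent.Lib.H14.Amalgam6
import Cfsg.Agent.Lib.H14.PReduced8
import Cfsg.Agent.S2848

/-! Asymmetric `Y_M`: `O_p(M)` is weakly closed. -/

set_option autoImplicit false

namespace Cfsg.Agent.Lib.H14

section gen

variable {G : Type*} [Group G]

/-- every element of a supremum of subgroups is a product of a list of elements of the members. -/
theorem exists_list_of_mem_iSup {ι : Type*} (M : ι → Subgroup G) (γ : G) (hγ : γ ∈ ⨆ k, M k) :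
    ∃ l : List G, (∀ m ∈ l, ∃ k, m ∈ M k) ∧ l.prod = γ := by
  rw [Subgroup.iSup_eq_closure] at hγ
  induction hγ using Subgroup.closure_induction with
  | mem x hx =>
    obtain ⟨k, hk⟩ := Set.mem_iUnion.mp hx
    exact ⟨[x], by simpa using ⟨k, hk⟩, by simp⟩
  | one => exact ⟨[], by simp, by simp⟩
  | mul x y _ _ hx hy =>
    obtain ⟨l₁, h1, rfl⟩ := hx
    obtain ⟨l₂, h2, rfl⟩ := hy
    refine ⟨l₁ ++ l₂, ?_, by simp⟩
    intro m hm
    rcases List.mem_append.mp hm with h | h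
    · exact h1 m h
    · exact h2 m h
  | inv x _ hx =>
    obtain ⟨l, h1, rfl⟩ := hx
    refine ⟨(l.map (fun x => x⁻¹)).reverse, ?_, (List.prod_inv_reverse l).symm⟩
    intro m hm
    rw [List.mem_reverse, List.mem_map] at hm
    obtain ⟨m', hm', rfl⟩ := hm
    obtain ⟨k, hk⟩ := h1 m' hm'
    exact ⟨k, Subgroup.inv_mem _ hk⟩

/-- the join of the `Γ`-conjugates of `Y`. -/
def conjSup (Γ Y : Subgroup G) : Subgroup G := ⨆ γ : Γ, Y.map (cj (γ : G))

theorem le_conjSup (Γ Y : Subgroup G) : Y ≤ conjSup Γ Y := by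
  have h := le_iSup (fun γ : Γ => Y.map (cj (γ : G))) 1
  have e : Y.map (cj ((1 : Γ) : G)) = Y := by
    rw [Subgroup.coe_one]; exact map_cj_one Y
  exact e.symm.le.trans h

theorem conjSup_le (Γ Y D : Subgroup G) (h : ∀ γ ∈ Γ, Y.map (cj γ) ≤ D) : conjSup Γ Y ≤ D :=
  iSup_le fun γ => h γ γ.2

theorem le_nzr_conjSup (Γ Y : Subgroup G) : Γ ≤ Subgroup.normalizer (conjSup Γ Y : Set G) := by
  have key : ∀ g ∈ Γ, (conjSup Γ Y).map (cj g) ≤ conjSup Γ Y := by
    intro g hg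
    unfold conjSup
    rw [Subgroup.map_iSup]
    apply iSup_le
    intro γ
    rw [← map_cj_mul]
    exact le_iSup (fun γ : Γ => Y.map (cj (γ : G))) ⟨g * γ, Γ.mul_mem hg γ.2⟩
  intro g hg
  apply mem_nzr_of_map_cj_eq
  apply le_antisymm (key g hg)
  have := Subgroup.map_mono (f := cj g) (key g⁻¹ (Γ.inv_mem hg))
  rwa [map_cj_inv_cj] at this

/-- asymmetry: two conjugates of `Y` normalizing each other commute. -/
theorem asym_comm (Y : Subgroup G) (hasym : ¬ Cfsg.IsSymmetricIn Y) (g h : G)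
    (h1 : Y.map (cj g) ≤ Subgroup.normalizer ((Y.map (cj h) : Subgroup G) : Set G))
    (h2 : Y.map (cj h) ≤ Subgroup.normalizer ((Y.map (cj g) : Subgroup G) : Set G)) :
    Y.map (cj h) ≤ Subgroup.centralizer ((Y.map (cj g) : Subgroup G) : Set G) := by
  have e : Y.map (cj h) = (Y.map (cj (g⁻¹ * h))).map (cj g) := by
    rw [← map_cj_mul, mul_inv_cancel_left]
  have h1' : Y ≤ Subgroup.normalizer ((Y.map (cj (g⁻¹ * h)) : Subgroup G) : Set G) := by
    have := Subgroup.map_mono (f := cj g⁻¹) h1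
    rw [map_cj_cj_inv, ← nzr_map_cj, ← map_cj_mul] at this
    exact this
  have h2' : Y.map (cj (g⁻¹ * h)) ≤ Subgroup.normalizer (Y : Set G) := by
    have := Subgroup.map_mono (f := cj g⁻¹) h2
    rw [← nzr_map_cj, map_cj_cj_inv, ← map_cj_mul] at this
    exact this
  have hc : ⁅Y, Y.map (cj (g⁻¹ * h))⁆ = ⊥ := by
    by_contra hne
    exact hasym ⟨g⁻¹ * h, hne, le_inf (Subgroup.le_normalizer_iff_commutator_le_left.mp h2')
      (Subgroup.le_normalizer_iff_commutator_le_right.mp h1')⟩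
  have h3 : Y.map (cj (g⁻¹ * h)) ≤ Subgroup.centralizer (Y : Set G) :=
    Subgroup.le_centralizer_iff.mp (Subgroup.commutator_eq_bot_iff_le_centralizer.mp hc)
  rw [e, centralizer_map_conj]
  exact Subgroup.map_mono h3

end gen

section frakM

variable {G : Type*} [Group G] [Finite G] {p : ℕ} [Fact p.Prime]

/-- conjugation invariance of `𝓛_G`. -/
theorem charPSubgroups_map_cj (L : Subgroup G) (g : G) (hL : L ∈ Cfsg.charPSubgroups p G) :
    L.map (cj g) ∈ Cfsg.charPSubgroups p G := by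
  rw [mem_charPSubgroups_iff] at hL ⊢
  rw [pCoreOf_map_conj, centralizer_map_conj]
  refine ⟨?_, Subgroup.map_mono hL.2⟩
  intro h
  exact hL.1 ((Subgroup.map_eq_bot_iff_of_injective _ (MulAut.conj g).injective).mp h)

/-- conjugation invariance of `𝓜_G`. -/
theorem maxCharPSubgroups_map_cj (X : Subgroup G) (g : G)
    (hX : X ∈ Cfsg.maxCharPSubgroups p G) : X.map (cj g) ∈ Cfsg.maxCharPSubgroups p G := by
  refine ⟨charPSubgroups_map_cj X g hX.1, fun L hL hXL => ?_⟩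
  have h1 := hX.2 (L.map (cj g⁻¹)) (charPSubgroups_map_cj L g⁻¹ hL)
    ((map_cj_le_iff X L g).mp hXL)
  rw [← h1, map_cj_inv_cj]

/-- `O_p(M)` is a Sylow `p`-subgroup of `C_G(Y_M)`, in the form used here. -/
theorem pCoreOf_sylow_centralizer (S : Sylow p G) (M : Subgroup G) (hSM : (S : Subgroup G) ≤ M)
    (hcl : Cfsg.IsPClosed p ↥(M ⊓ Subgroup.centralizer (Cfsg.largestPReducedOf p M : Set G)))
    (P : Subgroup G) (hP : IsPGroup p P)
    (hPC : P ≤ Subgroup.centralizer (Cfsg.largestPReducedOf p M : Set G))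
    (hPD : P ≤ Subgroup.normalizer (Cfsg.pCoreOf p M : Set G)) : P ≤ Cfsg.pCoreOf p M := by
  have hO := Cfsg.Agent.S2848.pCoreOf_eq S M hSM hcl
  obtain ⟨h1, h2, h3⟩ := largestPReducedOf_props (p := p) M
  set Y := Cfsg.largestPReducedOf p M with hY
  set C := Subgroup.centralizer (Y : Set G) with hC
  set D := Cfsg.pCoreOf p M with hD
  have hSC : (S : Subgroup G) ≤ Subgroup.normalizer (C : Set G) :=
    (hSM.trans h1).trans (nzr_le_nzr_centralizer Y)
  obtain ⟨P₀, hP₀⟩ := exists_sylow_inf_of_le_normalizer S C hSC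
  have hDp : IsPGroup p D := hO ▸ S.2.to_le inf_le_left
  have hR : IsPGroup p ↥(P ⊔ D) := IsPGroup.to_sup_of_normal_right' hP hDp hPD
  have hDC : D ≤ C := hO.le.trans inf_le_right
  have hRC : P ⊔ D ≤ C := sup_le hPC hDC
  have hle : (P₀ : Subgroup ↥C) ≤ (P ⊔ D).subgroupOf C := by
    rw [hP₀, ← hO]
    intro x hx
    rw [Subgroup.mem_subgroupOf] at hx ⊢
    exact le_sup_right (a := P) hx
  have heq : (P ⊔ D).subgroupOf C = (P₀ : Subgroup ↥C) :=
    P₀.is_maximal' (hR.comap_subtype (K := C)) hle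
  intro x hx
  have hx1 : (⟨x, hPC hx⟩ : ↥C) ∈ (P ⊔ D).subgroupOf C := by
    rw [Subgroup.mem_subgroupOf]; exact le_sup_left (b := D) hx
  rw [heq, hP₀, ← hO, Subgroup.mem_subgroupOf] at hx1
  exact hx1

/-- `N_G(O_p(M)) ≤ N_G(Y_M)`. -/
theorem nzr_pCoreOf_le_nzr_largestPReducedOf (S : Sylow p G) (M : Subgroup G)
    (hSM : (S : Subgroup G) ≤ M) (hML : M ∈ Cfsg.charPSubgroups p G)
    (hcl : Cfsg.IsPClosed p ↥(M ⊓ Subgroup.centralizer (Cfsg.largestPReducedOf p M : Set G))) :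
    Subgroup.normalizer (Cfsg.pCoreOf p M : Set G) ≤
      Subgroup.normalizer (Cfsg.largestPReducedOf p M : Set G) := by
  have hO := Cfsg.Agent.S2848.pCoreOf_eq S M hSM hcl
  have h := largestPReducedOf_eq_oz S M hSM (charP_type_of_mem hML)
  rw [← hO] at h
  have h2 := nzr_le_nzr_oz p (Cfsg.pCoreOf p M)
  rw [← h] at h2
  exact h2

/-- the word induction applied to a family of conjugates of `M`. -/
theorem asym_family (S : Sylow p G) (M : Subgroup G) (hSM : (S : Subgroup G) ≤ M)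
    (hcl : Cfsg.IsPClosed p ↥(M ⊓ Subgroup.centralizer (Cfsg.largestPReducedOf p M : Set G)))
    (hasym : ¬ Cfsg.IsSymmetricIn (Cfsg.largestPReducedOf p M))
    {ι : Type*} (β : ι → G)
    (hDM : ∀ k j, (Cfsg.pCoreOf p M).map (cj (β k)) ≤ M.map (cj (β j)))
    (γ : G) (hγ : γ ∈ ⨆ k, M.map (cj (β k))) (i j : ι) :
    ((Cfsg.largestPReducedOf p M).map (cj (β j))).map (cj γ) ≤
      (Cfsg.pCoreOf p M).map (cj (β i)) := by
  obtain ⟨h1, h2, h3⟩ := largestPReducedOf_props (p := p) M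
  obtain ⟨l, hl, rfl⟩ := exists_list_of_mem_iSup _ γ hγ
  refine asym_core (p := p) (fun k => M.map (cj (β k))) (fun k => (Cfsg.pCoreOf p M).map (cj (β k)))
    (fun k => (Cfsg.largestPReducedOf p M).map (cj (β k))) hDM ?_ ?_ ?_ ?_ ?_ ?_ l.length l le_rfl hl i j
  · intro j
    show M.map (cj (β j)) ≤ Subgroup.normalizer (((Cfsg.pCoreOf p M).map (cj (β j)) : Subgroup G) : Set G)
    rw [nzr_map_cj]
    exact Subgroup.map_mono (pCoreOf_normalized p M)
  · intro j
    show M.map (cj (β j)) ≤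
      Subgroup.normalizer (((Cfsg.largestPReducedOf p M).map (cj (β j)) : Subgroup G) : Set G)
    rw [nzr_map_cj]
    exact Subgroup.map_mono h1
  · intro j
    exact isPGroup_map_cj _ (isPGroup_of_isElementaryAbelian _ h2) _
  · intro j
    exact Subgroup.map_mono (largestPReducedOf_le_pCoreOf M)
  · intro i P hP hPC hPD
    show P ≤ (Cfsg.pCoreOf p M).map (cj (β i))
    have hPC' : P ≤ Subgroup.centralizer
        (((Cfsg.largestPReducedOf p M).map (cj (β i)) : Subgroup G) : Set G) := hPC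
    have hPD' : P ≤ Subgroup.normalizer
        (((Cfsg.pCoreOf p M).map (cj (β i)) : Subgroup G) : Set G) := hPD
    rw [centralizer_map_conj] at hPC'
    rw [nzr_map_cj] at hPD'
    have := pCoreOf_sylow_centralizer S M hSM hcl (P.map (cj (β i)⁻¹)) (isPGroup_map_cj P hP _)
      ((map_cj_le_iff _ _ _).mpr (by rwa [inv_inv])) ((map_cj_le_iff _ _ _).mpr (by rwa [inv_inv]))
    have h4 := (map_cj_le_iff _ _ _).mp this
    rwa [inv_inv] at h4
  · intro i j γ hn1 hn2
    show ((Cfsg.largestPReducedOf p M).map (cj (β j))).map (cj γ) ≤ Subgroup.centralizer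
        (((Cfsg.largestPReducedOf p M).map (cj (β i)) : Subgroup G) : Set G)
    have hn1' : (Cfsg.largestPReducedOf p M).map (cj (β i)) ≤ Subgroup.normalizer
        ((((Cfsg.largestPReducedOf p M).map (cj (β j))).map (cj γ) : Subgroup G) : Set G) := hn1
    have hn2' : ((Cfsg.largestPReducedOf p M).map (cj (β j))).map (cj γ) ≤ Subgroup.normalizer
        (((Cfsg.largestPReducedOf p M).map (cj (β i)) : Subgroup G) : Set G) := hn2
    rw [← map_cj_mul] at hn1' hn2' ⊢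
    exact asym_comm _ hasym _ _ hn1' hn2'

/-- a conjugate of `O_p(M)` in `S` with `O_p(M)` in the conjugate of `S` is `O_p(M)`. -/
theorem pCoreOf_conj_eq (S : Sylow p G) (Q : Subgroup G) (hQp : IsPGroup p ↥Q)
    (hQS : Q ≤ (S : Subgroup G)) (hQ : Cfsg.IsLarge Q) (M : Subgroup G)
    (hSM : (S : Subgroup G) ≤ M) (hM : Cfsg.IsInFrakM p M)
    (hasym : ¬ Cfsg.IsSymmetricIn (Cfsg.largestPReducedOf p M)) (b : G)
    (h1 : Cfsg.pCoreOf p M ≤ (S : Subgroup G).map (cj b))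
    (h2 : (Cfsg.pCoreOf p M).map (cj b) ≤ (S : Subgroup G)) :
    (Cfsg.pCoreOf p M).map (cj b) = Cfsg.pCoreOf p M := by
  have hM' := hM
  obtain ⟨hM1, hM2, hM3, hM4, hM5, hM6⟩ := hM
  set D := Cfsg.pCoreOf p M with hD
  set Y := Cfsg.largestPReducedOf p M with hY
  set Md := M ⊔ Subgroup.centralizer (Y : Set G) with hMd
  let β : Bool → G := fun i => cond i b 1
  have hDM : ∀ k j, D.map (cj (β k)) ≤ M.map (cj (β j)) := by
    rintro (_ | _) (_ | _)
    · exact Subgroup.map_mono (pCoreOf_le p M)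
    · show D.map (cj 1) ≤ M.map (cj b)
      rw [map_cj_one]; exact h1.trans (Subgroup.map_mono hSM)
    · show D.map (cj b) ≤ M.map (cj 1)
      rw [map_cj_one]; exact h2.trans hSM
    · exact Subgroup.map_mono (pCoreOf_le p M)
  set Γ := ⨆ k, M.map (cj (β k)) with hΓ
  have hAD : conjSup Γ Y ≤ D := by
    apply conjSup_le
    intro γ hγ
    have := asym_family S M hSM hM5 hasym β hDM γ hγ false false
    show Y.map (cj γ) ≤ D
    have e1 : Y.map (cj (β false)) = Y := map_cj_one Y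
    have e2 : D.map (cj (β false)) = D := map_cj_one D
    rw [← hY, ← hD, e1, e2] at this
    exact this
  have hMΓ : M ≤ Γ := by
    have := le_iSup (fun k => M.map (cj (β k))) false
    have e : M.map (cj (β false)) = M := map_cj_one M
    rw [e] at this
    exact this
  have hMbΓ : M.map (cj b) ≤ Γ := le_iSup (fun k => M.map (cj (β k))) true
  have hY1 : Y ≠ ⊥ := largestPReducedOf_ne_bot S hSM hM1
  have hA1 : conjSup Γ Y ≠ ⊥ := by
    intro h
    apply hY1
    exact eq_bot_iff.mpr (h ▸ le_conjSup Γ Y)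
  have hAp : IsPGroup p ↥(conjSup Γ Y) := (pCoreOf_isPGroup p M).to_le hAD
  have hNA := nzr_le_dagger S Q hQp hQS hQ M hSM hM' (conjSup Γ Y) hAp hA1
    (hMΓ.trans (le_nzr_conjSup Γ Y))
  have hMb : M.map (cj b) ≤ Md := (hMbΓ.trans (le_nzr_conjSup Γ Y)).trans hNA
  have hX : Md.map (cj b⁻¹) ∈ Cfsg.maxCharPSubgroups p G := maxCharPSubgroups_map_cj Md b⁻¹ hM2
  have hXeq : Md.map (cj b⁻¹) = Md := hM3 _ hX ((map_cj_le_iff M Md b).mp hMb)
  have hb : b ∈ Subgroup.normalizer (Md : Set G) := by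
    have := mem_nzr_of_map_cj_eq Md b⁻¹ hXeq
    have h3 := Subgroup.inv_mem _ this
    rwa [inv_inv] at h3
  have hbY : b ∈ Subgroup.normalizer (Y : Set G) := by
    have := nzr_le_nzr_largestPReducedOf (p := p) Md hb
    rw [← hM4] at this
    exact this
  have hYb : Y.map (cj b) = Y := map_cj_eq_of_mem_nzr Y b hbY
  have hle : D.map (cj b) ≤ D := by
    apply pCoreOf_sylow_centralizer S M hSM hM5 _ (isPGroup_map_cj D (pCoreOf_isPGroup p M) b)
    · rw [← hY, ← hYb, centralizer_map_conj]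
      exact Subgroup.map_mono (pCoreOf_le_centralizer_largestPReducedOf M)
    · exact (h2.trans hSM).trans (pCoreOf_normalized p M)
  apply Subgroup.eq_of_le_of_card_ge hle
  have hinj : Function.Injective (cj b) := (MulAut.conj b).injective
  rw [Nat.card_congr (D.equivMapOfInjective _ hinj).toEquiv]

/-- `O_p(M)` is a weakly closed subgroup of `G` when `Y_M` is asymmetric. -/
theorem pCoreOf_weaklyClosed (S : Sylow p G) (Q : Subgroup G) (hQp : IsPGroup p ↥Q)
    (hQS : Q ≤ (S : Subgroup G)) (hQ : Cfsg.IsLarge Q) (M : Subgroup G)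
    (hSM : (S : Subgroup G) ≤ M) (hM : Cfsg.IsInFrakM p M)
    (hasym : ¬ Cfsg.IsSymmetricIn (Cfsg.largestPReducedOf p M)) :
    Cfsg.IsWeaklyClosedSubgroup p (Cfsg.pCoreOf p M) := by
  set D := Cfsg.pCoreOf p M with hD
  have hDp : IsPGroup p D := pCoreOf_isPGroup p M
  have hDS : D ≤ (S : Subgroup G) := pCoreOf_le_sylow S M hSM
  apply wc_of_comm D hDp
  intro x hx
  have hn1 : D.map (cj x) ≤ Subgroup.normalizer (D : Set G) :=
    Subgroup.le_normalizer_iff_commutator_le_left.mpr (hx.trans inf_le_left)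
  have hn2 : D ≤ Subgroup.normalizer ((D.map (cj x) : Subgroup G) : Set G) :=
    Subgroup.le_normalizer_iff_commutator_le_right.mpr (hx.trans inf_le_right)
  set N := Subgroup.normalizer (D : Set G) with hN
  have hT₀p : IsPGroup p ↥(D ⊔ D.map (cj x)) :=
    IsPGroup.to_sup_of_normal_right' hDp (isPGroup_map_cj D hDp x) hn2
  have hT₀N : D ⊔ D.map (cj x) ≤ N := sup_le Subgroup.le_normalizer hn1
  have hSN : (S : Subgroup G) ≤ N := hSM.trans (pCoreOf_normalized p M)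
  obtain ⟨n, hnN, hn⟩ := Cfsg.Agent.Lib.H10.exists_mem_map_conj_le_of_sylowIn S.2 hSN
    (Cfsg.Agent.Lib.H10.not_dvd_relIndex_of_sylow_le S hSN) hT₀p hT₀N
  have hn' : (D ⊔ D.map (cj x)).map (cj n) ≤ (S : Subgroup G) := hn
  have hDn : D.map (cj n) = D := map_cj_eq_of_mem_nzr D n hnN
  -- the conjugate by `x₁ = n * x`
  have hDx1 : D.map (cj (n * x)) ≤ (S : Subgroup G) := by
    rw [map_cj_mul]
    exact (Subgroup.map_mono le_sup_right).trans hn'
  have hn3 : D ≤ Subgroup.normalizer ((D.map (cj (n * x)) : Subgroup G) : Set G) := by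
    rw [map_cj_mul, nzr_map_cj]
    have := Subgroup.map_mono (f := cj n) hn2
    rwa [hDn] at this
  have hT₁p : IsPGroup p ↥(D ⊔ D.map (cj (n * x))) := S.2.to_le (sup_le hDS hDx1)
  have hT₁N : (D ⊔ D.map (cj (n * x))).map (cj (n * x)⁻¹) ≤ N := by
    rw [map_cj_le_iff, inv_inv, hN, ← nzr_map_cj]
    exact sup_le hn3 Subgroup.le_normalizer
  obtain ⟨n', hn'N, hn''⟩ := Cfsg.Agent.Lib.H10.exists_mem_map_conj_le_of_sylowIn S.2 hSN
    (Cfsg.Agent.Lib.H10.not_dvd_relIndex_of_sylow_le S hSN)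
    (isPGroup_map_cj _ hT₁p (n * x)⁻¹) hT₁N
  have hn4 : ((D ⊔ D.map (cj (n * x))).map (cj (n * x)⁻¹)).map (cj n') ≤ (S : Subgroup G) := hn''
  rw [← map_cj_mul, map_cj_le_iff] at hn4
  have eb : (n' * (n * x)⁻¹)⁻¹ = (n * x) * n'⁻¹ := by group
  rw [eb] at hn4
  have hDn' : D.map (cj n'⁻¹) = D := map_cj_eq_of_mem_nzr D n'⁻¹ (Subgroup.inv_mem _ hn'N)
  have hb2 : D.map (cj ((n * x) * n'⁻¹)) = D.map (cj (n * x)) := by
    rw [map_cj_mul, hDn']
  have hmain := pCoreOf_conj_eq S Q hQp hQS hQ M hSM hM hasym ((n * x) * n'⁻¹)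
    (le_sup_left.trans hn4) (hb2.le.trans hDx1)
  rw [← hD, hb2, map_cj_mul] at hmain
  have := congrArg (Subgroup.map (cj n⁻¹)) hmain
  rw [map_cj_cj_inv] at this
  rw [this]
  exact map_cj_eq_of_mem_nzr D n⁻¹ (Subgroup.inv_mem _ hnN)

/-- `N_G(O_p(M)) ≤ M†`. -/
theorem nzr_pCoreOf_le_dagger (S : Sylow p G) (Q : Subgroup G) (hQp : IsPGroup p ↥Q)
    (hQS : Q ≤ (S : Subgroup G)) (hQ : Cfsg.IsLarge Q) (M : Subgroup G)
    (hSM : (S : Subgroup G) ≤ M) (hM : Cfsg.IsInFrakM p M) :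
    Subgroup.normalizer (Cfsg.pCoreOf p M : Set G) ≤
      M ⊔ Subgroup.centralizer (Cfsg.largestPReducedOf p M : Set G) := by
  obtain ⟨h1, h2, h3⟩ := largestPReducedOf_props (p := p) M
  exact (nzr_pCoreOf_le_nzr_largestPReducedOf S M hSM hM.1 hM.2.2.2.2.1).trans
    (nzr_le_dagger S Q hQp hQS hQ M hSM hM _ (isPGroup_of_isElementaryAbelian _ h2)
      (largestPReducedOf_ne_bot S hSM hM.1) h1)

/-- a weakly closed subgroup `D` with `N_G(D) ≤ K`: for `D ≤ L`, `L ∩ K` is parabolic in `L`. -/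
theorem wc_inf_parabolic (D : Subgroup G) (hDp : IsPGroup p D)
    (hwc : Cfsg.IsWeaklyClosedSubgroup p D) (K : Subgroup G)
    (hK : Subgroup.normalizer (D : Set G) ≤ K) (L : Subgroup G) (hDL : D ≤ L) :
    Cfsg.IsParabolic p ((L ⊓ K).subgroupOf L) := by
  have hDLK : D ≤ L ⊓ K := le_inf hDL (Subgroup.le_normalizer.trans hK)
  obtain ⟨R, hDR, hRLK, hRp, hRi⟩ := Cfsg.Agent.Lib.H10.exists_sylowIn hDp hDLK
  obtain ⟨R', hRR', hR'L, hR'p, hR'i⟩ := Cfsg.Agent.Lib.H10.exists_sylowIn hRp (hRLK.trans inf_le_left)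
  have heq : R = R' := by
    by_contra hne
    have hlt : R < R' := lt_of_le_of_ne hRR' hne
    have h1 := Cfsg.Agent.Lib.H10.lt_inf_normalizer_of_lt hR'p hlt
    have h2 : R' ⊓ Subgroup.normalizer (R : Set G) ≤ L ⊓ K :=
      le_inf (inf_le_left.trans hR'L)
        ((inf_le_right.trans (wc_normalizer_le D hwc R hRp hDR)).trans hK)
    have h3 := Cfsg.Agent.Lib.H10.eq_of_le_of_not_dvd_relIndex h1.le h2
      (hR'p.to_le inf_le_left) hRi
    exact h1.ne h3
  subst heq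
  have hR' : IsPGroup p (R.subgroupOf L) := hRp.comap_subtype
  refine ⟨hR'.toSylow hR'i, ?_⟩
  rw [hR'.toSylow_coe hR'i]
  intro x hx
  rw [Subgroup.mem_subgroupOf] at hx ⊢
  exact hRLK hx

/-- fusion of elements centralized by a weakly closed subgroup is controlled by its normalizer. -/
theorem wc_fusion (D : Subgroup G) (hDp : IsPGroup p D)
    (hwc : Cfsg.IsWeaklyClosedSubgroup p D) (x g : G)
    (hx : D ≤ Subgroup.centralizer ({x} : Set G))
    (hgx : D ≤ Subgroup.centralizer ({g * x * g⁻¹} : Set G)) :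
    ∃ k ∈ Subgroup.centralizer ({g * x * g⁻¹} : Set G),
      k * g ∈ Subgroup.normalizer (D : Set G) := by
  set K := Subgroup.centralizer ({g * x * g⁻¹} : Set G) with hK
  obtain ⟨T, hT⟩ := hwc
  obtain ⟨R, hDR, hRK, hRp, hRi⟩ := Cfsg.Agent.Lib.H10.exists_sylowIn hDp hgx
  have hDgK : D.map (cj g) ≤ K := by
    rintro _ ⟨d, hd, rfl⟩
    have h1 := Subgroup.mem_centralizer_singleton_iff.mp (hx hd)
    rw [hK, Subgroup.mem_centralizer_singleton_iff]
    show g * d * g⁻¹ * (g * x * g⁻¹) = g * x * g⁻¹ * (g * d * g⁻¹)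
    calc g * d * g⁻¹ * (g * x * g⁻¹) = g * (d * x) * g⁻¹ := by group
      _ = g * (x * d) * g⁻¹ := by rw [h1]
      _ = g * x * g⁻¹ * (g * d * g⁻¹) := by group
  obtain ⟨k, hkK, hk⟩ := Cfsg.Agent.Lib.H10.exists_mem_map_conj_le_of_sylowIn hRp hRK hRi
    (isPGroup_map_cj D hDp g) hDgK
  refine ⟨k, hkK, ?_⟩
  apply mem_nzr_of_map_cj_eq
  apply wc_conj_eq D T hT R hRp hDR
  rw [map_cj_mul]
  exact hk

end frakM

end Cfsg.Agent.Lib.H14
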