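import Cfsg.Agent.Lib.H14.Large2

/-! Characteristic `p` (`C_M(O_p(M)) ≤ O_p(M)`): transport between forms and conjugates;
`F*(N(T)) = O_p(N(T))` from a central element. -/

set_option autoImplicit false

namespace Cfsg.Agent.Lib.H14

theorem charP_of_ambient {X : Type*} [Group X] (p : ℕ) (M : Subgroup X)
    (h : M ⊓ Subgroup.centralizer (Cfsg.pCoreOf p M : Set X) ≤ Cfsg.pCoreOf p M) :
    Subgroup.centralizer (Cfsg.pCore p M : Set M) ≤ Cfsg.pCore p M := by
  intro x hx
  have h1 : (x : X) ∈ M ⊓ Subgroup.centralizer (Cfsg.pCoreOf p M : Set X) := by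
    refine Subgroup.mem_inf.mpr ⟨x.2, ?_⟩
    rw [Subgroup.mem_centralizer_iff]
    rintro _ ⟨y, hy, rfl⟩
    have h2 := (Subgroup.mem_centralizer_iff.mp hx) y hy
    exact congrArg Subtype.val h2
  obtain ⟨y, hy, hxy⟩ := h h1
  have e : y = x := Subtype.ext hxy
  rw [← e]; exact hy

theorem charP_iff_ambient {X : Type*} [Group X] (p : ℕ) (M : Subgroup X) :
    Subgroup.centralizer (Cfsg.pCore p M : Set M) ≤ Cfsg.pCore p M ↔
      M ⊓ Subgroup.centralizer (Cfsg.pCoreOf p M : Set X) ≤ Cfsg.pCoreOf p M :=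
  ⟨charP_ambient p M, charP_of_ambient p M⟩

/-- characteristic `p` passes to conjugates. -/
theorem charP_conj {X : Type*} [Group X] (p : ℕ) (M M' : Subgroup X) (g : X)
    (hM' : M' = M.map (cj g))
    (h : Subgroup.centralizer (Cfsg.pCore p M : Set M) ≤ Cfsg.pCore p M) :
    Subgroup.centralizer (Cfsg.pCore p M' : Set M') ≤ Cfsg.pCore p M' := by
  subst hM'
  exact charP_of_ambient p _ (charP_map_conj p M g (charP_ambient p M h))

/-- `F*(N(T)) = O_p(N(T))` if `F*(C(t)) = O_p(C(t))` for some `t ∈ Z(T)`. -/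
theorem fstar_normalizer_of_central {G : Type*} [Group G] [Finite G] (p : ℕ) [Fact p.Prime]
    (T : Subgroup G) (hT : IsPGroup p T) (t : G) (htT : t ∈ T) (htc : ∀ x ∈ T, x * t = t * x)
    (h : Cfsg.generalizedFittingSubgroup ↥(Subgroup.centralizer ({t} : Set G)) =
      Cfsg.pCore p ↥(Subgroup.centralizer ({t} : Set G))) :
    Cfsg.generalizedFittingSubgroup ↥(Subgroup.normalizer (T : Set G)) =
      Cfsg.pCore p ↥(Subgroup.normalizer (T : Set G)) := by
  have hTH : T ≤ Subgroup.centralizer ({t} : Set G) := by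
    intro x hx
    rw [Subgroup.mem_centralizer_singleton_iff]
    exact (htc x hx)
  have hCH : Subgroup.centralizer (T : Set G) ≤ Subgroup.centralizer ({t} : Set G) := by
    apply Subgroup.centralizer_le
    simpa using htT
  have hCM : Subgroup.centralizer (T : Set G) ≤ Subgroup.normalizer (T : Set G) :=
    Subgroup.centralizer_le_normalizer _
  apply Cfsg.Agent.Lib.H7.generalizedFittingSubgroup_eq_pCore_of_coprime
  intro y hyM hy hyO
  have hyC : y ∈ Subgroup.centralizer (T : Set G) :=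
    Subgroup.centralizer_le (le_pCoreOf p _ T Subgroup.le_normalizer le_rfl hT) hyO
  have hyOC : y ∈ Subgroup.centralizer
      (Cfsg.pCoreOf p (Subgroup.centralizer (T : Set G)) : Set G) :=
    Subgroup.centralizer_le (Cfsg.Agent.Lib.H7.pCoreOf_le_pCoreOf_of_le_normalizer p hCM
      (Cfsg.Agent.Lib.H7.normalizer_le_normalizer_centralizer T)) hyO
  refine Cfsg.Agent.Lib.H7.eq_one_of_centralizes_pCoreOf p
    (Q := Cfsg.pCoreOf p (Subgroup.centralizer ({t} : Set G))) (P := T)
    (M := Subgroup.centralizer (T : Set G))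
    (pCoreOf_isPGroup p _) hT
    (hCH.trans (pCoreOf_normalized p _)) hCM
    (hTH.trans (pCoreOf_normalized p _)) inf_le_right ?_ hyC hy hyC hyOC
  intro y' hy' hc' hyQ'
  exact Cfsg.Agent.Lib.H7.eq_one_of_generalizedFittingSubgroup_eq_pCore p _ h (hCH hy') hc' hyQ'

theorem centralizer_singleton_le_nzr_zpowers {G : Type*} [Group G] (z : G) :
    Subgroup.centralizer ({z} : Set G) ≤ Subgroup.normalizer ((Subgroup.zpowers z : Subgroup G) : Set G) := by
  refine le_trans ?_ (Subgroup.centralizer_le_normalizer _)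
  intro c hc
  rw [Subgroup.mem_centralizer_iff] at hc ⊢
  intro y hy
  obtain ⟨k, rfl⟩ := Subgroup.mem_zpowers_iff.mp hy
  have h1 : Commute z c := hc z rfl
  exact (h1.zpow_left k)

theorem centralizer_singleton_le_centralizer_zpowers {G : Type*} [Group G] (z : G) :
    Subgroup.centralizer ({z} : Set G) ≤ Subgroup.centralizer ((Subgroup.zpowers z : Subgroup G) : Set G) := by
  intro c hc
  rw [Subgroup.mem_centralizer_iff] at hc ⊢
  intro y hy
  obtain ⟨k, rfl⟩ := Subgroup.mem_zpowers_iff.mp hy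
  have h1 : Commute z c := hc z rfl
  exact (h1.zpow_left k)

/-- `F*(C(z)) = O_p(C(z))` when `z` is a `p`-element and `F*(N(⟨z⟩)) = O_p(N(⟨z⟩))`. -/
theorem fstar_centralizer_of_normalizer {G : Type*} [Group G] [Finite G] (p : ℕ) [Fact p.Prime]
    (z : G) (hz : IsPGroup p (Subgroup.zpowers z))
    (h : Cfsg.generalizedFittingSubgroup ↥(Subgroup.normalizer ((Subgroup.zpowers z : Subgroup G) : Set G)) =
      Cfsg.pCore p ↥(Subgroup.normalizer ((Subgroup.zpowers z : Subgroup G) : Set G))) :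
    Cfsg.generalizedFittingSubgroup ↥(Subgroup.centralizer ({z} : Set G)) =
      Cfsg.pCore p ↥(Subgroup.centralizer ({z} : Set G)) := by
  have hCN := centralizer_singleton_le_nzr_zpowers z
  apply Cfsg.Agent.Lib.H7.generalizedFittingSubgroup_eq_pCore_of_le_centralizer p
    (Q := Cfsg.pCoreOf p (Subgroup.normalizer ((Subgroup.zpowers z : Subgroup G) : Set G)))
    (P := Subgroup.zpowers z) (pCoreOf_isPGroup p _) hz
  · exact hCN.trans (pCoreOf_normalized p _)
  · exact centralizer_singleton_le_centralizer_zpowers z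
  · exact Subgroup.le_normalizer.trans (pCoreOf_normalized p _)
  · refine inf_le_right.trans (Subgroup.centralizer_le ?_)
    intro x hx
    rw [Set.mem_singleton_iff] at hx
    rw [hx]
    exact Subgroup.mem_zpowers z
  · intro y hy hc hyQ
    exact Cfsg.Agent.Lib.H7.eq_one_of_generalizedFittingSubgroup_eq_pCore p _ h (hCN hy) hc hyQ

/-- characteristic `p` of `N(R)` passes to `N(R^g)`. -/
theorem charP_nzr_conj {G : Type*} [Group G] (p : ℕ) (R : Subgroup G) (g : G)
    (h : Subgroup.centralizer (Cfsg.pCore p ↥(Subgroup.normalizer (R : Set G)) :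
        Set ↥(Subgroup.normalizer (R : Set G))) ≤ Cfsg.pCore p ↥(Subgroup.normalizer (R : Set G))) :
    Subgroup.centralizer (Cfsg.pCore p ↥(Subgroup.normalizer ((R.map (cj g) : Subgroup G) : Set G)) :
        Set ↥(Subgroup.normalizer ((R.map (cj g) : Subgroup G) : Set G))) ≤
      Cfsg.pCore p ↥(Subgroup.normalizer ((R.map (cj g) : Subgroup G) : Set G)) :=
  charP_conj p _ _ g (nzr_map_cj R g) h

theorem charP_nzr_conj' {G : Type*} [Group G] (p : ℕ) (R R' : Subgroup G) (g : G)
    (hR : R' = R.map (cj g))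
    (h : Subgroup.centralizer (Cfsg.pCore p ↥(Subgroup.normalizer (R : Set G)) :
        Set ↥(Subgroup.normalizer (R : Set G))) ≤ Cfsg.pCore p ↥(Subgroup.normalizer (R : Set G))) :
    Subgroup.centralizer (Cfsg.pCore p ↥(Subgroup.normalizer (R' : Set G)) :
        Set ↥(Subgroup.normalizer (R' : Set G))) ≤
      Cfsg.pCore p ↥(Subgroup.normalizer (R' : Set G)) := by
  subst hR
  exact charP_nzr_conj p R g h

/-- `N(T)` has characteristic `p` if `F*(C(t)) = O_p(C(t))` for some `t ∈ Z(T)`. -/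
theorem charP_normalizer_of_central {G : Type*} [Group G] [Finite G] (p : ℕ) [Fact p.Prime]
    (T : Subgroup G) (hT : IsPGroup p T) (t : G) (htT : t ∈ T) (htc : ∀ x ∈ T, x * t = t * x)
    (h : Cfsg.generalizedFittingSubgroup ↥(Subgroup.centralizer ({t} : Set G)) =
      Cfsg.pCore p ↥(Subgroup.centralizer ({t} : Set G))) :
    Subgroup.centralizer (Cfsg.pCore p ↥(Subgroup.normalizer (T : Set G)) :
        Set ↥(Subgroup.normalizer (T : Set G))) ≤ Cfsg.pCore p ↥(Subgroup.normalizer (T : Set G)) :=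
  Cfsg.Agent.Lib.H7.centralizer_pCore_le_of_generalizedFittingSubgroup_eq p
    (fstar_normalizer_of_central p T hT t htT htc h)

/-- A `p`-subgroup normalized by a Sylow `p`-subgroup lies in it. -/
theorem le_sylow_of_le_normalizer {G : Type*} [Group G] {p : ℕ} (S : Sylow p G) (R : Subgroup G)
    (hR : IsPGroup p R) (hS : (S : Subgroup G) ≤ Subgroup.normalizer (R : Set G)) :
    R ≤ (S : Subgroup G) := by
  have h1 : IsPGroup p ↥(R ⊔ (S : Subgroup G)) := IsPGroup.to_sup_of_normal_left' hR S.2 hS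
  have h2 : R ⊔ (S : Subgroup G) = S := S.3 h1 le_sup_right
  rw [← h2]; exact le_sup_left

/-- `N(R)` has characteristic `p` if the Sylow `p`-subgroup `S` normalizes `R ≠ 1` and all
`z ∈ Ω₁(Z(S))#` have `F*(C(z)) = O_p(C(z))`. -/
theorem charP_nzr_of_sylow_le {G : Type*} [Group G] [Finite G] (p : ℕ) [Fact p.Prime]
    (S : Sylow p G) (R : Subgroup G) (hR : IsPGroup p R) (hR1 : R ≠ ⊥)
    (hS : (S : Subgroup G) ≤ Subgroup.normalizer (R : Set G))
    (hyp : ∀ z : G, z ≠ 1 →
      z ∈ Cfsg.omegaOne p ((S : Subgroup G) ⊓ Subgroup.centralizer ((S : Subgroup G) : Set G)) →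
      Cfsg.generalizedFittingSubgroup ↥(Subgroup.centralizer ({z} : Set G)) =
        Cfsg.pCore p ↥(Subgroup.centralizer ({z} : Set G))) :
    Subgroup.centralizer (Cfsg.pCore p ↥(Subgroup.normalizer (R : Set G)) :
        Set ↥(Subgroup.normalizer (R : Set G))) ≤ Cfsg.pCore p ↥(Subgroup.normalizer (R : Set G)) := by
  have hRS : R ≤ (S : Subgroup G) := le_sylow_of_le_normalizer S R hR hS
  have hne := inf_centralizer_ne_bot_of_isPGroup R (S : Subgroup G) hR S.2 hR1 hS
  have hTp : IsPGroup p ↥(R ⊓ Subgroup.centralizer ((S : Subgroup G) : Set G)) :=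
    hR.to_le inf_le_left
  obtain ⟨t, htT, hto, -⟩ := Cfsg.Agent.Lib.H7.exists_orderOf_eq_prime_central p hTp hne
  have htR : t ∈ R := (Subgroup.mem_inf.mp htT).1
  have htC : t ∈ Subgroup.centralizer ((S : Subgroup G) : Set G) := (Subgroup.mem_inf.mp htT).2
  have ht1 : t ≠ 1 := by
    intro h
    rw [h, orderOf_one] at hto
    exact (Fact.out : p.Prime).one_lt.ne hto
  have htp : t ^ p = 1 := by rw [← hto]; exact pow_orderOf_eq_one t
  have htO : t ∈ Cfsg.omegaOne p ((S : Subgroup G) ⊓ Subgroup.centralizer ((S : Subgroup G) : Set G)) := by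
    unfold Cfsg.omegaOne
    exact Subgroup.subset_closure ⟨Subgroup.mem_inf.mpr ⟨hRS htR, htC⟩, htp⟩
  refine charP_normalizer_of_central p R hR t htR ?_ (hyp t ht1 htO)
  intro x hx
  exact (Subgroup.mem_centralizer_iff.mp htC) x (hRS hx)

end Cfsg.Agent.Lib.H14
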