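import Cfsg.Agent.Lib.H14.WeaklyClosed
import Cfsg.Agent.Lib.H14.CharP
import Cfsg.Agent.Lib.H7.CharP
import Cfsg.Agent.Lib.H15.PCoreOf

/-! Weakly closed self-centralizing `p`-subgroups inside groups of characteristic `p`. -/

set_option autoImplicit false

namespace Cfsg.Agent.Lib.H14

universe u

open scoped commutatorElement

/-- the elements `g` normalizing `N` with `[R, g] ⊆ N`. -/
def commStab {G : Type*} [Group G] (R N : Subgroup G) : Subgroup G where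
  carrier := {g | g ∈ Subgroup.normalizer (N : Set G) ∧ ∀ r ∈ R, ⁅r, g⁆ ∈ N}
  one_mem' := by
    refine ⟨Subgroup.one_mem _, fun r _ => ?_⟩
    rw [commutatorElement_one_right]; exact N.one_mem
  mul_mem' := by
    rintro g h ⟨hg, hg'⟩ ⟨hh, hh'⟩
    refine ⟨Subgroup.mul_mem _ hg hh, fun r hr => ?_⟩
    have e : ⁅r, g * h⁆ = ⁅r, g⁆ * (g * ⁅r, h⁆ * g⁻¹) := by
      simp only [commutatorElement_def]; group
    rw [e]
    exact N.mul_mem (hg' r hr) ((Subgroup.mem_normalizer_iff.mp hg _).mp (hh' r hr))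
  inv_mem' := by
    rintro g ⟨hg, hg'⟩
    refine ⟨Subgroup.inv_mem _ hg, fun r hr => ?_⟩
    have e : ⁅r, g⁻¹⁆ = g⁻¹ * (⁅r, g⁆)⁻¹ * g⁻¹⁻¹ := by
      simp only [commutatorElement_def]; group
    rw [e]
    exact (Subgroup.mem_normalizer_iff.mp (Subgroup.inv_mem _ hg) _).mp (N.inv_mem (hg' r hr))

theorem mem_commStab {G : Type*} [Group G] (R N : Subgroup G) (g : G) :
    g ∈ commStab R N ↔ g ∈ Subgroup.normalizer (N : Set G) ∧ ∀ r ∈ R, ⁅r, g⁆ ∈ N := Iff.rfl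

theorem commutator_le_of_le_commStab {G : Type*} [Group G] (R N A : Subgroup G)
    (hA : A ≤ commStab R N) : ⁅R, A⁆ ≤ N := by
  rw [Subgroup.commutator_le]
  intro r hr a ha
  exact (hA ha).2 r hr

theorem conj_mem_commStab {G : Type*} [Group G] (R N : Subgroup G) (x g : G)
    (hxR : x ∈ Subgroup.normalizer (R : Set G)) (hxN : x ∈ Subgroup.normalizer (N : Set G))
    (hg : g ∈ commStab R N) : x * g * x⁻¹ ∈ commStab R N := by
  refine ⟨?_, fun r hr => ?_⟩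
  · exact Subgroup.mul_mem _ (Subgroup.mul_mem _ hxN hg.1) (Subgroup.inv_mem _ hxN)
  · have e : ⁅r, x * g * x⁻¹⁆ = x * ⁅x⁻¹ * r * x⁻¹⁻¹, g⁆ * x⁻¹ := by
      simp only [commutatorElement_def]; group
    rw [e]
    have h1 : x⁻¹ * r * x⁻¹⁻¹ ∈ R :=
      (Subgroup.mem_normalizer_iff.mp (Subgroup.inv_mem _ hxR) r).mp hr
    exact (Subgroup.mem_normalizer_iff.mp hxN _).mp (hg.2 _ h1)


/-- K1: inside a group `G` of characteristic `p`, a subgroup `X` normalized by the weakly closed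
`p`-subgroup `Q` and centralizing `O_p(G) ∩ Q` normalizes `Q`. -/
theorem le_normalizer_of_centralizes_pCoreOf_inf {H : Type*} [Group H] [Finite H] {p : ℕ}
    [Fact p.Prime] (G Q X : Subgroup H)
    (hG : G ⊓ Subgroup.centralizer (Cfsg.pCoreOf p G : Set H) ≤ Cfsg.pCoreOf p G)
    (hQp : IsPGroup p Q) (hQG : Q ≤ G) (hXG : X ≤ G)
    (hW : ∀ T : Subgroup H, IsPGroup p T → Q ≤ T →
      Subgroup.normalizer (T : Set H) ≤ Subgroup.normalizer (Q : Set H))
    (hQX : Q ≤ Subgroup.normalizer (X : Set H))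
    (hXR : X ≤ Subgroup.centralizer ((Cfsg.pCoreOf p G ⊓ Q : Subgroup H) : Set H)) :
    X ≤ Subgroup.normalizer (Q : Set H) := by
  have hRp : IsPGroup p ↥(Cfsg.pCoreOf p G) := pCoreOf_isPGroup p G
  have hGR : G ≤ Subgroup.normalizer (Cfsg.pCoreOf p G : Set H) := pCoreOf_normalized p G
  -- R normalizes Q
  have hRQ : Cfsg.pCoreOf p G ≤ Subgroup.normalizer (Q : Set H) := by
    have hT : IsPGroup p ↥(Cfsg.pCoreOf p G ⊔ Q) :=
      IsPGroup.to_sup_of_normal_left' hRp hQp (hQG.trans hGR)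
    exact (le_sup_left.trans Subgroup.le_normalizer).trans (hW _ hT le_sup_right)
  -- Q ≤ S
  have hQN : Q ≤ Subgroup.normalizer ((Cfsg.pCoreOf p G ⊓ Q : Subgroup H) : Set H) :=
    le_nzr_inf _ _ _ (hQG.trans hGR) Subgroup.le_normalizer
  have hQS : Q ≤ commStab (Cfsg.pCoreOf p G) (Cfsg.pCoreOf p G ⊓ Q) := by
    intro q hq
    refine ⟨hQN hq, fun r hr => Subgroup.mem_inf.mpr ⟨?_, ?_⟩⟩
    · have h1 : q * r⁻¹ * q⁻¹ ∈ Cfsg.pCoreOf p G :=
        (Subgroup.mem_normalizer_iff.mp (hGR (hQG hq)) _).mp (Subgroup.inv_mem _ hr)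
      have e : ⁅r, q⁆ = r * (q * r⁻¹ * q⁻¹) := by simp only [commutatorElement_def]; group
      rw [e]; exact Subgroup.mul_mem _ hr h1
    · have h1 : r * q * r⁻¹ ∈ Q := (Subgroup.mem_normalizer_iff.mp (hRQ hr) _).mp hq
      rw [commutatorElement_def]
      exact Subgroup.mul_mem _ h1 (Subgroup.inv_mem _ hq)
  have hXN : X ≤ Subgroup.normalizer ((Cfsg.pCoreOf p G ⊓ Q : Subgroup H) : Set H) :=
    hXR.trans (Subgroup.centralizer_le_normalizer _)
  -- X normalizes S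
  have hXS : ∀ x ∈ X, ∀ g ∈ commStab (Cfsg.pCoreOf p G) (Cfsg.pCoreOf p G ⊓ Q),
      x * g * x⁻¹ ∈ commStab (Cfsg.pCoreOf p G) (Cfsg.pCoreOf p G ⊓ Q) :=
    fun x hx g hg => conj_mem_commStab _ _ x g (hGR (hXG hx)) (hXN hx) hg
  -- C := S ⊓ X is a p-group
  have hCp : IsPGroup p ↥(commStab (Cfsg.pCoreOf p G) (Cfsg.pCoreOf p G ⊓ Q) ⊓ X) := by
    apply Cfsg.Agent.Lib.H7.isPGroup_of_coprime_eq_one
    intro k hk hkc
    have hkS : Subgroup.zpowers k ≤ commStab (Cfsg.pCoreOf p G) (Cfsg.pCoreOf p G ⊓ Q) := by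
      rw [Subgroup.zpowers_le]; exact hk.1
    have hkX : Subgroup.zpowers k ≤ X := by
      rw [Subgroup.zpowers_le]; exact hk.2
    have hkR : Subgroup.zpowers k ≤ Subgroup.normalizer (Cfsg.pCoreOf p G : Set H) :=
      hkX.trans (hXG.trans hGR)
    have hcop : (Nat.card ↥(Subgroup.zpowers k)).Coprime (Nat.card ↥(Cfsg.pCoreOf p G)) := by
      rw [Nat.card_zpowers]
      obtain ⟨n, hn⟩ := IsPGroup.iff_card.mp hRp
      rw [hn]
      exact Nat.Coprime.pow_right n hkc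
    have h1 : ⁅Cfsg.pCoreOf p G, Subgroup.zpowers k⁆ ≤ Cfsg.pCoreOf p G ⊓ Q :=
      commutator_le_of_le_commStab _ _ _ hkS
    have h2 : ⁅⁅Cfsg.pCoreOf p G, Subgroup.zpowers k⁆, Subgroup.zpowers k⁆ = ⊥ := by
      rw [eq_bot_iff]
      refine (Subgroup.commutator_mono h1 (hkX.trans hXR)).trans ?_
      exact (Subgroup.commutator_eq_bot_iff_le_centralizer.mpr
        (Subgroup.le_centralizer_iff.mp le_rfl)).le
    have h3 := Cfsg.Agent.Lib.H7.commutator_eq_bot_of_commutator_commutator_eq_bot hcop hkR h2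
    have h4 : Subgroup.zpowers k ≤ Subgroup.centralizer (Cfsg.pCoreOf p G : Set H) := by
      rw [Subgroup.commutator_comm] at h3
      exact Subgroup.commutator_eq_bot_iff_le_centralizer.mp h3
    have hkR' : k ∈ Cfsg.pCoreOf p G :=
      hG (Subgroup.mem_inf.mpr ⟨hXG hk.2, h4 (Subgroup.mem_zpowers k)⟩)
    exact Cfsg.Agent.Lib.H7.eq_one_of_mem_of_isPGroup_of_coprime hRp hkR' hkc
  -- commutators land in C
  have hcomm : ∀ x ∈ X, ∀ q ∈ Q, x * q * x⁻¹ * q⁻¹ ∈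
      commStab (Cfsg.pCoreOf p G) (Cfsg.pCoreOf p G ⊓ Q) ⊓ X := by
    intro x hx q hq
    refine Subgroup.mem_inf.mpr ⟨?_, ?_⟩
    · exact Subgroup.mul_mem _ (hXS x hx q (hQS hq)) (Subgroup.inv_mem _ (hQS hq))
    · have h1 : q * x⁻¹ * q⁻¹ ∈ X :=
        (Subgroup.mem_normalizer_iff.mp (hQX hq) _).mp (Subgroup.inv_mem _ hx)
      have e : x * q * x⁻¹ * q⁻¹ = x * (q * x⁻¹ * q⁻¹) := by group
      rw [e]; exact Subgroup.mul_mem _ hx h1
  -- Q normalizes C
  have hQC : Q ≤ Subgroup.normalizer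
      ((commStab (Cfsg.pCoreOf p G) (Cfsg.pCoreOf p G ⊓ Q) ⊓ X : Subgroup H) : Set H) :=
    le_nzr_inf _ _ _ (hQS.trans Subgroup.le_normalizer) hQX
  have hXC : X ≤ Subgroup.normalizer
      ((commStab (Cfsg.pCoreOf p G) (Cfsg.pCoreOf p G ⊓ Q) ⊓ X : Subgroup H) : Set H) := by
    refine le_nzr_inf _ _ _ ?_ Subgroup.le_normalizer
    apply le_nzr_of_conj_mem
    intro x hx g hg
    exact hXS x hx g hg
  have hTp : IsPGroup p ↥(commStab (Cfsg.pCoreOf p G) (Cfsg.pCoreOf p G ⊓ Q) ⊓ X ⊔ Q) :=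
    IsPGroup.to_sup_of_normal_left' hCp hQp hQC
  refine le_trans ?_ (hW _ hTp le_sup_right)
  apply le_nzr_of_conj_mem
  intro x hx t ht
  have key : commStab (Cfsg.pCoreOf p G) (Cfsg.pCoreOf p G ⊓ Q) ⊓ X ⊔ Q ≤
      (commStab (Cfsg.pCoreOf p G) (Cfsg.pCoreOf p G ⊓ Q) ⊓ X ⊔ Q).comap
        (MulAut.conj x).toMonoidHom := by
    apply sup_le
    · intro c hc
      rw [Subgroup.mem_comap]
      apply Subgroup.mem_sup_left
      exact (Subgroup.mem_normalizer_iff.mp (hXC hx) c).mp hc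
    · intro q hq
      rw [Subgroup.mem_comap]
      have e : (MulAut.conj x).toMonoidHom q = (x * q * x⁻¹ * q⁻¹) * q := by
        simp [MulAut.conj_apply]
      rw [e]
      exact Subgroup.mul_mem _ (Subgroup.mem_sup_left (hcomm x hx q hq)) (Subgroup.mem_sup_right hq)
  have := key ht
  rw [Subgroup.mem_comap] at this
  simpa [MulAut.conj_apply] using this


/-- K2: a subgroup `X ≤ G` normalizing the self-centralizing `p`-subgroup `Q`, normalized by it and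
centralizing `Q ∩ X`, is a `p`-group. -/
theorem isPGroup_of_centralizes_inf {H : Type*} [Group H] [Finite H] {p : ℕ}
    [Fact p.Prime] (G Q X : Subgroup H)
    (hQp : IsPGroup p Q) (hCQ : G ⊓ Subgroup.centralizer (Q : Set H) ≤ Q) (hXG : X ≤ G)
    (hXQ : X ≤ Subgroup.normalizer (Q : Set H))
    (hQX : Q ≤ Subgroup.normalizer (X : Set H))
    (hD : Q ⊓ X ≤ Subgroup.centralizer (X : Set H)) : IsPGroup p ↥X := by
  apply Cfsg.Agent.Lib.H7.isPGroup_of_coprime_eq_one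
  intro x hxX hx
  have hAX : Subgroup.zpowers x ≤ X := by
    rw [Subgroup.zpowers_le]; exact hxX
  have hAQ : Subgroup.zpowers x ≤ Subgroup.normalizer (Q : Set H) := hAX.trans hXQ
  have hcop : (Nat.card ↥(Subgroup.zpowers x)).Coprime (Nat.card ↥Q) := by
    rw [Nat.card_zpowers]
    obtain ⟨k, hk⟩ := IsPGroup.iff_card.mp hQp
    rw [hk]
    exact Nat.Coprime.pow_right k hx
  have h1 : ⁅Q, Subgroup.zpowers x⁆ ≤ Q ⊓ X := by
    apply le_inf (Subgroup.le_normalizer_iff_commutator_le_left.mp hAQ)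
    exact (Subgroup.commutator_mono le_rfl hAX).trans
      (Subgroup.le_normalizer_iff_commutator_le_right.mp hQX)
  have h2 : ⁅⁅Q, Subgroup.zpowers x⁆, Subgroup.zpowers x⁆ = ⊥ := by
    rw [eq_bot_iff]
    refine (Subgroup.commutator_mono (h1.trans hD) hAX).trans ?_
    exact (Subgroup.commutator_eq_bot_iff_le_centralizer.mpr le_rfl).le
  have h3 := Cfsg.Agent.Lib.H7.commutator_eq_bot_of_commutator_commutator_eq_bot hcop hAQ h2
  have h4 : Subgroup.zpowers x ≤ Subgroup.centralizer (Q : Set H) := by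
    rw [Subgroup.commutator_comm] at h3
    exact Subgroup.commutator_eq_bot_iff_le_centralizer.mp h3
  have hxQ : x ∈ Q := hCQ (Subgroup.mem_inf.mpr ⟨hXG hxX, h4 (Subgroup.mem_zpowers x)⟩)
  exact Cfsg.Agent.Lib.H7.eq_one_of_mem_of_isPGroup_of_coprime hQp hxQ hx

/-- Main relative lemma: `G` of characteristic `p`, `Q ≤ L ≤ G` with `Q` weakly closed and
`C_G(Q) ≤ Q`.  Then `X = C_G(O_p(L))` normalizes `Q`, is a `p`-group, and `Q ∩ X ≤ O_p(L)`. -/
theorem wc_centralizer_pCoreOf {H : Type*} [Group H] [Finite H] {p : ℕ}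
    [Fact p.Prime] (G Q L : Subgroup H)
    (hG : G ⊓ Subgroup.centralizer (Cfsg.pCoreOf p G : Set H) ≤ Cfsg.pCoreOf p G)
    (hQp : IsPGroup p Q) (hQL : Q ≤ L) (hLG : L ≤ G)
    (hW : ∀ T : Subgroup H, IsPGroup p T → Q ≤ T →
      Subgroup.normalizer (T : Set H) ≤ Subgroup.normalizer (Q : Set H))
    (hCQ : G ⊓ Subgroup.centralizer (Q : Set H) ≤ Q) :
    G ⊓ Subgroup.centralizer (Cfsg.pCoreOf p L : Set H) ≤ Subgroup.normalizer (Q : Set H) ∧
    IsPGroup p ↥(G ⊓ Subgroup.centralizer (Cfsg.pCoreOf p L : Set H) : Subgroup H) ∧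
    Q ⊓ (G ⊓ Subgroup.centralizer (Cfsg.pCoreOf p L : Set H)) ≤ Cfsg.pCoreOf p L := by
  have hLP : L ≤ Subgroup.normalizer (Cfsg.pCoreOf p L : Set H) := pCoreOf_normalized p L
  have hGR : G ≤ Subgroup.normalizer (Cfsg.pCoreOf p G : Set H) := pCoreOf_normalized p G
  have hLX : L ≤ Subgroup.normalizer
      ((G ⊓ Subgroup.centralizer (Cfsg.pCoreOf p L : Set H) : Subgroup H) : Set H) :=
    le_nzr_inf _ _ _ (hLG.trans Subgroup.le_normalizer) (hLP.trans (nzr_le_nzr_centralizer _))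
  -- R ⊓ L ≤ P
  have hRL : Cfsg.pCoreOf p G ⊓ L ≤ Cfsg.pCoreOf p L :=
    le_pCoreOf p L _ inf_le_right (le_nzr_inf _ _ _ (hLG.trans hGR) Subgroup.le_normalizer)
      ((pCoreOf_isPGroup p G).to_le inf_le_left)
  have hXR : G ⊓ Subgroup.centralizer (Cfsg.pCoreOf p L : Set H) ≤
      Subgroup.centralizer ((Cfsg.pCoreOf p G ⊓ Q : Subgroup H) : Set H) :=
    inf_le_right.trans (Subgroup.centralizer_le ((inf_le_inf_left _ hQL).trans hRL))
  have hXQ := le_normalizer_of_centralizes_pCoreOf_inf G Q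
    (G ⊓ Subgroup.centralizer (Cfsg.pCoreOf p L : Set H)) hG hQp (hQL.trans hLG) inf_le_left hW
    (hQL.trans hLX) hXR
  -- Q ⊓ X ≤ P
  have hD : Q ⊓ (G ⊓ Subgroup.centralizer (Cfsg.pCoreOf p L : Set H)) ≤ Cfsg.pCoreOf p L := by
    have h1 : Q ⊓ (G ⊓ Subgroup.centralizer (Cfsg.pCoreOf p L : Set H)) ≤
        Cfsg.pCoreOf p (G ⊓ Subgroup.centralizer (Cfsg.pCoreOf p L : Set H)) :=
      le_pCoreOf p _ _ inf_le_right (le_nzr_inf _ _ _ hXQ Subgroup.le_normalizer)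
        (hQp.to_le inf_le_left)
    have h2 : Cfsg.pCoreOf p (G ⊓ Subgroup.centralizer (Cfsg.pCoreOf p L : Set H)) ⊓ L ≤
        Cfsg.pCoreOf p L :=
      le_pCoreOf p L _ inf_le_right
        (le_nzr_inf _ _ _ (hLX.trans (nzr_le_nzr_pCoreOf p _)) Subgroup.le_normalizer)
        ((pCoreOf_isPGroup p _).to_le inf_le_left)
    exact (le_inf h1 (inf_le_left.trans hQL)).trans h2
  refine ⟨hXQ, ?_, hD⟩
  apply isPGroup_of_centralizes_inf G Q _ hQp hCQ inf_le_left hXQ (hQL.trans hLX)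
  refine hD.trans ?_
  rw [Subgroup.le_centralizer_iff]
  exact inf_le_right


/-- relative form of "if `y ∈ O_p(M)` and `C_M(y)` has characteristic `p` then so has `M`". -/
theorem charP_rel_of_centralizer_singleton {H : Type u} [Group H] [Finite H] {p : ℕ}
    [Fact p.Prime] (M : Subgroup H) (y : H) (hy : y ∈ Cfsg.pCoreOf p M)
    (hC : (M ⊓ Subgroup.centralizer ({y} : Set H)) ⊓
        Subgroup.centralizer (Cfsg.pCoreOf p (M ⊓ Subgroup.centralizer ({y} : Set H)) : Set H) ≤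
      Cfsg.pCoreOf p (M ⊓ Subgroup.centralizer ({y} : Set H))) :
    M ⊓ Subgroup.centralizer (Cfsg.pCoreOf p M : Set H) ≤ Cfsg.pCoreOf p M := by
  have hyM : y ∈ M := pCoreOf_le p M hy
  have hx : (⟨y, hyM⟩ : ↥M) ∈ Cfsg.pCore p ↥M := by
    obtain ⟨z, hz, hzy⟩ := hy
    have e : z = ⟨y, hyM⟩ := Subtype.ext hzy
    rw [← e]; exact hz
  have heq : (M ⊓ Subgroup.centralizer ({y} : Set H)).subgroupOf M =
      Subgroup.centralizer ({(⟨y, hyM⟩ : ↥M)} : Set ↥M) := by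
    ext z
    rw [Subgroup.mem_subgroupOf, Subgroup.mem_inf, Subgroup.mem_centralizer_singleton_iff,
      Subgroup.mem_centralizer_singleton_iff]
    constructor
    · rintro ⟨-, h⟩
      exact Subtype.ext h
    · intro h
      exact ⟨z.2, congrArg Subtype.val h⟩
  have h1 : Subgroup.centralizer
      (Cfsg.pCore p ↥(M ⊓ Subgroup.centralizer ({y} : Set H)) :
        Set ↥(M ⊓ Subgroup.centralizer ({y} : Set H))) ≤
      Cfsg.pCore p ↥(M ⊓ Subgroup.centralizer ({y} : Set H)) := charP_of_ambient p _ hC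
  have e1 : ↥(M ⊓ Subgroup.centralizer ({y} : Set H)) ≃*
      ↥(Subgroup.centralizer ({(⟨y, hyM⟩ : ↥M)} : Set ↥M)) :=
    (Subgroup.subgroupOfEquivOfLe (inf_le_left :
      M ⊓ Subgroup.centralizer ({y} : Set H) ≤ M)).symm.trans (MulEquiv.subgroupCongr heq)
  have h2 := Cfsg.Agent.Lib.H7.centralizer_pCore_le_of_mulEquiv p e1 h1
  have h3 := Cfsg.Agent.Lib.H7.centralizer_pCore_le_of_centralizer_singleton p hx h2
  exact charP_ambient p M h3


/-- in the situation of `wc_centralizer_pCoreOf`, `L` has characteristic `p` (ambient form). -/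
theorem wc_charP_rel {H : Type*} [Group H] [Finite H] {p : ℕ}
    [Fact p.Prime] (G Q L : Subgroup H)
    (hG : G ⊓ Subgroup.centralizer (Cfsg.pCoreOf p G : Set H) ≤ Cfsg.pCoreOf p G)
    (hQp : IsPGroup p Q) (hQL : Q ≤ L) (hLG : L ≤ G)
    (hW : ∀ T : Subgroup H, IsPGroup p T → Q ≤ T →
      Subgroup.normalizer (T : Set H) ≤ Subgroup.normalizer (Q : Set H))
    (hCQ : G ⊓ Subgroup.centralizer (Q : Set H) ≤ Q) :
    L ⊓ Subgroup.centralizer (Cfsg.pCoreOf p L : Set H) ≤ Cfsg.pCoreOf p L := by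
  obtain ⟨-, h2, -⟩ := wc_centralizer_pCoreOf G Q L hG hQp hQL hLG hW hCQ
  have hLP : L ≤ Subgroup.normalizer (Cfsg.pCoreOf p L : Set H) := pCoreOf_normalized p L
  apply le_pCoreOf p L _ inf_le_left
  · exact le_nzr_inf _ _ _ Subgroup.le_normalizer (hLP.trans (nzr_le_nzr_centralizer _))
  · exact h2.to_le (inf_le_inf_right _ hLG)

/-- in the situation of `wc_centralizer_pCoreOf`, if moreover `C_H(O_p(L)) ≤ G`, the three
conclusions in ambient form. -/
theorem wc_overgroup_charP {H : Type*} [Group H] [Finite H] {p : ℕ}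
    [Fact p.Prime] (G Q L : Subgroup H)
    (hG : G ⊓ Subgroup.centralizer (Cfsg.pCoreOf p G : Set H) ≤ Cfsg.pCoreOf p G)
    (hQp : IsPGroup p Q) (hQL : Q ≤ L) (hLG : L ≤ G)
    (hW : ∀ T : Subgroup H, IsPGroup p T → Q ≤ T →
      Subgroup.normalizer (T : Set H) ≤ Subgroup.normalizer (Q : Set H))
    (hCQ : G ⊓ Subgroup.centralizer (Q : Set H) ≤ Q)
    (hCG : Subgroup.centralizer (Cfsg.pCoreOf p L : Set H) ≤ G) :
    ⁅Q, Subgroup.centralizer (Cfsg.pCoreOf p L : Set H)⁆ ≤ Q ⊓ Cfsg.pCoreOf p L ∧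
    IsPGroup p ↥(Subgroup.centralizer (Cfsg.pCoreOf p L : Set H)) ∧
    L ⊓ Subgroup.centralizer (Cfsg.pCoreOf p L : Set H) ≤ Cfsg.pCoreOf p L := by
  have e : G ⊓ Subgroup.centralizer (Cfsg.pCoreOf p L : Set H) =
      Subgroup.centralizer (Cfsg.pCoreOf p L : Set H) := inf_eq_right.mpr hCG
  obtain ⟨h1, h2, h3⟩ := wc_centralizer_pCoreOf G Q L hG hQp hQL hLG hW hCQ
  rw [e] at h1 h2 h3
  have hLP : L ≤ Subgroup.normalizer (Cfsg.pCoreOf p L : Set H) := pCoreOf_normalized p L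
  refine ⟨?_, h2, wc_charP_rel G Q L hG hQp hQL hLG hW hCQ⟩
  have h4 : ⁅Q, Subgroup.centralizer (Cfsg.pCoreOf p L : Set H)⁆ ≤ Q :=
    Subgroup.le_normalizer_iff_commutator_le_left.mp h1
  have h5 : ⁅Q, Subgroup.centralizer (Cfsg.pCoreOf p L : Set H)⁆ ≤
      Subgroup.centralizer (Cfsg.pCoreOf p L : Set H) :=
    Subgroup.le_normalizer_iff_commutator_le_right.mp
      (hQL.trans (hLP.trans (nzr_le_nzr_centralizer _)))
  exact le_inf h4 ((le_inf h4 h5).trans h3)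


/-- MSS: weakly closed self-centralizing `p`-subgroups and overgroups of characteristic `p`. -/
theorem wc_selfcentralizing_overgroups {H : Type u} [Group H] [Finite H] {p : ℕ} [Fact p.Prime]
    (Q : Subgroup H) (hQp : IsPGroup p ↥Q) (hwc : Cfsg.IsWeaklyClosedSubgroup p Q)
    (hCQ : Subgroup.centralizer ((Q : Subgroup H) : Set H) ≤ Q) (L : Subgroup H) (hQL : Q ≤ L)
    (hyp : Subgroup.centralizer (Cfsg.pCore p H : Set H) ≤ Cfsg.pCore p H ∨
      ∃ y : H, y ≠ 1 ∧ y ∈ (Cfsg.pCoreOf p L) ⊓ Subgroup.centralizer ((Q : Subgroup H) : Set H) ∧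
        Subgroup.centralizer (Cfsg.pCore p ↥(Subgroup.centralizer ({y} : Set H)) :
          Set ↥(Subgroup.centralizer ({y} : Set H))) ≤
            Cfsg.pCore p ↥(Subgroup.centralizer ({y} : Set H))) :
    ⁅Q, Subgroup.centralizer (((Cfsg.pCoreOf p L) : Subgroup H) : Set H)⁆ ≤
        Q ⊓ (Cfsg.pCoreOf p L) ∧
      IsPGroup p ↥(Subgroup.centralizer (((Cfsg.pCoreOf p L) : Subgroup H) : Set H)) ∧
      Subgroup.centralizer (Cfsg.pCore p ↥L : Set ↥L) ≤ Cfsg.pCore p ↥L := by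
  have hW : ∀ T : Subgroup H, IsPGroup p T → Q ≤ T →
      Subgroup.normalizer (T : Set H) ≤ Subgroup.normalizer (Q : Set H) :=
    fun T hT hQT => wc_normalizer_le Q hwc T hT hQT
  rcases hyp with h | ⟨y, -, hy, hD⟩
  · have hG : (⊤ : Subgroup H) ⊓ Subgroup.centralizer (Cfsg.pCoreOf p (⊤ : Subgroup H) : Set H) ≤
        Cfsg.pCoreOf p (⊤ : Subgroup H) := by
      rw [Cfsg.Agent.Lib.H15.pcoreOf_top]
      exact inf_le_right.trans h
    obtain ⟨h1, h2, h3⟩ := wc_overgroup_charP ⊤ Q L hG hQp hQL le_top hW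
      (inf_le_right.trans hCQ) le_top
    exact ⟨h1, h2, charP_of_ambient p L h3⟩
  · have hDamb := charP_ambient p _ hD
    have hQD : Q ≤ Subgroup.centralizer ({y} : Set H) := by
      intro q hq
      rw [Subgroup.mem_centralizer_singleton_iff]
      exact (Subgroup.mem_centralizer_iff.mp hy.2) q hq
    have hLP : L ≤ Subgroup.normalizer (Cfsg.pCoreOf p L : Set H) := pCoreOf_normalized p L
    have hM := wc_charP_rel (Subgroup.centralizer ({y} : Set H)) Q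
      (Subgroup.normalizer (Cfsg.pCoreOf p L : Set H) ⊓ Subgroup.centralizer ({y} : Set H))
      hDamb hQp (le_inf (hQL.trans hLP) hQD) inf_le_right hW (inf_le_right.trans hCQ)
    have hyL : y ∈ Cfsg.pCoreOf p (Subgroup.normalizer (Cfsg.pCoreOf p L : Set H)) :=
      le_pCoreOf p _ _ Subgroup.le_normalizer le_rfl (pCoreOf_isPGroup p L) hy.1
    have hLs := charP_rel_of_centralizer_singleton
      (Subgroup.normalizer (Cfsg.pCoreOf p L : Set H)) y hyL hM
    obtain ⟨h1, h2, h3⟩ := wc_overgroup_charP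
      (Subgroup.normalizer (Cfsg.pCoreOf p L : Set H)) Q L hLs hQp hQL hLP hW
      (inf_le_right.trans hCQ) (Subgroup.centralizer_le_normalizer _)
    exact ⟨h1, h2, charP_of_ambient p L h3⟩

end Cfsg.Agent.Lib.H14
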