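import Cfsg.Agent.Lib.H14.Asym2
import Cfsg.Agent.Lib.H14.WCCharP
import Cfsg.Agent.Lib.H14.CharP

/-! Asymmetric `Y_M`: the family `ℌ_G(O_p(M))`. -/

set_option autoImplicit false

namespace Cfsg.Agent.Lib.H14

section frakH

variable {G : Type*} [Group G] [Finite G] {p : ℕ} [Fact p.Prime]

/-- the Sylow `p`-subgroup `O_p(M)` of `C_G(Y_M)`, as a `Sylow`. -/
theorem exists_sylow_centralizer_eq_pCoreOf (S : Sylow p G) (M : Subgroup G)
    (hSM : (S : Subgroup G) ≤ M)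
    (hcl : Cfsg.IsPClosed p ↥(M ⊓ Subgroup.centralizer (Cfsg.largestPReducedOf p M : Set G))) :
    ∃ P : Sylow p ↥(Subgroup.centralizer (Cfsg.largestPReducedOf p M : Set G)),
      (P : Subgroup ↥(Subgroup.centralizer (Cfsg.largestPReducedOf p M : Set G))).map
        (Subgroup.centralizer (Cfsg.largestPReducedOf p M : Set G)).subtype = Cfsg.pCoreOf p M := by
  have hO := Cfsg.Agent.S2848.pCoreOf_eq S M hSM hcl
  obtain ⟨h1, h2, h3⟩ := largestPReducedOf_props (p := p) M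
  have hSC : (S : Subgroup G) ≤ Subgroup.normalizer
      ((Subgroup.centralizer (Cfsg.largestPReducedOf p M : Set G) : Subgroup G) : Set G) :=
    (hSM.trans h1).trans (nzr_le_nzr_centralizer _)
  obtain ⟨P₀, hP₀⟩ := exists_sylow_inf_of_le_normalizer S _ hSC
  refine ⟨P₀, ?_⟩
  rw [hP₀, ← hO, Subgroup.map_subgroupOf_eq_of_le (pCoreOf_le_centralizer_largestPReducedOf M)]

/-- two Sylow subgroups of a subgroup `C` are conjugate by an element of `C`, in ambient form. -/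
theorem exists_mem_map_cj_eq_of_sylow (C : Subgroup G) (P T : Sylow p ↥C) :
    ∃ c ∈ C, (T : Subgroup ↥C).map C.subtype = ((P : Subgroup ↥C).map C.subtype).map (cj c) := by
  obtain ⟨c, hc⟩ := MulAction.exists_smul_eq ↥C P T
  refine ⟨c, c.2, ?_⟩
  rw [← hc, ← map_subtype_map_cj]
  rfl

/-- an overgroup of `O_p(M)` of characteristic `p` whose `O_p` does not contain `Y_M`. -/
theorem exists_charP_overgroup_of_tall (S : Sylow p G) (M : Subgroup G)
    (hSM : (S : Subgroup G) ≤ M)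
    (hcl : Cfsg.IsPClosed p ↥(M ⊓ Subgroup.centralizer (Cfsg.largestPReducedOf p M : Set G)))
    (htall : Cfsg.IsCharPTall p (Cfsg.largestPReducedOf p M)) :
    ∃ L : Subgroup G, Subgroup.centralizer (Cfsg.pCore p ↥L : Set ↥L) ≤ Cfsg.pCore p ↥L ∧
      Cfsg.pCoreOf p M ≤ L ∧ ¬ Cfsg.largestPReducedOf p M ≤ Cfsg.pCoreOf p L := by
  obtain ⟨T, L, hTL, hLc, hYL⟩ := htall
  obtain ⟨P, hP⟩ := exists_sylow_centralizer_eq_pCoreOf S M hSM hcl
  obtain ⟨c, hcC, hT⟩ := exists_mem_map_cj_eq_of_sylow _ P T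
  rw [hP] at hT
  rw [hT] at hTL
  have hcY : (Cfsg.largestPReducedOf p M).map (cj c) = Cfsg.largestPReducedOf p M :=
    map_cj_eq_of_mem_nzr _ c (Subgroup.centralizer_le_normalizer _ hcC)
  refine ⟨L.map (cj c⁻¹), charP_conj p L _ _ rfl hLc, ?_, ?_⟩
  · rw [← map_cj_le_iff]
    exact hTL
  · intro h
    apply hYL
    rw [pCoreOf_map_conj] at h
    have h2 : (Cfsg.largestPReducedOf p M).map (cj c) ≤ Cfsg.pCoreOf p L := by
      rw [map_cj_le_iff]
      exact h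
    rw [hcY] at h2
    exact h2

/-- existence of a member of `ℌ_G(O_p(M))`. -/
theorem exists_mem_frakH (S : Sylow p G) (Q : Subgroup G) (hQp : IsPGroup p ↥Q)
    (hQS : Q ≤ (S : Subgroup G)) (hQ : Cfsg.IsLarge Q) (M : Subgroup G)
    (hSM : (S : Subgroup G) ≤ M) (hM : Cfsg.IsInFrakM p M)
    (htall : Cfsg.IsCharPTall p (Cfsg.largestPReducedOf p M))
    (hasym : ¬ Cfsg.IsSymmetricIn (Cfsg.largestPReducedOf p M)) :
    ∃ H : Subgroup G, Cfsg.IsInFrakH p M H := by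
  have hwc := pCoreOf_weaklyClosed S Q hQp hQS hQ M hSM hM hasym
  obtain ⟨L, hL1, hL2, hL3⟩ := exists_charP_overgroup_of_tall S M hSM hM.2.2.2.2.1 htall
  set 𝒯 : Set (Subgroup G) := {H | Subgroup.centralizer (Cfsg.pCore p ↥H : Set ↥H) ≤ Cfsg.pCore p ↥H ∧
      Cfsg.pCoreOf p M ≤ H ∧ ¬ Cfsg.largestPReducedOf p M ≤ Cfsg.pCoreOf p H} with h𝒯
  obtain ⟨H, ⟨hH1, hH2, hH3⟩, hmin⟩ := Set.exists_min_image 𝒯 (fun X => Nat.card X)
    (Set.toFinite _) ⟨L, hL1, hL2, hL3⟩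
  refine ⟨H, hH1, hH2, hH3, fun P hDP hPH => ?_⟩
  by_contra hY
  have hCD : Subgroup.centralizer (Cfsg.pCoreOf p M : Set G) ≤ Cfsg.pCoreOf p M :=
    ((mem_charPSubgroups_iff M).mp hM.1).2
  have hPc := wc_charP_rel H (Cfsg.pCoreOf p M) P (charP_ambient p H hH1) (pCoreOf_isPGroup p M)
    hDP hPH.le (fun T hT hDT => wc_normalizer_le _ hwc T hT hDT) (inf_le_right.trans hCD)
  have hP𝒯 : P ∈ 𝒯 := ⟨charP_of_ambient p P hPc, hDP, hY⟩
  have h1 := hmin P hP𝒯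
  have h2 : Nat.card P < Nat.card H := by
    apply lt_of_le_of_ne (Subgroup.card_le_of_le hPH.le)
    intro e
    exact hPH.ne (Subgroup.eq_of_le_of_card_ge hPH.le e.ge)
  exact absurd h1 (not_le.mpr h2)

end frakH

end Cfsg.Agent.Lib.H14
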