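import Cfsg.Agent.Lib.H14.FStarComm2
import Cfsg.Agent.Lib.H14.WeaklyClosed2
import Cfsg.Agent.Lib.H14.NilSupp
import Cfsg.Agent.Lib.H14.Large2
import Cfsg.Agent.Lib.H19.HallComm

/-! Weak closures of a weakly closed subgroup: `O^p`, products of normal subgroups (S2859). -/

set_option autoImplicit false

namespace Cfsg.Agent.Lib.H14
open scoped commutatorElement

universe u

/-- a subgroup `T` normalizing `N`, `x ∈ N ⊔ T` a `p'`-element, `T` a `p`-group: `x ∈ N`. -/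
theorem mem_of_mem_sup_pgroup' {H : Type*} [Group H] {p : ℕ} (N T : Subgroup H)
    (hTN : T ≤ Subgroup.normalizer (N : Set H))
    (hT : IsPGroup p T) (x : H) (hx : x ∈ N ⊔ T) (hc : (orderOf x).Coprime p) : x ∈ N := by
  have hx' : x ∈ ((N ⊔ T : Subgroup H) : Set H) := hx
  rw [Subgroup.coe_mul_of_right_le_normalizer_left N T hTN] at hx'
  obtain ⟨n, hn, t, ht, rfl⟩ := Set.mem_mul.mp hx'
  obtain ⟨k, hk⟩ := hT ⟨t, ht⟩
  have hk' : t ^ (p ^ k) = 1 := by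
    have := congrArg Subtype.val hk
    simpa using this
  apply mem_of_pow_mem_of_coprime p N _ hc k
  -- `(n t)^m ∈ N t^m`
  have key : ∀ m : ℕ, ∃ n' ∈ N, (n * t) ^ m = n' * t ^ m := by
    intro m
    induction m with
    | zero => exact ⟨1, N.one_mem, by simp⟩
    | succ m ih =>
      obtain ⟨n', hn', e⟩ := ih
      refine ⟨n' * (t ^ m * n * (t ^ m)⁻¹), N.mul_mem hn' ?_, ?_⟩
      · exact (Subgroup.mem_normalizer_iff.mp (hTN (T.pow_mem ht m)) n).mp hn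
      · rw [pow_succ, e, pow_succ]; group
  obtain ⟨n', hn', e⟩ := key (p ^ k)
  rw [e, hk', mul_one]
  exact hn'

theorem presOf_le_of_le_sup' {H : Type*} [Group H] {p : ℕ} (N T K : Subgroup H)
    (hTN : T ≤ Subgroup.normalizer (N : Set H))
    (hT : IsPGroup p T) (hK : K ≤ N ⊔ T) : presOf p K ≤ N := by
  unfold presOf
  rw [Subgroup.closure_le]
  rintro x ⟨hxK, hc⟩
  exact mem_of_mem_sup_pgroup' N T hTN hT x (hK hxK) hc

theorem presOf_presOf {H : Type*} [Group H] (p : ℕ) (B : Subgroup H) :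
    presOf p (presOf p B) = presOf p B := by
  apply le_antisymm (presOf_le p _)
  conv_lhs => unfold presOf
  rw [Subgroup.closure_le]
  rintro x ⟨hxB, hc⟩
  exact Subgroup.subset_closure ⟨Subgroup.subset_closure ⟨hxB, hc⟩, hc⟩

/-! ### the weak closure -/

theorem weakClosure_le {H : Type*} [Group H] (Q L : Subgroup H) : Cfsg.weakClosure Q L ≤ L := by
  unfold Cfsg.weakClosure
  apply iSup_le
  rintro ⟨g, hg⟩
  exact hg

theorem map_cj_le_weakClosure {H : Type*} [Group H] (Q L : Subgroup H) (g : H)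
    (hg : Q.map (cj g) ≤ L) : Q.map (cj g) ≤ Cfsg.weakClosure Q L := by
  unfold Cfsg.weakClosure
  exact le_iSup (fun g : {g : H // Q.map (MulAut.conj g).toMonoidHom ≤ L} =>
    Q.map (MulAut.conj (g : H)).toMonoidHom) ⟨g, hg⟩

theorem le_weakClosure {H : Type*} [Group H] (Q L : Subgroup H) (hQL : Q ≤ L) :
    Q ≤ Cfsg.weakClosure Q L := by
  have := map_cj_le_weakClosure Q L 1 (by rw [map_cj_one]; exact hQL)
  rwa [map_cj_one] at this

theorem weakClosure_weakClosure {H : Type*} [Group H] (Q L : Subgroup H) :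
    Cfsg.weakClosure Q (Cfsg.weakClosure Q L) = Cfsg.weakClosure Q L := by
  apply le_antisymm (weakClosure_le _ _)
  conv_lhs => unfold Cfsg.weakClosure
  apply iSup_le
  rintro ⟨g, hg⟩
  exact map_cj_le_weakClosure Q _ g (map_cj_le_weakClosure Q L g hg)

theorem le_normalizer_weakClosure {H : Type*} [Group H] (Q L : Subgroup H) :
    L ≤ Subgroup.normalizer ((Cfsg.weakClosure Q L : Subgroup H) : Set H) := by
  have key : ∀ l ∈ L, (Cfsg.weakClosure Q L).map (cj l) ≤ Cfsg.weakClosure Q L := by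
    intro l hl
    conv_lhs => unfold Cfsg.weakClosure
    rw [Subgroup.map_iSup]
    apply iSup_le
    rintro ⟨g, hg⟩
    show (Q.map (cj g)).map (cj l) ≤ _
    rw [← map_cj_mul]
    apply map_cj_le_weakClosure
    rw [map_cj_mul]
    exact (Subgroup.map_mono hg).trans (map_cj_eq_of_mem_nzr L l (Subgroup.le_normalizer hl)).le
  intro l hl
  apply mem_nzr_of_map_cj_eq
  apply le_antisymm (key l hl)
  have := key l⁻¹ (L.inv_mem hl)
  rw [map_cj_le_iff] at this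
  simpa using this

theorem weakClosure_eq_iSup {H : Type*} [Group H] [Finite H] {p : ℕ} [Fact p.Prime] (Q : Subgroup H)
    (hQp : IsPGroup p Q) (hwc : Cfsg.IsWeaklyClosedSubgroup p Q) (K : Subgroup H) (hQK : Q ≤ K) :
    Cfsg.weakClosure Q K = ⨆ k : ↥K, Q.map (cj (k : H)) := by
  apply le_antisymm
  · conv_lhs => unfold Cfsg.weakClosure
    apply iSup_le
    rintro ⟨g, hg⟩
    obtain ⟨k, hk, hgk⟩ := wc_conj_in Q hQp hwc K hQK g hg
    show Q.map (cj g) ≤ _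
    rw [hgk]
    exact le_iSup (fun k : ↥K => Q.map (cj (k : H))) ⟨k, hk⟩
  · apply iSup_le
    intro k
    apply map_cj_le_weakClosure
    exact (Subgroup.map_mono hQK).trans
      (map_cj_eq_of_mem_nzr K k (Subgroup.le_normalizer k.2)).le

section
variable {H : Type*} [Group H] [Finite H] {p : ℕ} [Fact p.Prime]

/-- a conjugate `k Q k⁻¹` lies in `[K, Q] Q` -/
theorem map_cj_le_commutator_sup (K Q : Subgroup H) (k : H) (hk : k ∈ K) :
    Q.map (cj k) ≤ ⁅K, Q⁆ ⊔ Q := by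
  rintro _ ⟨q, hq, rfl⟩
  have : (cj k) q = ⁅k, q⁆ * q := by
    simp only [cj, MulEquiv.coe_toMonoidHom, MulAut.conj_apply, commutatorElement_def]; group
  rw [this]
  exact Subgroup.mul_mem_sup (Subgroup.commutator_mem_commutator hk hq) hq

/-- In `W = weakClosure Q L` every `W`-conjugate of `Q` is an `O^p(W)`-conjugate. -/
theorem wc_conj_presOf (Q : Subgroup H) (hQp : IsPGroup p Q)
    (hwc : Cfsg.IsWeaklyClosedSubgroup p Q) (W : Subgroup H) (hQW : Q ≤ W) (w : H) (hw : w ∈ W) :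
    ∃ k ∈ presOf p W, Q.map (cj w) = Q.map (cj k) := by
  obtain ⟨TK, hQT⟩ := exists_sylow_subgroupOf_le Q W hQp hQW
  have h1 := pResidual_sup_sylow TK
  have h2 := congrArg (Subgroup.map W.subtype) h1
  rw [Subgroup.map_sup, pResidual_map_eq, ← MonoidHom.range_eq_map, Subgroup.range_subtype] at h2
  have hSQ : (TK : Subgroup ↥W).map W.subtype ≤ Subgroup.normalizer (Q : Set H) :=
    Subgroup.le_normalizer.trans (wc_normalizer_le Q hwc _ (TK.2.map _) hQT)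
  have hSK : (TK : Subgroup ↥W).map W.subtype ≤ Subgroup.normalizer (presOf p W : Set H) :=
    (Subgroup.map_subtype_le _).trans (Subgroup.le_normalizer.trans (presOf_normalized p W))
  have hw' : w ∈ ((presOf p W ⊔ (TK : Subgroup ↥W).map W.subtype : Subgroup H) : Set H) := by
    rw [h2]; exact hw
  rw [Subgroup.coe_mul_of_right_le_normalizer_left _ _ hSK] at hw'
  obtain ⟨k, hk, s, hs, rfl⟩ := Set.mem_mul.mp hw'
  refine ⟨k, hk, ?_⟩
  rw [map_cj_mul, map_cj_eq_of_mem_nzr Q s (hSQ hs)]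

/-- `W = O^p(W) Q` for `W` a weak closure of the weakly closed subgroup `Q`. -/
theorem weakClosure_eq_presOf_sup (Q : Subgroup H) (hQp : IsPGroup p Q)
    (hwc : Cfsg.IsWeaklyClosedSubgroup p Q) (L : Subgroup H) (hQL : Q ≤ L) :
    Cfsg.weakClosure Q L = presOf p (Cfsg.weakClosure Q L) ⊔ Q := by
  have hQW := le_weakClosure Q L hQL
  apply le_antisymm _ (sup_le (presOf_le p _) hQW)
  conv_lhs => rw [← weakClosure_weakClosure, weakClosure_eq_iSup Q hQp hwc _ hQW]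
  apply iSup_le
  intro w
  obtain ⟨k, hk, e⟩ := wc_conj_presOf Q hQp hwc _ hQW w w.2
  rw [e]
  refine (map_cj_le_commutator_sup (presOf p (Cfsg.weakClosure Q L)) Q k hk).trans ?_
  apply sup_le_sup_right
  exact Subgroup.le_normalizer_iff_commutator_le_left.mp
    (hQW.trans (Subgroup.le_normalizer.trans (presOf_normalized p _)))

/-- `O^p(W) = [O^p(W), Q]` for `W` a weak closure of the weakly closed subgroup `Q`. -/
theorem commutator_presOf_weakClosure (Q : Subgroup H) (hQp : IsPGroup p Q)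
    (hwc : Cfsg.IsWeaklyClosedSubgroup p Q) (L : Subgroup H) (hQL : Q ≤ L) :
    ⁅presOf p (Cfsg.weakClosure Q L), Q⁆ = presOf p (Cfsg.weakClosure Q L) := by
  have hQW := le_weakClosure Q L hQL
  have hQK : Q ≤ Subgroup.normalizer (presOf p (Cfsg.weakClosure Q L) : Set H) :=
    hQW.trans (Subgroup.le_normalizer.trans (presOf_normalized p _))
  apply le_antisymm (Subgroup.le_normalizer_iff_commutator_le_left.mp hQK)
  apply presOf_le_of_le_sup' _ Q _ (le_normalizer_commutator_right _ _) hQp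
  conv_lhs => rw [← weakClosure_weakClosure, weakClosure_eq_iSup Q hQp hwc _ hQW]
  apply iSup_le
  intro w
  obtain ⟨k, hk, e⟩ := wc_conj_presOf Q hQp hwc _ hQW w w.2
  rw [e]
  exact map_cj_le_commutator_sup (presOf p (Cfsg.weakClosure Q L)) Q k hk

end

section
variable {G : Type*} [Group G] [Finite G] {p : ℕ} [hp : Fact p.Prime]

/-- set-up of S2859 -/
structure WCP (p : ℕ) (Q Hc H₁ H₂ : Subgroup G) : Prop where
  hQp : IsPGroup p ↥Q
  hwc : Cfsg.IsWeaklyClosedSubgroup p Q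
  hHc : Hc = Cfsg.weakClosure Q ⊤
  h1le : H₁ ≤ Hc
  h1n : Hc ≤ Subgroup.normalizer (H₁ : Set G)
  h2le : H₂ ≤ Hc
  h2n : Hc ≤ Subgroup.normalizer (H₂ : Set G)
  hprod : H₁ ⊔ H₂ = Hc
  hcomm : ⁅H₁, H₂⁆ ≤ Subgroup.normalizer (Q : Set G)

namespace WCP
variable {Q Hc H₁ H₂ : Subgroup G}

theorem symm (h : WCP p Q Hc H₁ H₂) : WCP p Q Hc H₂ H₁ :=
  ⟨h.hQp, h.hwc, h.hHc, h.h2le, h.h2n, h.h1le, h.h1n, by rw [sup_comm]; exact h.hprod,
    by rw [Subgroup.commutator_comm]; exact h.hcomm⟩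

theorem Q_le (h : WCP p Q Hc H₁ H₂) : Q ≤ Hc := by
  rw [h.hHc]; exact le_weakClosure Q ⊤ le_top

theorem Hc_normal (h : WCP p Q Hc H₁ H₂) : Hc.Normal := by
  rw [← Subgroup.normalizer_eq_top_iff, eq_top_iff, h.hHc]
  exact le_normalizer_weakClosure Q ⊤

theorem Hc_eq_iSup (h : WCP p Q Hc H₁ H₂) : Hc = ⨆ k : ↥Hc, Q.map (cj (k : G)) := by
  have h1 : Cfsg.weakClosure Q Hc = Hc := by
    conv_rhs => rw [h.hHc]
    rw [h.hHc, weakClosure_weakClosure]
  conv_lhs => rw [← h1]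
  exact weakClosure_eq_iSup Q h.hQp h.hwc Hc h.Q_le

/-- `P = O_p(H°)` is normal in `G`. -/
theorem P_normal (h : WCP p Q Hc H₁ H₂) : (Cfsg.pCoreOf p Hc).Normal := by
  rw [← Subgroup.normalizer_eq_top_iff, eq_top_iff]
  have := h.Hc_normal
  refine le_trans ?_ (nzr_le_nzr_pCoreOf p Hc)
  rw [Subgroup.normalizer_eq_top_iff.mpr this]

theorem D_le_left (h : WCP p Q Hc H₁ H₂) : ⁅H₁, H₂⁆ ≤ H₁ :=
  Subgroup.le_normalizer_iff_commutator_le_left.mp (h.h2le.trans h.h1n)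

theorem D_le_right (h : WCP p Q Hc H₁ H₂) : ⁅H₁, H₂⁆ ≤ H₂ := by
  rw [Subgroup.commutator_comm]; exact h.symm.D_le_left

theorem Hc_le_nzr_D (h : WCP p Q Hc H₁ H₂) :
    Hc ≤ Subgroup.normalizer ((⁅H₁, H₂⁆ : Subgroup G) : Set G) := by
  intro x hx
  apply mem_nzr_of_map_cj_eq
  rw [Subgroup.map_commutator, map_cj_eq_of_mem_nzr _ x (h.h1n hx),
    map_cj_eq_of_mem_nzr _ x (h.h2n hx)]

/-- `[D, H°] ≤ O_p(H°)` -/
theorem D_comm_le (h : WCP p Q Hc H₁ H₂) : ⁅⁅H₁, H₂⁆, Hc⁆ ≤ Cfsg.pCoreOf p Hc := by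
  have hPn := h.P_normal
  rw [Subgroup.commutator_comm]
  conv_lhs => rw [h.Hc_eq_iSup]
  rw [Subgroup.iSup_eq_closure]
  apply commutator_closure_le _ _ _ (Subgroup.le_normalizer_of_normal)
  intro s hs v hv
  obtain ⟨k, hsk⟩ := Set.mem_iUnion.mp hs
  have hsk' : s ∈ Q.map (cj (k : G)) := hsk
  -- `D` normalizes `Q^k`
  have hDk : ⁅H₁, H₂⁆ ≤ Subgroup.normalizer ((Q.map (cj (k : G)) : Subgroup G) : Set G) := by
    rw [nzr_map_cj]
    have := Subgroup.map_mono (f := cj (k : G)) h.hcomm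
    rwa [map_cj_eq_of_mem_nzr _ (k : G) (h.Hc_le_nzr_D k.2)] at this
  have hQk : Q.map (cj (k : G)) ≤ Hc :=
    (Subgroup.map_mono h.Q_le).trans (map_cj_eq_of_mem_nzr _ (k : G) (Subgroup.le_normalizer k.2)).le
  have hmem : ⁅s, v⁆ ∈ ⁅H₁, H₂⁆ ⊓ Q.map (cj (k : G)) := by
    constructor
    · have : ⁅s, v⁆ ∈ ⁅Hc, ⁅H₁, H₂⁆⁆ := Subgroup.commutator_mem_commutator (hQk hsk') hv
      rw [Subgroup.commutator_comm] at this
      exact Subgroup.le_normalizer_iff_commutator_le_left.mp h.Hc_le_nzr_D this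
    · have : ⁅s, v⁆ ∈ ⁅Q.map (cj (k : G)), ⁅H₁, H₂⁆⁆ := Subgroup.commutator_mem_commutator hsk' hv
      exact Subgroup.le_normalizer_iff_commutator_le_left.mp hDk this
  have hle : ⁅H₁, H₂⁆ ⊓ Q.map (cj (k : G)) ≤ Cfsg.pCoreOf p Hc := by
    have h1 : ⁅H₁, H₂⁆ ⊓ Q.map (cj (k : G)) ≤ Cfsg.pCoreOf p ⁅H₁, H₂⁆ := by
      apply le_pCoreOf p _ _ inf_le_left
      · intro d hd
        exact mem_normalizer_inf (Subgroup.le_normalizer hd) (hDk hd)
      · exact (h.hQp.map (cj (k : G))).to_le inf_le_right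
    refine h1.trans ?_
    apply le_pCoreOf p _ _ ((pCoreOf_le p _).trans (h.D_le_left.trans h.h1le))
    · exact h.Hc_le_nzr_D.trans (nzr_le_nzr_pCoreOf p _)
    · exact pCoreOf_isPGroup p _
  exact hle hmem

end WCP
end

/-- `K = O^p` of the weak closure of `Q` in `H₁ Q`. -/
abbrev wcK {G : Type*} [Group G] (p : ℕ) (Q H₁ : Subgroup G) : Subgroup G :=
  presOf p (Cfsg.weakClosure Q (H₁ ⊔ Q))

theorem nzr_le_nzr_commutator_self {G : Type*} [Group G] (A : Subgroup G) :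
    Subgroup.normalizer (A : Set G) ≤ Subgroup.normalizer ((⁅A, A⁆ : Subgroup G) : Set G) := by
  intro x hx
  apply mem_nzr_of_map_cj_eq
  rw [Subgroup.map_commutator, map_cj_eq_of_mem_nzr _ x hx]

section
variable {G : Type*} [Group G] [Finite G] {p : ℕ} [hp : Fact p.Prime]

namespace WCP
variable {Q Hc H₁ H₂ : Subgroup G}

theorem Q_le_nzr_H1 (h : WCP p Q Hc H₁ H₂) : Q ≤ Subgroup.normalizer (H₁ : Set G) :=
  h.Q_le.trans h.h1n

theorem K_le (h : WCP p Q Hc H₁ H₂) : wcK p Q H₁ ≤ H₁ :=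
  presOf_le_of_le_sup' H₁ Q _ h.Q_le_nzr_H1 h.hQp (weakClosure_le Q _)

theorem K_comm_Q (h : WCP p Q Hc H₁ H₂) : ⁅wcK p Q H₁, Q⁆ = wcK p Q H₁ :=
  commutator_presOf_weakClosure Q h.hQp h.hwc _ le_sup_right

theorem K_sup_Q (h : WCP p Q Hc H₁ H₂) : Cfsg.weakClosure Q (H₁ ⊔ Q) = wcK p Q H₁ ⊔ Q :=
  weakClosure_eq_presOf_sup Q h.hQp h.hwc _ le_sup_right

theorem le_nzr_K (h : WCP p Q Hc H₁ H₂) :
    H₁ ⊔ Q ≤ Subgroup.normalizer (wcK p Q H₁ : Set G) :=
  (le_normalizer_weakClosure Q _).trans (presOf_normalized p _)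

theorem presOf_K (h : WCP p Q Hc H₁ H₂) : presOf p (wcK p Q H₁) = wcK p Q H₁ :=
  presOf_presOf p _

/-- `[H₁, H°] ≤ H₁' D` -/
theorem H1_comm_Hc_le (h : WCP p Q Hc H₁ H₂) : ⁅H₁, Hc⁆ ≤ ⁅H₁, H₁⁆ ⊔ ⁅H₁, H₂⁆ := by
  rw [Subgroup.commutator_comm, ← h.hprod]
  have hN1 : Hc ≤ Subgroup.normalizer ((⁅H₁, H₁⁆ ⊔ ⁅H₁, H₂⁆ : Subgroup G) : Set G) := by
    intro x hx
    exact mem_normalizer_sup (nzr_le_nzr_commutator_self H₁ (h.h1n hx)) (h.Hc_le_nzr_D hx)
  apply commutator_sup_le _ _ _ _ le_sup_left _ (h.h1le.trans hN1) (h.h2le.trans hN1)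
  rw [Subgroup.commutator_comm]; exact le_sup_right

/-- `K₁ ≤ H₁'` -/
theorem K_le_derived (h : WCP p Q Hc H₁ H₂) : wcK p Q H₁ ≤ ⁅H₁, H₁⁆ := by
  have hPn := h.P_normal
  have hN1 : Hc ≤ Subgroup.normalizer ((⁅H₁, H₁⁆ : Subgroup G) : Set G) :=
    h.h1n.trans (nzr_le_nzr_commutator_self H₁)
  have hN2 : Hc ≤ Subgroup.normalizer ((⁅H₁, H₁⁆ ⊔ Cfsg.pCoreOf p Hc : Subgroup G) : Set G) := by
    intro x hx
    exact mem_normalizer_sup (hN1 hx) (Subgroup.le_normalizer_of_normal (Subgroup.mem_top x))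
  have h1 : wcK p Q H₁ ≤ ⁅H₁, H₁⁆ ⊔ ⁅H₁, H₂⁆ := by
    conv_lhs => rw [← h.K_comm_Q]
    exact (Subgroup.commutator_mono h.K_le h.Q_le).trans h.H1_comm_Hc_le
  have h2 : ⁅⁅H₁, H₁⁆ ⊔ ⁅H₁, H₂⁆, Q⁆ ≤ ⁅H₁, H₁⁆ ⊔ Cfsg.pCoreOf p Hc := by
    apply commutator_sup_le
    · exact (Subgroup.le_normalizer_iff_commutator_le_left.mp (h.Q_le.trans hN1)).trans le_sup_left
    · exact ((Subgroup.commutator_mono le_rfl h.Q_le).trans h.D_comm_le).trans le_sup_right
    · exact ((Subgroup.le_normalizer_iff_commutator_le_left.mp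
        (Subgroup.le_normalizer (H := H₁))).trans h.h1le).trans hN2
    · exact (h.D_le_left.trans h.h1le).trans hN2
  have h3 : wcK p Q H₁ ≤ ⁅H₁, H₁⁆ ⊔ Cfsg.pCoreOf p Hc := by
    conv_lhs => rw [← h.K_comm_Q]
    exact (Subgroup.commutator_mono h1 le_rfl).trans h2
  rw [← h.presOf_K]
  exact presOf_le_of_le_sup' _ (Cfsg.pCoreOf p Hc) _
    ((pCoreOf_le p Hc).trans hN1) (pCoreOf_isPGroup p Hc) h3

end WCP
end

theorem mem_nzr_of_map_cj_le_both {G : Type*} [Group G] (A : Subgroup G) (x : G)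
    (h1 : A.map (cj x) ≤ A) (h2 : A.map (cj x⁻¹) ≤ A) :
    x ∈ Subgroup.normalizer (A : Set G) := by
  apply mem_nzr_of_map_cj_eq
  apply le_antisymm h1
  rw [map_cj_le_iff] at h2
  simpa using h2

section
variable {G : Type*} [Group G] [Finite G] {p : ℕ} [hp : Fact p.Prime]

namespace WCP
variable {Q Hc H₁ H₂ : Subgroup G}

/-- `[H₁', H₂] ≤ O_p(H°)` -/
theorem derived_comm_le (h : WCP p Q Hc H₁ H₂) : ⁅⁅H₁, H₁⁆, H₂⁆ ≤ Cfsg.pCoreOf p Hc := by
  have hPn := h.P_normal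
  apply Cfsg.Agent.Lib.H19.three_subgroups_normal
  · exact (Subgroup.commutator_mono le_rfl h.h1le).trans h.D_comm_le
  · rw [Subgroup.commutator_comm H₂ H₁]
    exact (Subgroup.commutator_mono le_rfl h.h1le).trans h.D_comm_le

theorem K_comm_H2_le (h : WCP p Q Hc H₁ H₂) :
    ⁅wcK p Q H₁, H₂⁆ ≤ Cfsg.pCoreOf p Hc ⊓ H₁ :=
  le_inf ((Subgroup.commutator_mono h.K_le_derived le_rfl).trans h.derived_comm_le)
    ((Subgroup.commutator_mono h.K_le le_rfl).trans h.D_le_left)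

theorem Hc_le_nzr_P1 (h : WCP p Q Hc H₁ H₂) :
    Hc ≤ Subgroup.normalizer ((Cfsg.pCoreOf p Hc ⊓ H₁ : Subgroup G) : Set G) := by
  have hPn := h.P_normal
  intro x hx
  exact mem_normalizer_inf (Subgroup.le_normalizer_of_normal (Subgroup.mem_top x)) (h.h1n hx)

/-- `K₁` is normal in `H°`. -/
theorem Hc_le_nzr_K (h : WCP p Q Hc H₁ H₂) :
    Hc ≤ Subgroup.normalizer (wcK p Q H₁ : Set G) := by
  have hP1 : IsPGroup p ↥(Cfsg.pCoreOf p Hc ⊓ H₁ : Subgroup G) :=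
    (pCoreOf_isPGroup p Hc).to_le inf_le_left
  have hP1K : Cfsg.pCoreOf p Hc ⊓ H₁ ≤ Subgroup.normalizer (wcK p Q H₁ : Set G) :=
    inf_le_right.trans (le_sup_left.trans h.le_nzr_K)
  -- `K = O^p(K P₁)`
  have hK : presOf p (wcK p Q H₁ ⊔ (Cfsg.pCoreOf p Hc ⊓ H₁)) = wcK p Q H₁ := by
    apply le_antisymm
    · exact presOf_le_of_le_sup' _ _ _ hP1K hP1 le_rfl
    · conv_lhs => rw [← h.presOf_K]
      exact presOf_mono p le_sup_left
  have hN0 : H₁ ⊔ H₂ ≤ Subgroup.normalizer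
      ((wcK p Q H₁ ⊔ (Cfsg.pCoreOf p Hc ⊓ H₁) : Subgroup G) : Set G) := by
    apply sup_le
    · intro x hx
      exact mem_normalizer_sup (h.le_nzr_K (le_sup_left (a := H₁) hx))
        (h.Hc_le_nzr_P1 (h.h1le hx))
    · rw [Subgroup.le_normalizer_iff_commutator_le_left]
      exact commutator_sup_le (wcK p Q H₁) (Cfsg.pCoreOf p Hc ⊓ H₁) H₂
        (wcK p Q H₁ ⊔ (Cfsg.pCoreOf p Hc ⊓ H₁))
        (h.K_comm_H2_le.trans le_sup_right)
        ((Subgroup.le_normalizer_iff_commutator_le_left.mp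
          (h.h2le.trans h.Hc_le_nzr_P1)).trans le_sup_right)
        (le_sup_left.trans Subgroup.le_normalizer)
        (le_sup_right.trans Subgroup.le_normalizer)
  have hN : Hc ≤ Subgroup.normalizer
      ((wcK p Q H₁ ⊔ (Cfsg.pCoreOf p Hc ⊓ H₁) : Subgroup G) : Set G) :=
    (le_of_eq h.hprod.symm).trans hN0
  have := hN.trans (presOf_normalized p _)
  rwa [hK] at this

/-- `K₁ = [K₁, H₁]`. -/
theorem K_comm_H1 (h : WCP p Q Hc H₁ H₂) : ⁅wcK p Q H₁, H₁⁆ = wcK p Q H₁ := by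
  have hPn := h.P_normal
  have hP1 : IsPGroup p ↥(Cfsg.pCoreOf p Hc ⊓ H₁ : Subgroup G) :=
    (pCoreOf_isPGroup p Hc).to_le inf_le_left
  have hle : ⁅wcK p Q H₁, H₁⁆ ≤ wcK p Q H₁ :=
    Subgroup.le_normalizer_iff_commutator_le_left.mp (le_sup_left.trans h.le_nzr_K)
  apply le_antisymm hle
  have hNW : Hc ≤ Subgroup.normalizer ((⁅wcK p Q H₁, H₁⁆ : Subgroup G) : Set G) := by
    intro x hx
    apply mem_nzr_of_map_cj_eq
    rw [Subgroup.map_commutator, map_cj_eq_of_mem_nzr _ x (h.Hc_le_nzr_K hx),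
      map_cj_eq_of_mem_nzr _ x (h.h1n hx)]
  have hNU : Hc ≤ Subgroup.normalizer
      ((⁅wcK p Q H₁, H₁⁆ ⊔ (Cfsg.pCoreOf p Hc ⊓ H₁) : Subgroup G) : Set G) := by
    intro x hx
    exact mem_normalizer_sup (hNW hx) (h.Hc_le_nzr_P1 hx)
  have h1 : wcK p Q H₁ ≤ ⁅wcK p Q H₁, H₁⁆ ⊔ (Cfsg.pCoreOf p Hc ⊓ H₁) := by
    conv_lhs => rw [← h.K_comm_Q]
    refine (Subgroup.commutator_mono le_rfl h.Q_le).trans ?_
    have h2 : ⁅H₁ ⊔ H₂, wcK p Q H₁⁆ ≤ ⁅wcK p Q H₁, H₁⁆ ⊔ (Cfsg.pCoreOf p Hc ⊓ H₁) :=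
      commutator_sup_le H₁ H₂ (wcK p Q H₁) (⁅wcK p Q H₁, H₁⁆ ⊔ (Cfsg.pCoreOf p Hc ⊓ H₁))
        (by rw [Subgroup.commutator_comm]; exact le_sup_left)
        (by rw [Subgroup.commutator_comm]; exact h.K_comm_H2_le.trans le_sup_right)
        (h.h1le.trans hNU) (h.h2le.trans hNU)
    rw [Subgroup.commutator_comm]
    exact (Subgroup.commutator_mono (le_of_eq h.hprod.symm) le_rfl).trans h2
  conv_lhs => rw [← h.presOf_K]
  exact presOf_le_of_le_sup' _ _ _ ((inf_le_right.trans h.h1le).trans hNW) hP1 h1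

/-- `[K₁, K₂] ≤ O_p(H°)` -/
theorem K_comm_K_le (h : WCP p Q Hc H₁ H₂) :
    ⁅wcK p Q H₁, wcK p Q H₂⁆ ≤ Cfsg.pCoreOf p Hc := by
  have hPn := h.P_normal
  conv_lhs => rw [← h.K_comm_H1]
  apply Cfsg.Agent.Lib.H19.three_subgroups_normal
  · refine (Subgroup.commutator_mono (Subgroup.commutator_mono le_rfl h.symm.K_le)
      (h.K_le.trans h.h1le)).trans h.D_comm_le
  · rw [Subgroup.commutator_comm (wcK p Q H₂) (wcK p Q H₁)]
    exact (Subgroup.commutator_mono (Subgroup.commutator_mono h.K_le h.symm.K_le) h.h1le).trans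
      h.D_comm_le

/-- `O^p(H°) = K₁ K₂` -/
theorem K_sup_K (h : WCP p Q Hc H₁ H₂) : wcK p Q H₁ ⊔ wcK p Q H₂ = presOf p Hc := by
  apply le_antisymm
  · apply sup_le
    · conv_lhs => rw [← h.presOf_K]
      exact presOf_mono p (h.K_le.trans h.h1le)
    · conv_lhs => rw [← h.symm.presOf_K]
      exact presOf_mono p (h.symm.K_le.trans h.h2le)
  · have hNN : Hc ≤ Subgroup.normalizer ((wcK p Q H₁ ⊔ wcK p Q H₂ : Subgroup G) : Set G) := by
      intro x hx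
      exact mem_normalizer_sup (h.Hc_le_nzr_K hx) (h.symm.Hc_le_nzr_K hx)
    apply presOf_le_of_le_sup' _ Q _ (h.Q_le.trans hNN) h.hQp
    -- `H°` normalizes `N Q`
    have key : ∀ {A B : Subgroup G}, WCP p Q Hc A B →
        A ≤ Subgroup.normalizer ((wcK p Q A ⊔ wcK p Q B ⊔ Q : Subgroup G) : Set G) := by
      intro A B hAB
      have hNN' : Hc ≤ Subgroup.normalizer ((wcK p Q A ⊔ wcK p Q B : Subgroup G) : Set G) := by
        intro x hx
        exact mem_normalizer_sup (hAB.Hc_le_nzr_K hx) (hAB.symm.Hc_le_nzr_K hx)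
      have h1 : ∀ x ∈ A, (wcK p Q A ⊔ wcK p Q B ⊔ Q).map (cj x) ≤ wcK p Q A ⊔ wcK p Q B ⊔ Q := by
        intro x hx
        rw [Subgroup.map_sup, map_cj_eq_of_mem_nzr _ x (hNN' (hAB.h1le hx))]
        apply sup_le le_sup_left
        have h2 : x ∈ Subgroup.normalizer
            ((Cfsg.weakClosure Q (A ⊔ Q) : Subgroup G) : Set G) :=
          le_normalizer_weakClosure Q _ (le_sup_left (a := A) hx)
        have h3 : Q.map (cj x) ≤ Cfsg.weakClosure Q (A ⊔ Q) := by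
          rw [← map_cj_eq_of_mem_nzr _ x h2]
          exact Subgroup.map_mono (le_weakClosure Q _ le_sup_right)
        rw [hAB.K_sup_Q] at h3
        exact h3.trans (sup_le_sup_right le_sup_left Q)
      intro x hx
      exact mem_nzr_of_map_cj_le_both _ x (h1 x hx) (h1 x⁻¹ (A.inv_mem hx))
    have hHcN : Hc ≤ Subgroup.normalizer
        ((wcK p Q H₁ ⊔ wcK p Q H₂ ⊔ Q : Subgroup G) : Set G) := by
      refine (le_of_eq h.hprod.symm).trans ?_
      apply sup_le (key h)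
      have := key h.symm
      rwa [sup_comm (wcK p Q H₂) (wcK p Q H₁)] at this
    conv_lhs => rw [h.Hc_eq_iSup]
    apply iSup_le
    intro k
    rw [← map_cj_eq_of_mem_nzr _ (k : G) (hHcN k.2)]
    exact Subgroup.map_mono le_sup_right

end WCP
end

end Cfsg.Agent.Lib.H14
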