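import Cfsg.Agent.Lib.H14.Kieler
import Cfsg.Agent.Lib.H14.PIrr
import Cfsg.Agent.Lib.H14.WCProd
import Cfsg.Agent.Lib.H10.SylowIn

set_option autoImplicit false

namespace Cfsg.Agent.Lib.H14
open scoped commutatorElement

universe u

section
variable {H : Type*} [Group H] [Finite H] {p : ℕ} [hp : Fact p.Prime]
set_option linter.unusedSectionVars false

/-- Hypotheses of the `𝒦`-family lemma. -/
structure KF (p : ℕ) (𝒦 : Set (Subgroup H)) : Prop where
  hne : 𝒦.Nonempty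
  hinv : ∀ h : H, ∀ E ∈ 𝒦, E.map (MulAut.conj h).toMonoidHom ∈ 𝒦
  htr : ∀ E ∈ 𝒦, ∀ K ∈ 𝒦, ∃ h : H, K = E.map (MulAut.conj h).toMonoidHom
  hres : Cfsg.pResidual p H ≤ sSup 𝒦
  hnorm : ∀ E ∈ 𝒦, sSup 𝒦 ⊔ Cfsg.pCore p H ≤
    Subgroup.normalizer ((E ⊔ Cfsg.pCore p H : Subgroup H) : Set H)

theorem conj_mem_map_cj {G : Type*} [Group G] (A : Subgroup G) (g a : G) (ha : a ∈ A) :
    g * a * g⁻¹ ∈ A.map (MulAut.conj g).toMonoidHom :=
  ⟨a, ha, by simp [MulAut.conj_apply]⟩

/-- The largest proper subgroup of `E P` over the Sylow subgroup `T ∩ E P`, for `p`-minimal `E`. -/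
theorem exists_largest (T : Sylow p H) (E : Subgroup H)
    (hS : ¬ p ∣ ((T : Subgroup H) ⊓ (E ⊔ Cfsg.pCore p H)).relIndex (E ⊔ Cfsg.pCore p H))
    (hmin : ∀ TE : Sylow p ↥E, Cfsg.IsMinimalOver (TE : Subgroup ↥E)) :
    ∃ (TE : Sylow p ↥E) (Y : Subgroup H),
      (TE : Subgroup ↥E).map E.subtype = (T : Subgroup H) ⊓ E ∧
      Subgroup.normalClosure ((TE : Subgroup ↥E) : Set ↥E) = ⊤ ∧
      (T : Subgroup H) ⊓ (E ⊔ Cfsg.pCore p H) ≤ Y ∧ Y ≤ E ⊔ Cfsg.pCore p H ∧
      Y ≠ E ⊔ Cfsg.pCore p H ∧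
      ∀ Z : Subgroup H, Z ≤ E ⊔ Cfsg.pCore p H → (T : Subgroup H) ⊓ (E ⊔ Cfsg.pCore p H) ≤ Z →
        Z ≠ E ⊔ Cfsg.pCore p H → Z ≤ Y := by
  have hPn : (Cfsg.pCore p H).Normal := pCore_normal
  have hPp : IsPGroup p ↥(Cfsg.pCore p H) := pCore_isPGroup
  have hPT : Cfsg.pCore p H ≤ (T : Subgroup H) := pCore_le_sylow T
  set P := Cfsg.pCore p H with hP
  set Eh := E ⊔ P with hEh
  set S := (T : Subgroup H) ⊓ Eh with hSdef
  have hPS : P ≤ S := le_inf hPT le_sup_right
  -- decomposition of elements of `Eh`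
  have hdec : ∀ x ∈ Eh, ∃ e ∈ E, ∃ q ∈ P, e * q = x := fun x hx =>
    Subgroup.mem_sup_of_normal_right.mp hx
  -- a Sylow subgroup of `E` over `T ∩ E`
  have hTEp : IsPGroup p ↥(((T : Subgroup H) ⊓ E).subgroupOf E) :=
    (T.2.to_le inf_le_left).comap_subtype
  obtain ⟨TE, hTE⟩ := hTEp.exists_le_sylow
  have hA1 : (T : Subgroup H) ⊓ E ≤ (TE : Subgroup ↥E).map E.subtype := by
    intro x hx
    exact ⟨⟨x, hx.2⟩, hTE (Subgroup.mem_subgroupOf.mpr hx), rfl⟩
  have hAE : (TE : Subgroup ↥E).map E.subtype ≤ E := by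
    rintro _ ⟨y, -, rfl⟩; exact y.2
  have hA2 : (TE : Subgroup ↥E).map E.subtype ≤ (T : Subgroup H) ⊓ E := by
    set A := (TE : Subgroup ↥E).map E.subtype with hA
    have hAp : IsPGroup p ↥A := TE.2.map _
    have hAP : IsPGroup p ↥(A ⊔ P) :=
      IsPGroup.to_sup_of_normal_right' hAp hPp (fun a _ => by
        rw [Subgroup.normalizer_eq_top_iff.mpr hPn]; exact Subgroup.mem_top a)
    have hSA : S ≤ A ⊔ P := by
      intro x hx
      obtain ⟨e, he, q, hq, rfl⟩ := hdec x hx.2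
      have heT : e ∈ (T : Subgroup H) := by
        have := (T : Subgroup H).mul_mem hx.1 ((T : Subgroup H).inv_mem (hPT hq))
        simpa [mul_assoc] using this
      exact Subgroup.mul_mem_sup (hA1 ⟨heT, he⟩) hq
    have h1 := le_of_isPGroup_of_not_dvd_relIndex S Eh (A ⊔ P) hS hSA
      (sup_le (hAE.trans le_sup_left) le_sup_right) hAP
    exact le_inf ((le_sup_left.trans h1).trans inf_le_left) hAE
  have hA : (TE : Subgroup ↥E).map E.subtype = (T : Subgroup H) ⊓ E := le_antisymm hA2 hA1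
  obtain ⟨hnc, M', ⟨hM'c, hTM'⟩, hM'u⟩ := hmin TE
  have hM'E : M'.map E.subtype ≤ E := by
    rintro _ ⟨y, -, rfl⟩; exact y.2
  have hTEM : (T : Subgroup H) ⊓ E ≤ M'.map E.subtype := by
    rw [← hA]; exact Subgroup.map_mono hTM'
  refine ⟨TE, M'.map E.subtype ⊔ P, hA, hnc, ?_, sup_le (hM'E.trans le_sup_left) le_sup_right,
    ?_, ?_⟩
  · intro x hx
    obtain ⟨e, he, q, hq, rfl⟩ := hdec x hx.2
    have heT : e ∈ (T : Subgroup H) := by
      have := (T : Subgroup H).mul_mem hx.1 ((T : Subgroup H).inv_mem (hPT hq))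
      simpa [mul_assoc] using this
    exact Subgroup.mul_mem_sup (hTEM ⟨heT, he⟩) hq
  · intro heq
    apply hM'c.1
    rw [eq_top_iff]
    intro e _
    have heE : (e : H) ∈ M'.map E.subtype ⊔ P := by rw [heq]; exact Subgroup.mem_sup_left e.2
    obtain ⟨m, hm, q, hq, hmq⟩ := Subgroup.mem_sup_of_normal_right.mp heE
    have hqE : q ∈ E := by
      have : q = m⁻¹ * (e : H) := by rw [← hmq]; group
      rw [this]; exact E.mul_mem (E.inv_mem (hM'E hm)) e.2
    have hqM : q ∈ M'.map E.subtype := hTEM ⟨hPT hq, hqE⟩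
    have heM : (e : H) ∈ M'.map E.subtype := by
      rw [← hmq]; exact (M'.map E.subtype).mul_mem hm hqM
    obtain ⟨y, hy, hye⟩ := heM
    have : y = e := Subtype.ext hye
    rw [← this]; exact hy
  · intro Z hZE hSZ hZne
    have hPZ : P ≤ Z := hPS.trans hSZ
    have hZ'ne : Z.subgroupOf E ≠ ⊤ := by
      intro htop
      apply hZne
      apply le_antisymm hZE
      refine sup_le ?_ hPZ
      intro e he
      have : (⟨e, he⟩ : ↥E) ∈ Z.subgroupOf E := by rw [htop]; exact Subgroup.mem_top _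
      exact Subgroup.mem_subgroupOf.mp this
    have hTEZ : (TE : Subgroup ↥E) ≤ Z.subgroupOf E := by
      intro y hy
      rw [Subgroup.mem_subgroupOf]
      have : (y : H) ∈ (T : Subgroup H) ⊓ E := by rw [← hA]; exact ⟨y, hy, rfl⟩
      exact hSZ ⟨this.1, Subgroup.mem_sup_left this.2⟩
    rcases eq_top_or_exists_le_coatom (Z.subgroupOf E) with htop | ⟨M'', hM''c, hZM''⟩
    · exact absurd htop hZ'ne
    · have hM''eq : M'' = M' := hM'u M'' ⟨hM''c, hTEZ.trans hZM''⟩
      intro z hz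
      obtain ⟨e, he, q, hq, rfl⟩ := hdec z (hZE hz)
      have heZ : e ∈ Z := by
        have := Z.mul_mem hz (Z.inv_mem (hPZ hq))
        simpa [mul_assoc] using this
      have heM : (⟨e, he⟩ : ↥E) ∈ M' := by
        rw [← hM''eq]; exact hZM'' (Subgroup.mem_subgroupOf.mpr heZ)
      exact Subgroup.mul_mem_sup ⟨⟨e, he⟩, heM, rfl⟩ hq

namespace KF
variable {𝒦 : Set (Subgroup H)}

theorem sSup_normal (h : KF p 𝒦) : (sSup 𝒦).Normal := by
  constructor
  intro x hx g
  have key : sSup 𝒦 ≤ (sSup 𝒦).comap (MulAut.conj g).toMonoidHom := by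
    apply sSup_le
    intro E hE y hy
    rw [Subgroup.mem_comap]
    exact (le_sSup (h.hinv g E hE)) ⟨y, hy, rfl⟩
  have := key hx
  simpa [MulAut.conj_apply] using this

theorem sup_normal (h : KF p 𝒦) : (sSup 𝒦 ⊔ Cfsg.pCore p H).Normal := by
  have := h.sSup_normal
  have : (Cfsg.pCore p H).Normal := pCore_normal
  exact Subgroup.sup_normal _ _

theorem sup_sylow (h : KF p 𝒦) (T : Sylow p H) : sSup 𝒦 ⊔ (T : Subgroup H) = ⊤ := by
  rw [eq_top_iff, ← pResidual_sup_sylow T]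
  exact sup_le_sup_right h.hres _

/-- A subgroup containing `T` and some `E P` is everything. -/
theorem eq_top_of_le (h : KF p 𝒦) (T : Sylow p H) (M : Subgroup H) (hTM : (T : Subgroup H) ≤ M)
    (E : Subgroup H) (hE : E ∈ 𝒦) (hEM : E ⊔ Cfsg.pCore p H ≤ M) : M = ⊤ := by
  have hn := h.sup_normal
  rw [eq_top_iff, ← h.sup_sylow T]
  refine sup_le (sSup_le ?_) hTM
  intro K hK
  obtain ⟨g, rfl⟩ := h.htr E hE K hK
  have hg : g ∈ (T : Subgroup H) ⊔ (sSup 𝒦 ⊔ Cfsg.pCore p H) := by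
    have : (T : Subgroup H) ⊔ (sSup 𝒦 ⊔ Cfsg.pCore p H) = ⊤ := by
      rw [eq_top_iff, ← h.sup_sylow T, sup_comm]
      exact sup_le_sup_left le_sup_left _
    rw [this]; exact Subgroup.mem_top g
  obtain ⟨t, ht, r, hr, rfl⟩ := Subgroup.mem_sup_of_normal_right.mp hg
  rintro _ ⟨e, he, rfl⟩
  have h1 : r * e * r⁻¹ ∈ E ⊔ Cfsg.pCore p H :=
    (Subgroup.mem_normalizer_iff.mp (h.hnorm E hE hr) e).mp (Subgroup.mem_sup_left he)
  have h2 : t * (r * e * r⁻¹) * t⁻¹ ∈ M :=
    M.mul_mem (M.mul_mem (hTM ht) (hEM h1)) (M.inv_mem (hTM ht))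
  have : (MulAut.conj (t * r)).toMonoidHom e = t * (r * e * r⁻¹) * t⁻¹ := by
    simp [MulAut.conj_apply, mul_assoc]
  rw [this]; exact h2

end KF
theorem mem_nzr_of_map_cj_le_fin {G : Type*} [Group G] [Finite G] (S : Subgroup G) (n : G)
    (h : S.map (MulAut.conj n).toMonoidHom ≤ S) : n ∈ Subgroup.normalizer (S : Set G) := by
  apply mem_nzr_of_map_cj_eq
  apply Subgroup.eq_of_le_of_card_ge h
  rw [card_map_conj]

theorem le_presOf_sup_sylow (E : Subgroup H) (TE : Sylow p ↥E) :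
    E ≤ presOf p E ⊔ (TE : Subgroup ↥E).map E.subtype := by
  have h1 := pResidual_sup_sylow TE
  have h2 := congrArg (Subgroup.map E.subtype) h1
  rw [Subgroup.map_sup, pResidual_map_eq, ← MonoidHom.range_eq_map, Subgroup.range_subtype] at h2
  exact le_of_eq h2.symm

/-- **`𝒦`-family lemma, `p`-minimal case.** -/
theorem KF.isMinimalOver {𝒦 : Set (Subgroup H)} (h : KF p 𝒦)
    (hmin : ∀ E ∈ 𝒦, ∀ TE : Sylow p ↥E, Cfsg.IsMinimalOver (TE : Subgroup ↥E)) (T : Sylow p H) :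
    Cfsg.IsMinimalOver (T : Subgroup H) := by
  obtain ⟨E, hE⟩ := h.hne
  have hn := h.sup_normal
  have hPT : Cfsg.pCore p H ≤ (T : Subgroup H) := pCore_le_sylow T
  set P := Cfsg.pCore p H with hP
  set Rh := sSup 𝒦 ⊔ P with hRh
  set Eh := E ⊔ P with hEh
  have hEhRh : Eh ≤ Rh := sup_le_sup_right (le_sSup hE) _
  have hRhEh : Rh ≤ Subgroup.normalizer (Eh : Set H) := h.hnorm E hE
  have hS : ¬ p ∣ ((T : Subgroup H) ⊓ Eh).relIndex Eh := by
    have h1 : ¬ p ∣ (T : Subgroup H).relIndex ⊤ := by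
      rw [Subgroup.relIndex_top_right]; exact T.not_dvd_index
    have h2 := not_dvd_relIndex_inf (T : Subgroup H) ⊤ Rh le_top
      (by rw [Subgroup.normalizer_eq_top_iff.mpr hn]) h1
    have h3 := not_dvd_relIndex_inf ((T : Subgroup H) ⊓ Rh) Rh Eh hEhRh hRhEh h2
    have : (T : Subgroup H) ⊓ Rh ⊓ Eh = (T : Subgroup H) ⊓ Eh := by
      rw [inf_assoc, inf_eq_right.mpr hEhRh]
    rwa [this] at h3
  obtain ⟨TE, Y, hTE, hnc, hSY, hYE, hYne, hYmax⟩ := exists_largest T E hS (hmin E hE)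
  set S := (T : Subgroup H) ⊓ Eh with hSdef
  have hPS : P ≤ S := le_inf hPT le_sup_right
  have hTES : (TE : Subgroup ↥E).map E.subtype ≤ S := by
    rw [hTE]; exact inf_le_inf_left _ le_sup_left
  have hTEsub : ∀ N : Subgroup H, S ≤ N → (TE : Subgroup ↥E) ≤ N.subgroupOf E := by
    intro N hN y hy
    rw [Subgroup.mem_subgroupOf]
    exact hN (hTES ⟨y, hy, rfl⟩)
  have hEle : ∀ N : Subgroup H, S ≤ N → (N.subgroupOf E).Normal → E ≤ N := by
    intro N hN hNn
    have h2 := Subgroup.normalClosure_le_normal (hTEsub N hN)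
    rw [hnc] at h2
    intro e he
    exact Subgroup.mem_subgroupOf.mp (h2 (Subgroup.mem_top ⟨e, he⟩))
  constructor
  · -- normal closure
    set N := Subgroup.normalClosure ((T : Subgroup H) : Set H) with hN
    have hNn : N.Normal := Subgroup.normalClosure_normal
    have hTN : (T : Subgroup H) ≤ N := Subgroup.le_normalClosure
    have hEN : E ≤ N := hEle N (inf_le_left.trans hTN) (hNn.subgroupOf E)
    rw [eq_top_iff, ← h.sup_sylow T]
    refine sup_le (sSup_le ?_) hTN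
    intro K hK
    obtain ⟨g, rfl⟩ := h.htr E hE K hK
    rintro _ ⟨e, he, rfl⟩
    exact hNn.conj_mem e (hEN he) g
  · -- unique maximal subgroup
    have hTne : (T : Subgroup H) ≠ ⊤ := by
      intro htop
      obtain ⟨-, M', ⟨hM'c, hTM'⟩, -⟩ := hmin E hE TE
      apply hM'c.1
      rw [eq_top_iff]
      intro e _
      apply hTM'
      have : (e : H) ∈ (TE : Subgroup ↥E).map E.subtype := by
        rw [hTE, htop]; exact ⟨Subgroup.mem_top _, e.2⟩
      obtain ⟨y, hy, hye⟩ := this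
      have : y = e := Subtype.ext hye
      rw [← this]; exact hy
    have hSp : IsPGroup p ↥S := T.2.to_le inf_le_left
    have hA0 : Subgroup.normalizer (S : Set H) ⊓ Subgroup.normalizer (Eh : Set H) ≤
        Subgroup.normalizer (Y : Set H) := by
      apply le_nzr_of_conj_mem
      intro n hn y hy
      have hZ := hYmax (Y.map (MulAut.conj n).toMonoidHom) ?_ ?_ ?_
      · exact hZ (conj_mem_map_cj Y n y hy)
      · rintro _ ⟨y', hy', rfl⟩
        exact (Subgroup.mem_normalizer_iff.mp hn.2 y').mp (hYE hy')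
      · intro s hs
        rw [mem_map_conj_iff]
        apply hSY
        have := (Subgroup.mem_normalizer_iff.mp (Subgroup.inv_mem _ hn.1) s).mp hs
        simpa using this
      · intro heq
        apply hYne
        have h1 : Eh.map (MulAut.conj n).toMonoidHom = Eh := map_cj_eq_of_mem_nzr Eh n hn.2
        exact Subgroup.map_injective (MulAut.conj n).injective (heq.trans h1.symm)
    have key : ∀ M : Subgroup H, IsCoatom M → (T : Subgroup H) ≤ M →
        M ⊓ Rh ≤ Subgroup.normalizer (Y : Set H) := by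
      intro M hMc hTM
      have h7a : ¬ Eh ≤ M := fun hle => hMc.1 (h.eq_top_of_le T M hTM E hE hle)
      have h7b : M ⊓ Eh ≤ Y := hYmax (M ⊓ Eh) inf_le_right
        (le_inf (inf_le_left.trans hTM) inf_le_right)
        (fun heq => h7a ((le_of_eq heq.symm : Eh ≤ M ⊓ Eh).trans inf_le_left))
      intro g hg
      have hS'Y : S.map (MulAut.conj g).toMonoidHom ≤ Y := by
        refine le_trans ?_ h7b
        rintro _ ⟨s, hs, rfl⟩
        refine ⟨M.mul_mem (M.mul_mem hg.1 (hTM hs.1)) (M.inv_mem hg.1), ?_⟩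
        exact (Subgroup.mem_normalizer_iff.mp (hRhEh hg.2) s).mp hs.2
      have hSidx : ¬ p ∣ S.relIndex Y := by
        intro hd; apply hS
        rw [← Subgroup.relIndex_mul_relIndex S Y Eh hSY hYE]; exact Dvd.dvd.mul_right hd _
      obtain ⟨m, hmY, hm⟩ := Cfsg.Agent.Lib.H10.exists_mem_map_conj_le_of_sylowIn hSp hSY hSidx
        (hSp.map _) hS'Y
      have hn1 : m * g ∈ Subgroup.normalizer (S : Set H) := by
        apply mem_nzr_of_map_cj_le_fin
        rintro _ ⟨s, hs, rfl⟩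
        apply hm
        refine ⟨g * s * g⁻¹, conj_mem_map_cj S g s hs, ?_⟩
        simp [MulAut.conj_apply, mul_assoc]
      have hn2 : m * g ∈ Subgroup.normalizer (Eh : Set H) :=
        Subgroup.mul_mem _ (Subgroup.le_normalizer (hYE hmY)) (hRhEh hg.2)
      have hn3 := hA0 ⟨hn1, hn2⟩
      have hm3 : m ∈ Subgroup.normalizer (Y : Set H) := Subgroup.le_normalizer hmY
      have : g = m⁻¹ * (m * g) := by group
      rw [this]; exact Subgroup.mul_mem _ (Subgroup.inv_mem _ hm3) hn3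
    rcases eq_top_or_exists_le_coatom (T : Subgroup H) with htop | ⟨M₀, hM₀c, hTM₀⟩
    · exact absurd htop hTne
    refine ⟨M₀, ⟨hM₀c, hTM₀⟩, ?_⟩
    rintro M ⟨hMc, hTM⟩
    by_contra hne
    have hsup : M ⊔ M₀ = ⊤ := by
      by_contra hnt
      have h1 : ¬ M < M ⊔ M₀ := fun hlt => hnt (hMc.2 _ hlt)
      have h2 : ¬ M₀ < M ⊔ M₀ := fun hlt => hnt (hM₀c.2 _ hlt)
      have h3 : M ⊔ M₀ = M := (eq_of_le_of_not_lt le_sup_left h1).symm
      have h4 : M ⊔ M₀ = M₀ := (eq_of_le_of_not_lt le_sup_right h2).symm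
      exact hne (h3.symm.trans h4)
    set D := (M ⊓ Rh) ⊔ (M₀ ⊓ Rh) with hD
    have hDY : D ≤ Subgroup.normalizer (Y : Set H) :=
      sup_le (key M hMc hTM) (key M₀ hM₀c hTM₀)
    have hRhtop : Subgroup.normalizer (Rh : Set H) = ⊤ := Subgroup.normalizer_eq_top_iff.mpr hn
    have hTD : (T : Subgroup H) ≤ Subgroup.normalizer (D : Set H) := by
      intro t ht
      have ht' : t ∈ Subgroup.normalizer (Rh : Set H) := by rw [hRhtop]; exact Subgroup.mem_top t
      exact mem_normalizer_sup (mem_normalizer_inf (Subgroup.le_normalizer (hTM ht)) ht')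
        (mem_normalizer_inf (Subgroup.le_normalizer (hTM₀ ht)) ht')
    have hdecomp : ∀ M' : Subgroup H, (T : Subgroup H) ≤ M' → M' ≤ (M' ⊓ Rh) ⊔ (T : Subgroup H) := by
      intro M' hTM' m hm
      have hm' : m ∈ Rh ⊔ (T : Subgroup H) := by
        have : Rh ⊔ (T : Subgroup H) = ⊤ := by
          rw [eq_top_iff, ← h.sup_sylow T]
          exact sup_le_sup_right le_sup_left _
        rw [this]; exact Subgroup.mem_top m
      obtain ⟨r, hr, t, ht, rfl⟩ := Subgroup.mem_sup_of_normal_left.mp hm'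
      have hrM : r ∈ M' := by
        have := M'.mul_mem hm (M'.inv_mem (hTM' ht))
        simpa [mul_assoc] using this
      exact Subgroup.mul_mem_sup ⟨hrM, hr⟩ ht
    have htop : (⊤ : Subgroup H) ≤ D ⊔ (T : Subgroup H) := by
      rw [← hsup]
      exact sup_le ((hdecomp M hTM).trans (sup_le_sup_right le_sup_left _))
        ((hdecomp M₀ hTM₀).trans (sup_le_sup_right le_sup_right _))
    have hres : presOf p (⊤ : Subgroup H) ≤ D := presOf_le_of_le_sup' D T ⊤ hTD T.2 htop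
    have hEY : E ≤ Subgroup.normalizer (Y : Set H) := by
      refine (le_presOf_sup_sylow E TE).trans (sup_le ?_ ?_)
      · exact ((presOf_mono p le_top).trans hres).trans hDY
      · exact (hTES.trans hSY).trans Subgroup.le_normalizer
    have hEleY : E ≤ Y := hEle Y hSY (Subgroup.normal_subgroupOf_of_le_normalizer hEY)
    exact hYne (le_antisymm hYE (sup_le hEleY (hPS.trans hSY)))

end
end Cfsg.Agent.Lib.H14
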