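import Cfsg.Agent.Lib.H7.FStar2
import Cfsg.Agent.Lib.H7.PLocal3
import Cfsg.Agent.Lib.H14.PIrr

/-! `O^p(H)` quasisimple with `O_p(H) = 1`. -/

set_option autoImplicit false

namespace Cfsg.Agent.Lib.H14
open scoped commutatorElement
open Cfsg.Agent.Lib.H7

universe u

/-- If `O_p(H) = 1` then every nilpotent normal subgroup of `H` has order prime to `p`. -/
theorem not_dvd_card_of_normal_nilpotent {H : Type*} [Group H] [Finite H] {p : ℕ}
    [Fact p.Prime] (hO : Cfsg.pCore p H = ⊥) (N : Subgroup H) [hN : N.Normal]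
    [hnil : Group.IsNilpotent ↥N] : ¬ p ∣ Nat.card N := by
  have P : Sylow p N := default
  have hPn : (P : Subgroup N).Normal := inferInstance
  have hPc : (P : Subgroup N).Characteristic := P.characteristic_of_normal hPn
  have h3 : ((P : Subgroup N).map N.subtype).Normal := inferInstance
  have h4 : (P : Subgroup N).map N.subtype ≤ Cfsg.pCore p H := le_sSup ⟨h3, P.2.map _⟩
  rw [hO, le_bot_iff, Subgroup.map_eq_bot_iff_of_injective _
    (Subgroup.subtype_injective _)] at h4
  have h5 := P.not_dvd_index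
  have h6 := Subgroup.card_mul_index (P : Subgroup N)
  rw [h4, Subgroup.card_bot, one_mul] at h6
  rw [h4] at h5
  rw [← h6]
  exact h5

theorem mem_pResidual_of_not_dvd_card {H : Type*} [Group H] [Finite H] {p : ℕ}
    [hp : Fact p.Prime] (N : Subgroup H) (hN : ¬ p ∣ Nat.card N) : N ≤ Cfsg.pResidual p H := by
  intro x hx
  apply Subgroup.subset_closure
  show Nat.Coprime (orderOf x) p
  have h1 : orderOf x ∣ Nat.card N := by
    have := orderOf_dvd_natCard (⟨x, hx⟩ : N)
    rwa [← Subgroup.orderOf_coe] at this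
  exact Nat.Coprime.coprime_dvd_left h1 ((Nat.Prime.coprime_iff_not_dvd hp.out).mpr hN).symm

/-- `O^p(H) = F*(H)` when `O_p(H) = 1` and `O^p(H)` is quasisimple. -/
theorem pResidual_eq_fstar {H : Type u} [Group H] [Finite H] {p : ℕ} [hp : Fact p.Prime]
    (hO : Cfsg.pCore p H = ⊥) (hq : Cfsg.IsQuasisimple ↥(Cfsg.pResidual p H)) :
    Cfsg.pResidual p H = Cfsg.generalizedFittingSubgroup H := by
  have hKn : (Cfsg.pResidual p H).Normal := pResidual_normal'
  have hKc : Cfsg.IsComponent (Cfsg.pResidual p H) := ⟨hKn.isSubnormal, hq⟩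
  apply le_antisymm
  · exact (component_le_layer hKc).trans layer_le_generalizedFittingSubgroup
  · unfold Cfsg.generalizedFittingSubgroup
    apply sup_le
    · apply sSup_le
      intro L hL
      have : Group.IsPerfect ↥L := hL.2.1
      apply le_of_isPerfect_of_coprime_mem p
      intro y _ hy
      exact Subgroup.subset_closure hy
    · have hFn : (Cfsg.fittingSubgroup H).Normal := Cfsg.Agent.Lib.H1.fittingSubgroup_normal H
      have hFnil : Group.IsNilpotent ↥(Cfsg.fittingSubgroup H) :=
        Cfsg.Agent.Lib.H1.fittingSubgroup_isNilpotent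
      exact mem_pResidual_of_not_dvd_card _ (not_dvd_card_of_normal_nilpotent hO _)

/-- `A` normalizes `[A, B]`. -/
theorem le_normalizer_commutator_left {G : Type*} [Group G] (A B : Subgroup G) :
    A ≤ Subgroup.normalizer ((⁅A, B⁆ : Subgroup G) : Set G) := by
  have key : ∀ a ∈ A, ∀ h ∈ ⁅A, B⁆, a * h * a⁻¹ ∈ ⁅A, B⁆ := by
    intro a ha h hh
    rw [Subgroup.commutator_def] at hh
    induction hh using Subgroup.closure_induction with
    | mem x hx =>
      obtain ⟨a', ha', b, hb, rfl⟩ := hx
      have : a * ⁅a', b⁆ * a⁻¹ = ⁅a * a', b⁆ * ⁅a, b⁆⁻¹ := by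
        simp only [commutatorElement_def]; group
      rw [this]
      exact Subgroup.mul_mem _ (Subgroup.commutator_mem_commutator (A.mul_mem ha ha') hb)
        (Subgroup.inv_mem _ (Subgroup.commutator_mem_commutator ha hb))
    | one => simp
    | mul x y _ _ hx hy =>
      have : a * (x * y) * a⁻¹ = (a * x * a⁻¹) * (a * y * a⁻¹) := by group
      rw [this]; exact Subgroup.mul_mem _ hx hy
    | inv x _ hx =>
      have : a * x⁻¹ * a⁻¹ = (a * x * a⁻¹)⁻¹ := by group
      rw [this]; exact Subgroup.inv_mem _ hx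
  intro a ha
  rw [Subgroup.mem_normalizer_iff]
  intro h
  constructor
  · exact key a ha h
  · intro hh
    have := key a⁻¹ (A.inv_mem ha) _ hh
    have e : a⁻¹ * (a * h * a⁻¹) * a⁻¹⁻¹ = h := by group
    rwa [e] at this

theorem le_normalizer_commutator_right {G : Type*} [Group G] (A B : Subgroup G) :
    B ≤ Subgroup.normalizer ((⁅A, B⁆ : Subgroup G) : Set G) := by
  rw [Subgroup.commutator_comm]; exact le_normalizer_commutator_left B A

/-- A subgroup of a quasisimple subgroup `K` normalized by `K` contains `K` or centralizes `K`. -/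
theorem quasisimple_le_or_le_centralizer {G : Type*} [Group G] (K M : Subgroup G)
    (hq : Cfsg.IsQuasisimple ↥K) (hMK : M ≤ K)
    (hn : K ≤ Subgroup.normalizer (M : Set G)) :
    K ≤ M ∨ M ≤ Subgroup.centralizer (K : Set G) := by
  have hN : (M.subgroupOf K).Normal := by
    rw [Subgroup.normal_subgroupOf_iff_le_normalizer hMK]; exact hn
  rcases quasisimple_normal hq (M.subgroupOf K) with h | h
  · left; exact Subgroup.subgroupOf_eq_top.mp h
  · right
    intro m hm
    rw [Subgroup.mem_centralizer_iff]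
    intro k hk
    have h1 : (⟨m, hMK hm⟩ : ↥K) ∈ Subgroup.center ↥K := h (Subgroup.mem_subgroupOf.mpr hm)
    have := Subgroup.mem_center_iff.mp h1 ⟨k, hk⟩
    exact congrArg Subtype.val this

/-- Three subgroups lemma for a perfect subgroup `K`: `[K, X, K] = 1` forces `[K, X] = 1`. -/
theorem commutator_eq_bot_of_perfect {G : Type*} [Group G] (K X : Subgroup G)
    (hK : ⁅K, K⁆ = K) (h : ⁅⁅K, X⁆, K⁆ = ⊥) : ⁅K, X⁆ = ⊥ := by
  have h2 : ⁅⁅X, K⁆, K⁆ = ⊥ := by rw [Subgroup.commutator_comm X K]; exact h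
  have := Subgroup.commutator_commutator_eq_bot_of_rotate h h2
  rwa [hK] at this

/-- `C_H(O^p(H))` has order prime to `p` when `O_p(H) = 1` and `O^p(H)` is quasisimple. -/
theorem not_dvd_card_centralizer_pResidual {H : Type u} [Group H] [Finite H] {p : ℕ}
    [hp : Fact p.Prime] (hO : Cfsg.pCore p H = ⊥)
    (hq : Cfsg.IsQuasisimple ↥(Cfsg.pResidual p H)) :
    ¬ p ∣ Nat.card (Subgroup.centralizer ((Cfsg.pResidual p H : Subgroup H) : Set H)) := by
  have hKn : (Cfsg.pResidual p H).Normal := pResidual_normal'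
  have hF := pResidual_eq_fstar hO hq
  have hKc : Cfsg.IsComponent (Cfsg.pResidual p H) := ⟨hKn.isSubnormal, hq⟩
  have hlayer : Cfsg.layer H = Cfsg.pResidual p H := by
    apply le_antisymm
    · rw [hF]; exact layer_le_generalizedFittingSubgroup
    · exact component_le_layer hKc
  have hD : Subgroup.centralizer ((Cfsg.pResidual p H : Subgroup H) : Set H) ≤
      Cfsg.fittingSubgroup H := by
    have h1 : Subgroup.centralizer ((Cfsg.pResidual p H : Subgroup H) : Set H) ≤
        Cfsg.pResidual p H := by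
      have := centralizer_generalizedFittingSubgroup_le (G := H)
      rwa [← hF] at this
    have h2 := layer_inf_centralizer_le_fitting (G := H)
    rw [hlayer] at h2
    exact (le_inf h1 le_rfl).trans h2
  have hFn : (Cfsg.fittingSubgroup H).Normal := Cfsg.Agent.Lib.H1.fittingSubgroup_normal H
  have hFnil : Group.IsNilpotent ↥(Cfsg.fittingSubgroup H) :=
    Cfsg.Agent.Lib.H1.fittingSubgroup_isNilpotent
  intro hdvd
  exact not_dvd_card_of_normal_nilpotent hO (Cfsg.fittingSubgroup H)
    (hdvd.trans (Subgroup.card_dvd_of_le hD))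

theorem quasi_main {H : Type u} [Group H] [Finite H] {p : ℕ} [hp : Fact p.Prime]
    (hpH : p ∣ Nat.card H) (hO : Cfsg.pCore p H = ⊥)
    (hq : Cfsg.IsQuasisimple ↥(Cfsg.pResidual p H)) :
    Cfsg.pResidual p H = Cfsg.generalizedFittingSubgroup H ∧
    (∀ Y : Subgroup H, IsPGroup p ↥Y → Y ≠ ⊥ →
      ⁅Cfsg.pResidual p H, Y⁆ = Cfsg.pResidual p H ∧
      Cfsg.pResidual p H ≤ ⨆ k : ↥(Cfsg.pResidual p H), Y.map (MulAut.conj (k : H)).toMonoidHom) ∧
    (∀ C : Subgroup H, C.Normal → ¬ Cfsg.pResidual p H ≤ C → (Nat.card ↥C).Coprime p) ∧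
    Cfsg.IsPIrreducible p H := by
  have hKn : (Cfsg.pResidual p H).Normal := pResidual_normal'
  have hperf : ⁅Cfsg.pResidual p H, Cfsg.pResidual p H⁆ = Cfsg.pResidual p H :=
    Subgroup.isPerfect_iff.mp hq.1
  have hD := not_dvd_card_centralizer_pResidual hO hq
  obtain ⟨K, hK⟩ : ∃ K, K = Cfsg.pResidual p H := ⟨_, rfl⟩
  have hF := pResidual_eq_fstar hO hq
  rw [← hK] at hKn hperf hD hq hF ⊢
  -- (3)
  have h3 : ∀ C : Subgroup H, C.Normal → ¬ K ≤ C → (Nat.card ↥C).Coprime p := by
    intro C hC hKC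
    have h1 : ⁅K, C⁆ ≤ K ⊓ C := le_inf (Subgroup.commutator_le_left K C)
      (Subgroup.commutator_le_right K C)
    have hn : K ≤ Subgroup.normalizer ((K ⊓ C : Subgroup H) : Set H) := by
      have : (K ⊓ C).Normal := inferInstance
      exact Subgroup.le_normalizer_of_normal
    rcases quasisimple_le_or_le_centralizer K (K ⊓ C) hq inf_le_left hn with h | h
    · exact absurd (h.trans inf_le_right) hKC
    · have h2 : ⁅⁅K, C⁆, K⁆ = ⊥ := by
        rw [Subgroup.commutator_eq_bot_iff_le_centralizer]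
        exact h1.trans h
      have h4 := commutator_eq_bot_of_perfect K C hperf h2
      rw [Subgroup.commutator_comm, Subgroup.commutator_eq_bot_iff_le_centralizer] at h4
      have h5 : Nat.card C ∣ Nat.card (Subgroup.centralizer (K : Set H)) :=
        Subgroup.card_dvd_of_le h4
      exact (Nat.Coprime.coprime_dvd_left h5
        ((Nat.Prime.coprime_iff_not_dvd hp.out).mpr hD).symm)
  refine ⟨hF, ?_, h3, ?_⟩
  · intro Y hY hY1
    have hYC : ¬ Y ≤ Subgroup.centralizer (K : Set H) := by
      intro hle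
      have h1 : Nat.card Y ∣ Nat.card (Subgroup.centralizer (K : Set H)) :=
        Subgroup.card_dvd_of_le hle
      obtain ⟨n, hn⟩ := IsPGroup.iff_card.mp hY
      have hn0 : n ≠ 0 := by
        rintro rfl
        rw [pow_zero] at hn
        exact hY1 (Subgroup.card_eq_one.mp hn)
      apply hD
      refine dvd_trans ?_ h1
      rw [hn]; exact dvd_pow_self p hn0
    have hcomm : ⁅K, Y⁆ = K := by
      have hle : ⁅K, Y⁆ ≤ K := Subgroup.commutator_le_left K Y
      rcases quasisimple_le_or_le_centralizer K ⁅K, Y⁆ hq hle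
        (le_normalizer_commutator_left K Y) with h | h
      · exact le_antisymm hle h
      · exfalso
        apply hYC
        have h2 : ⁅⁅K, Y⁆, K⁆ = ⊥ := by
          rw [Subgroup.commutator_eq_bot_iff_le_centralizer]; exact h
        have h4 := commutator_eq_bot_of_perfect K Y hperf h2
        rwa [Subgroup.commutator_comm, Subgroup.commutator_eq_bot_iff_le_centralizer] at h4
    refine ⟨hcomm, ?_⟩
    rw [hK] at hcomm ⊢
    conv_lhs => rw [← hcomm]
    rw [Subgroup.commutator_le]
    intro k hk y hy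
    rw [commutatorElement_def]
    have e : k * y * k⁻¹ * y⁻¹ = (k * y * k⁻¹) * y⁻¹ := by group
    rw [e]
    apply Subgroup.mul_mem
    · apply Subgroup.mem_iSup_of_mem (⟨k, hk⟩ : ↥(Cfsg.pResidual p H))
      exact ⟨y, hy, rfl⟩
    · apply Subgroup.mem_iSup_of_mem (⟨1, Subgroup.one_mem _⟩ : ↥(Cfsg.pResidual p H))
      exact ⟨y⁻¹, Y.inv_mem hy, by simp⟩
  · constructor
    · intro hcl
      have P : Sylow p H := default
      have hPn : (P : Subgroup H).Normal := hcl P
      have hle : (P : Subgroup H) ≤ Cfsg.pCore p H := le_sSup ⟨hPn, P.2⟩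
      rw [hO, le_bot_iff] at hle
      have h5 := P.not_dvd_index
      have h6 := Subgroup.card_mul_index (P : Subgroup H)
      rw [hle, Subgroup.card_bot, one_mul] at h6
      rw [hle, h6] at h5
      exact h5 hpH
    · intro N hN hNcl
      rw [← hK]
      by_contra hKN
      apply hNcl
      have hcop := h3 N hN hKN
      intro P
      have : (P : Subgroup N) = ⊥ := by
        obtain ⟨n, hn⟩ := IsPGroup.iff_card.mp P.2
        have h1 : Nat.card (P : Subgroup N) ∣ Nat.card N := Subgroup.card_subgroup_dvd_card _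
        have h2 : (Nat.card (P : Subgroup N)).Coprime p := Nat.Coprime.coprime_dvd_left h1 hcop
        rw [hn] at h2
        rcases Nat.eq_zero_or_pos n with rfl | hpos
        · rw [pow_zero] at hn; exact Subgroup.card_eq_one.mp hn
        · exfalso
          have : p ∣ Nat.gcd (p ^ n) p := Nat.dvd_gcd (dvd_pow_self p hpos.ne') dvd_rfl
          rw [h2] at this
          exact hp.out.one_lt.ne' (Nat.dvd_one.mp this)
      rw [this]; infer_instance

end Cfsg.Agent.Lib.H14
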