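import Cfsg.Agent.Lib.H14.Asym3
import Cfsg.Agent.Lib.H14.KFam1
import Cfsg.Agent.Lib.H14.WCProd
import Cfsg.Agent.Lib.H14.QuasiRes
import Cfsg.Agent.Lib.H14.Large2
import Cfsg.Agent.Lib.H1.Complement

/-! Asymmetric `Y_M`: properties of the members of `ℌ_G(O_p(M))`. -/

set_option autoImplicit false

namespace Cfsg.Agent.Lib.H14

section gen

variable {G : Type*} [Group G]

theorem conjSup_le_of_le_nzr (H X B : Subgroup G) (hXB : X ≤ B)
    (hHB : H ≤ Subgroup.normalizer (B : Set G)) : conjSup H X ≤ B := by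
  apply conjSup_le
  intro h hh
  rw [← map_cj_eq_of_mem_nzr B h (hHB hh)]
  exact Subgroup.map_mono hXB

theorem conjSup_le_self (H X : Subgroup G) (hXH : X ≤ H) : conjSup H X ≤ H :=
  conjSup_le_of_le_nzr H X H hXH Subgroup.le_normalizer

theorem conjSup_mono_right (H : Subgroup G) {X X' : Subgroup G} (h : X ≤ X') :
    conjSup H X ≤ conjSup H X' := by
  apply conjSup_le_of_le_nzr H X _ (h.trans (le_conjSup H X')) (le_nzr_conjSup H X')

/-- the normal closure in `H` of a subgroup `X ≤ H`, in ambient form. -/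
theorem map_normalClosure_subgroupOf (H X : Subgroup G) (hXH : X ≤ H) :
    (Subgroup.normalClosure ((X.subgroupOf H : Subgroup ↥H) : Set ↥H)).map H.subtype =
      conjSup H X := by
  apply le_antisymm
  · have hn : ((conjSup H X).subgroupOf H).Normal := by
      rw [Subgroup.normal_subgroupOf_iff_le_normalizer (conjSup_le_self H X hXH)]
      exact le_nzr_conjSup H X
    have h1 : Subgroup.normalClosure ((X.subgroupOf H : Subgroup ↥H) : Set ↥H) ≤
        (conjSup H X).subgroupOf H := by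
      apply Subgroup.normalClosure_le_normal
      intro x hx
      exact Subgroup.mem_subgroupOf.mpr (le_conjSup H X (Subgroup.mem_subgroupOf.mp hx))
    have h2 := Subgroup.map_mono (f := H.subtype) h1
    rwa [Subgroup.map_subgroupOf_eq_of_le (conjSup_le_self H X hXH)] at h2
  · apply conjSup_le
    intro h hh
    rintro _ ⟨x, hx, rfl⟩
    have hn : (Subgroup.normalClosure ((X.subgroupOf H : Subgroup ↥H) : Set ↥H)).Normal :=
      Subgroup.normalClosure_normal
    refine ⟨⟨h, hh⟩ * ⟨x, hXH hx⟩ * ⟨h, hh⟩⁻¹, ?_, rfl⟩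
    apply hn.conj_mem
    apply Subgroup.subset_normalClosure
    exact Subgroup.mem_subgroupOf.mpr hx

/-- if `H = R T` with `T` normalizing `Y`, the `H`-conjugates of `Y` are `R`-conjugates. -/
theorem exists_map_cj_eq_of_le_sup (H R T Y : Subgroup G) (hH : H ≤ R ⊔ T)
    (hTR : T ≤ Subgroup.normalizer (R : Set G)) (hTY : T ≤ Subgroup.normalizer (Y : Set G))
    (h : G) (hh : h ∈ H) : ∃ r ∈ R, Y.map (cj h) = Y.map (cj r) := by
  obtain ⟨r, hr, t, ht, rfl⟩ := Cfsg.Agent.Lib.H1.mem_sup_of_le_normalizer hTR (hH hh)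
  refine ⟨r, hr, ?_⟩
  rw [map_cj_mul, map_cj_eq_of_mem_nzr Y t (hTY ht)]

end gen

section frakH

variable {G : Type*} [Group G] [Finite G] {p : ℕ} [Fact p.Prime]

/-- the standing hypotheses for asymmetric `Y_M`. -/
structure AsymHyp (p : ℕ) [Fact p.Prime] (S : Sylow p G) (Q M : Subgroup G) : Prop where
  hQp : IsPGroup p ↥Q
  hQS : Q ≤ (S : Subgroup G)
  hQ : Cfsg.IsLarge Q
  hSM : (S : Subgroup G) ≤ M
  hM : Cfsg.IsInFrakM p M
  hasym : ¬ Cfsg.IsSymmetricIn (Cfsg.largestPReducedOf p M)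

namespace AsymHyp

variable {S : Sylow p G} {Q M : Subgroup G}

theorem wc (h : AsymHyp p S Q M) : Cfsg.IsWeaklyClosedSubgroup p (Cfsg.pCoreOf p M) :=
  pCoreOf_weaklyClosed S Q h.hQp h.hQS h.hQ M h.hSM h.hM h.hasym

theorem nzrD_le (h : AsymHyp p S Q M) : Subgroup.normalizer (Cfsg.pCoreOf p M : Set G) ≤
    M ⊔ Subgroup.centralizer (Cfsg.largestPReducedOf p M : Set G) :=
  nzr_pCoreOf_le_dagger S Q h.hQp h.hQS h.hQ M h.hSM h.hM

theorem nzrD_le_nzrY (h : AsymHyp p S Q M) : Subgroup.normalizer (Cfsg.pCoreOf p M : Set G) ≤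
    Subgroup.normalizer (Cfsg.largestPReducedOf p M : Set G) :=
  nzr_pCoreOf_le_nzr_largestPReducedOf S M h.hSM h.hM.1 h.hM.2.2.2.2.1

theorem M_le_nzrY (_h : AsymHyp p S Q M) :
    M ≤ Subgroup.normalizer (Cfsg.largestPReducedOf p M : Set G) :=
  (largestPReducedOf_props (p := p) M).1

theorem dagger_le_nzrY (h : AsymHyp p S Q M) :
    M ⊔ Subgroup.centralizer (Cfsg.largestPReducedOf p M : Set G) ≤
      Subgroup.normalizer (Cfsg.largestPReducedOf p M : Set G) :=
  sup_le h.M_le_nzrY (Subgroup.centralizer_le_normalizer _)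

theorem nzrY_eq (h : AsymHyp p S Q M) :
    Subgroup.normalizer (Cfsg.largestPReducedOf p M : Set G) =
      M ⊔ Subgroup.centralizer (Cfsg.largestPReducedOf p M : Set G) := by
  obtain ⟨h1, h2, h3⟩ := largestPReducedOf_props (p := p) M
  exact le_antisymm (nzr_le_dagger S Q h.hQp h.hQS h.hQ M h.hSM h.hM _
    (isPGroup_of_isElementaryAbelian _ h2) (largestPReducedOf_ne_bot S h.hSM h.hM.1) h1)
    h.dagger_le_nzrY

theorem Y_le_D (_h : AsymHyp p S Q M) : Cfsg.largestPReducedOf p M ≤ Cfsg.pCoreOf p M :=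
  largestPReducedOf_le_pCoreOf M

theorem D_le_nzrY (h : AsymHyp p S Q M) :
    Cfsg.pCoreOf p M ≤ Subgroup.normalizer (Cfsg.largestPReducedOf p M : Set G) :=
  (pCoreOf_le p M).trans h.M_le_nzrY

theorem CD_le (h : AsymHyp p S Q M) :
    Subgroup.centralizer (Cfsg.pCoreOf p M : Set G) ≤ Cfsg.pCoreOf p M :=
  ((mem_charPSubgroups_iff M).mp h.hM.1).2

theorem Dp (_h : AsymHyp p S Q M) : IsPGroup p ↥(Cfsg.pCoreOf p M) := pCoreOf_isPGroup p M

/-- a normal `p`-subgroup of an overgroup of `O_p(M)` normalizes `O_p(M)` and `Y_M`. -/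
theorem normal_pgroup_le (h : AsymHyp p S Q M) (L U : Subgroup G) (hDL : Cfsg.pCoreOf p M ≤ L)
    (hU : IsPGroup p U) (hLU : L ≤ Subgroup.normalizer (U : Set G)) :
    U ≤ Subgroup.normalizer (Cfsg.pCoreOf p M : Set G) ⊓
      Subgroup.normalizer (Cfsg.largestPReducedOf p M : Set G) := by
  have hT : IsPGroup p ↥(Cfsg.pCoreOf p M ⊔ U) :=
    IsPGroup.to_sup_of_normal_right' h.Dp hU (hDL.trans hLU)
  have h1 : U ≤ Subgroup.normalizer (Cfsg.pCoreOf p M : Set G) :=
    (le_sup_right.trans Subgroup.le_normalizer).trans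
      (wc_normalizer_le _ h.wc _ hT le_sup_left)
  exact le_inf h1 (h1.trans h.nzrD_le_nzrY)

/-- an overgroup of `O_p(M)` has a Sylow `p`-subgroup inside `M†`. -/
theorem exists_sylow_le_dagger (h : AsymHyp p S Q M) (L : Subgroup G)
    (hDL : Cfsg.pCoreOf p M ≤ L) : ∃ T : Sylow p ↥L, (T : Subgroup ↥L).map L.subtype ≤
      L ⊓ (M ⊔ Subgroup.centralizer (Cfsg.largestPReducedOf p M : Set G)) := by
  obtain ⟨T, hT⟩ := wc_inf_parabolic _ h.Dp h.wc _ h.nzrD_le L hDL
  refine ⟨T, ?_⟩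
  have := Subgroup.map_mono (f := L.subtype) hT
  rwa [Subgroup.map_subgroupOf_eq_of_le inf_le_left] at this

/-- the normal closure of `Y_M` in an overgroup `L` of `O_p(M)` is generated by `O^p(L)`-conjugates. -/
theorem exists_presOf_conj (h : AsymHyp p S Q M) (L : Subgroup G)
    (hDL : Cfsg.pCoreOf p M ≤ L) (x : G) (hx : x ∈ L) :
    ∃ r ∈ presOf p L, (Cfsg.largestPReducedOf p M).map (cj x) =
      (Cfsg.largestPReducedOf p M).map (cj r) := by
  obtain ⟨T, hT⟩ := h.exists_sylow_le_dagger L hDL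
  exact exists_map_cj_eq_of_le_sup L (presOf p L) _ _ (le_presOf_sup_sylow L T)
    ((Subgroup.map_subtype_le _).trans (Subgroup.le_normalizer.trans (presOf_normalized p L)))
    ((hT.trans inf_le_right).trans h.dagger_le_nzrY) x hx

/-- if `Y_M ≤ O_p(P)` for a subgroup `P ⊇ O^p(L)` of an overgroup `L` of `O_p(M)`, then
`Y_M ≤ O_p(L)`. -/
theorem le_pCoreOf_of_le_pCoreOf (h : AsymHyp p S Q M) (L P : Subgroup G)
    (hDL : Cfsg.pCoreOf p M ≤ L) (hRP : presOf p L ≤ P)
    (hY : Cfsg.largestPReducedOf p M ≤ Cfsg.pCoreOf p P) :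
    Cfsg.largestPReducedOf p M ≤ Cfsg.pCoreOf p L := by
  have hA : conjSup L (Cfsg.largestPReducedOf p M) ≤ Cfsg.pCoreOf p P := by
    apply conjSup_le
    intro x hx
    obtain ⟨r, hr, e⟩ := h.exists_presOf_conj L hDL x hx
    rw [e, ← map_cj_eq_of_mem_nzr (Cfsg.pCoreOf p P) r (pCoreOf_normalized p P (hRP hr))]
    exact Subgroup.map_mono hY
  exact (le_conjSup L _).trans (le_pCoreOf p L _
    (conjSup_le_self L _ (h.Y_le_D.trans hDL)) (le_nzr_conjSup L _)
    ((pCoreOf_isPGroup p P).to_le hA))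

end AsymHyp

/-- if `K ≤ L` contains a Sylow `p`-subgroup of `L`, every Sylow `p`-subgroup of `K` is one of `L`. -/
theorem sylow_of_sylow_of_parabolic (L K : Subgroup G) (hKL : K ≤ L) (T₀ : Sylow p ↥L)
    (hT₀ : (T₀ : Subgroup ↥L).map L.subtype ≤ K) (T : Sylow p ↥K) :
    ∃ P : Sylow p ↥L, (P : Subgroup ↥L).map L.subtype = (T : Subgroup ↥K).map K.subtype := by
  have e1 : ∀ (A : Subgroup G) (X : Subgroup ↥A), (X.map A.subtype).subgroupOf A = X := by
    intro A X
    ext x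
    simp [Subgroup.mem_subgroupOf]
  have h1 : ¬ p ∣ K.relIndex L := by
    intro hd
    have h2 := Subgroup.relIndex_mul_relIndex ((T₀ : Subgroup ↥L).map L.subtype) K L hT₀ hKL
    have h3 : ((T₀ : Subgroup ↥L).map L.subtype).relIndex L = (T₀ : Subgroup ↥L).index := by
      unfold Subgroup.relIndex; rw [e1]
    rw [h3] at h2
    exact T₀.not_dvd_index (h2 ▸ Dvd.dvd.mul_left hd _)
  have hTK : (T : Subgroup ↥K).map K.subtype ≤ K := Subgroup.map_subtype_le _
  have h4 : ¬ p ∣ ((T : Subgroup ↥K).map K.subtype).relIndex L := by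
    intro hd
    have h2 := Subgroup.relIndex_mul_relIndex ((T : Subgroup ↥K).map K.subtype) K L hTK hKL
    have h3 : ((T : Subgroup ↥K).map K.subtype).relIndex K = (T : Subgroup ↥K).index := by
      unfold Subgroup.relIndex; rw [e1]
    rw [h3] at h2
    rw [← h2] at hd
    rcases (Nat.Prime.dvd_mul (Fact.out : p.Prime)).mp hd with h5 | h5
    · exact T.not_dvd_index h5
    · exact h1 h5
  have hp : IsPGroup p (((T : Subgroup ↥K).map K.subtype).subgroupOf L) :=
    (T.2.map K.subtype).comap_subtype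
  refine ⟨hp.toSylow h4, ?_⟩
  rw [hp.toSylow_coe h4, Subgroup.map_subgroupOf_eq_of_le (hTK.trans hKL)]

section members

variable {S : Sylow p G} {Q M H : Subgroup G}

/-- `ℌ` (a): Sylow subgroups of `H ∩ M†` are Sylow in `H`. -/
theorem frakH_sylow (h : AsymHyp p S Q M) (hH : Cfsg.IsInFrakH p M H)
    (T : Sylow p ↥(H ⊓ (M ⊔ Subgroup.centralizer (Cfsg.largestPReducedOf p M : Set G)))) :
    ∃ P : Sylow p ↥H, (P : Subgroup ↥H).map H.subtype =
      (T : Subgroup ↥(H ⊓ (M ⊔ Subgroup.centralizer (Cfsg.largestPReducedOf p M : Set G)))).map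
        (H ⊓ (M ⊔ Subgroup.centralizer (Cfsg.largestPReducedOf p M : Set G))).subtype := by
  obtain ⟨T₀, hT₀⟩ := h.exists_sylow_le_dagger H hH.2.1
  exact sylow_of_sylow_of_parabolic H _ inf_le_left T₀ hT₀ T

/-- `ℌ` (d): `H = O^p(H) O_p(M)`. -/
theorem frakH_sup_eq (h : AsymHyp p S Q M) (hH : Cfsg.IsInFrakH p M H) :
    presOf p H ⊔ Cfsg.pCoreOf p M = H := by
  by_contra hne
  have hle : presOf p H ⊔ Cfsg.pCoreOf p M ≤ H := sup_le (presOf_le p H) hH.2.1
  have hY := hH.2.2.2 _ le_sup_right (lt_of_le_of_ne hle hne)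
  exact hH.2.2.1 (h.le_pCoreOf_of_le_pCoreOf H _ hH.2.1 le_sup_left hY)

/-- `ℌ`: the `H`-conjugates of `Y_M` lie in `[O^p(H), Y_M] Y_M`. -/
theorem frakH_conjSup_le (h : AsymHyp p S Q M) (hH : Cfsg.IsInFrakH p M H) :
    conjSup H (Cfsg.largestPReducedOf p M) ≤
      ⁅presOf p H, Cfsg.largestPReducedOf p M⁆ ⊔ Cfsg.largestPReducedOf p M := by
  apply conjSup_le
  intro x hx
  obtain ⟨r, hr, e⟩ := h.exists_presOf_conj H hH.2.1 x hx
  rw [e]
  exact map_cj_le_commutator_sup _ _ r hr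

/-- `ℌ` (c): `O^p(H) = [O^p(H), Y_M]`. -/
theorem frakH_commutator_eq (h : AsymHyp p S Q M) (hH : Cfsg.IsInFrakH p M H) :
    ⁅presOf p H, Cfsg.largestPReducedOf p M⁆ = presOf p H := by
  set R := presOf p H with hR
  set Y := Cfsg.largestPReducedOf p M with hY
  set D := Cfsg.pCoreOf p M with hD
  have hDH : D ≤ H := hH.2.1
  have hYH : Y ≤ H := h.Y_le_D.trans hDH
  have hHR : H ≤ Subgroup.normalizer (R : Set G) :=
    Subgroup.le_normalizer.trans (presOf_normalized p H)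
  have hle : ⁅R, Y⁆ ≤ R := Subgroup.le_normalizer_iff_commutator_le_left.mp (hYH.trans hHR)
  have hD0 : D ≤ Subgroup.normalizer ((⁅R, Y⁆ : Subgroup G) : Set G) :=
    le_nzr_commutator D R Y (hDH.trans hHR) h.D_le_nzrY
  have hsup := frakH_sup_eq h hH
  have hH0 : H ≤ Subgroup.normalizer ((⁅R, Y⁆ : Subgroup G) : Set G) := by
    rw [← hsup]
    exact sup_le (le_normalizer_commutator_left R Y) hD0
  have hPH : ⁅R, Y⁆ ⊔ D ≤ H := sup_le (hle.trans (presOf_le p H)) hDH
  have hPeq : ⁅R, Y⁆ ⊔ D = H := by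
    by_contra hne
    have hYP := hH.2.2.2 _ le_sup_right (lt_of_le_of_ne hPH hne)
    apply hH.2.2.1
    set A := conjSup H Y with hA
    have hAH : A ≤ H := conjSup_le_self H Y hYH
    have hHA : H ≤ Subgroup.normalizer (A : Set G) := le_nzr_conjSup H Y
    have hAP : A ≤ ⁅R, Y⁆ ⊔ D :=
      (frakH_conjSup_le h hH).trans (sup_le_sup_left h.Y_le_D _)
    have h1 : Cfsg.pCoreOf p (⁅R, Y⁆ ⊔ D) ⊓ A ≤ Cfsg.pCoreOf p A := by
      apply le_pCoreOf p A _ inf_le_right
      · exact le_nzr_inf A _ A (hAP.trans (pCoreOf_normalized p _)) Subgroup.le_normalizer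
      · exact (pCoreOf_isPGroup p _).to_le inf_le_left
    have h2 : Cfsg.pCoreOf p A ≤ Cfsg.pCoreOf p H :=
      le_pCoreOf p H _ ((pCoreOf_le p A).trans hAH) (hHA.trans (nzr_le_nzr_pCoreOf p A))
        (pCoreOf_isPGroup p A)
    exact ((le_inf hYP (le_conjSup H Y)).trans h1).trans h2
  apply le_antisymm hle
  exact presOf_le_of_le_sup' ⁅R, Y⁆ D H hD0 h.Dp hPeq.ge

/-- `ℌ` (e): `O^p(H) Y_M` is the normal closure of `Y_M` in `H`. -/
theorem frakH_conjSup_Y (h : AsymHyp p S Q M) (hH : Cfsg.IsInFrakH p M H) :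
    presOf p H ⊔ Cfsg.largestPReducedOf p M = conjSup H (Cfsg.largestPReducedOf p M) := by
  apply le_antisymm
  · apply sup_le _ (le_conjSup H _)
    rw [← frakH_commutator_eq h hH]
    exact (Subgroup.commutator_mono (presOf_le p H) (le_conjSup H _)).trans
      (Subgroup.le_normalizer_iff_commutator_le_right.mp (le_nzr_conjSup H _))
  · have := frakH_conjSup_le h hH
    rwa [frakH_commutator_eq h hH] at this

/-- `ℌ` (f): `H` is the normal closure of `O_p(M)` in `H`. -/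
theorem frakH_conjSup_D (h : AsymHyp p S Q M) (hH : Cfsg.IsInFrakH p M H) :
    conjSup H (Cfsg.pCoreOf p M) = H := by
  apply le_antisymm (conjSup_le_self H _ hH.2.1)
  conv_lhs => rw [← frakH_sup_eq h hH]
  apply sup_le _ (le_conjSup H _)
  exact (le_sup_left.trans (frakH_conjSup_Y h hH).le).trans (conjSup_mono_right H h.Y_le_D)

end members

end frakH

end Cfsg.Agent.Lib.H14
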