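import Cfsg.Agent.Lib.H14.Asym4
import Cfsg.Agent.Lib.H14.PIrr

/-! Asymmetric `Y_M`: `ℌ_G(O_p(M))` and large subgroups; p-irreducibility. -/

set_option autoImplicit false

namespace Cfsg.Agent.Lib.H14

section abstract

variable {L : Type*} [Group L] [Finite L] {p : ℕ} [Fact p.Prime]

/-- a group in which a `p`-subgroup `Y ≰ O_p(L)` lies in a normal `p`-subgroup of every proper
subgroup containing a fixed `p`-subgroup `D₁ ⊇ Y` is `p`-irreducible. -/
theorem isPIrreducible_of_minimal (D₁ Y : Subgroup L) (hD₁p : IsPGroup p D₁) (hYD₁ : Y ≤ D₁)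
    (hYL : ¬ Y ≤ Cfsg.pCore p L)
    (hmin : ∀ X : Subgroup L, D₁ ≤ X → X ≠ ⊤ → ∃ U : Subgroup L, IsPGroup p U ∧
      X ≤ Subgroup.normalizer (U : Set L) ∧ Y ≤ U) : Cfsg.IsPIrreducible p L := by
  have hYp : IsPGroup p Y := hD₁p.to_le hYD₁
  constructor
  · intro hcl
    apply hYL
    obtain ⟨P, hP⟩ := hYp.exists_le_sylow
    exact hP.trans (le_sSup ⟨hcl P, P.2⟩)
  · intro N hN hNcl
    by_cases hP : N ⊔ D₁ = ⊤
    · exact pResidual_le_of_sup_eq_top N D₁ hD₁p hP
    · exfalso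
      obtain ⟨U₁, hU₁p, hU₁n, hYU₁⟩ := hmin (N ⊔ D₁) le_sup_right hP
      have hNtop : Subgroup.normalizer (N : Set L) = ⊤ := Subgroup.normalizer_eq_top_iff.mpr hN
      have hON : ∀ K : Subgroup L, K ≤ Subgroup.normalizer (Cfsg.pCoreOf p N : Set L) := by
        intro K x _
        apply nzr_le_nzr_pCoreOf p N
        rw [hNtop]; exact Subgroup.mem_top x
      have hNY : ⁅N, Y⁆ ≤ Cfsg.pCoreOf p N := by
        have h1 : ⁅N, Y⁆ ≤ N := Subgroup.commutator_le_left N Y
        have h2 : ⁅N, Y⁆ ≤ U₁ :=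
          (Subgroup.commutator_mono (le_sup_left (b := D₁)) hYU₁).trans
            (Subgroup.le_normalizer_iff_commutator_le_right.mp hU₁n)
        exact le_pCoreOf p N _ h1 (le_normalizer_commutator_left N Y) (hU₁p.to_le h2)
      obtain ⟨T, hT⟩ := hD₁p.exists_le_sylow
      have hfr := Sylow.normalizer_sup_eq_top (sylowInf T N)
      rw [sylowInf_map] at hfr
      set X := Subgroup.normalizer (((T : Subgroup L) ⊓ N : Subgroup L) : Set L) with hX
      have hD₁X : D₁ ≤ X := hT.trans (le_nzr_inf _ _ _ Subgroup.le_normalizer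
        (by rw [hNtop]; exact le_top))
      have hXne : X ≠ ⊤ := by
        intro htop
        apply hNcl
        apply isPClosed_of_normal_sylow (sylowInf T N)
        rw [sylowInf_coe, Subgroup.normal_subgroupOf_iff_le_normalizer inf_le_right, ← hX, htop]
        exact le_top
      obtain ⟨U₂, hU₂p, hU₂n, hYU₂⟩ := hmin X hD₁X hXne
      have hB : IsPGroup p ↥(U₂ ⊔ Cfsg.pCoreOf p N) :=
        IsPGroup.to_sup_of_normal_right' hU₂p (pCoreOf_isPGroup p N) (hON U₂)
      have hconj : ∀ l : L, Y.map (cj l) ≤ U₂ ⊔ Cfsg.pCoreOf p N := by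
        intro l
        have hl : l ∈ N ⊔ X := by rw [sup_comm, hfr]; exact Subgroup.mem_top l
        obtain ⟨n, hn, x, hx, rfl⟩ := Cfsg.Agent.Lib.H1.mem_sup_of_le_normalizer
          (X := N) (Y := X) (by rw [hNtop]; exact le_top) hl
        rw [map_cj_mul]
        have h1 : Y.map (cj x) ≤ U₂ := by
          rw [← map_cj_eq_of_mem_nzr U₂ x (hU₂n hx)]
          exact Subgroup.map_mono hYU₂
        have h2 : ⁅N, Y.map (cj x)⁆ ≤ Cfsg.pCoreOf p N := by
          have e : N.map (cj x) = N := map_cj_eq_of_mem_nzr N x (by rw [hNtop]; exact Subgroup.mem_top x)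
          have := Subgroup.map_mono (f := cj x) hNY
          rw [Subgroup.map_commutator, e, map_cj_eq_of_mem_nzr _ x (hON ⊤ (Subgroup.mem_top x))] at this
          exact this
        exact (map_cj_le_commutator_sup N _ n hn).trans
          (sup_le (h2.trans le_sup_right) (h1.trans le_sup_left))
      apply hYL
      have hA : conjSup ⊤ Y ≤ U₂ ⊔ Cfsg.pCoreOf p N := conjSup_le _ _ _ fun l _ => hconj l
      have hAn : (conjSup ⊤ Y).Normal :=
        Subgroup.normalizer_eq_top_iff.mp (top_le_iff.mp (le_nzr_conjSup ⊤ Y))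
      exact (le_conjSup ⊤ Y).trans (le_sSup ⟨hAn, hB.to_le hA⟩)

end abstract

section large

variable {G : Type*} [Group G] [Finite G] {p : ℕ} [Fact p.Prime]
variable {S : Sylow p G} {Q M H : Subgroup G}

/-- `Q^g ≤ O_p(H Q^g)`. -/
theorem frakH_large_le_pCoreOf (h : AsymHyp p S Q M) (g : G)
    (hHQ : H ≤ Subgroup.normalizer ((Q.map (cj g) : Subgroup G) : Set G)) :
    Q.map (cj g) ≤ Cfsg.pCoreOf p (H ⊔ Q.map (cj g)) :=
  le_pCoreOf p _ _ le_sup_right (sup_le hHQ Subgroup.le_normalizer)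
    (isPGroup_map_cj Q h.hQp g)

/-- `Q^g` normalizes `O_p(M)` and `Y_M`. -/
theorem frakH_large_le_nzr (h : AsymHyp p S Q M) (hH : Cfsg.IsInFrakH p M H) (g : G)
    (hHQ : H ≤ Subgroup.normalizer ((Q.map (cj g) : Subgroup G) : Set G)) :
    Q.map (cj g) ≤ Subgroup.normalizer (Cfsg.pCoreOf p M : Set G) ⊓
      Subgroup.normalizer (Cfsg.largestPReducedOf p M : Set G) :=
  (frakH_large_le_pCoreOf h g hHQ).trans
    (h.normal_pgroup_le _ _ (hH.2.1.trans le_sup_left) (pCoreOf_isPGroup p _)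
      (pCoreOf_normalized p _))

/-- the `H Q^g`-conjugates of `Y_M` are `H`-conjugates. -/
theorem frakH_large_conj (h : AsymHyp p S Q M) (hH : Cfsg.IsInFrakH p M H) (g : G)
    (hHQ : H ≤ Subgroup.normalizer ((Q.map (cj g) : Subgroup G) : Set G))
    (x : G) (hx : x ∈ H ⊔ Q.map (cj g)) :
    ∃ y ∈ H, (Cfsg.largestPReducedOf p M).map (cj x) = (Cfsg.largestPReducedOf p M).map (cj y) := by
  have hx' : x⁻¹ ∈ Q.map (cj g) ⊔ H := by
    rw [sup_comm]; exact Subgroup.inv_mem _ hx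
  obtain ⟨q, hq, y, hy, e⟩ := Cfsg.Agent.Lib.H1.mem_sup_of_le_normalizer hHQ hx'
  have e2 : x = y⁻¹ * q⁻¹ := by
    rw [← inv_inv x, e, mul_inv_rev]
  refine ⟨y⁻¹, H.inv_mem hy, ?_⟩
  rw [e2, map_cj_mul, map_cj_eq_of_mem_nzr _ q⁻¹
    (Subgroup.inv_mem _ ((frakH_large_le_nzr h hH g hHQ).trans inf_le_right hq))]

/-- `H ⊴ H Q^g`. -/
theorem frakH_large_normal (h : AsymHyp p S Q M) (hH : Cfsg.IsInFrakH p M H) (g : G)
    (hHQ : H ≤ Subgroup.normalizer ((Q.map (cj g) : Subgroup G) : Set G)) :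
    H ⊔ Q.map (cj g) ≤ Subgroup.normalizer (H : Set G) := by
  apply sup_le Subgroup.le_normalizer
  set Y := Cfsg.largestPReducedOf p M with hY
  set R := presOf p H with hR
  have hYH : Y ≤ H := h.Y_le_D.trans hH.2.1
  have hHR : H ≤ Subgroup.normalizer (R : Set G) :=
    Subgroup.le_normalizer.trans (presOf_normalized p H)
  -- `Q^g` normalizes `R ⊔ Y = ⟨Y^H⟩`
  have h1 : H ⊔ Q.map (cj g) ≤ Subgroup.normalizer ((R ⊔ Y : Subgroup G) : Set G) := by
    rw [frakH_conjSup_Y h hH]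
    have e : conjSup H Y = conjSup (H ⊔ Q.map (cj g)) Y := by
      apply le_antisymm
      · apply conjSup_le
        intro x hx
        exact le_iSup (fun γ : ↥(H ⊔ Q.map (cj g)) => Y.map (cj (γ : G))) ⟨x, le_sup_left (b := Q.map (cj g)) hx⟩
      · apply conjSup_le
        intro x hx
        obtain ⟨y, hy, e⟩ := frakH_large_conj h hH g hHQ x hx
        rw [e]
        exact le_iSup (fun γ : ↥H => Y.map (cj (γ : G))) ⟨y, hy⟩
    rw [e]
    exact le_nzr_conjSup _ Y
  have h2 : presOf p (R ⊔ Y) = R := by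
    apply le_antisymm
    · exact presOf_le_of_le_sup' R Y (R ⊔ Y) (hYH.trans hHR)
        (isPGroup_of_isElementaryAbelian _ (largestPReducedOf_props (p := p) M).2.1) le_rfl
    · conv_lhs => rw [hR, ← presOf_presOf p H]
      exact presOf_mono p le_sup_left
  have h3 : Q.map (cj g) ≤ Subgroup.normalizer (R : Set G) := by
    rw [← h2]
    exact (le_sup_right.trans h1).trans (presOf_normalized p _)
  rw [← frakH_sup_eq h hH]
  exact le_nzr_sup _ _ _ h3 ((frakH_large_le_nzr h hH g hHQ).trans inf_le_left)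

/-- `O^p(H) = O^p(H Q^g)`. -/
theorem frakH_large_presOf (h : AsymHyp p S Q M) (hH : Cfsg.IsInFrakH p M H) (g : G)
    (hHQ : H ≤ Subgroup.normalizer ((Q.map (cj g) : Subgroup G) : Set G)) :
    presOf p H = presOf p (H ⊔ Q.map (cj g)) := by
  apply le_antisymm (presOf_mono p le_sup_left)
  have hDQ : IsPGroup p ↥(Cfsg.pCoreOf p M ⊔ Q.map (cj g)) :=
    IsPGroup.to_sup_of_normal_right' h.Dp (isPGroup_map_cj Q h.hQp g) (hH.2.1.trans hHQ)
  apply presOf_le_of_le_sup' (presOf p H) _ _ _ hDQ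
  · conv_lhs => rw [← frakH_sup_eq h hH]
    rw [sup_assoc]
  · exact (sup_le (hH.2.1.trans le_sup_left) le_sup_right).trans
      ((frakH_large_normal h hH g hHQ).trans (presOf_normalized p H))

/-- `H Q^g` is `p`-irreducible. -/
theorem frakH_large_pirr (h : AsymHyp p S Q M) (hH : Cfsg.IsInFrakH p M H) (g : G)
    (hHQ : H ≤ Subgroup.normalizer ((Q.map (cj g) : Subgroup G) : Set G)) :
    Cfsg.IsPIrreducible p ↥(H ⊔ Q.map (cj g)) := by
  set Y := Cfsg.largestPReducedOf p M with hY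
  set D := Cfsg.pCoreOf p M with hD
  set H₁ := H ⊔ Q.map (cj g) with hH₁
  have hDQ : IsPGroup p ↥(D ⊔ Q.map (cj g)) :=
    IsPGroup.to_sup_of_normal_right' h.Dp (isPGroup_map_cj Q h.hQp g) (hH.2.1.trans hHQ)
  have hDQH₁ : D ⊔ Q.map (cj g) ≤ H₁ := sup_le (hH.2.1.trans le_sup_left) le_sup_right
  have hYH : Y ≤ H := h.Y_le_D.trans hH.2.1
  apply isPIrreducible_of_minimal ((D ⊔ Q.map (cj g)).subgroupOf H₁) (Y.subgroupOf H₁)
    hDQ.comap_subtype
  · intro x hx
    rw [Subgroup.mem_subgroupOf] at hx ⊢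
    exact le_sup_left (b := Q.map (cj g)) (h.Y_le_D hx)
  · intro hle
    apply hH.2.2.1
    have h1 : Y ≤ Cfsg.pCoreOf p H₁ := by
      have := Subgroup.map_mono (f := H₁.subtype) hle
      rw [Subgroup.map_subgroupOf_eq_of_le (hYH.trans le_sup_left)] at this
      exact this
    have h2 : Cfsg.pCoreOf p H₁ ⊓ H ≤ Cfsg.pCoreOf p H :=
      le_pCoreOf p H _ inf_le_right
        (le_nzr_inf H _ H (le_sup_left.trans (pCoreOf_normalized p H₁)) Subgroup.le_normalizer)
        ((pCoreOf_isPGroup p H₁).to_le inf_le_left)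
    exact (le_inf h1 hYH).trans h2
  · intro X hDX hXne
    set X' := X.map H₁.subtype with hX'
    have hX'H₁ : X' ≤ H₁ := Subgroup.map_subtype_le X
    have hDX' : D ⊔ Q.map (cj g) ≤ X' := by
      have := Subgroup.map_mono (f := H₁.subtype) hDX
      rwa [Subgroup.map_subgroupOf_eq_of_le hDQH₁] at this
    have hX'ne : ¬ H ≤ X' := by
      intro hHX
      apply hXne
      rw [eq_top_iff]
      intro z _
      have hz : (z : G) ∈ X' := (sup_le hHX (le_sup_right.trans hDX')) z.2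
      obtain ⟨w, hw, e⟩ := hz
      have : w = z := Subtype.ext e
      rwa [this] at hw
    have hlt : X' ⊓ H < H := lt_of_le_of_ne inf_le_right (fun e => hX'ne (e ▸ inf_le_left))
    have hYU := hH.2.2.2 (X' ⊓ H) (le_inf (le_sup_left.trans hDX') hH.2.1) hlt
    refine ⟨(Cfsg.pCoreOf p (X' ⊓ H)).subgroupOf H₁, (pCoreOf_isPGroup p _).comap_subtype, ?_, ?_⟩
    · have h1 : X' ≤ Subgroup.normalizer (Cfsg.pCoreOf p (X' ⊓ H) : Set G) :=
        (le_nzr_inf X' X' H Subgroup.le_normalizer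
          (hX'H₁.trans (frakH_large_normal h hH g hHQ))).trans (nzr_le_nzr_pCoreOf p _)
      intro x hx
      apply Subgroup.le_normalizer_comap H₁.subtype
      exact h1 ⟨x, hx, rfl⟩
    · intro y hy
      rw [Subgroup.mem_subgroupOf] at hy ⊢
      exact hYU hy

end large

end Cfsg.Agent.Lib.H14
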