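import Cfsg.Agent.Lib.H14.PReduced10
import Cfsg.Agent.Lib.H14.CharP
import Cfsg.Agent.Lib.H14.Amalgam8
import Cfsg.Agent.Lib.H14.KFam1
import Cfsg.Agent.S2821
import Cfsg.Agent.S2822
import Cfsg.Agent.S2824

set_option autoImplicit false

namespace Cfsg.Agent.Lib.H14
open scoped commutatorElement

universe u

section
variable {H : Type*} [Group H] [Finite H] {p : ℕ} [hp : Fact p.Prime]
set_option linter.unusedSectionVars false

theorem mem_charPSubgroups_iff (L : Subgroup H) :
    L ∈ Cfsg.charPSubgroups p H ↔ Cfsg.pCoreOf p L ≠ ⊥ ∧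
      Subgroup.centralizer (Cfsg.pCoreOf p L : Set H) ≤ Cfsg.pCoreOf p L := by
  unfold Cfsg.charPSubgroups Cfsg.pCoreOf
  rw [Set.mem_ofPred_eq]
  constructor
  · rintro ⟨h1, h2⟩
    refine ⟨fun h => h1 ?_, h2⟩
    exact (Subgroup.map_eq_bot_iff_of_injective _ (Subgroup.subtype_injective L)).mp h
  · rintro ⟨h1, h2⟩
    refine ⟨fun h => h1 ?_, h2⟩
    rw [h, Subgroup.map_bot]

theorem charP_type_of_mem {L : Subgroup H} (hL : L ∈ Cfsg.charPSubgroups p H) :
    Subgroup.centralizer (Cfsg.pCore p ↥L : Set ↥L) ≤ Cfsg.pCore p ↥L :=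
  charP_of_ambient p L (inf_le_right.trans ((mem_charPSubgroups_iff L).mp hL).2)

/-- Overgroups of `T` inside a member of `𝓛_H` are in `𝓛_H`. -/
theorem mem_charPSubgroups_of_le (T : Sylow p H) {M X : Subgroup H}
    (hM : M ∈ Cfsg.charPSubgroups p H) (hTM : (T : Subgroup H) ≤ M) (hTX : (T : Subgroup H) ≤ X)
    (hXM : X ≤ M) : X ∈ Cfsg.charPSubgroups p H := by
  obtain ⟨h1, h2⟩ := (mem_charPSubgroups_iff M).mp hM
  have h3 : Cfsg.pCoreOf p M ≤ Cfsg.pCoreOf p X :=
    le_pCoreOf p X _ ((pCoreOf_le_sylow T M hTM).trans hTX) (hXM.trans (pCoreOf_normalized p M))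
      (pCoreOf_isPGroup p M)
  rw [mem_charPSubgroups_iff]
  refine ⟨fun h => h1 (eq_bot_iff.mpr (h ▸ h3)), ?_⟩
  exact ((Subgroup.centralizer_le (fun _ hx => h3 hx)).trans h2).trans h3

theorem redCritIn_subgroupOf {G : Type*} [Group G] (K M Y : Subgroup G) (hMK : M ≤ K)
    (hYK : Y ≤ K) (h : RedCritIn p M Y) : RedCritIn p (M.subgroupOf K) (Y.subgroupOf K) := by
  intro D' hD'M hMD' hpow
  have hYmap : (Y.subgroupOf K).map K.subtype = Y := Subgroup.map_subgroupOf_eq_of_le hYK
  have key : D'.map K.subtype ≤ Subgroup.centralizer (Y : Set G) := by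
    apply h
    · rintro _ ⟨d, hd, rfl⟩
      exact Subgroup.mem_subgroupOf.mp (hD'M hd)
    · apply le_nzr_of_conj_mem
      rintro m hm _ ⟨d, hd, rfl⟩
      have hm' : (⟨m, hMK hm⟩ : ↥K) ∈ M.subgroupOf K := Subgroup.mem_subgroupOf.mpr hm
      have := (Subgroup.mem_normalizer_iff.mp (hMD' hm') d).mp hd
      exact ⟨_, this, by simp⟩
    · rintro _ ⟨d, hd, rfl⟩
      obtain ⟨k, hk⟩ := hpow d hd
      refine ⟨k, ?_⟩
      rw [mem_centralizer_map_subtype_iff, hYmap] at hk
      simpa using hk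
  intro d hd
  rw [mem_centralizer_map_subtype_iff, hYmap]
  exact key ⟨d, hd, rfl⟩

/-- Monotonicity of `Y_·` on overgroups of a Sylow subgroup inside a group of characteristic `p`. -/
theorem largestPReducedOf_mono (T : Sylow p H) (R L : Subgroup H) (hTR : (T : Subgroup H) ≤ R)
    (hRL : R ≤ L) (hL : Subgroup.centralizer (Cfsg.pCore p ↥L : Set ↥L) ≤ Cfsg.pCore p ↥L) :
    Cfsg.largestPReducedOf p R ≤ Cfsg.largestPReducedOf p L := by
  obtain ⟨h1, h2, h3⟩ := largestPReducedOf_props (p := p) R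
  set X := Cfsg.largestPReducedOf p R with hX
  have hXR : X ≤ R := largestPReducedOf_le R
  have hXL : X ≤ L := hXR.trans hRL
  have hTL := hTR.trans hRL
  have hXmap : (X.subgroupOf L).map L.subtype = X := Subgroup.map_subgroupOf_eq_of_le hXL
  have key := isPReducedNormal_normalClosure' (G := ↥L) hL (T.subtype hTL) (R.subgroupOf L)
    (by
      rw [Sylow.coe_subtype]
      intro x hx
      exact Subgroup.mem_subgroupOf.mpr (hTR (Subgroup.mem_subgroupOf.mp hx)))
    (X.subgroupOf L)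
    (by
      intro x hx
      exact Subgroup.mem_subgroupOf.mpr (hXR (Subgroup.mem_subgroupOf.mp hx)))
    (by
      apply le_nzr_of_conj_mem
      intro r hr x hx
      rw [Subgroup.mem_subgroupOf] at *
      have := (Subgroup.mem_normalizer_iff.mp (h1 hr) (x : H)).mp hx
      simpa using this)
    (by rw [isElementaryAbelian_map_subtype_iff, hXmap]; exact h2)
    (redCritIn_subgroupOf L R X hRL hXL h3)
  have h4 := le_largestPReduced _ key
  have h5 := Subgroup.map_mono (f := L.subtype) (Subgroup.le_normalClosure.trans h4)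
  rw [hXmap] at h5
  exact h5

end
end Cfsg.Agent.Lib.H14
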