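import Cfsg.Agent.Lib.H14.Asym4
import Cfsg.Agent.Lib.H14.BasicProp1
import Cfsg.Agent.Lib.H7.FStar

/-! Asymmetric `Y_M`: overgroups of the preimage of `F*(M†/C_{M†}(Y_M))`. -/

set_option autoImplicit false

namespace Cfsg.Agent.Lib.H14

section mono

variable {G : Type*} [Group G] [Finite G] {p : ℕ} [Fact p.Prime]

/-- Monotonicity of `Y_·` on parabolic subgroups of a group `L` of characteristic `p`, with the
Sylow subgroup taken in `L`. -/
theorem largestPReducedOf_mono' (R L : Subgroup G) (T : Sylow p ↥L)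
    (hTR : (T : Subgroup ↥L).map L.subtype ≤ R)
    (hRL : R ≤ L) (hL : Subgroup.centralizer (Cfsg.pCore p ↥L : Set ↥L) ≤ Cfsg.pCore p ↥L) :
    Cfsg.largestPReducedOf p R ≤ Cfsg.largestPReducedOf p L := by
  obtain ⟨h1, h2, h3⟩ := largestPReducedOf_props (p := p) R
  set X := Cfsg.largestPReducedOf p R with hX
  have hXR : X ≤ R := largestPReducedOf_le R
  have hXL : X ≤ L := hXR.trans hRL
  have hXmap : (X.subgroupOf L).map L.subtype = X := Subgroup.map_subgroupOf_eq_of_le hXL
  have key := isPReducedNormal_normalClosure' (G := ↥L) hL T (R.subgroupOf L)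
    (by
      intro x hx
      exact Subgroup.mem_subgroupOf.mpr (hTR ⟨x, hx, rfl⟩))
    (X.subgroupOf L)
    (by
      intro x hx
      exact Subgroup.mem_subgroupOf.mpr (hXR (Subgroup.mem_subgroupOf.mp hx)))
    (by
      apply le_nzr_of_conj_mem
      intro r hr x hx
      rw [Subgroup.mem_subgroupOf] at *
      have := (Subgroup.mem_normalizer_iff.mp (h1 hr) (x : G)).mp hx
      simpa using this)
    (by rw [isElementaryAbelian_map_subtype_iff, hXmap]; exact h2)
    (redCritIn_subgroupOf L R X hRL hXL h3)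
  have h4 := le_largestPReduced _ key
  have h5 := Subgroup.map_mono (f := L.subtype) (Subgroup.le_normalClosure.trans h4)
  rw [hXmap] at h5
  exact h5

end mono

section fstar

variable {K : Type*} [Group K] [Finite K] {p : ℕ} [Fact p.Prime]

/-- if `K` has no nontrivial normal `p`-subgroup, a `p`-subgroup normalized by `F*(K)` is trivial. -/
theorem eq_bot_of_fstar_le_normalizer
    (hO : ∀ P : Subgroup K, P.Normal → IsPGroup p P → P = ⊥)
    (X : Subgroup K) (hXp : IsPGroup p X)
    (hFX : Cfsg.generalizedFittingSubgroup K ≤ Subgroup.normalizer (X : Set K)) : X = ⊥ := by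
  set Fs := Cfsg.generalizedFittingSubgroup K with hFs
  have hFn : Fs.Normal := Cfsg.Agent.Lib.H7.generalizedFittingSubgroup_normal
  have hFtop : Subgroup.normalizer (Fs : Set K) = ⊤ := Subgroup.normalizer_eq_top_iff.mpr hFn
  have hPF : Cfsg.pCoreOf p Fs = ⊥ := by
    apply hO _ _ (pCoreOf_isPGroup p Fs)
    apply Subgroup.normalizer_eq_top_iff.mp
    rw [eq_top_iff, ← hFtop]
    exact nzr_le_nzr_pCoreOf p Fs
  have hZ : X ⊓ Fs = ⊥ := by
    rw [eq_bot_iff, ← hPF]
    exact le_pCoreOf p Fs _ inf_le_right (le_nzr_inf Fs X Fs hFX Subgroup.le_normalizer)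
      (hXp.to_le inf_le_left)
  have hc : ⁅X, Fs⁆ = ⊥ := by
    rw [eq_bot_iff, ← hZ]
    exact le_inf (Subgroup.le_normalizer_iff_commutator_le_left.mp hFX)
      (Subgroup.commutator_le_right X Fs)
  have h1 : X ≤ Fs :=
    (Subgroup.commutator_eq_bot_iff_le_centralizer.mp hc).trans
      Cfsg.Agent.Lib.H7.centralizer_generalizedFittingSubgroup_le
  rw [eq_bot_iff, ← hZ]
  exact le_inf le_rfl h1

end fstar

section main

variable {G : Type*} [Group G] [Finite G] {p : ℕ} [Fact p.Prime]
variable {S : Sylow p G} {Q M : Subgroup G}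

/-- `M† / C_{M†}(Y_M)` has no nontrivial normal `p`-subgroup. -/
theorem dagger_quotient_pcore_trivial (h : AsymHyp p S Q M)
    [hn : ((Subgroup.centralizer (Cfsg.largestPReducedOf p M : Set G)).subgroupOf
      (M ⊔ Subgroup.centralizer (Cfsg.largestPReducedOf p M : Set G))).Normal]
    (P : Subgroup (↥(M ⊔ Subgroup.centralizer (Cfsg.largestPReducedOf p M : Set G)) ⧸
      (Subgroup.centralizer (Cfsg.largestPReducedOf p M : Set G)).subgroupOf
        (M ⊔ Subgroup.centralizer (Cfsg.largestPReducedOf p M : Set G))))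
    (hPn : P.Normal) (hPp : IsPGroup p P) : P = ⊥ := by
  have hred := (largestPReducedOf_props (p := p)
    (M ⊔ Subgroup.centralizer (Cfsg.largestPReducedOf p M : Set G))).2.2
  rw [← h.hM.2.2.2.1] at hred
  set Y := Cfsg.largestPReducedOf p M with hY
  set C := Subgroup.centralizer (Y : Set G) with hC
  set Md := M ⊔ C with hMd
  set π := QuotientGroup.mk' (C.subgroupOf Md) with hπ
  have hcn : (P.comap π).Normal := Subgroup.Normal.comap hPn π
  have hX : (P.comap π).map Md.subtype ≤ C := by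
    apply hred _ (Subgroup.map_subtype_le _)
    · apply le_nzr_of_conj_mem
      rintro m hm _ ⟨x, hx, rfl⟩
      exact ⟨⟨m, hm⟩ * x * ⟨m, hm⟩⁻¹, hcn.conj_mem x hx _, rfl⟩
    · rintro _ ⟨x, hx, rfl⟩
      obtain ⟨k, hk⟩ := hPp ⟨π x, hx⟩
      refine ⟨k, ?_⟩
      have hk' := congrArg Subtype.val hk
      simp only [SubgroupClass.coe_pow, OneMemClass.coe_one] at hk'
      rw [← map_pow, hπ, QuotientGroup.mk'_apply, QuotientGroup.eq_one_iff,
        Subgroup.mem_subgroupOf] at hk'
      simpa using hk'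
  rw [eq_bot_iff]
  intro y hy
  obtain ⟨x, rfl⟩ := QuotientGroup.mk'_surjective (C.subgroupOf Md) y
  rw [Subgroup.mem_bot, QuotientGroup.mk'_apply, QuotientGroup.eq_one_iff, Subgroup.mem_subgroupOf]
  exact hX ⟨x, hy, rfl⟩

/-- overgroups of characteristic `p` of the preimage of `F*(M†/C_{M†}(Y_M))`. -/
theorem le_largestPReducedOf_of_fstar_le (h : AsymHyp p S Q M)
    [hn : ((Subgroup.centralizer (Cfsg.largestPReducedOf p M : Set G)).subgroupOf
      (M ⊔ Subgroup.centralizer (Cfsg.largestPReducedOf p M : Set G))).Normal]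
    (F : Subgroup G)
    (hF : F = ((Cfsg.generalizedFittingSubgroup
      (↥(M ⊔ Subgroup.centralizer (Cfsg.largestPReducedOf p M : Set G)) ⧸
        (Subgroup.centralizer (Cfsg.largestPReducedOf p M : Set G)).subgroupOf
          (M ⊔ Subgroup.centralizer (Cfsg.largestPReducedOf p M : Set G)))).comap
      (QuotientGroup.mk' ((Subgroup.centralizer (Cfsg.largestPReducedOf p M : Set G)).subgroupOf
        (M ⊔ Subgroup.centralizer (Cfsg.largestPReducedOf p M : Set G))))).map
      (M ⊔ Subgroup.centralizer (Cfsg.largestPReducedOf p M : Set G)).subtype)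
    (H : Subgroup G) (hFH : F ≤ H)
    (hH : Subgroup.centralizer (Cfsg.pCore p ↥H : Set ↥H) ≤ Cfsg.pCore p ↥H) :
    Cfsg.largestPReducedOf p M ≤ Cfsg.largestPReducedOf p H := by
  have hO := dagger_quotient_pcore_trivial h
  obtain ⟨hY1, hY2, hY3⟩ := largestPReducedOf_props (p := p) M
  set Y := Cfsg.largestPReducedOf p M with hY
  set C := Subgroup.centralizer (Y : Set G) with hC
  set Md := M ⊔ C with hMd
  set π := QuotientGroup.mk' (C.subgroupOf Md) with hπ
  set Fs := Cfsg.generalizedFittingSubgroup (↥Md ⧸ C.subgroupOf Md) with hFs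
  have hFMd : F ≤ Md := hF ▸ Subgroup.map_subtype_le _
  have hF' : F.subgroupOf Md = Fs.comap π := by
    rw [hF]
    ext x
    simp [Subgroup.mem_subgroupOf]
  have hCF : C ≤ F := by
    intro x hx
    have hxMd : x ∈ Md := le_sup_right (a := M) hx
    have : (⟨x, hxMd⟩ : ↥Md) ∈ F.subgroupOf Md := by
      rw [hF', Subgroup.mem_comap, hπ, QuotientGroup.mk'_apply,
        (QuotientGroup.eq_one_iff _).mpr (Subgroup.mem_subgroupOf.mpr hx)]
      exact Subgroup.one_mem _
    exact Subgroup.mem_subgroupOf.mp this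
  have hDH : Cfsg.pCoreOf p M ≤ H :=
    ((pCoreOf_le_centralizer_largestPReducedOf M).trans hCF).trans hFH
  have hFH₀ : F ≤ H ⊓ Md := le_inf hFH hFMd
  have hred : RedCritIn p (H ⊓ Md) Y := by
    intro X hXH₀ hH₀X hpow
    have hXMd : X ≤ Md := hXH₀.trans inf_le_right
    have hXp : IsPGroup p ((X.subgroupOf Md).map π) := by
      rintro ⟨_, x, hx, rfl⟩
      obtain ⟨k, hk⟩ := hpow (x : G) (Subgroup.mem_subgroupOf.mp hx)
      refine ⟨k, Subtype.ext ?_⟩
      simp only [SubgroupClass.coe_pow, OneMemClass.coe_one]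
      rw [← map_pow, hπ, QuotientGroup.mk'_apply, QuotientGroup.eq_one_iff,
        Subgroup.mem_subgroupOf]
      simpa using hk
    have hFX : Fs ≤ Subgroup.normalizer (((X.subgroupOf Md).map π : Subgroup _) : Set _) := by
      have e : Fs = (F.subgroupOf Md).map π := by
        rw [hF', Subgroup.map_comap_eq_self_of_surjective (QuotientGroup.mk'_surjective _)]
      rw [e]
      refine le_trans (Subgroup.map_mono ?_) (Subgroup.le_normalizer_map π)
      refine le_trans ?_ (Subgroup.le_normalizer_comap Md.subtype)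
      intro x hx
      exact (hFH₀.trans hH₀X) (Subgroup.mem_subgroupOf.mp hx)
    have hbot := eq_bot_of_fstar_le_normalizer hO _ hXp hFX
    intro x hx
    have hx' : π ⟨x, hXMd hx⟩ ∈ (X.subgroupOf Md).map π :=
      ⟨⟨x, hXMd hx⟩, Subgroup.mem_subgroupOf.mpr hx, rfl⟩
    rw [hbot, Subgroup.mem_bot, hπ, QuotientGroup.mk'_apply, QuotientGroup.eq_one_iff,
      Subgroup.mem_subgroupOf] at hx'
    exact hx'
  have hYH₀ : Y ≤ H ⊓ Md := (h.Y_le_D.trans (pCoreOf_le_centralizer_largestPReducedOf M)).trans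
    (hCF.trans hFH₀)
  have h1 : Y ≤ Cfsg.largestPReducedOf p (H ⊓ Md) :=
    le_largestPReducedOf (H ⊓ Md) Y hYH₀ (inf_le_right.trans h.dagger_le_nzrY) hY2 hred
  obtain ⟨T₀, hT₀⟩ := h.exists_sylow_le_dagger H hDH
  exact h1.trans (largestPReducedOf_mono' (H ⊓ Md) H T₀ hT₀ inf_le_left hH)

end main

end Cfsg.Agent.Lib.H14
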