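import Mathlib

/-!
# S4484, pieces (A0), (A0'), (A2') (helper14): PURE group theory / arithmetic
-/

set_option autoImplicit false

namespace Cfsg.Agent.Lib.H14.BB

/-- (A0) a central element of order `p` of a Sylow `p`-subgroup: its class has size prime to `p`. -/
theorem exists_central_elt {G : Type*} [Group G] [Finite G] {p : ℕ} (hp : p.Prime)
    (hpG : p ∣ Nat.card G) :
    ∃ x : G, orderOf x = p ∧ ¬ p ∣ (Subgroup.centralizer ({x} : Set G)).index := by
  classical
  haveI : Fact p.Prime := ⟨hp⟩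
  obtain ⟨P⟩ : Nonempty (Sylow p G) := inferInstance
  have hPnt : Nontrivial (P : Subgroup G) := by
    rw [← Finite.one_lt_card_iff_nontrivial]
    have h1 : p ∣ Nat.card (P : Subgroup G) := P.dvd_card_of_dvd_card hpG
    have h2 : 0 < Nat.card (P : Subgroup G) := Nat.card_pos
    have := Nat.le_of_dvd h2 h1
    have := hp.two_le
    omega
  have hZnt : Nontrivial (Subgroup.center (P : Subgroup G)) := P.isPGroup'.center_nontrivial
  have hZcard : p ∣ Nat.card (Subgroup.center (P : Subgroup G)) := by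
    have hZp : IsPGroup p (Subgroup.center (P : Subgroup G)) := P.isPGroup'.to_subgroup _
    obtain ⟨n, hn⟩ := IsPGroup.iff_card.mp hZp
    rw [hn]
    have hn0 : n ≠ 0 := by
      rintro rfl
      rw [pow_zero] at hn
      have := Finite.one_lt_card_iff_nontrivial.mpr hZnt
      omega
    exact dvd_pow_self p hn0
  obtain ⟨z, hz⟩ := exists_prime_orderOf_dvd_card' p hZcard
  refine ⟨((z : (P : Subgroup G)) : G), ?_, ?_⟩
  · rw [Subgroup.orderOf_coe, Subgroup.orderOf_coe]
    exact hz
  · have hle : (P : Subgroup G) ≤ Subgroup.centralizer ({((z : (P : Subgroup G)) : G)} : Set G) := by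
      intro y hy
      rw [Subgroup.mem_centralizer_iff]
      intro w hw
      rw [Set.mem_singleton_iff] at hw
      subst hw
      have hzc := z.2
      rw [Subgroup.mem_center_iff] at hzc
      have := hzc ⟨y, hy⟩
      exact congrArg Subtype.val this.symm
    intro hdvd
    exact P.not_dvd_index (dvd_trans hdvd (Subgroup.index_dvd_of_le hle))

/-- (A0') arithmetic: a divisor `m` of `p^a q^b g₀` prime to `p` is `q^β e` with `q ∤ e`, `e ∣ g₀`. -/
theorem index_split {p q a b g₀ m : ℕ} (hp : p.Prime) (hq : q.Prime)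
    (hm : m ∣ p ^ a * q ^ b * g₀) (hpm : ¬ p ∣ m) :
    ∃ β e : ℕ, m = q ^ β * e ∧ ¬ q ∣ e ∧ e ∣ g₀ := by
  by_cases hm0 : m = 0
  · subst hm0
    exact absurd (dvd_zero p) hpm
  -- `m` is coprime to `p ^ a`
  have hcop : Nat.Coprime m (p ^ a) :=
    Nat.Coprime.pow_right a ((Nat.Prime.coprime_iff_not_dvd hp).mpr hpm).symm
  have hm2 : m ∣ q ^ b * g₀ := by
    rw [mul_assoc] at hm
    exact hcop.dvd_of_dvd_mul_left hm
  -- split off the `q`-part
  obtain ⟨β, e, hqe, hme⟩ := Nat.exists_eq_pow_mul_and_not_dvd hm0 q hq.ne_one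
  refine ⟨β, e, hme, hqe, ?_⟩
  have hcope : Nat.Coprime e (q ^ b) :=
    Nat.Coprime.pow_right b ((Nat.Prime.coprime_iff_not_dvd hq).mpr hqe).symm
  have he : e ∣ q ^ b * g₀ := dvd_trans (hme ▸ dvd_mul_left e (q ^ β)) hm2
  exact hcope.dvd_of_dvd_mul_left he

/-- (A2') powers prime to the order have the same centralizer. -/
theorem centralizer_pow_eq {G : Type*} [Group G] {p : ℕ} (hp : p.Prime) (x : G)
    (hx : orderOf x = p) (j : ℕ) (hj : ¬ p ∣ j) :
    Subgroup.centralizer ({x ^ j} : Set G) = Subgroup.centralizer ({x} : Set G) := by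
  have hcop : Nat.Coprime j (orderOf x) := by
    rw [hx]
    exact ((Nat.Prime.coprime_iff_not_dvd hp).mpr hj).symm
  obtain ⟨k, hk⟩ := exists_pow_eq_self_of_coprime hcop
  apply le_antisymm
  · intro g hg
    rw [Subgroup.mem_centralizer_iff] at hg ⊢
    intro w hw
    rw [Set.mem_singleton_iff] at hw
    rw [hw]
    have h2 : Commute (x ^ j) g := hg (x ^ j) rfl
    have h3 : Commute ((x ^ j) ^ k) g := h2.pow_left k
    rw [hk] at h3
    exact h3
  · intro g hg
    rw [Subgroup.mem_centralizer_iff] at hg ⊢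
    intro w hw
    rw [Set.mem_singleton_iff] at hw
    rw [hw]
    have h1 : Commute x g := hg x rfl
    exact h1.pow_left j

end Cfsg.Agent.Lib.H14.BB
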