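import Mathlib
import Cfsg.Prelude.Def_Blocks
import Cfsg.Agent.Lib.H14.BIB2a
import Cfsg.Agent.Lib.H23.BlockHom
import Cfsg.Agent.Lib.H23.BlockPrincipal
import Cfsg.Agent.Lib.H23.DegreeDvd
import Cfsg.Agent.Lib.H24.CharBasic

/-!
# S4719, Part I, piece (B2b INFLb) (helper14; exact sig of tools/blueprints/S4719_I_sigs.lean)

A non-principal block of `C ⧸ N` (`N` a central `p`-subgroup) lifts to a non-principal block of `C` whose defect is
larger by `v_p |N|`.
-/

set_option autoImplicit false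

namespace Cfsg.Agent.Lib.H14.BI

open Cfsg Cfsg.Agent.Lib.H23 Cfsg.Agent.Lib.H24

variable {C : Type*} [Group C] [Finite C] {p : ℕ} {M : Ideal AlgInt}

theorem exists_nonprincipal_lift (hM : IsPModular p M) (N : Subgroup C) [N.Normal]
    (hNc : N ≤ Subgroup.center C) (hNp : IsPGroup p N)
    (bbar : Set (IrrCharacter (C ⧸ N))) (hb : IsPBlock M bbar)
    (hnp : bbar ≠ principalBlock M (C ⧸ N)) :
    ∃ b : Set (IrrCharacter C), IsPBlock M b ∧ b ≠ principalBlock M C ∧
      blockDefect p bbar + (Nat.card N).factorization p ≤ blockDefect p b := by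
  classical
  have : Fintype C := Fintype.ofFinite C
  have : Fintype (C ⧸ N) := Fintype.ofFinite _
  have hP : M.IsPrime := isPrime_of_isPModular hM
  obtain ⟨χ₀, rfl⟩ := hb
  -- a member of least `p`-part of the degree
  set S : Set ℕ := (fun χ : IrrCharacter (C ⧸ N) => (charDegree (χ : C ⧸ N → ℂ)).factorization p) ''
    blockOf M (χ₀ : C ⧸ N → ℂ) with hS
  have hSne : S.Nonempty := ⟨_, χ₀, mem_blockOf_self χ₀, rfl⟩
  obtain ⟨ψ, hψb, hψ⟩ := Nat.sInf_mem hSne
  simp only at hψ
  refine ⟨blockOf M (inflIrr N ψ : C → ℂ), ⟨inflIrr N ψ, rfl⟩, ?_, ?_⟩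
  · -- non-principal
    intro heq
    apply hnp
    have h1 : inflIrr N ψ ∈ principalBlock M C := heq ▸ mem_blockOf_self (inflIrr N ψ)
    have h2 : SameBlock M (inflIrr N (trivialIrr (C ⧸ N)) : C → ℂ) (inflIrr N ψ : C → ℂ) := h1
    have h3 : SameBlock M (trivialIrr (C ⧸ N) : C ⧸ N → ℂ) (ψ : C ⧸ N → ℂ) :=
      sameBlock_of_inflIrr hM N hNc hNp _ _ h2
    have h4 : ψ ∈ principalBlock M (C ⧸ N) := h3
    rw [← blockOf_eq_of_mem hψb, principalBlock_eq_blockOf h4]
  · -- the defect
    unfold blockDefect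
    have hcard : Nat.card C = Nat.card N * Nat.card (C ⧸ N) := by
      rw [mul_comm]
      exact (Subgroup.card_eq_card_quotient_mul_card_subgroup N)
    have hfac : (Nat.card C).factorization p =
        (Nat.card N).factorization p + (Nat.card (C ⧸ N)).factorization p := by
      rw [hcard, Nat.factorization_mul Nat.card_pos.ne' Nat.card_pos.ne']
      rfl
    have hle : sInf ((fun χ : IrrCharacter C => (charDegree (χ : C → ℂ)).factorization p) ''
        blockOf M (inflIrr N ψ : C → ℂ)) ≤ (charDegree (ψ : C ⧸ N → ℂ)).factorization p := by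
      apply Nat.sInf_le
      exact ⟨inflIrr N ψ, mem_blockOf_self _, by simp only [charDegree_inflIrr]⟩
    have hdvd : (charDegree (ψ : C ⧸ N → ℂ)).factorization p ≤
        (Nat.card (C ⧸ N)).factorization p := by
      have h1 := Cfsg.Agent.Lib.H23.charDegree_dvd_card (ψ : C ⧸ N → ℂ) ψ.2
      exact (Nat.factorization_le_iff_dvd (Cfsg.Agent.Lib.H23.charDegree_pos _ ψ.2).ne'
        Nat.card_pos.ne').2 h1 p
    rw [← hS, ← hψ, hfac]
    omega

end Cfsg.Agent.Lib.H14.BI
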