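import Cfsg.Agent.Lib.H14.BasicProp2
import Cfsg.Agent.Lib.H10.SylowIn

set_option autoImplicit false

namespace Cfsg.Agent.Lib.H14
open scoped commutatorElement

universe u

section
variable {H : Type*} [Group H] [Finite H] {p : ℕ} [hp : Fact p.Prime]
set_option linter.unusedSectionVars false

theorem relIndex_sup_of_normal (A N : Subgroup H) [N.Normal] :
    A.relIndex (A ⊔ N) = A.relIndex N := by
  have h1 : (A ⊓ N).relIndex A * A.relIndex (A ⊔ N) = (A ⊓ N).relIndex (A ⊔ N) :=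
    Subgroup.relIndex_mul_relIndex _ _ _ inf_le_left le_sup_left
  have h2 : (A ⊓ N).relIndex N * N.relIndex (A ⊔ N) = (A ⊓ N).relIndex (A ⊔ N) :=
    Subgroup.relIndex_mul_relIndex _ _ _ inf_le_right le_sup_right
  rw [Subgroup.relIndex_sup_right, Subgroup.inf_relIndex_right] at h2
  rw [Subgroup.inf_relIndex_left] at h1
  have h0 : N.relIndex A ≠ 0 := Subgroup.index_ne_zero_of_finite
  apply Nat.eq_of_mul_eq_mul_left (Nat.pos_of_ne_zero h0)
  rw [h1, ← h2, mul_comm]

/-- Minimal choice of `M` under `N(Y₀)`. -/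
structure BPMin (p : ℕ) (T : Sylow p H) (Y₀ M : Subgroup H) : Prop where
  hTM : (T : Subgroup H) ≤ M
  hMMt : M ≤ Subgroup.normalizer (Y₀ : Set H)
  hsup : Subgroup.normalizer (Y₀ : Set H) ≤ M ⊔ Subgroup.centralizer (Y₀ : Set H)
  hmin : ∀ M' : Subgroup H, (T : Subgroup H) ≤ M' → M' ≤ M →
    Subgroup.normalizer (Y₀ : Set H) ≤ M' ⊔ Subgroup.centralizer (Y₀ : Set H) → M' = M

theorem exists_bpmin (T : Sylow p H) (Y₀ : Subgroup H)
    (hT : (T : Subgroup H) ≤ Subgroup.normalizer (Y₀ : Set H)) : ∃ M, BPMin p T Y₀ M := by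
  set 𝓖 : Set (Subgroup H) := {M | (T : Subgroup H) ≤ M ∧ M ≤ Subgroup.normalizer (Y₀ : Set H) ∧
    Subgroup.normalizer (Y₀ : Set H) ≤ M ⊔ Subgroup.centralizer (Y₀ : Set H)} with h𝓖
  have h0 : Subgroup.normalizer (Y₀ : Set H) ∈ 𝓖 := ⟨hT, le_rfl, le_sup_left⟩
  obtain ⟨M, hM, hmin⟩ := Set.exists_min_image 𝓖 (fun X => Nat.card ↥X) (Set.toFinite 𝓖) ⟨_, h0⟩
  refine ⟨M, hM.1, hM.2.1, hM.2.2, ?_⟩
  intro M' hTM' hM'M hsup'
  exact Subgroup.eq_of_le_of_card_ge hM'M (hmin M' ⟨hTM', hM'M.trans hM.2.1, hsup'⟩)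

namespace BPMin
variable {T : Sylow p H} {Y₀ M : Subgroup H}

theorem le_nzr_centralizer (h : BPMin p T Y₀ M) :
    M ≤ Subgroup.normalizer ((Subgroup.centralizer (Y₀ : Set H) : Subgroup H) : Set H) :=
  h.hMMt.trans (nzr_le_nzr_centralizer Y₀)

/-- `M` normalizes `T ∩ C(Y₀)`. -/
theorem le_nzr_sylow_inf (h : BPMin p T Y₀ M) :
    M ≤ Subgroup.normalizer (((T : Subgroup H) ⊓ Subgroup.centralizer (Y₀ : Set H) : Subgroup H) : Set H) := by
  set C := Subgroup.centralizer (Y₀ : Set H) with hC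
  have hMC := h.le_nzr_centralizer
  have hfr := le_nzr_sylow_inf_sup T M C h.hTM hMC
  have hTN : (T : Subgroup H) ≤ Subgroup.normalizer (((T : Subgroup H) ⊓ C : Subgroup H) : Set H) :=
    fun t ht => mem_normalizer_inf (Subgroup.le_normalizer ht) (hMC (h.hTM ht))
  have hM1 := h.hmin _ (le_inf h.hTM hTN) inf_le_left
    (h.hsup.trans (sup_le (hfr.trans (sup_le le_sup_left le_sup_right)) le_sup_right))
  exact inf_eq_left.mp hM1

theorem sylow_inf_eq (h : BPMin p T Y₀ M) :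
    (T : Subgroup H) ⊓ (M ⊓ Subgroup.centralizer (Y₀ : Set H)) =
      (T : Subgroup H) ⊓ Subgroup.centralizer (Y₀ : Set H) := by
  rw [← inf_assoc, inf_eq_left.mpr h.hTM]

theorem isPClosed (h : BPMin p T Y₀ M) :
    Cfsg.IsPClosed p ↥(M ⊓ Subgroup.centralizer (Y₀ : Set H)) := by
  set D := M ⊓ Subgroup.centralizer (Y₀ : Set H) with hD
  have hMD : M ≤ Subgroup.normalizer (D : Set H) := fun m hm =>
    mem_normalizer_inf (Subgroup.le_normalizer hm) (h.le_nzr_centralizer hm)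
  obtain ⟨P, hP⟩ := exists_sylow_inf_of_le_normalizer T D (h.hTM.trans hMD)
  apply isPClosed_of_normal_sylow P
  rw [hP]
  apply Subgroup.normal_subgroupOf_of_le_normalizer
  rw [hD, h.sylow_inf_eq]
  exact inf_le_left.trans h.le_nzr_sylow_inf

end BPMin

namespace BPMin
variable {T : Sylow p H} {Y₀ M : Subgroup H}

theorem sylow_inf_le_pCoreOf (h : BPMin p T Y₀ M) :
    (T : Subgroup H) ⊓ Subgroup.centralizer (Y₀ : Set H) ≤ Cfsg.pCoreOf p M :=
  le_pCoreOf p M _ (inf_le_left.trans h.hTM) h.le_nzr_sylow_inf (T.2.to_le inf_le_left)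

/-- Frattini property, ambient form: every maximal subgroup of `M` containing `O_p(M)` contains
`C_M(Y₀)`. -/
theorem inf_centralizer_le_of_max (h : BPMin p T Y₀ M) (K : Subgroup H) (hKM : K ≤ M)
    (hQK : Cfsg.pCoreOf p M ≤ K) (hKmax : ∀ B : Subgroup H, K ≤ B → B ≤ M → B = K ∨ B = M)
    (hKne : K ≠ M) : M ⊓ Subgroup.centralizer (Y₀ : Set H) ≤ K := by
  set C := Subgroup.centralizer (Y₀ : Set H) with hC
  set D := M ⊓ C with hD
  by_contra hDK
  have hDM : D ≤ M := inf_le_left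
  have hMD : M ≤ Subgroup.normalizer (D : Set H) := fun m hm =>
    mem_normalizer_inf (Subgroup.le_normalizer hm) (h.le_nzr_centralizer hm)
  have hKD : K ⊔ D = M := by
    rcases hKmax (K ⊔ D) le_sup_left (sup_le hKM hDM) with h1 | h1
    · exact absurd (h1 ▸ le_sup_right) hDK
    · exact h1
  -- index computation
  have hidx : ¬ p ∣ K.relIndex M := by
    have hn : (D.subgroupOf M).Normal := Subgroup.normal_subgroupOf_of_le_normalizer hMD
    have h1 := relIndex_sup_of_normal (K.subgroupOf M) (D.subgroupOf M)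
    rw [← Subgroup.subgroupOf_sup hKM hDM, hKD, Subgroup.subgroupOf_self,
      Subgroup.relIndex_top_right, Subgroup.relIndex_subgroupOf hDM] at h1
    have h2 : K.relIndex M = K.relIndex D := h1
    have hTDK : (T : Subgroup H) ⊓ D ≤ K := by
      rw [hD, h.sylow_inf_eq]; exact h.sylow_inf_le_pCoreOf.trans hQK
    have h3 : K.relIndex D ∣ ((T : Subgroup H) ⊓ D).relIndex D :=
      Subgroup.relIndex_dvd_of_le_left D hTDK
    have h4 : ¬ p ∣ ((T : Subgroup H) ⊓ D).relIndex D :=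
      not_dvd_relIndex_inf (T : Subgroup H) M D hDM hMD
        (Cfsg.Agent.Lib.H10.not_dvd_relIndex_of_sylow_le T h.hTM)
    rw [h2]
    exact fun hd => h4 (hd.trans h3)
  -- a conjugate of `K` contains `T`
  obtain ⟨R, -, hRK, hRp, hRidx⟩ := Cfsg.Agent.Lib.H10.exists_sylowIn (p := p)
    (P := (⊥ : Subgroup H)) (K := K) IsPGroup.of_bot bot_le
  have hRM : ¬ p ∣ R.relIndex M := by
    rw [← Subgroup.relIndex_mul_relIndex R K M hRK hKM]
    intro hd
    rcases (Nat.Prime.dvd_mul hp.out).mp hd with h1 | h1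
    · exact hRidx h1
    · exact hidx h1
  obtain ⟨m, hmM, hm⟩ := Cfsg.Agent.Lib.H10.exists_mem_map_conj_le_of_sylowIn hRp (hRK.trans hKM)
    hRM T.2 h.hTM
  set K₂ := K.map (MulAut.conj m⁻¹).toMonoidHom with hK₂
  have hTK₂ : (T : Subgroup H) ≤ K₂ := by
    intro t ht
    rw [hK₂, mem_map_conj_iff]
    have := hRK (hm (conj_mem_map_cj (T : Subgroup H) m t ht))
    simpa using this
  have hK₂M : K₂ ≤ M := by
    rintro _ ⟨k, hk, rfl⟩
    exact M.mul_mem (M.mul_mem (M.inv_mem hmM) (hKM hk)) (M.inv_mem (M.inv_mem hmM))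
  have hMK₂ : M ≤ K₂ ⊔ D := by
    intro x hx
    have hx' : m * x * m⁻¹ ∈ K ⊔ D := by
      rw [hKD]; exact M.mul_mem (M.mul_mem hmM hx) (M.inv_mem hmM)
    have h1 : (K ⊔ D).map (MulAut.conj m⁻¹).toMonoidHom ≤ K₂ ⊔ D := by
      rw [Subgroup.map_sup]
      refine sup_le_sup_left ?_ _
      rw [map_cj_eq_of_mem_nzr D m⁻¹ (Subgroup.inv_mem _ (hMD hmM))]
    have h2 := h1 (conj_mem_map_cj (K ⊔ D) m⁻¹ _ hx')
    have : m⁻¹ * (m * x * m⁻¹) * m⁻¹⁻¹ = x := by group
    rwa [this] at h2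
  have hK₂eq : K₂ = M := h.hmin K₂ hTK₂ hK₂M
    (h.hsup.trans (sup_le (hMK₂.trans (sup_le_sup_left inf_le_right _)) le_sup_right))
  apply hKne
  apply Subgroup.eq_of_le_of_card_ge hKM
  rw [← hK₂eq, hK₂, card_map_conj]

end BPMin

namespace BPMin
variable {T : Sylow p H} {Y₀ M : Subgroup H}

theorem frattini (h : BPMin p T Y₀ M) :
    ((M ⊓ Subgroup.centralizer (Y₀ : Set H)).subgroupOf M).map
        (QuotientGroup.mk' (Cfsg.pCore p ↥M)) ≤ frattini (↥M ⧸ Cfsg.pCore p ↥M) := by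
  have hπ : Function.Surjective (QuotientGroup.mk' (Cfsg.pCore p ↥M)) :=
    QuotientGroup.mk'_surjective _
  unfold _root_.frattini Order.radical
  rw [le_iInf₂_iff]
  intro Kb hKb
  have hKb : IsCoatom Kb := hKb
  set K' := Kb.comap (QuotientGroup.mk' (Cfsg.pCore p ↥M)) with hK'
  have hmapK' : K'.map (QuotientGroup.mk' (Cfsg.pCore p ↥M)) = Kb :=
    Subgroup.map_comap_eq_self_of_surjective hπ Kb
  have hkerK' : Cfsg.pCore p ↥M ≤ K' := by
    intro x hx
    rw [hK', Subgroup.mem_comap]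
    have : (QuotientGroup.mk' (Cfsg.pCore p ↥M)) x = 1 := by
      rw [QuotientGroup.mk'_apply, QuotientGroup.eq_one_iff]; exact hx
    rw [this]; exact Kb.one_mem
  have hcomap : ∀ B' : Subgroup ↥M, K' ≤ B' →
      (B'.map (QuotientGroup.mk' (Cfsg.pCore p ↥M))).comap (QuotientGroup.mk' (Cfsg.pCore p ↥M)) = B' := by
    intro B' hB'
    rw [Subgroup.comap_map_eq, QuotientGroup.ker_mk', sup_eq_left]
    exact hkerK'.trans hB'
  set K := K'.map M.subtype with hK
  have hKM : K ≤ M := Subgroup.map_subtype_le _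
  have hsubK : K.subgroupOf M = K' := by
    rw [hK]; exact Subgroup.comap_map_eq_self_of_injective (Subgroup.subtype_injective M) K'
  have key := h.inf_centralizer_le_of_max K hKM (Subgroup.map_mono hkerK') ?_ ?_
  · have h1 : (M ⊓ Subgroup.centralizer (Y₀ : Set H)).subgroupOf M ≤ K' := by
      rw [← hsubK]
      intro x hx
      exact Subgroup.mem_subgroupOf.mpr (key (Subgroup.mem_subgroupOf.mp hx))
    exact (Subgroup.map_mono h1).trans (le_of_eq hmapK')
  · intro B hKB hBM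
    have hB' : K' ≤ B.subgroupOf M := by
      rw [← hsubK]
      intro x hx
      exact Subgroup.mem_subgroupOf.mpr (hKB (Subgroup.mem_subgroupOf.mp hx))
    have h1 : Kb ≤ (B.subgroupOf M).map (QuotientGroup.mk' (Cfsg.pCore p ↥M)) := by
      rw [← hmapK']; exact Subgroup.map_mono hB'
    rcases hKb.le_iff.mp h1 with h2 | h2
    · right
      have h3 := hcomap _ hB'
      rw [h2, Subgroup.comap_top] at h3
      have h4 : M ≤ B := Subgroup.subgroupOf_eq_top.mp h3.symm
      exact le_antisymm hBM h4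
    · left
      have h3 := hcomap _ hB'
      rw [h2] at h3
      -- `K' = B.subgroupOf M`
      have h4 : B.subgroupOf M = K' := h3.symm
      rw [hK, ← h4, Subgroup.map_subgroupOf_eq_of_le hBM]
  · intro hKeq
    apply hKb.1
    rw [← hmapK']
    have : K' = ⊤ := by
      rw [← hsubK, hKeq, Subgroup.subgroupOf_self]
    rw [this, Subgroup.map_top_of_surjective _ hπ]

end BPMin

/-- **The basic property** (general form). -/
theorem basic_property (T : Sylow p H) (hyp : NzrHyp p T) (L : Subgroup H)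
    (hTL : (T : Subgroup H) ≤ L) (hL : L ∈ Cfsg.charPSubgroups p H) :
    ∃ M Ls : Subgroup H, (T : Subgroup H) ≤ M ∧ Cfsg.IsInFrakM p M ∧ (T : Subgroup H) ≤ Ls ∧
      Ls ≤ M ∧ Ls ∈ Cfsg.charPSubgroups p H ∧
      Cfsg.largestPReducedOf p L = Cfsg.largestPReducedOf p Ls ∧
      Cfsg.largestPReducedOf p L ≤ Cfsg.largestPReducedOf p M ∧
      L ⊔ Subgroup.centralizer (Cfsg.largestPReducedOf p L : Set H) =
        Ls ⊔ Subgroup.centralizer (Cfsg.largestPReducedOf p L : Set H) := by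
  obtain ⟨Y₀, hMt, hTMt, hYMt, hYL, hprod, hmax⟩ := exists_max_family T hyp L hTL hL
  obtain ⟨M, hM⟩ := exists_bpmin T Y₀ hTMt
  have hC₀Mt : Subgroup.centralizer (Y₀ : Set H) ≤ Subgroup.normalizer (Y₀ : Set H) :=
    Subgroup.centralizer_le_normalizer _
  have hM𝓛 : M ∈ Cfsg.charPSubgroups p H :=
    mem_charPSubgroups_of_le T hMt hTMt hM.hTM hM.hMMt
  have hsupeq : M ⊔ Subgroup.centralizer (Y₀ : Set H) = Subgroup.normalizer (Y₀ : Set H) :=
    le_antisymm (sup_le hM.hMMt hC₀Mt) hM.hsup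
  have hYM : Cfsg.largestPReducedOf p M = Y₀ := by
    apply le_antisymm
    · have := largestPReducedOf_mono T M _ hM.hTM hM.hMMt (charP_type_of_mem hMt)
      rwa [hYMt] at this
    · have := Cfsg.Agent.S2822.result T M _ hM.hTM hTMt (charP_type_of_mem hM𝓛)
        (charP_type_of_mem hMt)
        (by rw [hYMt, hsupeq]; exact (sup_eq_left.mpr hC₀Mt).symm)
      rwa [hYMt] at this
  have hC₀CL : Subgroup.centralizer (Y₀ : Set H) ≤
      Subgroup.centralizer (Cfsg.largestPReducedOf p L : Set H) :=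
    Subgroup.centralizer_le (fun _ hx => hYL hx)
  have hprodM : ∀ l ∈ L, ∃ m ∈ M,
      ∃ c ∈ Subgroup.centralizer (Cfsg.largestPReducedOf p L : Set H), l = m * c := by
    intro l hl
    obtain ⟨x, hx, c, hc, rfl⟩ := hprod l hl
    have hx' : x ∈ ((M ⊔ Subgroup.centralizer (Y₀ : Set H) : Subgroup H) : Set H) := hM.hsup hx
    rw [Subgroup.coe_mul_of_left_le_normalizer_right M _ hM.le_nzr_centralizer] at hx'
    obtain ⟨m, hm, c', hc', rfl⟩ := Set.mem_mul.mp hx'
    exact ⟨m, hm, c' * c, Subgroup.mul_mem _ (hC₀CL hc') hc, by group⟩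
  have hfrak : Cfsg.IsInFrakM p M := by
    unfold Cfsg.IsInFrakM
    rw [hYM, hsupeq]
    refine ⟨hM𝓛, ⟨hMt, ?_⟩, ?_, hYMt.symm, hM.isPClosed, hM.frattini⟩
    · intro X hX hMtX
      have hTX := hTMt.trans hMtX
      have hYX : Cfsg.largestPReducedOf p X = Y₀ := hmax X hX hTX
        (by
          have := largestPReducedOf_mono T _ X hTMt hMtX (charP_type_of_mem hX)
          rwa [hYMt] at this)
        (fun l hl => by
          obtain ⟨x, hx, c, hc, e⟩ := hprod l hl
          exact ⟨x, hMtX hx, c, hc, e⟩)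
      apply le_antisymm _ hMtX
      rw [← hYX]; exact (largestPReducedOf_props (p := p) X).1
    · intro X hX hMX
      have hX𝓛 := hX.1
      have hTX := hM.hTM.trans hMX
      have hYX : Cfsg.largestPReducedOf p X = Y₀ := hmax X hX𝓛 hTX
        (by
          have := largestPReducedOf_mono T M X hM.hTM hMX (charP_type_of_mem hX𝓛)
          rwa [hYM] at this)
        (fun l hl => by
          obtain ⟨m, hm, c, hc, e⟩ := hprodM l hl
          exact ⟨m, hMX hm, c, hc, e⟩)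
      have hXMt : X ≤ Subgroup.normalizer (Y₀ : Set H) := by
        rw [← hYX]; exact (largestPReducedOf_props (p := p) X).1
      exact (hX.2 _ hMt hXMt).symm
  -- `L*`
  set YL := Cfsg.largestPReducedOf p L with hYLdef
  set CL := Subgroup.centralizer (YL : Set H) with hCL
  set M' := M ⊓ (L ⊔ CL) with hM'
  have hTM' : (T : Subgroup H) ≤ M' := le_inf hM.hTM (hTL.trans le_sup_left)
  have hM'𝓛 : M' ∈ Cfsg.charPSubgroups p H :=
    mem_charPSubgroups_of_le T hM𝓛 hM.hTM hTM' inf_le_left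
  have hfac : M' ⊔ CL = L ⊔ CL := by
    apply le_antisymm (sup_le inf_le_right le_sup_right)
    refine sup_le ?_ le_sup_right
    intro l hl
    obtain ⟨m, hm, c, hc, rfl⟩ := hprodM l hl
    have hmL : m ∈ L ⊔ CL := by
      have : m = (m * c) * c⁻¹ := by group
      rw [this]
      exact Subgroup.mul_mem _ (Subgroup.mem_sup_left hl) (Subgroup.mem_sup_right (CL.inv_mem hc))
    exact Subgroup.mul_mem_sup ⟨hm, hmL⟩ hc
  have hres := Cfsg.Agent.S2824.result T L M' hTL hTM' (charP_type_of_mem hL)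
    (charP_type_of_mem hM'𝓛) _ rfl hfac _ rfl
  have hLN : L ≤ Subgroup.normalizer (CL : Set H) :=
    (largestPReducedOf_props (p := p) L).1.trans (nzr_le_nzr_centralizer YL)
  have hTN : (T : Subgroup H) ≤
      Subgroup.normalizer (((T : Subgroup H) ⊓ CL : Subgroup H) : Set H) :=
    fun t ht => mem_normalizer_inf (Subgroup.le_normalizer ht) (hLN (hTL ht))
  have hTLs : (T : Subgroup H) ≤
      M' ⊓ Subgroup.normalizer (((T : Subgroup H) ⊓ CL : Subgroup H) : Set H) := le_inf hTM' hTN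
  refine ⟨M, M' ⊓ Subgroup.normalizer (((T : Subgroup H) ⊓ CL : Subgroup H) : Set H), hM.hTM,
    hfrak, hTLs, inf_le_left.trans inf_le_left, ?_, hres.1.symm, by rw [hYM]; exact hYL, hres.2⟩
  rw [mem_charPSubgroups_iff]
  have hOL : Cfsg.pCoreOf p L ≤ (T : Subgroup H) ⊓ CL :=
    le_inf (pCoreOf_le_sylow T L hTL) (pCoreOf_le_centralizer_largestPReducedOf L)
  have hT₀ : (T : Subgroup H) ⊓ CL ≤ Cfsg.pCoreOf p
      (M' ⊓ Subgroup.normalizer (((T : Subgroup H) ⊓ CL : Subgroup H) : Set H)) :=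
    le_pCoreOf p _ _ (inf_le_left.trans hTLs) inf_le_right (T.2.to_le inf_le_left)
  obtain ⟨hL1, hL2⟩ := (mem_charPSubgroups_iff L).mp hL
  refine ⟨fun h => hL1 (eq_bot_iff.mpr (h ▸ hOL.trans hT₀)), ?_⟩
  exact ((Subgroup.centralizer_le (fun _ hx => (hOL.trans hT₀) hx)).trans hL2).trans
    (hOL.trans hT₀)

theorem nzrHyp_of_parabolicChar (hH : Cfsg.IsOfParabolicCharacteristic p H) (T : Sylow p H) :
    NzrHyp p T := by
  intro Y hYp hY1 hTY
  set N := Subgroup.normalizer (Y : Set H) with hN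
  have h1 := (charP_iff_ambient p N).mp (hH Y hYp hY1 ⟨T, hTY⟩)
  have hYO : Y ≤ Cfsg.pCoreOf p N := le_pCoreOf p N Y Subgroup.le_normalizer le_rfl hYp
  rw [mem_charPSubgroups_iff]
  refine ⟨fun h => hY1 (eq_bot_iff.mpr (h ▸ hYO)), ?_⟩
  intro x hx
  apply h1
  refine ⟨?_, hx⟩
  exact Subgroup.centralizer_le_normalizer _ (Subgroup.centralizer_le (fun _ hy => hYO hy) hx)

theorem nzrHyp_of_large (Q : Subgroup H) (hQp : IsPGroup p ↥Q) (hLg : Cfsg.IsLarge Q)
    (S : Sylow p H) (hQS : Q ≤ (S : Subgroup H)) : NzrHyp p S := by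
  intro Y hYp hY1 hSY
  set N := Subgroup.normalizer (Y : Set H) with hN
  have hYO : Y ≤ Cfsg.pCoreOf p N := le_pCoreOf p N Y Subgroup.le_normalizer le_rfl hYp
  have hO1 : Cfsg.pCoreOf p N ≠ ⊥ := fun h => hY1 (eq_bot_iff.mpr (h ▸ hYO))
  have hCp := large_centralizer_pCoreOf_isPGroup Q hQp hLg N (hQS.trans hSY) hO1
  rw [mem_charPSubgroups_iff]
  refine ⟨hO1, ?_⟩
  apply le_pCoreOf p N _ _ _ hCp
  · intro x hx
    exact Subgroup.centralizer_le_normalizer _ (Subgroup.centralizer_le (fun _ hy => hYO hy) hx)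
  · exact (pCoreOf_normalized p N).trans (nzr_le_nzr_centralizer _)

end
end Cfsg.Agent.Lib.H14
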