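import Cfsg.Agent.Lib.H14.WeaklyClosed2
import Cfsg.Agent.Lib.H14.NzrCent

/-! Large subgroups (`Cfsg.IsLarge`): basic tools. -/

set_option autoImplicit false

namespace Cfsg.Agent.Lib.H14

theorem centralizer_map_cj {H : Type*} [Group H] (K : Subgroup H) (g : H) :
    Subgroup.centralizer ((K.map (cj g) : Subgroup H) : Set H) =
      (Subgroup.centralizer (K : Set H)).map (cj g) :=
  centralizer_map_conj K g

theorem center_ne_bot_of_isPGroup {H : Type*} [Group H] [Finite H] {p : ℕ} [Fact p.Prime]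
    (R : Subgroup H) (hR : IsPGroup p R) (hR1 : R ≠ ⊥) :
    R ⊓ Subgroup.centralizer (R : Set H) ≠ ⊥ := by
  have hnt : Nontrivial ↥R := (Subgroup.nontrivial_iff_ne_bot R).mpr hR1
  have hc := hR.center_nontrivial
  obtain ⟨⟨z, hz⟩, hz1⟩ := exists_ne (1 : Subgroup.center ↥R)
  intro hbot
  apply hz1
  have h1 : (z : H) ∈ R ⊓ Subgroup.centralizer (R : Set H) := by
    refine Subgroup.mem_inf.mpr ⟨z.2, ?_⟩
    rw [Subgroup.mem_centralizer_iff]
    intro r hr
    have h2 := (Subgroup.mem_center_iff.mp hz) ⟨r, hr⟩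
    exact congrArg Subtype.val h2
  rw [hbot, Subgroup.mem_bot] at h1
  apply Subtype.ext
  apply Subtype.ext
  exact h1

/-- a large subgroup satisfies property (C). -/
theorem large_normalizer_le {H : Type*} [Group H] [Finite H] {p : ℕ} [Fact p.Prime]
    (Q : Subgroup H) (hQ1 : Q ≠ ⊥) (hL : Cfsg.IsLarge Q) (R : Subgroup H) (hR : IsPGroup p R)
    (hQR : Q ≤ R) : Subgroup.normalizer (R : Set H) ≤ Subgroup.normalizer (Q : Set H) := by
  have hR1 : R ≠ ⊥ := fun h => hQ1 (le_bot_iff.mp (h ▸ hQR))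
  have h1 := center_ne_bot_of_isPGroup R hR hR1
  have h2 : R ⊓ Subgroup.centralizer (R : Set H) ≤ Subgroup.centralizer (Q : Set H) :=
    inf_le_right.trans (Subgroup.centralizer_le hQR)
  have h3 : Subgroup.normalizer (R : Set H) ≤
      Subgroup.normalizer ((R ⊓ Subgroup.centralizer (R : Set H) : Subgroup H) : Set H) :=
    le_nzr_inf _ _ _ le_rfl (nzr_le_nzr_centralizer R)
  exact h3.trans (hL.2 _ h2 h1)

theorem large_wc {H : Type*} [Group H] [Finite H] {p : ℕ} [Fact p.Prime]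
    (Q : Subgroup H) (hQp : IsPGroup p Q) (hQ1 : Q ≠ ⊥) (hL : Cfsg.IsLarge Q) :
    Cfsg.IsWeaklyClosedSubgroup p Q :=
  wc_of_normalizer_le Q hQp fun R hR hQR => large_normalizer_le Q hQ1 hL R hR hQR

theorem large_map_cj {H : Type*} [Group H] (Q : Subgroup H) (hL : Cfsg.IsLarge Q) (g : H) :
    Cfsg.IsLarge (Q.map (cj g)) := by
  constructor
  · rw [centralizer_map_cj]; exact Subgroup.map_mono hL.1
  · intro U hU hU1
    rw [centralizer_map_cj, ← map_cj_inv_cj U g] at hU
    have hU' : U.map (cj g⁻¹) ≤ Subgroup.centralizer (Q : Set H) := by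
      have h1 := Subgroup.map_mono (f := cj g⁻¹) hU
      rwa [map_cj_cj_inv, map_cj_cj_inv] at h1
    have hU1' : U.map (cj g⁻¹) ≠ ⊥ := by
      intro h
      apply hU1
      rw [← map_cj_inv_cj U g, h, Subgroup.map_bot]
    have h2 := hL.2 _ hU' hU1'
    have h3 := Subgroup.map_mono (f := cj g) h2
    rw [← nzr_map_cj, ← nzr_map_cj, map_cj_inv_cj] at h3
    exact h3

/-- `C(Q) ∩ C(Q^g) = 1` for `g ∉ N(Q)`. -/
theorem large_centralizer_inf {H : Type*} [Group H] [Finite H] {p : ℕ} [Fact p.Prime]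
    (Q : Subgroup H) (hQp : IsPGroup p Q) (hQ1 : Q ≠ ⊥) (hL : Cfsg.IsLarge Q) (g : H)
    (hg : g ∉ Subgroup.normalizer (Q : Set H)) :
    Subgroup.centralizer (Q : Set H) ⊓
      Subgroup.centralizer ((Q.map (cj g) : Subgroup H) : Set H) = ⊥ := by
  by_contra hne
  apply hg
  apply mem_nzr_of_map_cj_eq
  apply wc_comm Q hQp (large_wc Q hQp hQ1 hL)
  have hLg := large_map_cj Q hL g
  have hcU : ∀ A : Subgroup H, Subgroup.centralizer (Q : Set H) ⊓
      Subgroup.centralizer ((Q.map (cj g) : Subgroup H) : Set H) ≤ Subgroup.centralizer (A : Set H) →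
      A ≤ Subgroup.normalizer ((Subgroup.centralizer (Q : Set H) ⊓
        Subgroup.centralizer ((Q.map (cj g) : Subgroup H) : Set H) : Subgroup H) : Set H) := by
    intro A hA
    refine le_trans ?_ (Subgroup.centralizer_le_normalizer _)
    intro a ha
    rw [Subgroup.mem_centralizer_iff]
    intro u hu
    exact ((Subgroup.mem_centralizer_iff.mp (hA hu)) a ha).symm
  have h1 : Q ≤ Subgroup.normalizer ((Q.map (cj g) : Subgroup H) : Set H) :=
    (hcU Q inf_le_left).trans (hLg.2 _ inf_le_right hne)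
  have h2 : Q.map (cj g) ≤ Subgroup.normalizer (Q : Set H) :=
    (hcU _ inf_le_right).trans (hL.2 _ inf_le_left hne)
  exact le_inf (Subgroup.le_normalizer_iff_commutator_le_left.mp h2)
    (Subgroup.le_normalizer_iff_commutator_le_right.mp h1)

end Cfsg.Agent.Lib.H14
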