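import Cfsg.Agent.Lib.H14.BasicProp3
import Cfsg.Agent.Lib.H14.WCProd
import Cfsg.Agent.Lib.H14.Large

set_option autoImplicit false

namespace Cfsg.Agent.Lib.H14
open scoped commutatorElement

universe u

section
variable {H : Type*} [Group H] [Finite H] {p : ℕ} [hp : Fact p.Prime]
set_option linter.unusedSectionVars false

theorem weakClosure_mono (Q : Subgroup H) {A B : Subgroup H} (hAB : A ≤ B) :
    Cfsg.weakClosure Q A ≤ Cfsg.weakClosure Q B := by
  conv_lhs => unfold Cfsg.weakClosure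
  apply iSup_le
  rintro ⟨g, hg⟩
  exact map_cj_le_weakClosure Q B g (hg.trans hAB)

/-- If `C` normalizes the weakly closed `Q ≤ S ≤ X` and `X` normalizes `C`, then the weak closures of
`Q` in `X C` and in `X` agree. -/
theorem weakClosure_sup_eq (Q : Subgroup H) (S : Sylow p H) (hwc : Cfsg.IsWeaklyClosed Q (S : Subgroup H))
    (X C : Subgroup H) (hSX : (S : Subgroup H) ≤ X)
    (hXC : X ≤ Subgroup.normalizer (C : Set H)) (hCQ : C ≤ Subgroup.normalizer (Q : Set H)) :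
    Cfsg.weakClosure Q (X ⊔ C) = Cfsg.weakClosure Q X := by
  apply le_antisymm _ (weakClosure_mono Q le_sup_left)
  conv_lhs => unfold Cfsg.weakClosure
  apply iSup_le
  rintro ⟨g, hg⟩
  have hQp : IsPGroup p ↥Q := S.2.to_le hwc.1
  obtain ⟨y, hy, hyS⟩ := Cfsg.Agent.Lib.H10.exists_mem_map_conj_le_of_sylowIn S.2
    (hSX.trans le_sup_left) (Cfsg.Agent.Lib.H10.not_dvd_relIndex_of_sylow_le S (hSX.trans le_sup_left))
    (hQp.map (MulAut.conj g).toMonoidHom) hg
  -- `Q^{y g} = Q`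
  have h1 : Q.map (cj (y * g)) = Q := by
    apply hwc.2
    rw [map_cj_mul]; exact hyS
  -- `Q^g = Q^{y⁻¹}`
  have h2 : Q.map (cj g) = Q.map (cj y⁻¹) := by
    have : Q.map (cj g) = (Q.map (cj (y * g))).map (cj y⁻¹) := by
      rw [map_cj_mul, map_cj_cj_inv]
    rw [this, h1]
  have hy' : y⁻¹ ∈ ((X ⊔ C : Subgroup H) : Set H) := Subgroup.inv_mem _ hy
  rw [Subgroup.coe_mul_of_left_le_normalizer_right X C hXC] at hy'
  obtain ⟨x, hx, c, hc, e⟩ := Set.mem_mul.mp hy'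
  have h3 : Q.map (cj y⁻¹) = Q.map (cj x) := by
    rw [← e, map_cj_mul, map_cj_eq_of_mem_nzr Q c (hCQ hc)]
  show Q.map (cj g) ≤ Cfsg.weakClosure Q X
  rw [h2, h3]
  apply map_cj_le_weakClosure
  rintro _ ⟨q, hq, rfl⟩
  exact X.mul_mem (X.mul_mem hx (hSX (hwc.1 hq))) (X.inv_mem hx)

/-- **The basic property, with a large subgroup.** -/
theorem basic_property_large (Q : Subgroup H) (hQp : IsPGroup p ↥Q) (hQ1 : Q ≠ ⊥)
    (hLg : Cfsg.IsLarge Q) (S : Sylow p H) (hQS : Q ≤ (S : Subgroup H)) (L : Subgroup H)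
    (hSL : (S : Subgroup H) ≤ L) (hL : L ∈ Cfsg.charPSubgroups p H) :
    ∃ M Ls : Subgroup H, (S : Subgroup H) ≤ M ∧ Cfsg.IsInFrakM p M ∧ (S : Subgroup H) ≤ Ls ∧
      Ls ≤ M ∧ Ls ∈ Cfsg.charPSubgroups p H ∧
      L ⊔ Subgroup.centralizer (Cfsg.largestPReducedOf p L : Set H) =
        Ls ⊔ Subgroup.centralizer (Cfsg.largestPReducedOf p L : Set H) ∧
      Cfsg.weakClosure Q L = Cfsg.weakClosure Q Ls ∧
      Cfsg.weakClosure Q Ls ≤ Cfsg.weakClosure Q M ∧
      Cfsg.largestPReducedOf p L = Cfsg.largestPReducedOf p Ls ∧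
      Cfsg.largestPReducedOf p Ls ≤ Cfsg.largestPReducedOf p M ∧
      (¬ L ≤ Subgroup.normalizer (Q : Set H) →
        ¬ Ls ≤ Subgroup.normalizer (Q : Set H) ∧ ¬ M ≤ Subgroup.normalizer (Q : Set H)) := by
  obtain ⟨M, Ls, hSM, hfrak, hSLs, hLsM, hLs𝓛, hY1, hY2, hfac⟩ :=
    basic_property S (nzrHyp_of_large Q hQp hLg S hQS) L hSL hL
  set YL := Cfsg.largestPReducedOf p L with hYL
  set CL := Subgroup.centralizer (YL : Set H) with hCL
  have hwc : Cfsg.IsWeaklyClosed Q (S : Subgroup H) :=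
    wc_any_sylow Q (large_wc Q hQp hQ1 hLg) S hQS
  -- `C(Y_L)` normalizes `Q`
  have hCQ : CL ≤ Subgroup.normalizer (Q : Set H) := by
    have hoz : oz p (S : Subgroup H) ≤ YL := oz_le_largestPReducedOf S hSL hL
    have hozQ : oz p (S : Subgroup H) ≤ Subgroup.centralizer (Q : Set H) := by
      intro z hz
      rw [Subgroup.mem_centralizer_iff]
      intro q hq
      exact (mem_oz_props p (S : Subgroup H) z hz).2.1 q (hQS hq)
    have hoz1 : oz p (S : Subgroup H) ≠ ⊥ :=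
      oz_ne_bot (S : Subgroup H) S.2 (sylow_ne_bot_of_mem S hSL hL)
    exact ((Subgroup.centralizer_le (fun _ hx => hoz hx)).trans
      (Subgroup.centralizer_le_normalizer _)).trans (hLg.2 _ hozQ hoz1)
  have hLN : L ≤ Subgroup.normalizer (CL : Set H) :=
    (largestPReducedOf_props (p := p) L).1.trans (nzr_le_nzr_centralizer YL)
  have hLsN : Ls ≤ Subgroup.normalizer (CL : Set H) := by
    have h1 : L ⊔ CL ≤ Subgroup.normalizer (CL : Set H) := sup_le hLN Subgroup.le_normalizer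
    exact (le_sup_left.trans (le_of_eq hfac.symm)).trans h1
  have hw1 : Cfsg.weakClosure Q L = Cfsg.weakClosure Q Ls := by
    rw [← weakClosure_sup_eq Q S hwc L CL hSL hLN hCQ, ← weakClosure_sup_eq Q S hwc Ls CL hSLs hLsN hCQ,
      hfac]
  refine ⟨M, Ls, hSM, hfrak, hSLs, hLsM, hLs𝓛, hfac, hw1, weakClosure_mono Q hLsM, hY1,
    hY1 ▸ hY2, ?_⟩
  intro hLQ
  have key : ¬ Ls ≤ Subgroup.normalizer (Q : Set H) := by
    intro hLs
    apply hLQ
    exact (le_sup_left.trans (le_of_eq hfac)).trans (sup_le hLs hCQ)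
  exact ⟨key, fun hM => key (hLsM.trans hM)⟩

end
end Cfsg.Agent.Lib.H14
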