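/-
S5634 (class C2 maximality in SL_n, n ≥ 13) -- common definitions and a small API for
monomial matrices.  Architect: helper14.  Blueprint: tools/blueprints/S5634.md
-/
import Mathlib
import Cfsg.Prelude.Def_GeometricClasses

set_option autoImplicit false
set_option linter.unusedSectionVars false

namespace Cfsg.Agent.Lib.H14.C2

open Matrix

variable {ι : Type} [Fintype ι] [DecidableEq ι] {F : Type*} [Field F]

/-- Every column of `A` has at most one non-zero entry.  (For an invertible matrix: `A` is monomial.) -/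
def IsMono (A : Matrix ι ι F) : Prop := ∀ j i i', A i j ≠ 0 → A i' j ≠ 0 → i = i'

/-- `G` contains every monomial matrix of determinant one. -/
def HasMonP (G : Subgroup (GL ι F)) : Prop :=
  ∀ g : GL ι F, IsMono (g : Matrix ι ι F) → (g : Matrix ι ι F).det = 1 → g ∈ G

/-- `G` contains every monomial matrix. -/
def HasMon (G : Subgroup (GL ι F)) : Prop :=
  ∀ g : GL ι F, IsMono (g : Matrix ι ι F) → g ∈ G

theorem HasMon.hasMonP {G : Subgroup (GL ι F)} (h : HasMon G) : HasMonP G := fun g hg _ => h g hg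

/-- The "no transfer" property: an element of `G` fixes the coordinate line `F e_i` (column `i` is a
multiple of `e_i`) iff it fixes the coordinate hyperplane `x_i = 0` (row `i` is a multiple of `e_iᵀ`). -/
def NT (G : Subgroup (GL ι F)) : Prop :=
  ∀ y ∈ G, ∀ i, (∀ j, j ≠ i → (y : Matrix ι ι F) j i = 0) ↔ (∀ j, j ≠ i → (y : Matrix ι ι F) i j = 0)

open Classical in
/-- The number of non-zero entries of column `l`. -/
noncomputable def colWt (A : Matrix ι ι F) (l : ι) : ℕ := (Finset.univ.filter fun k => A k l ≠ 0).card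

/-- Conclusion of the structure theorem (task A1): for `g ∈ G` the zero pattern of `g⁻¹` is the transpose
of that of `g`, and `g k l * g⁻¹ l k * (weight of column l) = 1` on the support. -/
def STprop (G : Subgroup (GL ι F)) : Prop :=
  ∀ g ∈ G, ∀ k l, (((g : Matrix ι ι F) k l ≠ 0 ↔ ((g⁻¹ : GL ι F) : Matrix ι ι F) l k ≠ 0)) ∧
    ((g : Matrix ι ι F) k l ≠ 0 →
      (g : Matrix ι ι F) k l * ((g⁻¹ : GL ι F) : Matrix ι ι F) l k * (colWt (g : Matrix ι ι F) l : F) = 1)

open Classical in
/-- Conclusion of the key lemma (task A2). -/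
def KLprop (G : Subgroup (GL ι F)) : Prop :=
  ∀ g₁ ∈ G, ∀ g₂ ∈ G, ∀ i k : ι,
    ((Finset.univ.filter fun a => (g₁ : Matrix ι ι F) i a ≠ 0 ∧ (g₂ : Matrix ι ι F) a k ≠ 0).card = 3 ∨
      5 ≤ (Finset.univ.filter fun a => (g₁ : Matrix ι ι F) i a ≠ 0 ∧ (g₂ : Matrix ι ι F) a k ≠ 0).card) →
    (Finset.univ.filter fun a => (g₁ : Matrix ι ι F) i a ≠ 0 ∧ (g₂ : Matrix ι ι F) a k ≠ 0).card
      = Fintype.card ι

/-- The elementary transvection `1 + c E_{ab}` as an element of `GL`. -/
noncomputable def elemGL {a b : ι} (hab : a ≠ b) (c : F) : GL ι F :=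
  SpecialLinearGroup.toGL (SpecialLinearGroup.transvection hab c)

theorem elemGL_val {a b : ι} (hab : a ≠ b) (c : F) :
    ((elemGL hab c : GL ι F) : Matrix ι ι F) = 1 + Matrix.single a b c := rfl

theorem elemGL_mem_sl {a b : ι} (hab : a ≠ b) (c : F) :
    elemGL hab c ∈ Cfsg.Geo.specialLinear ι F := by
  show Matrix.GeneralLinearGroup.det (elemGL hab c) = 1
  apply Units.ext
  show ((elemGL hab c : GL ι F) : Matrix ι ι F).det = 1
  rw [elemGL_val]
  exact Matrix.det_transvection_of_ne a b hab c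

/-- `G` contains a non-trivial elementary transvection. -/
def HasElem (G : Subgroup (GL ι F)) : Prop :=
  ∃ (a b : ι) (hab : a ≠ b) (c : F), c ≠ 0 ∧ elemGL hab c ∈ G

theorem mem_sl_iff (g : GL ι F) :
    g ∈ Cfsg.Geo.specialLinear ι F ↔ (g : Matrix ι ι F).det = 1 := by
  show Matrix.GeneralLinearGroup.det g = 1 ↔ _
  constructor
  · intro h; have := congrArg Units.val h; simpa using this
  · intro h; apply Units.ext; simpa using h

/-! ### Monomial matrices -/

/-- The monomial matrix with entry `c j` in position `(σ j, j)`: it maps `e_j` to `c j • e_(σ j)`. -/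
def monMat (σ : Equiv.Perm ι) (c : ι → F) : Matrix ι ι F := fun i j => if i = σ j then c j else 0

theorem monMat_apply (σ : Equiv.Perm ι) (c : ι → F) (i j : ι) :
    monMat σ c i j = if i = σ j then c j else 0 := rfl

theorem monMat_mulVec (σ : Equiv.Perm ι) (c : ι → F) (v : ι → F) (i : ι) :
    (monMat σ c *ᵥ v) i = c (σ.symm i) * v (σ.symm i) := by
  simp only [mulVec, dotProduct, monMat_apply]
  rw [Finset.sum_eq_single (σ.symm i)]
  · simp
  · intro b _ hb
    rw [if_neg, zero_mul]
    intro h; apply hb; rw [h]; simp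
  · intro h; exact absurd (Finset.mem_univ _) h

theorem vecMul_monMat (σ : Equiv.Perm ι) (c : ι → F) (v : ι → F) (j : ι) :
    (v ᵥ* monMat σ c) j = v (σ j) * c j := by
  simp only [vecMul, dotProduct, monMat_apply]
  rw [Finset.sum_eq_single (σ j)]
  · simp
  · intro b _ hb
    rw [if_neg hb, mul_zero]
  · intro h; exact absurd (Finset.mem_univ _) h

theorem monMat_mul (σ τ : Equiv.Perm ι) (c d : ι → F) :
    monMat σ c * monMat τ d = monMat (σ * τ) (fun j => c (τ j) * d j) := by
  ext i j
  simp only [mul_apply, monMat_apply]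
  rw [Finset.sum_eq_single (τ j)]
  · rw [if_pos rfl, Equiv.Perm.mul_apply]
    split_ifs <;> simp
  · intro b _ hb
    rw [if_neg hb, mul_zero]
  · intro h; exact absurd (Finset.mem_univ _) h

theorem monMat_one : monMat (1 : Equiv.Perm ι) (fun _ => (1 : F)) = 1 := by
  ext i j
  rw [monMat_apply, Matrix.one_apply, Equiv.Perm.one_apply]

theorem monMat_eq (σ : Equiv.Perm ι) (c : ι → F) :
    monMat σ c = (σ⁻¹).permMatrix F * Matrix.diagonal c := by
  ext i j
  rw [Matrix.mul_diagonal, monMat_apply]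
  show _ = (PEquiv.toMatrix (Equiv.toPEquiv σ⁻¹) i j : F) * c j
  rw [PEquiv.toMatrix_apply]
  simp only [Equiv.toPEquiv_apply, Option.mem_def, Option.some.injEq]
  by_cases h : i = σ j
  · subst h; simp
  · rw [if_neg h, if_neg, zero_mul]
    intro h'; apply h; rw [← h']; simp

theorem det_monMat (σ : Equiv.Perm ι) (c : ι → F) :
    (monMat σ c).det = (Equiv.Perm.sign σ : ℤ) * ∏ j, c j := by
  rw [monMat_eq, Matrix.det_mul, Matrix.det_permutation, Matrix.det_diagonal, Equiv.Perm.sign_inv]

theorem isMono_monMat (σ : Equiv.Perm ι) (c : ι → F) : IsMono (monMat σ c) := by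
  intro j i i' h h'
  rw [monMat_apply] at h h'
  have h1 : i = σ j := by by_contra hh; rw [if_neg hh] at h; exact h rfl
  have h2 : i' = σ j := by by_contra hh; rw [if_neg hh] at h'; exact h' rfl
  rw [h1, h2]

/-- The monomial matrix `monMat σ c` with unit entries, as an element of `GL`. -/
noncomputable def monGL (σ : Equiv.Perm ι) (c : ι → Fˣ) : GL ι F :=
  Matrix.GeneralLinearGroup.mkOfDetNeZero (monMat σ fun j => (c j : F)) (by
    rw [det_monMat]
    apply mul_ne_zero
    · rcases Int.units_eq_one_or (Equiv.Perm.sign σ) with h | h <;> simp [h]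
    · exact Finset.prod_ne_zero_iff.mpr fun j _ => (c j).ne_zero)

theorem monGL_val (σ : Equiv.Perm ι) (c : ι → Fˣ) :
    ((monGL σ c : GL ι F) : Matrix ι ι F) = monMat σ fun j => (c j : F) := rfl

theorem monGL_apply (σ : Equiv.Perm ι) (c : ι → Fˣ) (i j : ι) :
    ((monGL σ c : GL ι F) : Matrix ι ι F) i j = if i = σ j then (c j : F) else 0 := rfl

theorem monGL_mul (σ τ : Equiv.Perm ι) (c d : ι → Fˣ) :
    monGL σ c * monGL τ d = monGL (σ * τ) (fun j => c (τ j) * d j) := by
  apply Units.ext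
  rw [Units.val_mul, monGL_val, monGL_val, monGL_val, monMat_mul]
  congr 1

theorem monGL_inv (σ : Equiv.Perm ι) (c : ι → Fˣ) :
    (monGL σ c)⁻¹ = monGL σ⁻¹ (fun j => (c (σ⁻¹ j))⁻¹) := by
  rw [inv_eq_iff_mul_eq_one, monGL_mul]
  apply Units.ext
  rw [monGL_val, Units.val_one]
  have : (σ * σ⁻¹) = 1 := mul_inv_cancel σ
  rw [this]
  convert monMat_one (ι := ι) (F := F) using 2
  funext j
  simp

theorem det_monGL (σ : Equiv.Perm ι) (c : ι → Fˣ) :
    ((monGL σ c : GL ι F) : Matrix ι ι F).det = (Equiv.Perm.sign σ : ℤ) * ∏ j, (c j : F) := by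
  rw [monGL_val, det_monMat]

theorem isMono_monGL (σ : Equiv.Perm ι) (c : ι → Fˣ) :
    IsMono ((monGL σ c : GL ι F) : Matrix ι ι F) := isMono_monMat σ _

theorem monGL_mem_of_hasMon {G : Subgroup (GL ι F)} (hG : HasMon G) (σ : Equiv.Perm ι) (c : ι → Fˣ) :
    monGL σ c ∈ G := hG _ (isMono_monGL σ c)

theorem monGL_mem_of_hasMonP {G : Subgroup (GL ι F)} (hG : HasMonP G) (σ : Equiv.Perm ι) (c : ι → Fˣ)
    (hdet : ((Equiv.Perm.sign σ : ℤ) : F) * ∏ j, (c j : F) = 1) : monGL σ c ∈ G :=
  hG _ (isMono_monGL σ c) (by rw [det_monGL]; exact hdet)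

theorem monGL_mulVec (σ : Equiv.Perm ι) (c : ι → Fˣ) (v : ι → F) (i : ι) :
    (((monGL σ c : GL ι F) : Matrix ι ι F) *ᵥ v) i = (c (σ.symm i) : F) * v (σ.symm i) := by
  rw [monGL_val, monMat_mulVec]

/-- every invertible matrix with `IsMono` is of the form `monGL σ c` -/
theorem exists_eq_monGL (g : GL ι F) (hg : IsMono (g : Matrix ι ι F)) :
    ∃ (σ : Equiv.Perm ι) (c : ι → Fˣ), g = monGL σ c := by
  classical
  -- each column has a non-zero entry
  have hcol : ∀ j, ∃ i, (g : Matrix ι ι F) i j ≠ 0 := by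
    intro j
    by_contra hcon
    push Not at hcon
    have hdet : (g : Matrix ι ι F).det = 0 := by
      apply Matrix.det_eq_zero_of_column_eq_zero j
      exact hcon
    have : IsUnit (g : Matrix ι ι F).det := by
      rw [← Matrix.isUnit_iff_isUnit_det]; exact g.isUnit
    rw [hdet] at this
    exact not_isUnit_zero this
  choose s hs using hcol
  have huniq : ∀ i j, (g : Matrix ι ι F) i j ≠ 0 → i = s j := fun i j h => hg j i (s j) h (hs j)
  -- `s` is injective: use the inverse matrix
  have hinj : Function.Injective s := by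
    intro j j' hjj
    by_contra hne
    have hinv : ((g⁻¹ : GL ι F) : Matrix ι ι F) * (g : Matrix ι ι F) = 1 := by
      rw [← Units.val_mul, inv_mul_cancel, Units.val_one]
    have h1 := congrFun (congrFun hinv j) j
    have h2 := congrFun (congrFun hinv j) j'
    rw [Matrix.mul_apply, Matrix.one_apply_eq] at h1
    rw [Matrix.mul_apply, Matrix.one_apply_ne hne] at h2
    rw [Finset.sum_eq_single (s j)] at h1
    · rw [Finset.sum_eq_single (s j)] at h2
      · rcases mul_eq_zero.mp h2 with h3 | h3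
        · rw [h3, zero_mul] at h1; exact zero_ne_one h1
        · rw [hjj] at h3; exact hs j' h3
      · intro b _ hb
        have : (g : Matrix ι ι F) b j' = 0 := by
          by_contra h; exact hb ((huniq b j' h).trans hjj.symm)
        rw [this, mul_zero]
      · intro h; exact absurd (Finset.mem_univ _) h
    · intro b _ hb
      have : (g : Matrix ι ι F) b j = 0 := by
        by_contra h; exact hb (huniq b j h)
      rw [this, mul_zero]
    · intro h; exact absurd (Finset.mem_univ _) h
  let σ : Equiv.Perm ι := Equiv.ofBijective s (Finite.injective_iff_bijective.mp hinj)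
  refine ⟨σ, fun j => Units.mk0 ((g : Matrix ι ι F) (s j) j) (hs j), ?_⟩
  apply Units.ext
  ext i j
  rw [monGL_apply]
  by_cases h : i = σ j
  · rw [if_pos h, h]; rfl
  · rw [if_neg h]
    by_contra hne
    exact h (huniq i j hne)

/-! ### The transpose-inverse automorphism -/

/-- The automorphism `g ↦ (g⁻¹)ᵀ` of `GL`. -/
def dualEquiv : GL ι F ≃* GL ι F where
  toFun g := ⟨((g⁻¹ : GL ι F) : Matrix ι ι F)ᵀ, (g : Matrix ι ι F)ᵀ,
    by rw [← Matrix.transpose_mul, ← Units.val_mul, mul_inv_cancel, Units.val_one, Matrix.transpose_one],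
    by rw [← Matrix.transpose_mul, ← Units.val_mul, inv_mul_cancel, Units.val_one, Matrix.transpose_one]⟩
  invFun g := ⟨((g⁻¹ : GL ι F) : Matrix ι ι F)ᵀ, (g : Matrix ι ι F)ᵀ,
    by rw [← Matrix.transpose_mul, ← Units.val_mul, mul_inv_cancel, Units.val_one, Matrix.transpose_one],
    by rw [← Matrix.transpose_mul, ← Units.val_mul, inv_mul_cancel, Units.val_one, Matrix.transpose_one]⟩
  left_inv g := by
    apply Units.ext
    show ((_ : GL ι F)⁻¹.val)ᵀ = g.val
    rw [Units.inv_mk]
    simp
  right_inv g := by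
    apply Units.ext
    show ((_ : GL ι F)⁻¹.val)ᵀ = g.val
    rw [Units.inv_mk]
    simp
  map_mul' g h := by
    apply Units.ext
    show (((g * h)⁻¹ : GL ι F) : Matrix ι ι F)ᵀ = ((g⁻¹ : GL ι F) : Matrix ι ι F)ᵀ * ((h⁻¹ : GL ι F) : Matrix ι ι F)ᵀ
    rw [_root_.mul_inv_rev, Units.val_mul, Matrix.transpose_mul]

theorem dualEquiv_val (g : GL ι F) :
    ((dualEquiv g : GL ι F) : Matrix ι ι F) = ((g⁻¹ : GL ι F) : Matrix ι ι F)ᵀ := rfl

theorem dualEquiv_inv_val (g : GL ι F) :
    (((dualEquiv g)⁻¹ : GL ι F) : Matrix ι ι F) = (g : Matrix ι ι F)ᵀ := rfl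

theorem dualEquiv_dualEquiv (g : GL ι F) : dualEquiv (dualEquiv g) = g := by
  apply Units.ext
  rw [dualEquiv_val, dualEquiv_inv_val, Matrix.transpose_transpose]

theorem det_dualEquiv (g : GL ι F) :
    ((dualEquiv g : GL ι F) : Matrix ι ι F).det = ((g : Matrix ι ι F).det)⁻¹ := by
  rw [dualEquiv_val, Matrix.det_transpose]
  have h : ((g⁻¹ : GL ι F) : Matrix ι ι F).det * (g : Matrix ι ι F).det = 1 := by
    rw [← Matrix.det_mul, ← Units.val_mul, inv_mul_cancel, Units.val_one, Matrix.det_one]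
  exact eq_inv_of_mul_eq_one_left h

theorem isMono_dualEquiv {g : GL ι F} (hg : IsMono (g : Matrix ι ι F)) :
    IsMono ((dualEquiv g : GL ι F) : Matrix ι ι F) := by
  obtain ⟨σ, c, rfl⟩ := exists_eq_monGL g hg
  rw [dualEquiv_val, monGL_inv]
  intro j i i' h h'
  rw [Matrix.transpose_apply, monGL_apply] at h h'
  have h1 : j = σ⁻¹ i := by by_contra hh; rw [if_neg hh] at h; exact h rfl
  have h2 : j = σ⁻¹ i' := by by_contra hh; rw [if_neg hh] at h'; exact h' rfl
  exact (σ⁻¹).injective (h1.symm.trans h2)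

theorem hasMonP_map_dual {G : Subgroup (GL ι F)} (h : HasMonP G) :
    HasMonP (G.map (dualEquiv : GL ι F ≃* GL ι F).toMonoidHom) := by
  intro g hg hdet
  refine ⟨dualEquiv g, h _ (isMono_dualEquiv hg) ?_, dualEquiv_dualEquiv g⟩
  rw [det_dualEquiv, hdet, inv_one]

theorem hasMon_map_dual {G : Subgroup (GL ι F)} (h : HasMon G) :
    HasMon (G.map (dualEquiv : GL ι F ≃* GL ι F).toMonoidHom) := by
  intro g hg
  exact ⟨dualEquiv g, h _ (isMono_dualEquiv hg), dualEquiv_dualEquiv g⟩

theorem map_dual_le_sl {G : Subgroup (GL ι F)} (h : G ≤ Cfsg.Geo.specialLinear ι F) :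
    G.map (dualEquiv : GL ι F ≃* GL ι F).toMonoidHom ≤ Cfsg.Geo.specialLinear ι F := by
  rintro _ ⟨g, hg, rfl⟩
  rw [mem_sl_iff]
  show ((dualEquiv g : GL ι F) : Matrix ι ι F).det = 1
  rw [det_dualEquiv, (mem_sl_iff g).mp (h hg), inv_one]

theorem dualEquiv_elemGL {a b : ι} (hab : a ≠ b) (c : F) :
    dualEquiv (elemGL hab c) = elemGL hab.symm (-c) := by
  apply Units.ext
  rw [dualEquiv_val, elemGL_val]
  have hinv : (elemGL hab c)⁻¹ = elemGL hab (-c) := by
    rw [inv_eq_iff_mul_eq_one]
    apply Units.ext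
    rw [Units.val_mul, elemGL_val, elemGL_val, Units.val_one]
    have := Matrix.transvection_mul_transvection_same (R := F) a b hab c (-c)
    simp only [Matrix.transvection] at this
    rw [this]
    simp
  rw [hinv, elemGL_val, Matrix.transpose_add, Matrix.transpose_one, Matrix.transpose_single]

theorem hasElem_of_map_dual {G : Subgroup (GL ι F)}
    (h : HasElem (G.map (dualEquiv : GL ι F ≃* GL ι F).toMonoidHom)) : HasElem G := by
  obtain ⟨a, b, hab, c, hc, g, hg, hge⟩ := h
  refine ⟨b, a, hab.symm, -c, neg_ne_zero.mpr hc, ?_⟩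
  have : g = dualEquiv (elemGL hab c) := by
    have h1 : dualEquiv g = elemGL hab c := hge
    rw [← h1, dualEquiv_dualEquiv]
  rw [this, dualEquiv_elemGL] at hg
  exact hg

/-- `NT` only depends on the two directions; for the dual group they are swapped. -/
theorem nt_map_dual {G : Subgroup (GL ι F)} (h : NT G) :
    NT (G.map (dualEquiv : GL ι F ≃* GL ι F).toMonoidHom) := by
  rintro _ ⟨g, hg, rfl⟩ i
  have h' := h g⁻¹ (G.inv_mem hg) i
  show (∀ j, j ≠ i → ((dualEquiv g : GL ι F) : Matrix ι ι F) j i = 0) ↔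
    (∀ j, j ≠ i → ((dualEquiv g : GL ι F) : Matrix ι ι F) i j = 0)
  simp only [dualEquiv_val, Matrix.transpose_apply]
  exact h'.symm

/-! ### The standard block decomposition -/

/-- The standard decomposition of `F^(Fin t × Fin m)` into `t` coordinate blocks of dimension `m`. -/
def stdD (t m : ℕ) (i : Fin t) : Submodule F (Fin t × Fin m → F) where
  carrier := {v | ∀ p : Fin t × Fin m, p.1 ≠ i → v p = 0}
  add_mem' := by
    intro a b ha hb p hp
    change ∀ p : Fin t × Fin m, p.1 ≠ i → a p = 0 at ha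
    change ∀ p : Fin t × Fin m, p.1 ≠ i → b p = 0 at hb
    rw [Pi.add_apply, ha p hp, hb p hp, add_zero]
  zero_mem' := by intro p _; rfl
  smul_mem' := by
    intro c a ha p hp
    change ∀ p : Fin t × Fin m, p.1 ≠ i → a p = 0 at ha
    rw [Pi.smul_apply, ha p hp, smul_zero]

theorem mem_stdD {t m : ℕ} (i : Fin t) (v : Fin t × Fin m → F) :
    v ∈ stdD (F := F) t m i ↔ ∀ p : Fin t × Fin m, p.1 ≠ i → v p = 0 := Iff.rfl

/-- The stabiliser of the standard block decomposition. -/
def blockStab (t m : ℕ) (F : Type*) [Field F] : Subgroup (GL (Fin t × Fin m) F) :=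
  Cfsg.Geo.decompositionStabilizer (stdD (F := F) t m)

/-- maximality is transported by group isomorphisms -/
theorem isMaximalIn_map_equiv {G G' : Type*} [Group G] [Group G'] (e : G ≃* G') {K H : Subgroup G}
    (h : Cfsg.Geo.IsMaximalIn K H) :
    Cfsg.Geo.IsMaximalIn (K.map e.toMonoidHom) (H.map e.toMonoidHom) := by
  obtain ⟨hlt, hmax⟩ := h
  have hinj : Function.Injective e.toMonoidHom := e.injective
  have hsurj : Function.Surjective e.toMonoidHom := e.surjective
  refine ⟨(Subgroup.map_lt_map_iff_of_injective hinj).2 hlt, fun M hHM hMK => ?_⟩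
  have h1 : H ≤ M.comap e.toMonoidHom := (Subgroup.map_le_iff_le_comap).1 hHM
  have h2 : M.comap e.toMonoidHom ≤ K := by
    intro x hx
    have := hMK hx
    obtain ⟨y, hy, hyx⟩ := this
    have : y = x := hinj hyx
    rw [← this]; exact hy
  have hM : (M.comap e.toMonoidHom).map e.toMonoidHom = M :=
    Subgroup.map_comap_eq_self_of_surjective hsurj M
  rcases hmax _ h1 h2 with h3 | h3
  · left; rw [← hM, h3]
  · right; rw [← hM, h3]


end Cfsg.Agent.Lib.H14.C2
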