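/-
S5634: the predicate `RootIn` used by tasks B1 and B2 (same body as in tools/blueprints/S5634_sigs.lean).
-/
import Cfsg.Agent.Lib.H14.C2Defs

set_option autoImplicit false

namespace Cfsg.Agent.Lib.H14.C2

open Matrix

variable {ι : Type} [Fintype ι] [DecidableEq ι] {F : Type*} [Field F]

/-- `M` contains the full root subgroup `{1 + w (cψ)ᵀ}`. -/
def RootIn (M : Subgroup (GL ι F)) (w ψ : ι → F) : Prop :=
  ∀ c : F, ∃ x ∈ M, (x : Matrix ι ι F) = 1 + Matrix.vecMulVec w (c • ψ)

end Cfsg.Agent.Lib.H14.C2
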