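/-
S5634, task Z: transport of a decomposition into `t` subspaces of dimension `m` to the standard
block decomposition.
-/
import Cfsg.Agent.Lib.H14.C2Defs

set_option autoImplicit false
set_option linter.unusedSectionVars false

namespace Cfsg.Agent.Lib.H14.C2

open Matrix

variable {F : Type*} [Field F]

section Conj

variable {κ ι : Type} [Fintype κ] [DecidableEq κ] [Fintype ι] [DecidableEq ι]

/-- Conjugation by an invertible matrix with different row and column index types. -/
def conjEquiv (P : Matrix ι κ F) (Q : Matrix κ ι F) (hPQ : P * Q = 1) (hQP : Q * P = 1) :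
    GL κ F ≃* GL ι F where
  toFun g := ⟨P * (g : Matrix κ κ F) * Q, P * ((g⁻¹ : GL κ F) : Matrix κ κ F) * Q,
    by
      calc P * (g : Matrix κ κ F) * Q * (P * ((g⁻¹ : GL κ F) : Matrix κ κ F) * Q)
          = P * ((g : Matrix κ κ F) * (Q * P) * ((g⁻¹ : GL κ F) : Matrix κ κ F)) * Q := by
            simp only [Matrix.mul_assoc]
        _ = 1 := by
            rw [hQP, Matrix.mul_one, ← Units.val_mul, mul_inv_cancel, Units.val_one, Matrix.mul_one, hPQ],
    by
      calc P * ((g⁻¹ : GL κ F) : Matrix κ κ F) * Q * (P * (g : Matrix κ κ F) * Q)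
          = P * (((g⁻¹ : GL κ F) : Matrix κ κ F) * (Q * P) * (g : Matrix κ κ F)) * Q := by
            simp only [Matrix.mul_assoc]
        _ = 1 := by
            rw [hQP, Matrix.mul_one, ← Units.val_mul, inv_mul_cancel, Units.val_one, Matrix.mul_one, hPQ]⟩
  invFun g := ⟨Q * (g : Matrix ι ι F) * P, Q * ((g⁻¹ : GL ι F) : Matrix ι ι F) * P,
    by
      calc Q * (g : Matrix ι ι F) * P * (Q * ((g⁻¹ : GL ι F) : Matrix ι ι F) * P)
          = Q * ((g : Matrix ι ι F) * (P * Q) * ((g⁻¹ : GL ι F) : Matrix ι ι F)) * P := by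
            simp only [Matrix.mul_assoc]
        _ = 1 := by
            rw [hPQ, Matrix.mul_one, ← Units.val_mul, mul_inv_cancel, Units.val_one, Matrix.mul_one, hQP],
    by
      calc Q * ((g⁻¹ : GL ι F) : Matrix ι ι F) * P * (Q * (g : Matrix ι ι F) * P)
          = Q * (((g⁻¹ : GL ι F) : Matrix ι ι F) * (P * Q) * (g : Matrix ι ι F)) * P := by
            simp only [Matrix.mul_assoc]
        _ = 1 := by
            rw [hPQ, Matrix.mul_one, ← Units.val_mul, inv_mul_cancel, Units.val_one, Matrix.mul_one, hQP]⟩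
  left_inv g := by
    apply Units.ext
    show Q * (P * (g : Matrix κ κ F) * Q) * P = g
    calc Q * (P * (g : Matrix κ κ F) * Q) * P = (Q * P) * (g : Matrix κ κ F) * (Q * P) := by
          simp only [Matrix.mul_assoc]
      _ = g := by rw [hQP, Matrix.one_mul, Matrix.mul_one]
  right_inv g := by
    apply Units.ext
    show P * (Q * (g : Matrix ι ι F) * P) * Q = g
    calc P * (Q * (g : Matrix ι ι F) * P) * Q = (P * Q) * (g : Matrix ι ι F) * (P * Q) := by
          simp only [Matrix.mul_assoc]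
      _ = g := by rw [hPQ, Matrix.one_mul, Matrix.mul_one]
  map_mul' g h := by
    apply Units.ext
    show P * ((g * h : GL κ F) : Matrix κ κ F) * Q = P * (g : Matrix κ κ F) * Q * (P * (h : Matrix κ κ F) * Q)
    calc P * ((g * h : GL κ F) : Matrix κ κ F) * Q
        = P * ((g : Matrix κ κ F) * (Q * P) * (h : Matrix κ κ F)) * Q := by
          rw [hQP, Matrix.mul_one, Units.val_mul]
      _ = P * (g : Matrix κ κ F) * Q * (P * (h : Matrix κ κ F) * Q) := by
          simp only [Matrix.mul_assoc]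

theorem conjEquiv_val (P : Matrix ι κ F) (Q : Matrix κ ι F) (hPQ : P * Q = 1) (hQP : Q * P = 1)
    (g : GL κ F) :
    ((conjEquiv P Q hPQ hQP g : GL ι F) : Matrix ι ι F) = P * (g : Matrix κ κ F) * Q := rfl

theorem conjEquiv_symm_val (P : Matrix ι κ F) (Q : Matrix κ ι F) (hPQ : P * Q = 1) (hQP : Q * P = 1)
    (g : GL ι F) :
    (((conjEquiv P Q hPQ hQP).symm g : GL κ F) : Matrix κ κ F) = Q * (g : Matrix ι ι F) * P := rfl

theorem det_conjEquiv (P : Matrix ι κ F) (Q : Matrix κ ι F) (hPQ : P * Q = 1) (hQP : Q * P = 1)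
    (g : GL κ F) :
    ((conjEquiv P Q hPQ hQP g : GL ι F) : Matrix ι ι F).det = (g : Matrix κ κ F).det := by
  rw [conjEquiv_val]
  exact Matrix.det_conj_of_mul_eq_one hPQ hQP

theorem map_sl_conjEquiv (P : Matrix ι κ F) (Q : Matrix κ ι F) (hPQ : P * Q = 1) (hQP : Q * P = 1) :
    (Cfsg.Geo.specialLinear κ F).map (conjEquiv P Q hPQ hQP).toMonoidHom =
      Cfsg.Geo.specialLinear ι F := by
  ext g
  constructor
  · rintro ⟨x, hx, rfl⟩
    rw [mem_sl_iff]
    show ((conjEquiv P Q hPQ hQP x : GL ι F) : Matrix ι ι F).det = 1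
    rw [det_conjEquiv]
    exact (mem_sl_iff x).mp hx
  · intro hg
    refine ⟨(conjEquiv P Q hPQ hQP).symm g, ?_, (conjEquiv P Q hPQ hQP).apply_symm_apply g⟩
    rw [SetLike.mem_coe, mem_sl_iff, ← det_conjEquiv P Q hPQ hQP, MulEquiv.apply_symm_apply]
    exact (mem_sl_iff g).mp hg

end Conj

section Main

variable {n t m : ℕ}

/-- Z. -/
theorem exists_equiv_of_decomp (D : Fin t → Submodule F (Fin n → F))
    (hD : Cfsg.Geo.IsMDecomposition m D) :
    t * m = n ∧ ∃ e : GL (Fin t × Fin m) F ≃* GL (Fin n) F,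
      (Cfsg.Geo.specialLinear (Fin t × Fin m) F).map e.toMonoidHom = Cfsg.Geo.specialLinear (Fin n) F ∧
      (blockStab t m F).map e.toMonoidHom = Cfsg.Geo.decompositionStabilizer D := by
  classical
  have hint : DirectSum.IsInternal D :=
    DirectSum.isInternal_submodule_of_iSupIndep_of_iSup_eq_top hD.indep hD.iSup_eq_top
  let v : ∀ i, Module.Basis (Fin m) F (D i) := fun i => Module.finBasisOfFinrankEq F (D i) (hD.finrank_eq i)
  let b0 : Module.Basis (Σ _ : Fin t, Fin m) F (Fin n → F) := hint.collectedBasis v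
  let b : Module.Basis (Fin t × Fin m) F (Fin n → F) := b0.reindex (Equiv.sigmaEquivProd (Fin t) (Fin m))
  have hb_mem : ∀ p : Fin t × Fin m, b p ∈ D p.1 := by
    intro p
    show (b0.reindex _) p ∈ D p.1
    rw [Module.Basis.reindex_apply]
    exact hint.collectedBasis_mem v ((Equiv.sigmaEquivProd (Fin t) (Fin m)).symm p)
  have hrepr0 : ∀ (i : Fin t) (x : Fin n → F), x ∈ D i → ∀ p : Fin t × Fin m, p.1 ≠ i → b.repr x p = 0 := by
    intro i x hx p hp
    show (b0.reindex _).repr x p = 0
    rw [Module.Basis.repr_reindex_apply]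
    exact hint.collectedBasis_repr_of_mem_ne v (Ne.symm hp) hx
  -- cardinalities
  have hcard : t * m = n := by
    have h1 := Module.finrank_eq_card_basis b
    rw [Module.finrank_pi, Fintype.card_fin, Fintype.card_prod, Fintype.card_fin, Fintype.card_fin] at h1
    exact h1.symm
  refine ⟨hcard, ?_⟩
  -- the linear equivalence and its matrices
  let L : (Fin t × Fin m → F) ≃ₗ[F] (Fin n → F) := b.equivFun.symm
  let P : Matrix (Fin n) (Fin t × Fin m) F := LinearMap.toMatrix' (L : (Fin t × Fin m → F) →ₗ[F] (Fin n → F))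
  let Q : Matrix (Fin t × Fin m) (Fin n) F := LinearMap.toMatrix' (L.symm : (Fin n → F) →ₗ[F] (Fin t × Fin m → F))
  have hPQ : P * Q = 1 := by
    show LinearMap.toMatrix' _ * LinearMap.toMatrix' _ = 1
    rw [← LinearMap.toMatrix'_comp]
    have : (L : (Fin t × Fin m → F) →ₗ[F] (Fin n → F)).comp (L.symm : (Fin n → F) →ₗ[F] (Fin t × Fin m → F))
        = LinearMap.id := by
      ext x : 1; simp
    rw [this, LinearMap.toMatrix'_id]
  have hQP : Q * P = 1 := by
    show LinearMap.toMatrix' _ * LinearMap.toMatrix' _ = 1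
    rw [← LinearMap.toMatrix'_comp]
    have : (L.symm : (Fin n → F) →ₗ[F] (Fin t × Fin m → F)).comp (L : (Fin t × Fin m → F) →ₗ[F] (Fin n → F))
        = LinearMap.id := by
      ext x : 1; simp
    rw [this, LinearMap.toMatrix'_id]
  have hP : ∀ x, P *ᵥ x = L x := by
    intro x
    show (LinearMap.toMatrix' _) *ᵥ x = _
    rw [LinearMap.toMatrix'_mulVec]; rfl
  have hQ : ∀ x, Q *ᵥ x = L.symm x := by
    intro x
    show (LinearMap.toMatrix' _) *ᵥ x = _
    rw [LinearMap.toMatrix'_mulVec]; rfl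
  -- L maps the standard blocks onto the D i
  have hLx : ∀ x : Fin t × Fin m → F, L x = ∑ p, x p • b p := by
    intro x
    show b.equivFun.symm x = _
    rw [Module.Basis.equivFun_symm_apply]
  have hLsymm : ∀ (x : Fin n → F) (p : Fin t × Fin m), L.symm x p = b.repr x p := by
    intro x p
    show b.equivFun x p = _
    rw [Module.Basis.equivFun_apply]
  have hmapD : ∀ i, (stdD (F := F) t m i).map (L : (Fin t × Fin m → F) →ₗ[F] (Fin n → F)) = D i := by
    intro i
    apply le_antisymm
    · rintro _ ⟨x, hx, rfl⟩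
      show L x ∈ D i
      rw [hLx]
      refine Submodule.sum_mem _ fun p _ => ?_
      by_cases hp : p.1 = i
      · exact Submodule.smul_mem _ _ (hp ▸ hb_mem p)
      · rw [(mem_stdD i x).mp hx p hp, zero_smul]; exact Submodule.zero_mem _
    · intro x hx
      refine ⟨L.symm x, ?_, by simp⟩
      rw [SetLike.mem_coe, mem_stdD]
      intro p hp
      rw [hLsymm]
      exact hrepr0 i x hx p hp
  let e : GL (Fin t × Fin m) F ≃* GL (Fin n) F := conjEquiv P Q hPQ hQP
  have he_lin : ∀ g : GL (Fin t × Fin m) F,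
      Matrix.toLin' ((e g : GL (Fin n) F) : Matrix (Fin n) (Fin n) F) =
        (L : (Fin t × Fin m → F) →ₗ[F] (Fin n → F)).comp
          ((Matrix.toLin' (g : Matrix (Fin t × Fin m) (Fin t × Fin m) F)).comp
            (L.symm : (Fin n → F) →ₗ[F] (Fin t × Fin m → F))) := by
    intro g
    apply LinearMap.ext
    intro x
    show (P * (g : Matrix (Fin t × Fin m) (Fin t × Fin m) F) * Q) *ᵥ x = _
    rw [← Matrix.mulVec_mulVec, ← Matrix.mulVec_mulVec, hQ, hP]
    rfl
  have hmap_e : ∀ (g : GL (Fin t × Fin m) F) (i : Fin t),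
      (D i).map (Matrix.toLin' ((e g : GL (Fin n) F) : Matrix (Fin n) (Fin n) F)) =
        ((stdD (F := F) t m i).map (Matrix.toLin' (g : Matrix (Fin t × Fin m) (Fin t × Fin m) F))).map
          (L : (Fin t × Fin m → F) →ₗ[F] (Fin n → F)) := by
    intro g i
    rw [he_lin, ← hmapD i, ← Submodule.map_comp, ← Submodule.map_comp]
    congr 1
    apply LinearMap.ext
    intro x
    simp
  have hLinj : Function.Injective (Submodule.map (L : (Fin t × Fin m → F) →ₗ[F] (Fin n → F))) :=
    Submodule.map_injective_of_injective L.injective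
  refine ⟨e, map_sl_conjEquiv P Q hPQ hQP, ?_⟩
  ext g
  constructor
  · rintro ⟨x, ⟨σ, hσ⟩, rfl⟩
    refine ⟨σ, fun i => ?_⟩
    show (D i).map (Matrix.toLin' ((e x : GL (Fin n) F) : Matrix (Fin n) (Fin n) F)) = D (σ i)
    rw [hmap_e, hσ i, hmapD]
  · rintro ⟨σ, hσ⟩
    refine ⟨e.symm g, ⟨σ, fun i => ?_⟩, e.apply_symm_apply g⟩
    apply hLinj
    rw [← hmap_e, MulEquiv.apply_symm_apply, hσ i, hmapD]

end Main

end Cfsg.Agent.Lib.H14.C2
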