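/-
S5634: final assembly of the farm-out (architect helper14).  Pieces:
A1 helper2, A2 helper27, A3 helper22, A4 helper5, A5 helper8, E1 E2 E4 helper18, E3 helper28,
B0 B4 helper22, B1 helper6, B2 helper16, B3 helper5, Z helper14.
-/
import Cfsg.Agent.Lib.H14.C2Defs
import Cfsg.Agent.Lib.H14.C2Root
import Cfsg.Agent.Lib.H14.C2Z
import Cfsg.Agent.Lib.H2.C2A1
import Cfsg.Agent.Lib.H27.C2A2
import Cfsg.Agent.Lib.H22.C2A3
import Cfsg.Agent.Lib.H5.C2A4
import Cfsg.Agent.Lib.H8.C2A5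
import Cfsg.Agent.Lib.H18.C2E1
import Cfsg.Agent.Lib.H18.C2E2
import Cfsg.Agent.Lib.H18.C2E4
import Cfsg.Agent.Lib.H28.C2E3
import Cfsg.Agent.Lib.H22.C2B0
import Cfsg.Agent.Lib.H6.C2B1
import Cfsg.Agent.Lib.H16.C2B2
import Cfsg.Agent.Lib.H5.C2B3

set_option autoImplicit false

namespace Cfsg.Agent.Lib.H14.C2.Main

open Matrix Cfsg.Agent.Lib.H14.C2

variable {ι : Type} [Fintype ι] [DecidableEq ι] {F : Type*} [Field F] [Fintype F]

/-! ## Assembly (helper14) -/

/-- Theorem A. -/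
theorem isMono_of_nt (hq : 5 ≤ Fintype.card F) (hn : 6 ≤ Fintype.card ι) (G : Subgroup (GL ι F))
    (hG : HasMonP G) (hNT : NT G) : ∀ g ∈ G, IsMono (g : Matrix ι ι F) := by
  have hST := Cfsg.Agent.Lib.H2.C2.stprop_of_nt (by omega) hn G hG hNT
  have hKL := Cfsg.Agent.Lib.H27.C2.klprop_of_st hq G hG hST
  have hW := Cfsg.Agent.Lib.H22.C2.colWt_cases hn G hG hST hKL
  have hW2 := Cfsg.Agent.Lib.H5.C2.colWt_ne_two (by omega) hn G hG hW
  refine Cfsg.Agent.Lib.H8.C2.isMono_of_colWt (by omega) hn G hG hST ?_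
  intro g hg l
  rcases hW g hg l with h | h | h
  · exact Or.inl h
  · exact absurd h (hW2 g hg l)
  · exact Or.inr h

omit [Fintype F] in
theorem isMono_col_row {g : GL ι F} (hg : IsMono (g : Matrix ι ι F)) (i : ι) :
    (∀ j, j ≠ i → (g : Matrix ι ι F) j i = 0) ↔ (∀ j, j ≠ i → (g : Matrix ι ι F) i j = 0) := by
  obtain ⟨σ, c, rfl⟩ := exists_eq_monGL g hg
  constructor
  · intro h j hj
    rw [monGL_apply]
    have hσ : σ i = i := by
      by_contra hne
      have := h (σ i) hne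
      rw [monGL_apply, if_pos rfl] at this
      exact (c i).ne_zero this
    rw [if_neg]
    intro h'
    apply hj
    apply σ.injective
    rw [← h', hσ]
  · intro h j hj
    rw [monGL_apply]
    have hσ : σ i = i := by
      by_contra hne
      have hne' : σ.symm i ≠ i := by
        intro h'; apply hne; conv_lhs => rw [← h']
        simp
      have := h (σ.symm i) hne'
      rw [monGL_apply, Equiv.apply_symm_apply, if_pos rfl] at this
      exact (c _).ne_zero this
    rw [if_neg]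
    rw [hσ]; exact hj

/-- E5: the monomial case. -/
theorem sl_le_of_not_mono (hq : 5 ≤ Fintype.card F) (hn : 8 ≤ Fintype.card ι)
    (M : Subgroup (GL ι F)) (hM : HasMonP M) (hSL : M ≤ Cfsg.Geo.specialLinear ι F)
    (g : GL ι F) (hg : g ∈ M) (hmono : ¬ IsMono (g : Matrix ι ι F)) :
    Cfsg.Geo.specialLinear ι F ≤ M := by
  apply Cfsg.Agent.Lib.H18.C2.sl_le_of_hasElem (by omega) M hM
  -- the main claim for a group and for its dual
  have key : ∀ M' : Subgroup (GL ι F), HasMonP M' → M' ≤ Cfsg.Geo.specialLinear ι F →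
      ∀ y ∈ M', ∀ i, (∀ j, j ≠ i → (y : Matrix ι ι F) j i = 0) → ¬ IsMono (y : Matrix ι ι F) →
        HasElem M' := by
    intro M' hM' hSL' y hy i hcol hym
    have hcard : Fintype.card {j : ι // j ≠ i} = Fintype.card ι - 1 := by
      rw [Fintype.card_subtype_compl, Fintype.card_subtype_eq]
    refine Cfsg.Agent.Lib.H28.C2.hasElem_of_col hq hn M' hM' hSL' i ?_ ?_ ?_ y hy hcol hym
    · intro G hG hNT
      exact isMono_of_nt hq (by omega) G hG hNT
    · intro G hG hNT
      exact Cfsg.Agent.Lib.H18.C2.hasElem_of_not_nt (by omega) (by omega) G hG hNT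
    · intro x hx hrow hii hne
      exact Cfsg.Agent.Lib.H18.C2.hasElem_of_unipotent_row (by omega) (by omega) M' hM' x hx i hrow hii hne
  have hnt : ¬ NT M := fun hNT => hmono (isMono_of_nt hq (by omega) M hM hNT g hg)
  have hnt' : ∃ y ∈ M, ∃ i, ¬ ((∀ j, j ≠ i → (y : Matrix ι ι F) j i = 0) ↔
      (∀ j, j ≠ i → (y : Matrix ι ι F) i j = 0)) := by
    by_contra hcon
    apply hnt
    intro y hy i
    by_contra h
    exact hcon ⟨y, hy, i, h⟩
  obtain ⟨y, hy, i, hyi⟩ := hnt'
  by_cases hcol : ∀ j, j ≠ i → (y : Matrix ι ι F) j i = 0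
  · -- column monomial, row not
    have hrow : ¬ ∀ j, j ≠ i → (y : Matrix ι ι F) i j = 0 := fun h => hyi ⟨fun _ => h, fun _ => hcol⟩
    refine key M hM hSL y hy i hcol ?_
    intro hmy
    exact hrow ((isMono_col_row hmy i).mp hcol)
  · -- row monomial, column not: pass to the dual group
    have hrow : ∀ j, j ≠ i → (y : Matrix ι ι F) i j = 0 := by
      by_contra h
      exact hyi ⟨fun h' => absurd h' hcol, fun h' => absurd h' h⟩
    apply hasElem_of_map_dual
    have hcol' : ∀ j, j ≠ i → ((dualEquiv y⁻¹ : GL ι F) : Matrix ι ι F) j i = 0 := by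
      intro j hj
      rw [dualEquiv_val, inv_inv, Matrix.transpose_apply]
      exact hrow j hj
    refine key _ (hasMonP_map_dual hM) (map_dual_le_sl hSL) (dualEquiv y⁻¹)
      ⟨y⁻¹, M.inv_mem hy, rfl⟩ i hcol' ?_
    intro hmy
    have h1 := (isMono_col_row hmy i).mp hcol'
    apply hcol
    intro j hj
    have := h1 j hj
    rw [dualEquiv_val, inv_inv, Matrix.transpose_apply] at this
    exact this

/-- The theorem for the standard block decomposition. -/
theorem std_maximal (t m : ℕ) (ht : 2 ≤ t) (hm : 1 ≤ m) (hn : 13 ≤ t * m)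
    (h1 : ¬ (m = 1 ∧ Fintype.card F ≤ 4)) (h2 : ¬ (m = 2 ∧ Fintype.card F = 2)) :
    Cfsg.Geo.IsMaximalIn (Cfsg.Geo.specialLinear (Fin t × Fin m) F)
      (blockStab t m F ⊓ Cfsg.Geo.specialLinear (Fin t × Fin m) F) := by
  refine ⟨Cfsg.Agent.Lib.H22.C2.blockStab_inf_sl_lt t m ht hm, fun M hHM hMK => ?_⟩
  by_cases hMS : M ≤ blockStab t m F
  · left; exact le_antisymm (le_inf hMS hMK) hHM
  · right
    apply le_antisymm hMK
    obtain ⟨g, hg, hgs⟩ := SetLike.not_le_iff_exists.mp hMS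
    by_cases hm1 : m = 1
    · subst hm1
      have hq : 5 ≤ Fintype.card F := by
        by_contra hcon
        exact h1 ⟨rfl, by omega⟩
      have hMon : HasMonP M := by
        intro x hx hdet
        exact hHM ⟨(Cfsg.Agent.Lib.H22.C2.mem_blockStab_one_iff t x).mpr hx, (mem_sl_iff x).mpr hdet⟩
      have hgm : ¬ IsMono (g : Matrix (Fin t × Fin 1) (Fin t × Fin 1) F) := fun h =>
        hgs ((Cfsg.Agent.Lib.H22.C2.mem_blockStab_one_iff t g).mpr h)
      have hcard : Fintype.card (Fin t × Fin 1) = t := by simp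
      exact sl_le_of_not_mono hq (by rw [hcard]; omega) M hMon hMK g hg hgm
    · have hm2 : 2 ≤ m := by omega
      have hF : 2 ≤ Fintype.card F := Fintype.one_lt_card
      have h2' : m = 2 → 3 ≤ t ∧ 3 ≤ Fintype.card F := by
        intro hm2'
        subst hm2'
        refine ⟨by omega, ?_⟩
        by_contra hcon
        exact h2 ⟨rfl, by omega⟩
      obtain ⟨w, ψ, hψw, hψ, hroot, hw⟩ := Cfsg.Agent.Lib.H6.C2.exists_root_of_not_stab t m hm2 ht M hHM g hg hgs
      exact Cfsg.Agent.Lib.H5.C2.sl_le_of_offElem t m hm2 ht M hHM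
        (Cfsg.Agent.Lib.H16.C2.offElem_of_root t m hm2 ht h2' M hHM w ψ hψw hψ hroot hw)

/-- S5634. -/
theorem main (n : ℕ) (hn : 13 ≤ n) {t : ℕ} (m : ℕ) (D : Fin t → Submodule F (Fin n → F))
    (hD : Cfsg.Geo.IsMDecomposition m D) (h1 : ¬ (m = 1 ∧ Fintype.card F ≤ 4))
    (h2 : ¬ (m = 2 ∧ Fintype.card F = 2)) :
    Cfsg.Geo.IsMaximalIn (Cfsg.Geo.specialLinear (Fin n) F)
      (Cfsg.Geo.decompositionStabilizer D ⊓ Cfsg.Geo.specialLinear (Fin n) F) := by
  obtain ⟨htm, e, heSL, heStab⟩ := exists_equiv_of_decomp D hD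
  have hstd := std_maximal (F := F) t m hD.two_le hD.pos (by omega) h1 h2
  have h := isMaximalIn_map_equiv e hstd
  rw [Subgroup.map_inf_eq _ _ _ e.injective, heSL, heStab] at h
  exact h


end Cfsg.Agent.Lib.H14.C2.Main
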