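/-
S5634 follow-up (helper14): the same theorem WITHOUT the hypothesis `13 ≤ n`, for the
`SL_n` rows with small `n` (S5798, S5837, S5861, ...).  Nothing landed is edited: the two E3 lemmas
of helper28 are restated here with the bounds their proofs really use.
-/
import Cfsg.Agent.Lib.H14.C2Main

set_option autoImplicit false
set_option linter.unusedSectionVars false
set_option linter.unusedVariables false

namespace Cfsg.Agent.Lib.H14.C2.Free

open Matrix Cfsg.Agent.Lib.H14.C2 Cfsg.Agent.Lib.H28.C2 Cfsg.Agent.Lib.H14.C2.Main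

variable {ι : Type} [Fintype ι] [DecidableEq ι] {F : Type*} [Field F] [Fintype F]

/-- case 2: an elementary transvection of the Levi quotient lifts -/
theorem e3_case2_free (hq : 3 ≤ Fintype.card F) (hn : 5 ≤ Fintype.card ι)
    (M : Subgroup (GL ι F)) (hM : HasMonP M)
    (hSL : M ≤ Cfsg.Geo.specialLinear ι F) (i : ι)
    (hE1 : ∀ x : GL ι F, x ∈ M →
      (∀ a b, a ≠ i → (x : Matrix ι ι F) a b = if a = b then 1 else 0) →
      (x : Matrix ι ι F) i i = 1 → x ≠ 1 → HasElem M)
    (a b : {j : ι // j ≠ i}) (hab : a ≠ b) (c : F) (hc : c ≠ 0) (x : GL ι F) (hxM : x ∈ M)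
    (hxcol : ∀ j, j ≠ i → (x : Matrix ι ι F) j i = 0)
    (hxres : resM i (x : Matrix ι ι F) = ((elemGL hab c : GL {j : ι // j ≠ i} F) :
      Matrix {j : ι // j ≠ i} {j : ι // j ≠ i} F)) : HasElem M := by
  classical
  have hab' : a.1 ≠ b.1 := fun h => hab (Subtype.ext h)
  set X : Matrix ι ι F := (x : Matrix ι ι F) with hX
  -- the entries off row and column `i`
  have hR1 : ∀ p r, p ≠ i → r ≠ i → X p r =
      (if p = r then 1 else 0) + (if a.1 = p ∧ b.1 = r then c else 0) := by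
    intro p r hp hr
    have h := congrFun (congrFun hxres ⟨p, hp⟩) ⟨r, hr⟩
    rw [resM_apply, elemGL_val, Matrix.add_apply, Matrix.one_apply, Matrix.single_apply] at h
    rw [h]
    congr 1
    · by_cases hpr : p = r
      · rw [if_pos hpr, if_pos (Subtype.ext hpr)]
      · rw [if_neg hpr, if_neg (fun h' => hpr (congrArg Subtype.val h'))]
    · by_cases h2 : a.1 = p ∧ b.1 = r
      · rw [if_pos h2, if_pos ⟨Subtype.ext h2.1, Subtype.ext h2.2⟩]
      · rw [if_neg h2, if_neg (fun h' => h2 ⟨congrArg Subtype.val h'.1, congrArg Subtype.val h'.2⟩)]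
  -- the entry at `(i, i)` is one
  have hii : X i i = 1 := by
    have hrows : ∀ p r, p ≠ i → (X * (1 + Matrix.single a.1 b.1 (-c))) p r =
        if p = r then 1 else 0 := by
      intro p r hp
      rw [Matrix.mul_add, Matrix.mul_one, Matrix.add_apply]
      by_cases hrb : r = b.1
      · subst hrb
        rw [Matrix.mul_single_apply_same, hR1 p b.1 hp b.2, hR1 p a.1 hp a.2]
        have h1 : ¬ (a.1 = p ∧ b.1 = a.1) := fun h => hab' h.2.symm
        rw [if_neg h1, add_zero]
        by_cases hpa : p = a.1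
        · have hpb : p ≠ b.1 := fun h => hab' (hpa.symm.trans h)
          rw [if_neg hpb, if_pos ⟨hpa.symm, rfl⟩, if_pos hpa]
          ring
        · have h2 : ¬ (a.1 = p ∧ b.1 = b.1) := fun h => hpa h.1.symm
          rw [if_neg h2, if_neg hpa]
          ring
      · rw [Matrix.mul_single_apply_of_ne (-c) a.1 b.1 p r hrb X, add_zero]
        by_cases hri : r = i
        · subst hri
          rw [hxcol p hp, if_neg hp]
        · rw [hR1 p r hp hri]
          have h2 : ¬ (a.1 = p ∧ b.1 = r) := fun h => hrb h.2.symm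
          rw [if_neg h2, add_zero]
    have hdet2 : (X * (1 + Matrix.single a.1 b.1 (-c))).det = 1 := by
      rw [Matrix.det_mul, (mem_sl_iff x).mp (hSL hxM)]
      have := Matrix.det_transvection_of_ne a.1 b.1 hab' (-c)
      unfold Matrix.transvection at this
      rw [this, mul_one]
    have h3 := det_of_rows i _ hrows
    rw [hdet2] at h3
    rw [h3, Matrix.mul_add, Matrix.mul_one, Matrix.add_apply,
      Matrix.mul_single_apply_of_ne (-c) a.1 b.1 i i (Ne.symm b.2) X, add_zero]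
  by_cases hρ : ∀ k, k ≠ i → X i k = 0
  · -- `x` is the elementary transvection
    have hx : x = elemGL hab' c := by
      apply Units.ext
      ext p r
      rw [elemGL_val, Matrix.add_apply, Matrix.one_apply, Matrix.single_apply]
      by_cases hp : p = i
      · subst hp
        have h1 : ¬ (a.1 = p ∧ b.1 = r) := fun h => a.2 h.1
        rw [if_neg h1, add_zero]
        by_cases hr : r = p
        · subst hr; rw [if_pos rfl]; exact hii
        · rw [if_neg (Ne.symm hr)]; exact hρ r hr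
      · by_cases hr : r = i
        · subst hr
          have h1 : ¬ (a.1 = p ∧ b.1 = r) := fun h => b.2 h.2
          rw [if_neg h1, add_zero, if_neg hp]
          exact hxcol p hp
        · exact hR1 p r hp hr
    exact ⟨a.1, b.1, hab', c, hc, hx ▸ hxM⟩
  · push Not at hρ
    obtain ⟨k, hk, hXk⟩ := hρ
    -- a spare index
    obtain ⟨j, -, hj⟩ : ∃ j, j ∈ (Finset.univ : Finset ι) ∧ j ∉ ({i, a.1, b.1, k} : Finset ι) := by
      apply Finset.exists_mem_notMem_of_card_lt_card
      have := Finset.card_le_four (a := i) (b := a.1) (c := b.1) (d := k)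
      rw [Finset.card_univ]
      omega
    simp only [Finset.mem_insert, Finset.mem_singleton, not_or] at hj
    obtain ⟨hji, hja, hjb, hjk⟩ := hj
    -- a scalar different from 0 and 1
    obtain ⟨η₀, -, hη₀⟩ : ∃ e, e ∈ (Finset.univ : Finset F) ∧ e ∉ ({0, 1} : Finset F) := by
      apply Finset.exists_mem_notMem_of_card_lt_card
      have := Finset.card_le_two (a := (0 : F)) (b := 1)
      rw [Finset.card_univ]
      omega
    simp only [Finset.mem_insert, Finset.mem_singleton, not_or] at hη₀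
    obtain ⟨hη0, hη1⟩ := hη₀
    have hη1' : Units.mk0 η₀ hη0 ≠ 1 := fun h => hη1 (congrArg Units.val h)
    by_cases hkab : k = a.1 ∨ k = b.1
    · -- `t = h_{ij}(η)`
      refine e3_finish M i hE1 a.1 b.1 hab' c x hxM hxcol hR1 hii k hk hXk
        (hd i j (Units.mk0 η₀ hη0)) (hd_mem hM i j _ (Ne.symm hji)) ?_ ?_
      · rw [hd_other i j _ a.2 (Ne.symm hja), hd_other i j _ b.2 (Ne.symm hjb)]
      · rw [hd_u, hd_other i j _ hk (Ne.symm hjk)]
        exact hη1'
    · -- `t = h_{kj}(η)`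
      push Not at hkab
      refine e3_finish M i hE1 a.1 b.1 hab' c x hxM hxcol hR1 hii k hk hXk
        (hd k j (Units.mk0 η₀ hη0)) (hd_mem hM k j _ (Ne.symm hjk)) ?_ ?_
      · rw [hd_other k j _ (Ne.symm hkab.1) (Ne.symm hja),
          hd_other k j _ (Ne.symm hkab.2) (Ne.symm hjb)]
      · rw [hd_u, hd_other k j _ (Ne.symm hk) (Ne.symm hji)]
        exact fun h => hη1' h.symm

/-- **E3** (lifting from the Levi quotient of a coordinate-line stabiliser). -/
theorem hasElem_of_col_free (hq : 3 ≤ Fintype.card F) (hn : 5 ≤ Fintype.card ι)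
    (M : Subgroup (GL ι F)) (hM : HasMonP M) (hSL : M ≤ Cfsg.Geo.specialLinear ι F)
    (i : ι)
    (hA : ∀ G : Subgroup (GL {j : ι // j ≠ i} F), HasMon G → NT G →
      ∀ g ∈ G, IsMono (g : Matrix {j : ι // j ≠ i} {j : ι // j ≠ i} F))
    (hE2 : ∀ G : Subgroup (GL {j : ι // j ≠ i} F), HasMon G → ¬ NT G → HasElem G)
    (hE1 : ∀ x : GL ι F, x ∈ M →
      (∀ a b, a ≠ i → (x : Matrix ι ι F) a b = if a = b then 1 else 0) →
      (x : Matrix ι ι F) i i = 1 → x ≠ 1 → HasElem M)
    (y : GL ι F) (hy : y ∈ M) (hcol : ∀ j, j ≠ i → (y : Matrix ι ι F) j i = 0)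
    (hmono : ¬ IsMono (y : Matrix ι ι F)) : HasElem M := by
  by_cases hm : IsMono ((resGL i y hcol : GL {j : ι // j ≠ i} F) :
      Matrix {j : ι // j ≠ i} {j : ι // j ≠ i} F)
  · exact e3_case1 M hM hSL i hE1 y hy hcol hmono hm
  · have hMon : HasMon (Kbar M i) := hasMon_Kbar hM i
    have hNT : ¬ NT (Kbar M i) := fun h =>
      hm (hA _ hMon h _ (resGL_mem_Kbar i hy hcol))
    obtain ⟨a, b, hab, c, hc, x, hxM, hxcol, hxres⟩ := hE2 _ hMon hNT
    exact e3_case2_free hq hn M hM hSL i hE1 a b hab c hc x hxM hxcol hxres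


/-- E5 with Theorem A as a hypothesis (in dimension `n` for groups containing the monomial matrices
of determinant one, in dimension `n - 1` for groups containing all monomial matrices). -/
theorem sl_le_of_not_mono_gen (hq : 3 ≤ Fintype.card F) (hn : 5 ≤ Fintype.card ι)
    (hA : ∀ G : Subgroup (GL ι F), HasMonP G → NT G → ∀ g ∈ G, IsMono (g : Matrix ι ι F))
    (hA' : ∀ i : ι, ∀ G : Subgroup (GL {j : ι // j ≠ i} F), HasMon G → NT G →
      ∀ g ∈ G, IsMono (g : Matrix {j : ι // j ≠ i} {j : ι // j ≠ i} F))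
    (M : Subgroup (GL ι F)) (hM : HasMonP M) (hSL : M ≤ Cfsg.Geo.specialLinear ι F)
    (g : GL ι F) (hg : g ∈ M) (hmono : ¬ IsMono (g : Matrix ι ι F)) :
    Cfsg.Geo.specialLinear ι F ≤ M := by
  apply Cfsg.Agent.Lib.H18.C2.sl_le_of_hasElem (by omega) M hM
  -- the main claim for a group and for its dual
  have key : ∀ M' : Subgroup (GL ι F), HasMonP M' → M' ≤ Cfsg.Geo.specialLinear ι F →
      ∀ y ∈ M', ∀ i, (∀ j, j ≠ i → (y : Matrix ι ι F) j i = 0) → ¬ IsMono (y : Matrix ι ι F) →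
        HasElem M' := by
    intro M' hM' hSL' y hy i hcol hym
    have hcard : Fintype.card {j : ι // j ≠ i} = Fintype.card ι - 1 := by
      rw [Fintype.card_subtype_compl, Fintype.card_subtype_eq]
    refine hasElem_of_col_free hq hn M' hM' hSL' i (hA' i) ?_ ?_ y hy hcol hym
    · intro G hG hNT
      exact Cfsg.Agent.Lib.H18.C2.hasElem_of_not_nt (by omega) (by omega) G hG hNT
    · intro x hx hrow hii hne
      exact Cfsg.Agent.Lib.H18.C2.hasElem_of_unipotent_row (by omega) (by omega) M' hM' x hx i hrow hii hne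
  have hnt : ¬ NT M := fun hNT => hmono (hA M hM hNT g hg)
  have hnt' : ∃ y ∈ M, ∃ i, ¬ ((∀ j, j ≠ i → (y : Matrix ι ι F) j i = 0) ↔
      (∀ j, j ≠ i → (y : Matrix ι ι F) i j = 0)) := by
    by_contra hcon
    apply hnt
    intro y hy i
    by_contra h
    exact hcon ⟨y, hy, i, h⟩
  obtain ⟨y, hy, i, hyi⟩ := hnt'
  by_cases hcol : ∀ j, j ≠ i → (y : Matrix ι ι F) j i = 0
  · -- column monomial, row not
    have hrow : ¬ ∀ j, j ≠ i → (y : Matrix ι ι F) i j = 0 := fun h => hyi ⟨fun _ => h, fun _ => hcol⟩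
    refine key M hM hSL y hy i hcol ?_
    intro hmy
    exact hrow ((isMono_col_row hmy i).mp hcol)
  · -- row monomial, column not: pass to the dual group
    have hrow : ∀ j, j ≠ i → (y : Matrix ι ι F) i j = 0 := by
      by_contra h
      exact hyi ⟨fun h' => absurd h' hcol, fun h' => absurd h' h⟩
    apply hasElem_of_map_dual
    have hcol' : ∀ j, j ≠ i → ((dualEquiv y⁻¹ : GL ι F) : Matrix ι ι F) j i = 0 := by
      intro j hj
      rw [dualEquiv_val, inv_inv, Matrix.transpose_apply]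
      exact hrow j hj
    refine key _ (hasMonP_map_dual hM) (map_dual_le_sl hSL) (dualEquiv y⁻¹)
      ⟨y⁻¹, M.inv_mem hy, rfl⟩ i hcol' ?_
    intro hmy
    have h1 := (isMono_col_row hmy i).mp hcol'
    apply hcol
    intro j hj
    have := h1 j hj
    rw [dualEquiv_val, inv_inv, Matrix.transpose_apply] at this
    exact this

/-- E5 for `7 ≤ n` (the landed version asks `8 ≤ n`). -/
theorem sl_le_of_not_mono_seven (hq : 5 ≤ Fintype.card F) (hn : 7 ≤ Fintype.card ι)
    (M : Subgroup (GL ι F)) (hM : HasMonP M) (hSL : M ≤ Cfsg.Geo.specialLinear ι F)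
    (g : GL ι F) (hg : g ∈ M) (hmono : ¬ IsMono (g : Matrix ι ι F)) :
    Cfsg.Geo.specialLinear ι F ≤ M := by
  refine sl_le_of_not_mono_gen (by omega) (by omega) ?_ ?_ M hM hSL g hg hmono
  · intro G hG hNT
    exact isMono_of_nt hq (by omega) G hG hNT
  · intro i G hG hNT
    have hcard : Fintype.card {j : ι // j ≠ i} = Fintype.card ι - 1 := by
      rw [Fintype.card_subtype_compl, Fintype.card_subtype_eq]
    exact isMono_of_nt hq (by omega) G hG.hasMonP hNT

/-- The theorem for the standard block decomposition, with the monomial case as a hypothesis. -/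
theorem std_maximal_gen (t m : ℕ) (ht : 2 ≤ t) (hm : 1 ≤ m)
    (h1 : m = 1 → ∀ M : Subgroup (GL (Fin t × Fin 1) F), HasMonP M →
      M ≤ Cfsg.Geo.specialLinear (Fin t × Fin 1) F → ∀ g ∈ M,
      ¬ IsMono (g : Matrix (Fin t × Fin 1) (Fin t × Fin 1) F) →
      Cfsg.Geo.specialLinear (Fin t × Fin 1) F ≤ M)
    (h2 : m = 2 → 3 ≤ t ∧ 3 ≤ Fintype.card F) :
    Cfsg.Geo.IsMaximalIn (Cfsg.Geo.specialLinear (Fin t × Fin m) F)
      (blockStab t m F ⊓ Cfsg.Geo.specialLinear (Fin t × Fin m) F) := by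
  refine ⟨Cfsg.Agent.Lib.H22.C2.blockStab_inf_sl_lt t m ht hm, fun M hHM hMK => ?_⟩
  by_cases hMS : M ≤ blockStab t m F
  · left; exact le_antisymm (le_inf hMS hMK) hHM
  · right
    apply le_antisymm hMK
    obtain ⟨g, hg, hgs⟩ := SetLike.not_le_iff_exists.mp hMS
    by_cases hm1 : m = 1
    · subst hm1
      have hMon : HasMonP M := by
        intro x hx hdet
        exact hHM ⟨(Cfsg.Agent.Lib.H22.C2.mem_blockStab_one_iff t x).mpr hx, (mem_sl_iff x).mpr hdet⟩
      have hgm : ¬ IsMono (g : Matrix (Fin t × Fin 1) (Fin t × Fin 1) F) := fun h =>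
        hgs ((Cfsg.Agent.Lib.H22.C2.mem_blockStab_one_iff t g).mpr h)
      exact h1 rfl M hMon hMK g hg hgm
    · have hm2 : 2 ≤ m := by omega
      obtain ⟨w, ψ, hψw, hψ, hroot, hw⟩ := Cfsg.Agent.Lib.H6.C2.exists_root_of_not_stab t m hm2 ht M hHM g hg hgs
      exact Cfsg.Agent.Lib.H5.C2.sl_le_of_offElem t m hm2 ht M hHM
        (Cfsg.Agent.Lib.H16.C2.offElem_of_root t m hm2 ht h2 M hHM w ψ hψw hψ hroot hw)

/-- The theorem for the standard block decomposition, no lower bound on `t * m`: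
`m = 1` needs `q ≥ 5` and `t ≥ 7`; `m = 2` needs `q ≥ 3` and `t ≥ 3`; `m ≥ 3` needs nothing. -/
theorem std_maximal_free (t m : ℕ) (ht : 2 ≤ t) (hm : 1 ≤ m)
    (h1 : m = 1 → 5 ≤ Fintype.card F ∧ 7 ≤ t)
    (h2 : m = 2 → 3 ≤ Fintype.card F ∧ 3 ≤ t) :
    Cfsg.Geo.IsMaximalIn (Cfsg.Geo.specialLinear (Fin t × Fin m) F)
      (blockStab t m F ⊓ Cfsg.Geo.specialLinear (Fin t × Fin m) F) := by
  refine std_maximal_gen t m ht hm ?_ (fun h => ⟨(h2 h).2, (h2 h).1⟩)
  intro hm1 M hMon hMK g hg hgm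
  have hcard : Fintype.card (Fin t × Fin 1) = t := by simp
  exact sl_le_of_not_mono_seven (h1 hm1).1 (by rw [hcard]; exact (h1 hm1).2) M hMon hMK g hg hgm

/-- Transport of `std_maximal_gen` to an arbitrary decomposition. -/
theorem main_gen (n : ℕ) {t : ℕ} (m : ℕ) (D : Fin t → Submodule F (Fin n → F))
    (hD : Cfsg.Geo.IsMDecomposition m D)
    (h1 : m = 1 → ∀ M : Subgroup (GL (Fin t × Fin 1) F), HasMonP M →
      M ≤ Cfsg.Geo.specialLinear (Fin t × Fin 1) F → ∀ g ∈ M,
      ¬ IsMono (g : Matrix (Fin t × Fin 1) (Fin t × Fin 1) F) →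
      Cfsg.Geo.specialLinear (Fin t × Fin 1) F ≤ M)
    (h2 : m = 2 → 3 ≤ t ∧ 3 ≤ Fintype.card F) :
    Cfsg.Geo.IsMaximalIn (Cfsg.Geo.specialLinear (Fin n) F)
      (Cfsg.Geo.decompositionStabilizer D ⊓ Cfsg.Geo.specialLinear (Fin n) F) := by
  obtain ⟨htm, e, heSL, heStab⟩ := exists_equiv_of_decomp D hD
  have hstd := std_maximal_gen (F := F) t m hD.two_le hD.pos h1 h2
  have h := isMaximalIn_map_equiv e hstd
  rw [Subgroup.map_inf_eq _ _ _ e.injective, heSL, heStab] at h
  exact h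

/-- S5634 without `13 ≤ n`: the stabiliser in `SL_n(F)` of a decomposition of `F^n` into `t`
subspaces of dimension `m` is maximal, provided (`m = 1` → `q ≥ 5`, `t ≥ 7`) and
(`m = 2` → `q ≥ 3`, `t ≥ 3`). -/
theorem main_free (n : ℕ) {t : ℕ} (m : ℕ) (D : Fin t → Submodule F (Fin n → F))
    (hD : Cfsg.Geo.IsMDecomposition m D)
    (h1 : m = 1 → 5 ≤ Fintype.card F ∧ 7 ≤ t)
    (h2 : m = 2 → 3 ≤ Fintype.card F ∧ 3 ≤ t) :
    Cfsg.Geo.IsMaximalIn (Cfsg.Geo.specialLinear (Fin n) F)
      (Cfsg.Geo.decompositionStabilizer D ⊓ Cfsg.Geo.specialLinear (Fin n) F) := by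
  obtain ⟨htm, e, heSL, heStab⟩ := exists_equiv_of_decomp D hD
  have hstd := std_maximal_free (F := F) t m hD.two_le hD.pos h1 h2
  have h := isMaximalIn_map_equiv e hstd
  rw [Subgroup.map_inf_eq _ _ _ e.injective, heSL, heStab] at h
  exact h

end Cfsg.Agent.Lib.H14.C2.Free
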