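/-
S5634 follow-up (helper14): Theorem A in dimension `≥ 5` (the landed pieces A3, A4, A5 of helper22,
helper5, helper8 are restated with `5 ≤ n`; their proofs go through unchanged), hence the monomial
case of class C2 for `n ≥ 6`, `q ≥ 5` (needed for `SL_6`, S5798).  Nothing landed is edited.
-/
import Cfsg.Agent.Lib.H14.C2Free

set_option autoImplicit false
set_option linter.unusedSectionVars false
set_option linter.unusedVariables false

namespace Cfsg.Agent.Lib.H14.C2.Five

open Matrix Cfsg.Agent.Lib.H14.C2 Cfsg.Agent.Lib.H14.C2.Main Cfsg.Agent.Lib.H14.C2.Free Cfsg.Agent.Lib.H22.C2 Cfsg.Agent.Lib.H5.C2 Cfsg.Agent.Lib.H8.C2 Cfsg.Agent.Lib.H2.C2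

variable {ι : Type} [Fintype ι] [DecidableEq ι] {F : Type*} [Field F] [Fintype F]

open Classical in
theorem colWt_cases_five (hn : 5 ≤ Fintype.card ι) (G : Subgroup (GL ι F))
    (hG : HasMonP G) (hST : STprop G) (hKL : KLprop G) :
    ∀ g ∈ G, ∀ l, colWt (g : Matrix ι ι F) l = 1 ∨ colWt (g : Matrix ι ι F) l = 2 ∨
      colWt (g : Matrix ι ι F) l = Fintype.card ι := by
  intro g hg l
  set C : Finset ι := Finset.univ.filter fun k => (g : Matrix ι ι F) k l ≠ 0 with hC
  have hcw : colWt (g : Matrix ι ι F) l = C.card := rfl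
  have hmemC : ∀ k, k ∈ C ↔ (g : Matrix ι ι F) k l ≠ 0 := by
    intro k; rw [hC, Finset.mem_filter]; simp
  have hinvrow : ∀ a, ((g⁻¹ : GL ι F) : Matrix ι ι F) l a ≠ 0 ↔ (g : Matrix ι ι F) a l ≠ 0 :=
    fun a => ((hST g hg a l).1).symm
  -- the column is not zero
  have hpos : 0 < C.card := by
    rw [Finset.card_pos]
    by_contra hne
    rw [Finset.not_nonempty_iff_eq_empty] at hne
    have hcol : ∀ k, (g : Matrix ι ι F) k l = 0 := by
      intro k
      by_contra h
      have : k ∈ C := (hmemC k).mpr h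
      rw [hne] at this
      exact absurd this (Finset.notMem_empty k)
    have hdet : (g : Matrix ι ι F).det = 0 := Matrix.det_eq_zero_of_column_eq_zero l hcol
    have : IsUnit (g : Matrix ι ι F).det := by
      rw [← Matrix.isUnit_iff_isUnit_det]; exact g.isUnit
    rw [hdet] at this
    exact not_isUnit_zero this
  -- the key lemma for `(g⁻¹, g)`
  have hQ1 : (Finset.univ.filter fun a => ((g⁻¹ : GL ι F) : Matrix ι ι F) l a ≠ 0 ∧
      (g : Matrix ι ι F) a l ≠ 0) = C := by
    rw [hC]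
    apply Finset.filter_congr
    intro a _
    rw [hinvrow]
    exact and_self_iff
  have hKL1 := hKL g⁻¹ (G.inv_mem hg) g hg l l
  rw [hQ1] at hKL1
  rw [hcw]
  by_cases h3 : C.card = 3 ∨ 5 ≤ C.card
  · right; right; exact hKL1 h3
  · push Not at h3
    have hc : C.card = 1 ∨ C.card = 2 ∨ C.card = 4 := by omega
    rcases hc with h | h | h
    · left; exact h
    · right; left; exact h
    · exfalso
      obtain ⟨k1, hk1⟩ : C.Nonempty := Finset.card_pos.mp hpos
      obtain ⟨a, ha⟩ : ∃ a, a ∉ C := by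
        by_contra hcon
        push Not at hcon
        have : C = Finset.univ := Finset.eq_univ_iff_forall.mpr hcon
        rw [this, Finset.card_univ] at h
        omega
      have hk1a : k1 ≠ a := fun hh => ha (hh ▸ hk1)
      set cc : ι → Fˣ := fun j => if j = a then -1 else 1 with hcc
      set ν : GL ι F := monGL (Equiv.swap k1 a) cc with hν
      have hνG : ν ∈ G := by
        apply monGL_mem_of_hasMonP hG
        rw [Equiv.Perm.sign_swap hk1a]
        have hprod : ∏ j, ((cc j : Fˣ) : F) = -1 := by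
          rw [Finset.prod_eq_single a]
          · simp [hcc]
          · intro b _ hb
            simp [hcc, hb]
          · intro h'; exact absurd (Finset.mem_univ a) h'
        rw [hprod]
        simp
      have hνg : ν * g ∈ G := G.mul_mem hνG hg
      have hentry : ∀ p, ((ν * g : GL ι F) : Matrix ι ι F) p l ≠ 0 ↔ Equiv.swap k1 a p ∈ C := by
        intro p
        have h1 : ((ν * g : GL ι F) : Matrix ι ι F) p l =
            ((ν : Matrix ι ι F) *ᵥ (fun r => (g : Matrix ι ι F) r l)) p := by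
          rw [Units.val_mul, Matrix.mul_apply]; rfl
        rw [h1, hν, monGL_mulVec, Equiv.symm_swap, hmemC]
        constructor
        · intro hh; exact right_ne_zero_of_mul hh
        · intro hh; exact mul_ne_zero (Units.ne_zero _) hh
      have hQ2 : (Finset.univ.filter fun a' => ((g⁻¹ : GL ι F) : Matrix ι ι F) l a' ≠ 0 ∧
          ((ν * g : GL ι F) : Matrix ι ι F) a' l ≠ 0) = C.erase k1 := by
        ext a'
        rw [Finset.mem_filter, Finset.mem_erase, hinvrow, hentry, ← hmemC]
        constructor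
        · rintro ⟨_, h1, h2⟩
          refine ⟨?_, h1⟩
          rintro rfl
          rw [Equiv.swap_apply_left] at h2
          exact ha h2
        · rintro ⟨h1, h2⟩
          refine ⟨Finset.mem_univ _, h2, ?_⟩
          have h3 : a' ≠ a := fun hh => ha (hh ▸ h2)
          rw [Equiv.swap_apply_of_ne_of_ne h1 h3]
          exact h2
      have hKL2 := hKL g⁻¹ (G.inv_mem hg) (ν * g) hνg l l
      rw [hQ2, Finset.card_erase_of_mem hk1, h] at hKL2
      have := hKL2 (Or.inl rfl)
      omega


theorem a4_caseA_five (hq : 3 ≤ Fintype.card F) (hn : 5 ≤ Fintype.card ι) (G : Subgroup (GL ι F))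
    (hG : HasMonP G)
    (hW : ∀ g ∈ G, ∀ l, colWt (g : Matrix ι ι F) l = 1 ∨ colWt (g : Matrix ι ι F) l = 2 ∨
      colWt (g : Matrix ι ι F) l = Fintype.card ι)
    (g : GL ι F) (hg : g ∈ G) {k a b : ι} (hab : a ≠ b)
    (ha : (g : Matrix ι ι F) a k ≠ 0) (hb : (g : Matrix ι ι F) b k ≠ 0)
    (hc : ∀ c, c ≠ a → c ≠ b → (g : Matrix ι ι F) c k = 0) {l : ι} (hkl : k ≠ l)
    (hla : (g : Matrix ι ι F) a l = 0) {c : ι} (hca : c ≠ a) (hcb : c ≠ b)
    (hlc : (g : Matrix ι ι F) c l ≠ 0) : False := by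
  classical
  obtain ⟨y, hy0, hy⟩ := a4_exists_y hq ((g : Matrix ι ι F) b k) ((g : Matrix ι ι F) b l) hb
  obtain ⟨g', hg', hv⟩ := a4_combine (by omega) G hG g hg hab ha hb hc hkl y hy0
  -- three non-zero entries
  have h3 : 3 ≤ colWt (g' : Matrix ι ι F) k := by
    rw [← a4_card_three hab (Ne.symm hca) (Ne.symm hcb)]
    apply a4_le_colWt
    intro x hx
    simp only [Finset.mem_insert, Finset.mem_singleton] at hx
    rcases hx with rfl | rfl | rfl
    · rw [hv, hla, mul_zero, add_zero]; exact ha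
    · rw [hv]; exact hy
    · rw [hv, hc _ hca hcb, zero_add]; exact mul_ne_zero hy0 hlc
  -- column l has weight at most two
  have hl2 : colWt (g : Matrix ι ι F) l ≤ 2 := by
    have := a4_colWt_lt (g : Matrix ι ι F) l a hla
    rcases hW g hg l with h | h | h <;> omega
  -- a zero entry of column l outside {a, b}
  obtain ⟨d, hda, hdb, hd⟩ : ∃ d, d ≠ a ∧ d ≠ b ∧ (g : Matrix ι ι F) d l = 0 := by
    by_contra hcon
    push Not at hcon
    have h1 : ((Finset.univ : Finset ι) \ {a, b}).card ≤ colWt (g : Matrix ι ι F) l := by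
      apply a4_le_colWt
      intro x hx
      simp only [Finset.mem_sdiff, Finset.mem_univ, Finset.mem_insert, Finset.mem_singleton,
        true_and, not_or] at hx
      exact hcon x hx.1 hx.2
    have h2 := a4_card_compl_pair a b
    omega
  have hlt : colWt (g' : Matrix ι ι F) k < Fintype.card ι := by
    apply a4_colWt_lt _ _ d
    rw [hv, hc d hda hdb, hd, mul_zero, add_zero]
  rcases hW g' hg' k with h | h | h <;> omega

/-- Case B: column `l` is full. -/
theorem a4_caseB_five (hn : 5 ≤ Fintype.card ι) (G : Subgroup (GL ι F))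
    (hG : HasMonP G)
    (hW : ∀ g ∈ G, ∀ l, colWt (g : Matrix ι ι F) l = 1 ∨ colWt (g : Matrix ι ι F) l = 2 ∨
      colWt (g : Matrix ι ι F) l = Fintype.card ι)
    (g : GL ι F) (hg : g ∈ G) {k a b : ι} (hab : a ≠ b)
    (ha : (g : Matrix ι ι F) a k ≠ 0) (hb : (g : Matrix ι ι F) b k ≠ 0)
    (hc : ∀ c, c ≠ a → c ≠ b → (g : Matrix ι ι F) c k = 0) {l : ι} (hkl : k ≠ l)
    (hfull : ∀ c, (g : Matrix ι ι F) c l ≠ 0) : False := by
  classical
  have hy0 : -(g : Matrix ι ι F) a k / (g : Matrix ι ι F) a l ≠ 0 :=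
    div_ne_zero (neg_ne_zero.mpr ha) (hfull a)
  obtain ⟨g', hg', hv⟩ := a4_combine (by omega) G hG g hg hab ha hb hc hkl _ hy0
  have hlt : colWt (g' : Matrix ι ι F) k < Fintype.card ι := by
    apply a4_colWt_lt _ _ a
    rw [hv, div_mul_cancel₀ _ (hfull a), add_neg_cancel]
  have h1 : ((Finset.univ : Finset ι) \ {a, b}).card ≤ colWt (g' : Matrix ι ι F) k := by
    apply a4_le_colWt
    intro x hx
    simp only [Finset.mem_sdiff, Finset.mem_univ, Finset.mem_insert, Finset.mem_singleton,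
      true_and, not_or] at hx
    rw [hv, hc x hx.1 hx.2, zero_add]
    exact mul_ne_zero hy0 (hfull x)
  have h2 := a4_card_compl_pair a b
  rcases hW g' hg' k with h | h | h <;> omega

/-- no entry of another column outside `{a, b}` -/
theorem a4_no_outside_five (hq : 3 ≤ Fintype.card F) (hn : 5 ≤ Fintype.card ι) (G : Subgroup (GL ι F))
    (hG : HasMonP G)
    (hW : ∀ g ∈ G, ∀ l, colWt (g : Matrix ι ι F) l = 1 ∨ colWt (g : Matrix ι ι F) l = 2 ∨
      colWt (g : Matrix ι ι F) l = Fintype.card ι)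
    (g : GL ι F) (hg : g ∈ G) {k a b : ι} (hab : a ≠ b)
    (ha : (g : Matrix ι ι F) a k ≠ 0) (hb : (g : Matrix ι ι F) b k ≠ 0)
    (hc : ∀ c, c ≠ a → c ≠ b → (g : Matrix ι ι F) c k = 0) {l : ι} (hkl : k ≠ l)
    {c : ι} (hca : c ≠ a) (hcb : c ≠ b) : (g : Matrix ι ι F) c l = 0 := by
  by_contra hlc
  by_cases hla : (g : Matrix ι ι F) a l = 0
  · exact a4_caseA_five hq hn G hG hW g hg hab ha hb hc hkl hla hca hcb hlc
  by_cases hlb : (g : Matrix ι ι F) b l = 0
  · exact a4_caseA_five hq hn G hG hW g hg hab.symm hb ha (fun x h1 h2 => hc x h2 h1) hkl hlb hcb hca hlc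
  -- three non-zero entries: the column is full
  have h3 : 3 ≤ colWt (g : Matrix ι ι F) l := by
    rw [← a4_card_three hab (Ne.symm hca) (Ne.symm hcb)]
    apply a4_le_colWt
    intro x hx
    simp only [Finset.mem_insert, Finset.mem_singleton] at hx
    rcases hx with rfl | rfl | rfl
    · exact hla
    · exact hlb
    · exact hlc
  have hfull : colWt (g : Matrix ι ι F) l = Fintype.card ι := by
    rcases hW g hg l with h | h | h
    · omega
    · omega
    · exact h
  exact a4_caseB_five hn G hG hW g hg hab ha hb hc hkl (a4_colWt_full _ l hfull)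

/-- A4 (no column of weight 2). -/
theorem colWt_ne_two_five (hq : 3 ≤ Fintype.card F) (hn : 5 ≤ Fintype.card ι) (G : Subgroup (GL ι F))
    (hG : HasMonP G)
    (hW : ∀ g ∈ G, ∀ l, colWt (g : Matrix ι ι F) l = 1 ∨ colWt (g : Matrix ι ι F) l = 2 ∨
      colWt (g : Matrix ι ι F) l = Fintype.card ι) :
    ∀ g ∈ G, ∀ l, colWt (g : Matrix ι ι F) l ≠ 2 := by
  intro g hg k h2
  obtain ⟨a, b, hab, ha, hb, hc⟩ := a4_colWt_two _ k h2
  obtain ⟨c, hca, hcb⟩ := a4_exists_ne_ne (show 3 ≤ Fintype.card ι by omega) a b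
  have hdet : (g : Matrix ι ι F).det = 0 := by
    apply Matrix.det_eq_zero_of_row_eq_zero c
    intro l
    by_cases hkl : k = l
    · rw [← hkl]; exact hc c hca hcb
    · exact a4_no_outside_five hq hn G hG hW g hg hab ha hb hc hkl hca hcb
  have : IsUnit (g : Matrix ι ι F).det := by
    rw [← Matrix.isUnit_iff_isUnit_det]; exact g.isUnit
  rw [hdet] at this
  exact not_isUnit_zero this


theorem isMono_of_colWt_five (hq : 3 ≤ Fintype.card F) (hn : 5 ≤ Fintype.card ι) (G : Subgroup (GL ι F))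
    (hG : HasMonP G) (hST : STprop G)
    (hW : ∀ g ∈ G, ∀ l, colWt (g : Matrix ι ι F) l = 1 ∨ colWt (g : Matrix ι ι F) l = Fintype.card ι) :
    ∀ g ∈ G, IsMono (g : Matrix ι ι F) := by
  classical
  intro g hg
  by_contra hm
  have hfull := full_of_not_mono G hST hW g hg hm
  have hfull' : ∀ a b, ((g⁻¹ : GL ι F) : Matrix ι ι F) a b ≠ 0 := fun a b =>
    (hST g hg b a).1.mp (hfull b a)
  have hcard : 1 < Fintype.card ι := by omega
  obtain ⟨i, j, hij⟩ := Fintype.one_lt_card_iff.mp hcard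
  -- the key claim
  have key : ∀ k k', (g : Matrix ι ι F) i k * ((g⁻¹ : GL ι F) : Matrix ι ι F) k j =
      (g : Matrix ι ι F) i k' * ((g⁻¹ : GL ι F) : Matrix ι ι F) k' j := by
    intro k k'
    by_contra hne
    have hkk : k ≠ k' := by rintro rfl; exact hne rfl
    set ck := (g : Matrix ι ι F) i k * ((g⁻¹ : GL ι F) : Matrix ι ι F) k j with hck
    set ck' := (g : Matrix ι ι F) i k' * ((g⁻¹ : GL ι F) : Matrix ι ι F) k' j with hck'
    have hck0 : ck ≠ 0 := mul_ne_zero (hfull i k) (hfull' k j)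
    have hck'0 : ck' ≠ 0 := mul_ne_zero (hfull i k') (hfull' k' j)
    set lam : F := ck' / ck with hlam
    have hlam0 : lam ≠ 0 := div_ne_zero hck'0 hck0
    have hlam1 : lam ≠ 1 := by
      intro h
      rw [hlam, div_eq_one_iff_eq hck0] at h
      exact hne h.symm
    set u : Fˣ := Units.mk0 lam hlam0 with hu
    set d : ι → Fˣ := fun a => if a = k then u else if a = k' then u⁻¹ else 1 with hd
    have hdk : d k = u := by simp [hd]
    have hdk' : d k' = u⁻¹ := by simp [hd, hkk.symm]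
    have hdo : ∀ a, a ≠ k → a ≠ k' → d a = 1 := by
      intro a h1 h2; simp [hd, h1, h2]
    have htG : monGL 1 d ∈ G := by
      apply monGL_mem_of_hasMonP hG
      rw [Equiv.Perm.sign_one]
      have : ∏ a, ((d a : Fˣ) : F) = ((d k : Fˣ) : F) * ((d k' : Fˣ) : F) := by
        apply Finset.prod_eq_mul k k' hkk
        · intro c _ hc
          rw [hdo c hc.1 hc.2, Units.val_one]
        · intro h; exact absurd (Finset.mem_univ _) h
        · intro h; exact absurd (Finset.mem_univ _) h
      rw [this, hdk, hdk', ← Units.val_mul, mul_inv_cancel]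
      simp
    set y : GL ι F := g * monGL 1 d * g⁻¹ with hy
    have hyG : y ∈ G := G.mul_mem (G.mul_mem hg htG) (G.inv_mem hg)
    -- entries of `y`
    have hyab : ∀ a b, (y : Matrix ι ι F) a b = (1 : Matrix ι ι F) a b +
        (g : Matrix ι ι F) a k * (lam - 1) * ((g⁻¹ : GL ι F) : Matrix ι ι F) k b +
        (g : Matrix ι ι F) a k' * (lam⁻¹ - 1) * ((g⁻¹ : GL ι F) : Matrix ι ι F) k' b := by
      intro a b
      have h1 : (y : Matrix ι ι F) a b =
          ∑ f, (g : Matrix ι ι F) a f * ((d f : Fˣ) : F) * ((g⁻¹ : GL ι F) : Matrix ι ι F) f b := by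
        rw [hy, Units.val_mul, Units.val_mul, Matrix.mul_apply]
        apply Finset.sum_congr rfl
        intro f _
        congr 1
        rw [Matrix.mul_apply, Finset.sum_eq_single f]
        · rw [monGL_apply, Equiv.Perm.one_apply, if_pos rfl]
        · intro b' _ hb'
          rw [monGL_apply, Equiv.Perm.one_apply, if_neg hb', mul_zero]
        · intro h; exact absurd (Finset.mem_univ _) h
      have h2 : (1 : Matrix ι ι F) a b =
          ∑ f, (g : Matrix ι ι F) a f * ((g⁻¹ : GL ι F) : Matrix ι ι F) f b := by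
        rw [← val_mul_inv g, Matrix.mul_apply]
      have h3 : ∑ f, (g : Matrix ι ι F) a f * (((d f : Fˣ) : F) - 1) *
          ((g⁻¹ : GL ι F) : Matrix ι ι F) f b =
          (g : Matrix ι ι F) a k * (((d k : Fˣ) : F) - 1) * ((g⁻¹ : GL ι F) : Matrix ι ι F) k b +
          (g : Matrix ι ι F) a k' * (((d k' : Fˣ) : F) - 1) * ((g⁻¹ : GL ι F) : Matrix ι ι F) k' b := by
        apply Finset.sum_eq_add k k' hkk
        · intro c _ hc
          rw [hdo c hc.1 hc.2, Units.val_one, sub_self, mul_zero, zero_mul]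
        · intro h; exact absurd (Finset.mem_univ _) h
        · intro h; exact absurd (Finset.mem_univ _) h
      rw [hdk, hdk'] at h3
      have h4 : ((u : Fˣ) : F) = lam := rfl
      have h5 : ((u⁻¹ : Fˣ) : F) = lam⁻¹ := by rw [Units.val_inv_eq_inv_val, h4]
      rw [h4, h5] at h3
      rw [h1, h2, add_assoc, ← h3, ← Finset.sum_add_distrib]
      apply Finset.sum_congr rfl
      intro f _
      ring
    -- `y i j = 0`
    have hyij : (y : Matrix ι ι F) i j = 0 := by
      rw [hyab, Matrix.one_apply_ne hij]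
      have e1 : (g : Matrix ι ι F) i k * (lam - 1) * ((g⁻¹ : GL ι F) : Matrix ι ι F) k j =
          (lam - 1) * ck := by rw [hck]; ring
      have e2 : (g : Matrix ι ι F) i k' * (lam⁻¹ - 1) * ((g⁻¹ : GL ι F) : Matrix ι ι F) k' j =
          (lam⁻¹ - 1) * ck' := by rw [hck']; ring
      rw [e1, e2, hlam]
      field_simp
      ring
    -- so `y` is monomial
    have hymono : IsMono (y : Matrix ι ι F) := by
      by_contra h
      exact full_of_not_mono G hST hW y hyG h i j hyij
    -- vanishing of the minors of rows `k`, `k'` of `g⁻¹`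
    have hminor : ∀ b1 b2, ((g⁻¹ : GL ι F) : Matrix ι ι F) k b1 * ((g⁻¹ : GL ι F) : Matrix ι ι F) k' b2 =
        ((g⁻¹ : GL ι F) : Matrix ι ι F) k' b1 * ((g⁻¹ : GL ι F) : Matrix ι ι F) k b2 := by
      intro b1 b2
      by_cases hb : b1 = b2
      · subst hb; ring
      -- a row `a ∉ {b1, b2}` with `y a b1 = 0 = y a b2`
      obtain ⟨a, ha1, ha2, hy1, hy2⟩ : ∃ a, a ≠ b1 ∧ a ≠ b2 ∧ (y : Matrix ι ι F) a b1 = 0 ∧
          (y : Matrix ι ι F) a b2 = 0 := by
        by_contra hcon
        push Not at hcon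
        have hsub : (Finset.univ : Finset ι) ⊆ ({b1, b2} : Finset ι) ∪
            ((Finset.univ.filter fun a => (y : Matrix ι ι F) a b1 ≠ 0) ∪
             (Finset.univ.filter fun a => (y : Matrix ι ι F) a b2 ≠ 0)) := by
          intro a _
          rw [Finset.mem_union, Finset.mem_union, Finset.mem_insert, Finset.mem_singleton,
            Finset.mem_filter, Finset.mem_filter]
          by_cases h1 : a = b1
          · exact Or.inl (Or.inl h1)
          by_cases h2 : a = b2
          · exact Or.inl (Or.inr h2)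
          by_cases h3 : (y : Matrix ι ι F) a b1 = 0
          · exact Or.inr (Or.inr ⟨Finset.mem_univ _, hcon a h1 h2 h3⟩)
          · exact Or.inr (Or.inl ⟨Finset.mem_univ _, h3⟩)
        have hc1 : ∀ b, (Finset.univ.filter fun a => (y : Matrix ι ι F) a b ≠ 0).card ≤ 1 := by
          intro b
          rw [Finset.card_le_one]
          intro a ha a' ha'
          exact hymono b a a' (Finset.mem_filter.mp ha).2 (Finset.mem_filter.mp ha').2
        have := Finset.card_le_card hsub
        have h2 : (({b1, b2} : Finset ι) ∪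
            ((Finset.univ.filter fun a => (y : Matrix ι ι F) a b1 ≠ 0) ∪
             (Finset.univ.filter fun a => (y : Matrix ι ι F) a b2 ≠ 0))).card ≤ 2 + (1 + 1) := by
          refine (Finset.card_union_le _ _).trans (add_le_add ?_ ?_)
          · exact Finset.card_le_two
          · exact (Finset.card_union_le _ _).trans (add_le_add (hc1 b1) (hc1 b2))
        rw [Finset.card_univ] at this
        omega
      rw [hyab, Matrix.one_apply_ne ha1] at hy1
      rw [hyab, Matrix.one_apply_ne ha2] at hy2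
      have hl1 : lam - 1 ≠ 0 := sub_ne_zero.mpr hlam1
      have e : lam⁻¹ - 1 = -(lam - 1) * lam⁻¹ := by field_simp; ring
      rw [e] at hy1 hy2
      -- `g a k * ginv k b = lam⁻¹ * g a k' * ginv k' b`
      have hy1' : (g : Matrix ι ι F) a k * ((g⁻¹ : GL ι F) : Matrix ι ι F) k b1 =
          lam⁻¹ * ((g : Matrix ι ι F) a k' * ((g⁻¹ : GL ι F) : Matrix ι ι F) k' b1) := by
        have : (lam - 1) * ((g : Matrix ι ι F) a k * ((g⁻¹ : GL ι F) : Matrix ι ι F) k b1 -
            lam⁻¹ * ((g : Matrix ι ι F) a k' * ((g⁻¹ : GL ι F) : Matrix ι ι F) k' b1)) = 0 := by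
          rw [← hy1]; ring
        rcases mul_eq_zero.mp this with h | h
        · exact absurd h hl1
        · exact sub_eq_zero.mp h
      have hy2' : (g : Matrix ι ι F) a k * ((g⁻¹ : GL ι F) : Matrix ι ι F) k b2 =
          lam⁻¹ * ((g : Matrix ι ι F) a k' * ((g⁻¹ : GL ι F) : Matrix ι ι F) k' b2) := by
        have : (lam - 1) * ((g : Matrix ι ι F) a k * ((g⁻¹ : GL ι F) : Matrix ι ι F) k b2 -
            lam⁻¹ * ((g : Matrix ι ι F) a k' * ((g⁻¹ : GL ι F) : Matrix ι ι F) k' b2)) = 0 := by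
          rw [← hy2]; ring
        rcases mul_eq_zero.mp this with h | h
        · exact absurd h hl1
        · exact sub_eq_zero.mp h
      have hne0 : (g : Matrix ι ι F) a k * (lam⁻¹ * (g : Matrix ι ι F) a k') ≠ 0 :=
        mul_ne_zero (hfull a k) (mul_ne_zero (inv_ne_zero hlam0) (hfull a k'))
      apply mul_left_cancel₀ hne0
      calc (g : Matrix ι ι F) a k * (lam⁻¹ * (g : Matrix ι ι F) a k') *
            (((g⁻¹ : GL ι F) : Matrix ι ι F) k b1 * ((g⁻¹ : GL ι F) : Matrix ι ι F) k' b2)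
          = ((g : Matrix ι ι F) a k * ((g⁻¹ : GL ι F) : Matrix ι ι F) k b1) *
            (lam⁻¹ * ((g : Matrix ι ι F) a k' * ((g⁻¹ : GL ι F) : Matrix ι ι F) k' b2)) := by ring
        _ = (lam⁻¹ * ((g : Matrix ι ι F) a k' * ((g⁻¹ : GL ι F) : Matrix ι ι F) k' b1)) *
            ((g : Matrix ι ι F) a k * ((g⁻¹ : GL ι F) : Matrix ι ι F) k b2) := by
              rw [hy1', ← hy2']
        _ = (g : Matrix ι ι F) a k * (lam⁻¹ * (g : Matrix ι ι F) a k') *
            (((g⁻¹ : GL ι F) : Matrix ι ι F) k' b1 * ((g⁻¹ : GL ι F) : Matrix ι ι F) k b2) := by ring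
    -- contradiction with invertibility
    have h1 := congrFun (congrFun (val_inv_mul g) k') k
    have h2 := congrFun (congrFun (val_inv_mul g) k) k
    rw [Matrix.mul_apply, Matrix.one_apply_ne hkk.symm] at h1
    rw [Matrix.mul_apply, Matrix.one_apply_eq] at h2
    have : ((g⁻¹ : GL ι F) : Matrix ι ι F) k' i = 0 := by
      calc ((g⁻¹ : GL ι F) : Matrix ι ι F) k' i
          = ((g⁻¹ : GL ι F) : Matrix ι ι F) k' i *
              ∑ b, ((g⁻¹ : GL ι F) : Matrix ι ι F) k b * (g : Matrix ι ι F) b k := by rw [h2, mul_one]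
        _ = ∑ b, (((g⁻¹ : GL ι F) : Matrix ι ι F) k' i * ((g⁻¹ : GL ι F) : Matrix ι ι F) k b) *
              (g : Matrix ι ι F) b k := by
            rw [Finset.mul_sum]; apply Finset.sum_congr rfl; intro b _; ring
        _ = ∑ b, (((g⁻¹ : GL ι F) : Matrix ι ι F) k i * ((g⁻¹ : GL ι F) : Matrix ι ι F) k' b) *
              (g : Matrix ι ι F) b k := by
            apply Finset.sum_congr rfl; intro b _; rw [hminor i b]
        _ = ((g⁻¹ : GL ι F) : Matrix ι ι F) k i *
              ∑ b, ((g⁻¹ : GL ι F) : Matrix ι ι F) k' b * (g : Matrix ι ι F) b k := by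
            rw [Finset.mul_sum]; apply Finset.sum_congr rfl; intro b _; ring
        _ = 0 := by rw [h1, mul_zero]
    exact hfull' k' i this
  -- all `c_a` equal, so `n = 0` in `F`
  have hsum := congrFun (congrFun (val_mul_inv g) i) j
  rw [Matrix.mul_apply, Matrix.one_apply_ne hij] at hsum
  have hsum' : ∑ a : ι, (g : Matrix ι ι F) i a * ((g⁻¹ : GL ι F) : Matrix ι ι F) a j =
      (Fintype.card ι : F) * ((g : Matrix ι ι F) i i * ((g⁻¹ : GL ι F) : Matrix ι ι F) i j) := by
    rw [Finset.sum_congr rfl (fun a _ => key a i), Finset.sum_const, Finset.card_univ, nsmul_eq_mul]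
  rw [hsum'] at hsum
  have hn0 : (Fintype.card ι : F) = 0 := by
    rcases mul_eq_zero.mp hsum with h | h
    · exact h
    · exact absurd h (mul_ne_zero (hfull i i) (hfull' i j))
  have h3 := (hST g hg i i).2 (hfull i i)
  rw [(colWt_eq_card_iff _ _).mpr (fun k => hfull k i), hn0, mul_zero] at h3
  exact zero_ne_one h3


/-- Theorem A for `5 ≤ n`. -/
theorem isMono_of_nt_five (hq : 5 ≤ Fintype.card F) (hn : 5 ≤ Fintype.card ι)
    (G : Subgroup (GL ι F)) (hG : HasMonP G) (hNT : NT G) :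
    ∀ g ∈ G, IsMono (g : Matrix ι ι F) := by
  have hST : STprop G := by
    intro g hg k l
    have hn4 : 4 ≤ Fintype.card ι := by omega
    refine ⟨⟨fun h => (stprop_half hn4 hG hNT hg k l h).1, fun h => ?_⟩,
      fun h => (stprop_half hn4 hG hNT hg k l h).2⟩
    have hg' : dualEquiv g ∈ G.map (dualEquiv : GL ι F ≃* GL ι F).toMonoidHom := ⟨g, hg, rfl⟩
    have h1 : ((dualEquiv g : GL ι F) : Matrix ι ι F) k l ≠ 0 := by
      rw [dualEquiv_val, Matrix.transpose_apply]
      exact h
    have h2 := (stprop_half hn4 (hasMonP_map_dual hG) (nt_map_dual hNT) hg' k l h1).1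
    rw [dualEquiv_inv_val, Matrix.transpose_apply] at h2
    exact h2
  have hKL := Cfsg.Agent.Lib.H27.C2.klprop_of_st hq G hG hST
  have hW := colWt_cases_five hn G hG hST hKL
  have hW2 := colWt_ne_two_five (by omega) hn G hG hW
  refine isMono_of_colWt_five (by omega) hn G hG hST ?_
  intro g hg l
  rcases hW g hg l with h | h | h
  · exact Or.inl h
  · exact absurd h (hW2 g hg l)
  · exact Or.inr h

/-- E5 for `6 ≤ n`. -/
theorem sl_le_of_not_mono_six (hq : 5 ≤ Fintype.card F) (hn : 6 ≤ Fintype.card ι)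
    (M : Subgroup (GL ι F)) (hM : HasMonP M) (hSL : M ≤ Cfsg.Geo.specialLinear ι F)
    (g : GL ι F) (hg : g ∈ M) (hmono : ¬ IsMono (g : Matrix ι ι F)) :
    Cfsg.Geo.specialLinear ι F ≤ M := by
  refine sl_le_of_not_mono_gen (by omega) (by omega) ?_ ?_ M hM hSL g hg hmono
  · intro G hG hNT
    exact isMono_of_nt_five hq (by omega) G hG hNT
  · intro i G hG hNT
    have hcard : Fintype.card {j : ι // j ≠ i} = Fintype.card ι - 1 := by
      rw [Fintype.card_subtype_compl, Fintype.card_subtype_eq]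
    exact isMono_of_nt_five hq (by omega) G hG.hasMonP hNT

/-- The theorem for the standard block decomposition, no lower bound on `t * m`:
`m = 1` needs `q ≥ 5` and `t ≥ 6`; `m = 2` needs `q ≥ 3` and `t ≥ 3`; `m ≥ 3` needs nothing. -/
theorem std_maximal_six (t m : ℕ) (ht : 2 ≤ t) (hm : 1 ≤ m)
    (h1 : m = 1 → 5 ≤ Fintype.card F ∧ 6 ≤ t)
    (h2 : m = 2 → 3 ≤ Fintype.card F ∧ 3 ≤ t) :
    Cfsg.Geo.IsMaximalIn (Cfsg.Geo.specialLinear (Fin t × Fin m) F)
      (blockStab t m F ⊓ Cfsg.Geo.specialLinear (Fin t × Fin m) F) := by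
  refine std_maximal_gen t m ht hm ?_ (fun h => ⟨(h2 h).2, (h2 h).1⟩)
  intro hm1 M hMon hMK g hg hgm
  have hcard : Fintype.card (Fin t × Fin 1) = t := by simp
  exact sl_le_of_not_mono_six (h1 hm1).1 (by rw [hcard]; exact (h1 hm1).2) M hMon hMK g hg hgm

/-- S5634 without `13 ≤ n`: the stabiliser in `SL_n(F)` of a decomposition of `F^n` into `t`
subspaces of dimension `m` is maximal, provided (`m = 1` → `q ≥ 5`, `t ≥ 6`) and
(`m = 2` → `q ≥ 3`, `t ≥ 3`). -/
theorem main_six (n : ℕ) {t : ℕ} (m : ℕ) (D : Fin t → Submodule F (Fin n → F))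
    (hD : Cfsg.Geo.IsMDecomposition m D)
    (h1 : m = 1 → 5 ≤ Fintype.card F ∧ 6 ≤ t)
    (h2 : m = 2 → 3 ≤ Fintype.card F ∧ 3 ≤ t) :
    Cfsg.Geo.IsMaximalIn (Cfsg.Geo.specialLinear (Fin n) F)
      (Cfsg.Geo.decompositionStabilizer D ⊓ Cfsg.Geo.specialLinear (Fin n) F) := by
  refine main_gen n m D hD ?_ (fun h => ⟨(h2 h).2, (h2 h).1⟩)
  intro hm1 M hMon hMK g hg hgm
  have hcard : Fintype.card (Fin t × Fin 1) = t := by simp
  exact sl_le_of_not_mono_six (h1 hm1).1 (by rw [hcard]; exact (h1 hm1).2) M hMon hMK g hg hgm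

end Cfsg.Agent.Lib.H14.C2.Five
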