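import Cfsg.Agent.Lib.H14.CharP2
import Cfsg.Agent.Lib.H14.PIrr

/-! Characteristic `p` passes from `O^p(H)` to `H`, and to normal subgroups. -/

set_option autoImplicit false

namespace Cfsg.Agent.Lib.H14

/-- If `O^p(H)` has characteristic `p`, so does `H`. -/
theorem charP_of_pResidual {H : Type*} [Group H] [Finite H] (p : ℕ) [Fact p.Prime]
    (h : Subgroup.centralizer (Cfsg.pCore p ↥(Cfsg.pResidual p H) : Set ↥(Cfsg.pResidual p H)) ≤
      Cfsg.pCore p ↥(Cfsg.pResidual p H)) :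
    Subgroup.centralizer (Cfsg.pCore p H : Set H) ≤ Cfsg.pCore p H := by
  set K := Cfsg.pResidual p H with hK
  have hKn : K.Normal := pResidual_normal'
  have h' := charP_ambient p K h
  have hOn : (Cfsg.pCoreOf p K).Normal := by
    rw [← Subgroup.normalizer_eq_top_iff]
    apply top_le_iff.mp
    refine le_trans ?_ (Cfsg.Agent.Lib.H7.normalizer_le_normalizer_pCoreOf p K)
    rw [Subgroup.normalizer_eq_top_iff.mpr hKn]
  have hO : Cfsg.pCoreOf p K ≤ Cfsg.pCore p H :=
    Cfsg.Agent.Lib.H1.le_pCore hOn (pCoreOf_isPGroup p K)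
  have hpn : (Cfsg.pCore p H).Normal := Cfsg.Agent.Lib.H1.pCore_normal p H
  have hCn : (Subgroup.centralizer (Cfsg.pCore p H : Set H)).Normal := Subgroup.normal_centralizer
  apply Cfsg.Agent.Lib.H1.le_pCore hCn
  intro c
  obtain ⟨k, hk⟩ := exists_pow_mem_presOf p ⊤ (c : H) (Subgroup.mem_top _)
  rw [← pResidual_eq_presOf_top] at hk
  have hmem : (c : H) ^ p ^ k ∈ K ⊓ Subgroup.centralizer (Cfsg.pCoreOf p K : Set H) := by
    refine Subgroup.mem_inf.mpr ⟨hk, ?_⟩
    exact Subgroup.centralizer_le hO (Subgroup.pow_mem _ c.2 _)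
  obtain ⟨j, hj⟩ := (pCoreOf_isPGroup p K) ⟨_, h' hmem⟩
  refine ⟨k + j, ?_⟩
  apply Subtype.ext
  have := congrArg Subtype.val hj
  simp only [Subgroup.coe_pow, Subgroup.coe_one] at this ⊢
  rw [pow_add, pow_mul]
  exact this

/-- Characteristic `p` passes to normal subgroups. -/
theorem charP_of_normal {G : Type*} [Group G] [Finite G] (p : ℕ) [Fact p.Prime]
    (hchar : Subgroup.centralizer (Cfsg.pCore p G : Set G) ≤ Cfsg.pCore p G)
    (N : Subgroup G) (hN : N.IsSubnormal) :
    Subgroup.centralizer (Cfsg.pCore p ↥N : Set ↥N) ≤ Cfsg.pCore p ↥N := by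
  apply Cfsg.Agent.Lib.H7.centralizer_pCore_le_of_generalizedFittingSubgroup_eq p
  apply fstar_eq_pCore_of_subnormal p N hN
  exact Cfsg.Agent.Lib.H7.generalizedFittingSubgroup_eq_pCore_of_centralizer_le p hchar

/-- characteristic `p` transports along isomorphisms. -/
theorem charP_of_equiv {H H' : Type*} [Group H] [Group H'] [Finite H] (p : ℕ) [Fact p.Prime]
    (e : H ≃* H')
    (h : Subgroup.centralizer (Cfsg.pCore p H : Set H) ≤ Cfsg.pCore p H) :
    Subgroup.centralizer (Cfsg.pCore p H' : Set H') ≤ Cfsg.pCore p H' := by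
  have : Finite H' := Finite.of_equiv H e.toEquiv
  apply Cfsg.Agent.Lib.H7.centralizer_pCore_le_of_generalizedFittingSubgroup_eq p
  apply fstar_eq_pCore_of_equiv p e
  exact Cfsg.Agent.Lib.H7.generalizedFittingSubgroup_eq_pCore_of_centralizer_le p h

end Cfsg.Agent.Lib.H14
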