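import Mathlib
import Cfsg.Prelude.Def_Chevalley

set_option autoImplicit false

/-! # Base change of the Chevalley group of a datum along a field isomorphism (no certificates needed) -/

namespace Cfsg.Agent.Lib.H14.ChevBC

open Cfsg.Lie Matrix

variable (D : ChevalleyDatum) {K F : Type*} [Field K] [Field F]

theorem xMat_map (φ : K →+* F) (r : Fin D.nroots) (t : K) :
    (D.xMat K r t).map φ = D.xMat F r (φ t) := by
  ext row col
  rw [Matrix.map_apply]
  unfold ChevalleyDatum.xMat
  simp only [Matrix.of_apply]
  rcases col with i | s
  · rcases row with i' | u
    · simp only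
      split_ifs <;> simp
    · simp only
      split_ifs <;> simp
  · simp only
    by_cases h1 : s = r
    · simp only [h1, if_true]
      rcases row with i' | u
      · simp
      · simp only
        split_ifs <;> simp
    · simp only [h1, if_false]
      by_cases h2 : s.val = D.negIdx.getD r.val 0
      · simp only [h2, if_true]
        rcases row with i' | u
        · simp
        · simp only
          split_ifs <;> simp
      · simp only [h2, if_false]
        rcases row with i' | u
        · simp
        · simp only [map_add]
          congr 1
          · split_ifs <;> simp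
          · rw [map_list_sum, List.map_map]
            congr 1
            apply List.map_congr_left
            intro km _
            simp

/-- base change of invertible matrices along a ring isomorphism -/
noncomputable def glE (ι : Type*) [Fintype ι] [DecidableEq ι] (e : K ≃+* F) : GL ι K ≃* GL ι F :=
  Units.mapEquiv (RingEquiv.mapMatrix e).toMulEquiv

theorem glE_val (ι : Type*) [Fintype ι] [DecidableEq ι] (e : K ≃+* F) (g : GL ι K) :
    ((glE ι e g : GL ι F) : Matrix ι ι F) = (g : Matrix ι ι K).map e := rfl

theorem map_group (e : K ≃+* F) :
    (D.group K).map (glE D.Idx e).toMonoidHom = D.group F := by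
  unfold ChevalleyDatum.group
  rw [MonoidHom.map_closure]
  congr 1
  ext g
  constructor
  · rintro ⟨g0, ⟨r, t, hg0⟩, rfl⟩
    refine ⟨r, e t, ?_⟩
    show ((glE D.Idx e g0 : GL D.Idx F) : Matrix D.Idx D.Idx F) = _
    rw [glE_val, hg0]
    exact xMat_map D (e : K →+* F) r t
  · rintro ⟨r, t, hg⟩
    refine ⟨(glE D.Idx e).symm g, ⟨r, e.symm t, ?_⟩, ?_⟩
    · have h1 : ((glE D.Idx e ((glE D.Idx e).symm g) : GL D.Idx F) : Matrix D.Idx D.Idx F)
          = D.xMat F r t := by
        rw [MulEquiv.apply_symm_apply, hg]
      rw [glE_val] at h1
      have h2 := xMat_map D (e : K →+* F) r (e.symm t)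
      simp only [RingEquiv.coe_toRingHom, RingEquiv.apply_symm_apply] at h2
      rw [← h2] at h1
      ext a b
      have := congrFun (congrFun h1 a) b
      simp only [Matrix.map_apply] at this
      exact e.injective this
    · simp

/-- the Chevalley groups of a datum over isomorphic fields are isomorphic -/
noncomputable def groupEquiv (e : K ≃+* F) : ↥(D.group K) ≃* ↥(D.group F) :=
  ((glE D.Idx e).subgroupMap (D.group K)).trans (MulEquiv.subgroupCongr (map_group D e))

end Cfsg.Agent.Lib.H14.ChevBC
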