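import Cfsg.Agent.Lib.H14.Amalgam6
set_option autoImplicit false
open Cfsg

namespace Cfsg.Agent.Lib.H14

/-- if `pCore p K = ⊥` then a `p`-subgroup of `K` normalized by `K` is trivial. -/
theorem eq_bot_of_pCore_eq_bot {X : Type*} [Group X] (p : ℕ) (K N : Subgroup X)
    (hO : Cfsg.pCore p ↥K = ⊥) (hNK : N ≤ K) (hnorm : K ≤ Subgroup.normalizer (N : Set X))
    (hN : IsPGroup p N) : N = ⊥ := by
  have := le_pCoreOf p K N hNK hnorm hN
  unfold Cfsg.pCoreOf at this
  rw [hO, Subgroup.map_bot] at this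
  exact le_bot_iff.mp this

/-- In a subgroup whose elements commute pairwise, generators of `p`-power order give a `p`-group. -/
theorem isPGroup_closure_of_comm {X : Type*} [Group X] (p : ℕ) (s : Set X)
    (hs : ∀ x ∈ s, ∃ j : ℕ, x ^ (p ^ j) = 1)
    (hcomm : ∀ x ∈ Subgroup.closure s, ∀ y ∈ Subgroup.closure s, x * y = y * x) :
    IsPGroup p (Subgroup.closure s) := by
  have key : ∀ x ∈ Subgroup.closure s, ∃ j : ℕ, x ^ (p ^ j) = 1 := by
    intro x hx
    induction hx using Subgroup.closure_induction with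
    | mem x hx => exact hs x hx
    | one => exact ⟨0, by simp⟩
    | mul x y hx hy ihx ihy =>
      obtain ⟨j, hj⟩ := ihx
      obtain ⟨k, hk⟩ := ihy
      refine ⟨j + k, ?_⟩
      have hc : Commute x y := hcomm x hx y hy
      rw [hc.mul_pow, pow_add, pow_mul, hj, one_pow, one_mul, mul_comm (p ^ j), pow_mul, hk, one_pow]
    | inv x hx ih =>
      obtain ⟨j, hj⟩ := ih
      exact ⟨j, by rw [inv_pow, hj, inv_one]⟩
  rintro ⟨x, hx⟩
  obtain ⟨j, hj⟩ := key x hx
  exact ⟨j, Subtype.ext hj⟩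

end Cfsg.Agent.Lib.H14
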