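import Mathlib

set_option autoImplicit false

/-! # Commutator subgroups of groups given by generators -/

namespace Cfsg.Agent.Lib.H14.CommClosure

open scoped commutatorElement

variable {G : Type*} [Group G]

/-- if the generators normalize `T` and commute modulo `T`, the derived subgroup lies in `T` -/
theorem commutator_closure_le (S : Set G) (T : Subgroup G)
    (hN : ∀ s ∈ S, ∀ h ∈ T, s * h * s⁻¹ ∈ T ∧ s⁻¹ * h * s ∈ T)
    (hc : ∀ s ∈ S, ∀ t ∈ S, ⁅s, t⁆ ∈ T) :
    ⁅Subgroup.closure S, Subgroup.closure S⁆ ≤ T := by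
  have hconj2 : ∀ x ∈ Subgroup.closure S, ∀ h ∈ T, x * h * x⁻¹ ∈ T ∧ x⁻¹ * h * x ∈ T := by
    intro x hx
    induction hx using Subgroup.closure_induction with
    | mem s hs => exact hN s hs
    | one => intro h hh; simpa using hh
    | mul x y hx hy h1 h2 =>
      intro h hh
      constructor
      · have : x * y * h * (x * y)⁻¹ = x * (y * h * y⁻¹) * x⁻¹ := by group
        rw [this]
        exact (h1 _ (h2 h hh).1).1
      · have : (x * y)⁻¹ * h * (x * y) = y⁻¹ * (x⁻¹ * h * x) * y := by group
        rw [this]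
        exact (h2 _ (h1 h hh).2).2
    | inv x hx h1 =>
      intro h hh
      constructor
      · have : x⁻¹ * h * x⁻¹⁻¹ = x⁻¹ * h * x := by group
        rw [this]
        exact (h1 h hh).2
      · have : x⁻¹⁻¹ * h * x⁻¹ = x * h * x⁻¹ := by group
        rw [this]
        exact (h1 h hh).1
  have hconj : ∀ x ∈ Subgroup.closure S, ∀ h ∈ T, x * h * x⁻¹ ∈ T :=
    fun x hx h hh => (hconj2 x hx h hh).1
  rw [Subgroup.commutator_le]
  intro x hx y hy
  induction hx, hy using Subgroup.closure_induction₂ with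
  | mem x y hx hy => exact hc x hx y hy
  | one_left x hx => rw [commutatorElement_one_left]; exact one_mem _
  | one_right x hx => rw [commutatorElement_one_right]; exact one_mem _
  | mul_left x y z hx hy hz h1 h2 =>
    have : ⁅x * y, z⁆ = x * ⁅y, z⁆ * x⁻¹ * ⁅x, z⁆ := by
      simp only [commutatorElement_def]; group
    rw [this]
    exact mul_mem (hconj x hx _ h2) h1
  | mul_right y z x hy hz hx h1 h2 =>
    have : ⁅x, y * z⁆ = ⁅x, y⁆ * (y * ⁅x, z⁆ * y⁻¹) := by
      simp only [commutatorElement_def]; group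
    rw [this]
    exact mul_mem h1 (hconj y hy _ h2)
  | inv_left x y hx hy h =>
    have : ⁅x⁻¹, y⁆ = x⁻¹ * ⁅x, y⁆⁻¹ * x⁻¹⁻¹ := by
      simp only [commutatorElement_def]; group
    rw [this]
    exact hconj x⁻¹ (inv_mem hx) _ (inv_mem h)
  | inv_right x y hx hy h =>
    have : ⁅x, y⁻¹⁆ = y⁻¹ * ⁅x, y⁆⁻¹ * y⁻¹⁻¹ := by
      simp only [commutatorElement_def]; group
    rw [this]
    exact hconj y⁻¹ (inv_mem hy) _ (inv_mem h)

/-- in a group generated by involutions every square lies in the derived subgroup -/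
theorem sq_mem_commutator (S : Set G) (hS : ∀ s ∈ S, s ^ 2 = 1) (x : G)
    (hx : x ∈ Subgroup.closure S) : x ^ 2 ∈ ⁅Subgroup.closure S, Subgroup.closure S⁆ := by
  induction hx using Subgroup.closure_induction with
  | mem s hs => rw [hS s hs]; exact one_mem _
  | one => rw [one_pow]; exact one_mem _
  | mul x y hx hy h1 h2 =>
    have : (x * y) ^ 2 = x ^ 2 * ⁅x⁻¹, y⁆ * y ^ 2 := by
      simp only [commutatorElement_def, pow_two]; group
    rw [this]
    exact mul_mem (mul_mem h1 (Subgroup.commutator_mem_commutator (inv_mem hx) hy)) h2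
  | inv x hx h =>
    have : (x⁻¹) ^ 2 = (x ^ 2)⁻¹ := by group
    rw [this]
    exact inv_mem h

/-- conjugation by an involution that maps the generators of `T` into `T` preserves `T` -/
theorem conj_mem_of_involution (g : G) (hg : g ^ 2 = 1) (S : Set G)
    (h : ∀ s ∈ S, g * s * g⁻¹ ∈ Subgroup.closure S) :
    ∀ x ∈ Subgroup.closure S, g * x * g⁻¹ ∈ Subgroup.closure S ∧
      g⁻¹ * x * g ∈ Subgroup.closure S := by
  have hginv : g⁻¹ = g := by
    rw [inv_eq_iff_mul_eq_one, ← pow_two, hg]
  have key : ∀ x ∈ Subgroup.closure S, g * x * g⁻¹ ∈ Subgroup.closure S := by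
    intro x hx
    induction hx using Subgroup.closure_induction with
    | mem s hs => exact h s hs
    | one => simp
    | mul x y hx hy h1 h2 =>
      have : g * (x * y) * g⁻¹ = (g * x * g⁻¹) * (g * y * g⁻¹) := by group
      rw [this]
      exact mul_mem h1 h2
    | inv x hx h1 =>
      have : g * x⁻¹ * g⁻¹ = (g * x * g⁻¹)⁻¹ := by group
      rw [this]
      exact inv_mem h1
  intro x hx
  refine ⟨key x hx, ?_⟩
  have := key x hx
  rw [hginv] at this ⊢
  exact this

end Cfsg.Agent.Lib.H14.CommClosure
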