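import Mathlib
import Cfsg.Agent.Lib.H22.QuatSylowSL23
import Cfsg.Agent.Lib.H16.AutIndexTwo

set_option autoImplicit false

namespace Cfsg.Agent.Lib.H14.DLike

open Subgroup

variable {G : Type*} [Group G]

/-- abstract dihedral-like / semidihedral-like 2-group `T ≤ G`: `⟨c⟩` of index 2, `z` the involution of `⟨c⟩`,
outside elements square to `1` or `z` and invert the elements of `⟨c⟩` of order dividing 4. -/
structure DL (T : Subgroup G) (c z : G) : Prop where
  c_mem : c ∈ T
  z_mem : z ∈ zpowers c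
  z_sq : z * z = 1
  z_ne : z ≠ 1
  idx : ∀ s ∈ T, ∀ t ∈ T, s ∉ zpowers c → t ∉ zpowers c → s * t ∈ zpowers c
  sq : ∀ t ∈ T, t ∉ zpowers c → t * t = 1 ∨ t * t = z
  inv4 : ∀ t ∈ T, t ∉ zpowers c → ∀ a ∈ zpowers c, a ^ 4 = 1 → t * a * t⁻¹ = a⁻¹
  uniq : ∀ a ∈ zpowers c, a * a = 1 → a = 1 ∨ a = z

namespace DL

variable {T : Subgroup G} {c z : G}

theorem zpowers_le (d : DL T c z) : zpowers c ≤ T := by
  rw [Subgroup.zpowers_le]; exact d.c_mem

theorem z_memT (d : DL T c z) : z ∈ T := d.zpowers_le d.z_mem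

theorem z_central (d : DL T c z) : z ∈ centralizer (T : Set G) := by
  rw [mem_centralizer_iff]
  intro t ht
  by_cases htc : t ∈ zpowers c
  · obtain ⟨k, rfl⟩ := mem_zpowers_iff.mp htc
    obtain ⟨l, hl⟩ := mem_zpowers_iff.mp d.z_mem
    rw [← hl, ← zpow_add, ← zpow_add, add_comm]
  · have h4 : z ^ 4 = 1 := by
      have : z ^ 4 = (z * z) * (z * z) := by simp [pow_succ, mul_assoc]
      rw [this, d.z_sq, one_mul]
    have h := d.inv4 t ht htc z d.z_mem h4
    have hzinv : z⁻¹ = z := inv_eq_of_mul_eq_one_left d.z_sq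
    rw [hzinv] at h
    calc t * z = t * z * t⁻¹ * t := by group
      _ = z * t := by rw [h]

theorem analysis [Finite G] (d : DL T c z) (hT2 : IsPGroup 2 T) {R : Subgroup G} (hRT : R ≤ T)
    {g : G} (hgN : g ∈ normalizer (R : Set G)) (hodd : Odd (orderOf g))
    (hgC : g ∉ centralizer (R : Set G)) :
    (Nat.card R = 4 ∧ ∀ u ∈ R, u * u = 1) ∨
    (∃ x y : G, x ∈ R ∧ y ∈ R ∧ x ^ 4 = 1 ∧ x ^ 2 ≠ 1 ∧ y * y = x ^ 2 ∧ y * x * y⁻¹ = x⁻¹ ∧
       R = closure {x, y} ∧ Nat.card R = 8) := by
  have key0 : ¬ IsPGroup 2 (MulAut R) := fun hA =>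
    hgC (Cfsg.Agent.Lib.H22.mem_centralizer_of_isPGroup_mulAut R hgN
      (Nat.coprime_two_right.mpr hodd) hA)
  have hR2 : IsPGroup 2 R := hT2.to_le hRT
  have hcyc : ¬ IsCyclic R := fun h =>
    key0 (Cfsg.Agent.Lib.H16.isPGroup_mulAut_of_isCyclic hR2)
  have hnle : ¬ R ≤ zpowers c := fun hle => hcyc (Subgroup.isCyclic_of_le hle)
  obtain ⟨y, hyR, hyc⟩ := SetLike.not_le_iff_exists.mp hnle
  -- the cyclic part
  obtain ⟨A, hA⟩ : ∃ A : Subgroup G, A = R ⊓ zpowers c := ⟨_, rfl⟩
  have hAR : A ≤ R := hA ▸ inf_le_left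
  have hAc : A ≤ zpowers c := hA ▸ inf_le_right
  have hAcyc : IsCyclic A := Subgroup.isCyclic_of_le hAc
  obtain ⟨⟨a, haA⟩, hgen⟩ := hAcyc.exists_generator
  have hAz : A = zpowers a := by
    apply le_antisymm
    · intro u hu
      obtain ⟨k, hk⟩ := mem_zpowers_iff.mp (hgen ⟨u, hu⟩)
      refine mem_zpowers_iff.mpr ⟨k, ?_⟩
      have := congrArg Subtype.val hk
      simpa using this
    · rw [Subgroup.zpowers_le]; exact haA
  have haR : a ∈ R := hAR haA
  have hac : a ∈ zpowers c := hAc haA
  have hmemA : ∀ u ∈ R, u ∉ A → u ∉ zpowers c := fun u hu huA huc => huA (hA ▸ ⟨hu, huc⟩)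
  have hidx : ∀ s ∈ R, ∀ t ∈ R, s ∉ A → t ∉ A → s * t ∈ A := by
    intro s hs t ht hsA htA
    rw [hA]
    exact ⟨R.mul_mem hs ht, d.idx s (hRT hs) t (hRT ht) (hmemA s hs hsA) (hmemA t ht htA)⟩
  have hyA : y ∉ A := fun h => hyc (hAc h)
  have hindex : (A.subgroupOf R).index = 2 := by
    rw [Subgroup.index_eq_two_iff]
    refine ⟨⟨y, hyR⟩, fun b => ?_⟩
    by_cases hb : (b : G) ∈ A
    · refine Or.inr ⟨?_, ?_⟩
      · rw [mem_subgroupOf]; exact hb
      · rw [mem_subgroupOf]
        intro h
        apply hyA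
        have : y = (b : G)⁻¹ * ((b : G) * y) := by group
        rw [this]
        exact A.mul_mem (A.inv_mem hb) h
    · refine Or.inl ⟨?_, ?_⟩
      · rw [mem_subgroupOf]; exact hidx b b.2 y hyR hb hyA
      · rw [mem_subgroupOf]; exact hb
  have hcard : Nat.card R = 2 * orderOf a := by
    have h1 := (A.subgroupOf R).card_mul_index
    rw [hindex] at h1
    have h2 : Nat.card (A.subgroupOf R) = Nat.card A :=
      Nat.card_congr (Subgroup.subgroupOfEquivOfLe hAR).toEquiv
    rw [h2, hAz, Nat.card_zpowers] at h1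
    omega
  by_cases hall : ∀ s ∈ R, s ∉ A → orderOf s ≠ orderOf a
  · exfalso
    apply key0
    apply Cfsg.Agent.Lib.H16.isPGroup_mulAut_of_cyclic_index_two hR2 ⟨a, haR⟩
    · rw [hcard, Subgroup.orderOf_mk]
    · intro u hu
      rw [Subgroup.orderOf_mk, Subgroup.orderOf_mk]
      have huA : (u : G) ∉ A := by
        intro h
        apply hu
        rw [hAz] at h
        obtain ⟨k, hk⟩ := mem_zpowers_iff.mp h
        refine mem_zpowers_iff.mpr ⟨k, ?_⟩
        apply Subtype.ext
        simpa using hk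
      exact hall u u.2 huA
  · push Not at hall
    obtain ⟨s, hsR, hsA, hsa⟩ := hall
    have hsc : s ∉ zpowers c := hmemA s hsR hsA
    have hs1 : s ≠ 1 := fun h => hsA (h ▸ A.one_mem)
    rcases d.sq s (hRT hsR) hsc with hss | hss
    · -- order 2
      left
      have hos : orderOf s = 2 := orderOf_eq_prime (by rw [pow_two]; exact hss) hs1
      have hoa : orderOf a = 2 := by rw [← hsa, hos]
      have hcard4 : Nat.card R = 4 := by rw [hcard, hoa]
      refine ⟨hcard4, ?_⟩
      by_contra hex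
      push Not at hex
      obtain ⟨u, huR, huu⟩ := hex
      have huA : u ∉ A := by
        intro h
        rw [hAz] at h
        obtain ⟨k, rfl⟩ := mem_zpowers_iff.mp h
        apply huu
        rw [← zpow_add, ← two_mul, zpow_mul, zpow_two]
        have : a * a = 1 := by
          have := pow_orderOf_eq_one a
          rwa [hoa, pow_two] at this
        rw [this, one_zpow]
      have huc := hmemA u huR huA
      have huz : u * u = z := (d.sq u (hRT huR) huc).resolve_left huu
      have hu4 : u ^ 4 = 1 := by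
        have : u ^ 4 = (u * u) * (u * u) := by simp [pow_succ, mul_assoc]
        rw [this, huz, d.z_sq]
      have hu2 : u ^ 2 ≠ 1 := by rw [pow_two]; exact huu
      have hou : orderOf u = 4 := Cfsg.Agent.Lib.H22.orderOf_eq_four hu4 hu2
      apply hcyc
      apply isCyclic_of_orderOf_eq_card (⟨u, huR⟩ : R)
      rw [Subgroup.orderOf_mk, hou, hcard4]
    · -- order 4
      right
      have hs4 : s ^ 4 = 1 := by
        have : s ^ 4 = (s * s) * (s * s) := by simp [pow_succ, mul_assoc]
        rw [this, hss, d.z_sq]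
      have hs2 : s ^ 2 ≠ 1 := by rw [pow_two, hss]; exact d.z_ne
      have hos : orderOf s = 4 := Cfsg.Agent.Lib.H22.orderOf_eq_four hs4 hs2
      have hoa : orderOf a = 4 := by rw [← hsa, hos]
      have ha4 : a ^ 4 = 1 := by rw [← hoa]; exact pow_orderOf_eq_one a
      have ha2 : a ^ 2 ≠ 1 := by
        intro h
        have := orderOf_dvd_of_pow_eq_one h
        rw [hoa] at this
        omega
      have haa : a * a = z := by
        have h1 : a * a ∈ zpowers c := (zpowers c).mul_mem hac hac
        have h2 : (a * a) * (a * a) = 1 := by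
          have : a ^ 4 = (a * a) * (a * a) := by simp [pow_succ, mul_assoc]
          rw [← this, ha4]
        rcases d.uniq _ h1 h2 with h | h
        · exfalso; apply ha2; rw [pow_two]; exact h
        · exact h
      have hinv := d.inv4 s (hRT hsR) hsc a hac ha4
      refine ⟨a, s, haR, hsR, ha4, ha2, ?_, hinv, ?_, ?_⟩
      · rw [hss, pow_two, haa]
      · apply le_antisymm
        · intro u hu
          by_cases huA : u ∈ A
          · rw [hAz] at huA
            exact (Subgroup.zpowers_le.mpr (subset_closure (by simp))) huA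
          · have h1 := hidx s hsR u hu hsA huA
            rw [hAz] at h1
            have h2 : s * u ∈ closure ({a, s} : Set G) :=
              (Subgroup.zpowers_le.mpr (subset_closure (by simp))) h1
            have h3 : s ∈ closure ({a, s} : Set G) := subset_closure (by simp)
            have : u = s⁻¹ * (s * u) := by group
            rw [this]
            exact Subgroup.mul_mem _ (Subgroup.inv_mem _ h3) h2
        · rw [closure_le]
          rintro u (rfl | rfl)
          · exact haR
          · exact hsR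
      · rw [hcard, hoa]

end DL

end Cfsg.Agent.Lib.H14.DLike
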