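import Mathlib
import Cfsg.Agent.Lib.H5.QuasiDihedral
import Cfsg.Agent.Lib.L0.DihedralKlein
import Cfsg.Agent.Lib.H14.DLike1

set_option autoImplicit false

namespace Cfsg.Agent.Lib.H14.DLike

open Subgroup

variable {G : Type*} [Group G]

theorem DL.map {S : Type*} [Group S] {T : Subgroup S} {c z : S} (d : DL T c z) (f : S →* G)
    (hf : Function.Injective f) : DL (T.map f) (f c) (f z) := by
  have hz : ∀ t : S, f t ∈ zpowers (f c) ↔ t ∈ zpowers c := by
    intro t
    rw [← MonoidHom.map_zpowers, Subgroup.mem_map_iff_mem hf]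
  refine ⟨Subgroup.mem_map_of_mem f d.c_mem, (hz z).mpr d.z_mem, ?_, ?_, ?_, ?_, ?_, ?_⟩
  · rw [← map_mul, d.z_sq, map_one]
  · intro h
    apply d.z_ne
    apply hf
    rw [h, map_one]
  · rintro _ ⟨s, hs, rfl⟩ _ ⟨t, ht, rfl⟩ hsc htc
    rw [hz] at hsc htc
    rw [← map_mul, hz]
    exact d.idx s hs t ht hsc htc
  · rintro _ ⟨t, ht, rfl⟩ htc
    rw [hz] at htc
    rcases d.sq t ht htc with h | h
    · left; rw [← map_mul, h, map_one]
    · right; rw [← map_mul, h]
  · rintro _ ⟨t, ht, rfl⟩ htc a hac ha4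
    rw [hz] at htc
    rw [← MonoidHom.map_zpowers] at hac
    obtain ⟨a, ha, rfl⟩ := hac
    have ha4' : a ^ 4 = 1 := by
      apply hf
      rw [map_pow, ha4, map_one]
    rw [← map_inv, ← map_inv, ← map_mul, ← map_mul, d.inv4 t ht htc a ha ha4']
  · intro a hac haa
    rw [← MonoidHom.map_zpowers] at hac
    obtain ⟨a, ha, rfl⟩ := hac
    have haa' : a * a = 1 := by
      apply hf
      rw [map_mul, haa, map_one]
    rcases d.uniq a ha haa' with h | h
    · left; rw [h, map_one]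
    · right; rw [h]

section dihedral

open DihedralGroup Cfsg.Agent.Lib.L0.Dih

theorem r_mem_zpowers {n : ℕ} (i : ZMod n) : (r i : DihedralGroup n) ∈ zpowers (r 1) := by
  rcases n with _ | n
  · -- ZMod 0 = ℤ
    refine mem_zpowers_iff.mpr ⟨(i : ℤ), ?_⟩
    exact DihedralGroup.r_one_zpow i
  · refine mem_zpowers_iff.mpr ⟨(i.val : ℤ), ?_⟩
    rw [zpow_natCast, r_one_pow, ZMod.natCast_zmod_val]

theorem mem_zpowers_r_iff {n : ℕ} (g : DihedralGroup n) :
    g ∈ zpowers (r 1 : DihedralGroup n) ↔ ∃ i, g = r i := by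
  constructor
  · intro h
    obtain ⟨k, rfl⟩ := mem_zpowers_iff.mp h
    exact ⟨_, DihedralGroup.r_one_zpow k⟩
  · rintro ⟨i, rfl⟩
    exact r_mem_zpowers i

theorem dl_dihedral {n : ℕ} [NeZero n] (hn : 2 ∣ n) :
    DL (⊤ : Subgroup (DihedralGroup n)) (r 1) (r (hf n)) := by
  refine ⟨mem_top _, r_mem_zpowers _, ?_, ?_, ?_, ?_, ?_, ?_⟩
  · rw [r_mul_r, hf_add_self hn, one_def]
  · rw [one_def]
    intro h
    exact hf_ne_zero hn (r.inj h)
  · intro s _ t _ hs ht
    rcases s with i | i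
    · exact absurd (r_mem_zpowers i) hs
    rcases t with j | j
    · exact absurd (r_mem_zpowers j) ht
    rw [sr_mul_sr]
    exact r_mem_zpowers _
  · intro t _ ht
    rcases t with i | i
    · exact absurd (r_mem_zpowers i) ht
    left
    rw [sr_mul_sr, sub_self, one_def]
  · intro t _ ht a ha _
    rcases t with i | i
    · exact absurd (r_mem_zpowers i) ht
    obtain ⟨j, rfl⟩ := (mem_zpowers_r_iff a).mp ha
    simp
  · intro a ha haa
    obtain ⟨j, rfl⟩ := (mem_zpowers_r_iff a).mp ha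
    rw [r_mul_r, one_def] at haa
    rcases eq_zero_or_eq_hf hn (r.inj haa) with h | h
    · left; rw [h, one_def]
    · right; rw [h]

end dihedral

section sd

open Cfsg.Agent.Lib.H5.SD

theorem dl_sd {S : Type*} [Group S] {n : ℕ} {x y : S} (d : Gens S n x y) :
    DL (⊤ : Subgroup S) x (xp n x (hh n)) := by
  have hn1 := d.hn1
  have hmem : ∀ a, xp n x a ∈ zpowers x := fun a => (d.mem_zpowers_iff _).mpr ⟨a, rfl⟩
  refine ⟨mem_top _, hmem _, d.xp_hh_sq, d.xp_hh_ne_one, ?_, ?_, ?_, ?_⟩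
  · intro s _ t _ hs ht
    rcases d.cases s with ⟨a, rfl⟩ | ⟨a, rfl⟩
    · exact absurd (hmem a) hs
    rcases d.cases t with ⟨b, rfl⟩ | ⟨b, rfl⟩
    · exact absurd (hmem b) ht
    rw [d.xpy_mul_xpy]
    exact hmem _
  · intro t _ ht
    rcases d.cases t with ⟨a, rfl⟩ | ⟨a, rfl⟩
    · exact absurd (hmem a) ht
    rw [d.xpy_sq]
    rcases hh_mul_cases hn1 a with h | h
    · left; rw [h, Gens.xp_zero]
    · right; rw [h]
  · intro t _ ht a ha ha4
    rcases d.cases t with ⟨b, rfl⟩ | ⟨b, rfl⟩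
    · exact absurd (hmem b) ht
    obtain ⟨α, rfl⟩ := (d.mem_zpowers_iff a).mp ha
    rw [d.xp_pow, d.xp_eq_one_iff] at ha4
    rw [d.xpy_mul_xp, d.xpy_inv, d.xpy_mul_xpy, ← d.xp_neg]
    congr 1
    have hhα : hh n * α = 0 := by
      have h1 : hh n = ((2 ^ (n - 3) : ℕ) : ZMod (2 ^ n)) * 4 := by
        unfold hh
        have : 2 ^ (n - 1) = 2 ^ (n - 3) * 4 := by
          have hn := d.hn
          have : n - 1 = (n - 3) + 2 := by omega
          rw [this, pow_add]; norm_num
        rw [this]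
        push_cast
        ring
      rw [h1, mul_assoc]
      have : (4 : ZMod (2 ^ n)) * α = 0 := by
        have := ha4
        push_cast at this
        exact this
      rw [this, mul_zero]
    have hmm := mm_mul_mm (n := n) d.hn2
    unfold mm at hmm ⊢
    linear_combination (-b) * hmm + hhα
  · intro a ha haa
    obtain ⟨α, rfl⟩ := (d.mem_zpowers_iff a).mp ha
    rw [← d.xp_add, d.xp_eq_one_iff] at haa
    rcases two_torsion hn1 α (by rw [two_mul]; exact haa) with h | h
    · left; rw [h, Gens.xp_zero]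
    · right; rw [h]

end sd

end Cfsg.Agent.Lib.H14.DLike
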