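import Mathlib
import Cfsg.Agent.Lib.H14.DLike2
import Cfsg.Prelude.Def_CaseTheorems

set_option autoImplicit false

namespace Cfsg.Agent.Lib.H14.DLike

open Subgroup

variable {G : Type*} [Group G]

theorem exists_dl [Finite G] (T : Sylow 2 G)
    (hT : (∃ n : ℕ, 4 ≤ n ∧ Nonempty (↥(T : Subgroup G) ≃* DihedralGroup n)) ∨
      Cfsg.IsQuasiDihedral ↥(T : Subgroup G)) :
    ∃ c z : G, DL (T : Subgroup G) c z ∧ 8 ≤ Nat.card (T : Subgroup G) := by
  rcases hT with ⟨n, hn, ⟨e⟩⟩ | hT
  · have hne : NeZero n := ⟨by omega⟩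
    have hcard : Nat.card (T : Subgroup G) = 2 * n := by
      rw [Nat.card_congr e.toEquiv, DihedralGroup.nat_card]
    obtain ⟨k, hk⟩ := IsPGroup.iff_card.mp T.2
    have h2n : 2 ∣ n := by
      rw [hcard] at hk
      rcases k with _ | _ | k
      · omega
      · omega
      · rw [pow_succ, pow_succ] at hk
        exact ⟨2 ^ k, by omega⟩
    obtain ⟨f, hf⟩ : ∃ f : DihedralGroup n →* G, f = (T : Subgroup G).subtype.comp e.symm.toMonoidHom :=
      ⟨_, rfl⟩
    have hfi : Function.Injective f := by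
      rw [hf]
      exact (Subgroup.subtype_injective _).comp e.symm.injective
    have hmap : (⊤ : Subgroup (DihedralGroup n)).map f = (T : Subgroup G) := by
      rw [hf, ← Subgroup.map_map, Subgroup.map_top_of_surjective _ e.symm.surjective,
        ← MonoidHom.range_eq_map, Subgroup.range_subtype]
    have d := (dl_dihedral h2n).map f hfi
    rw [hmap] at d
    exact ⟨_, _, d, by rw [hcard]; omega⟩
  · obtain ⟨n, x, y, d0⟩ := Cfsg.Agent.Lib.H5.SD.exists_gens hT
    have d := (dl_sd d0).map (T : Subgroup G).subtype (Subgroup.subtype_injective _)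
    rw [← MonoidHom.range_eq_map, Subgroup.range_subtype] at d
    refine ⟨_, _, d, ?_⟩
    rw [d0.hcard]
    have := d0.hn
    calc 8 = 2 ^ 3 := by norm_num
      _ ≤ 2 ^ (n + 1) := Nat.pow_le_pow_right (by norm_num) (by omega)

end Cfsg.Agent.Lib.H14.DLike
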