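import Mathlib
import Cfsg.Agent.Lib.H14.DLike3
import Cfsg.Agent.Lib.H16.SolvableCore
import Cfsg.Agent.Lib.H5.AutQ8
import Cfsg.Agent.Lib.H5.SimpleTools
import Cfsg.Agent.Lib.H22.DihQuatRecog
import Cfsg.Agent.Lib.H22.SL23Recog
import Cfsg.Agent.Lib.H22.Q8Aut
import Cfsg.Agent.Lib.H1.PCore

set_option autoImplicit false

namespace Cfsg.Agent.Lib.H14.DLike

open Subgroup Cfsg

variable {G : Type*} [Group G]

/-- an odd-order element normalizing a subgroup `R` of order 4 and exponent 2, and centralizing a normal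
subgroup `Z ≤ R` of order 2, centralizes `R`. -/
theorem four_case [Finite G] {R Z : Subgroup G} (hZR : Z ≤ R) (hcard : Nat.card R = 4)
    (hexp : ∀ u ∈ R, u * u = 1) (hZ2 : Nat.card Z = 2) {g : G} (hodd : Odd (orderOf g))
    (hgR : ∀ u ∈ R, g * u * g⁻¹ ∈ R) (hgZ : ∀ u, g * u * g⁻¹ ∈ Z ↔ u ∈ Z) :
    g ∈ centralizer (R : Set G) := by
  have hcop : Nat.Coprime (orderOf g) 2 := Nat.coprime_two_right.mpr hodd
  have hgNZ : g ∈ normalizer (Z : Set G) := by
    rw [mem_normalizer_iff]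
    intro u
    exact (hgZ u).symm
  have hZcyc : IsCyclic Z := by
    have : Fact (Nat.Prime 2) := ⟨Nat.prime_two⟩
    exact isCyclic_of_prime_card hZ2
  have hZp : IsPGroup 2 Z := IsPGroup.of_card (n := 1) (by rw [hZ2, pow_one])
  have hgCZ : g ∈ centralizer (Z : Set G) :=
    Cfsg.Agent.Lib.H22.mem_centralizer_of_isPGroup_mulAut Z hgNZ hcop
      (Cfsg.Agent.Lib.H16.isPGroup_mulAut_of_isCyclic hZp)
  have hindex : (Z.subgroupOf R).index = 2 := by
    have h1 := (Z.subgroupOf R).card_mul_index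
    have h2 : Nat.card (Z.subgroupOf R) = Nat.card Z :=
      Nat.card_congr (Subgroup.subgroupOfEquivOfLe hZR).toEquiv
    rw [h2, hZ2, hcard] at h1
    omega
  rw [mem_centralizer_iff]
  intro u hu
  by_cases huZ : u ∈ Z
  · exact (mem_centralizer_iff.mp hgCZ) u huZ
  · have hguR := hgR u hu
    have hguZ : g * u * g⁻¹ ∉ Z := fun h => huZ ((hgZ u).mp h)
    have hw : u⁻¹ * (g * u * g⁻¹) ∈ Z := by
      have := (Subgroup.mul_mem_iff_of_index_two hindex (a := (⟨u⁻¹, R.inv_mem hu⟩ : R))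
        (b := (⟨g * u * g⁻¹, hguR⟩ : R))).mpr
        ⟨fun h => absurd (by simpa [mem_subgroupOf] using h) huZ,
         fun h => absurd (by simpa [mem_subgroupOf] using h) hguZ⟩
      simpa [mem_subgroupOf] using this
    obtain ⟨w, hwdef⟩ : ∃ w, w = u⁻¹ * (g * u * g⁻¹) := ⟨_, rfl⟩
    rw [← hwdef] at hw
    have hgu : g * u * g⁻¹ = u * w := by rw [hwdef]; group
    have hww : w * w = 1 := hexp w (hZR hw)
    have hgw : g * w * g⁻¹ = w := by
      have := (mem_centralizer_iff.mp hgCZ) w hw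
      rw [← this]; group
    have h2 : g ^ 2 * u * (g ^ 2)⁻¹ = u := by
      calc g ^ 2 * u * (g ^ 2)⁻¹ = g * (g * u * g⁻¹) * g⁻¹ := by rw [pow_two]; group
        _ = g * (u * w) * g⁻¹ := by rw [hgu]
        _ = (g * u * g⁻¹) * (g * w * g⁻¹) := by group
        _ = u * w * w := by rw [hgu, hgw]
        _ = u := by rw [mul_assoc, hww, mul_one]
    have hc2 : Commute (g ^ 2) u := by
      show g ^ 2 * u = u * g ^ 2
      calc g ^ 2 * u = g ^ 2 * u * (g ^ 2)⁻¹ * g ^ 2 := by group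
        _ = u * g ^ 2 := by rw [h2]
    exact (Cfsg.Agent.Lib.H22.commute_of_sq_commute_of_odd hodd hc2).eq.symm

end Cfsg.Agent.Lib.H14.DLike
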