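import Mathlib
import Cfsg.Agent.Lib.H14.DLike4

set_option autoImplicit false

namespace Cfsg.Agent.Lib.H14.DLike

open Subgroup Cfsg

variable {G : Type*} [Group G]

theorem q8_case [Finite G] {R : Subgroup G} (hRn : R.Normal)
    (hCR : centralizer (R : Set G) ≤ R)
    {x y : G} (hx4 : x ^ 4 = 1) (hx2 : x ^ 2 ≠ 1) (hyy : y * y = x ^ 2) (hyx : y * x * y⁻¹ = x⁻¹)
    (hR : R = closure {x, y}) (hcard : Nat.card R = 8) {g : G} {q : ℕ} (hq : q.Prime)
    (hgq : orderOf g = q) (hq2 : q ≠ 2) (hgC : g ∉ centralizer (R : Set G)) :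
    ∃ U : Subgroup G, U.Normal ∧
      Nonempty (U ≃* Matrix.SpecialLinearGroup (Fin 2) (ZMod 3)) := by
  have hodd : Odd (orderOf g) := by
    rw [hgq]; exact hq.odd_of_ne_two hq2
  have hxR : x ∈ R := by rw [hR]; exact subset_closure (by simp)
  have hyR : y ∈ R := by rw [hR]; exact subset_closure (by simp)
  have hgx : g * x * g⁻¹ ∈ closure ({x, y} : Set G) := by
    rw [← hR]; exact hRn.conj_mem x hxR g
  have hgy : g * y * g⁻¹ ∈ closure ({x, y} : Set G) := by
    rw [← hR]; exact hRn.conj_mem y hyR g
  have hnc : ¬ (Commute g x ∧ Commute g y) := by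
    rintro ⟨h1, h2⟩
    apply hgC
    have hle : closure ({x, y} : Set G) ≤ centralizer {g} := by
      rw [closure_le]
      rintro w (rfl | rfl)
      · exact mem_centralizer_singleton_iff.mpr h1.eq.symm
      · exact mem_centralizer_singleton_iff.mpr h2.eq.symm
    rw [mem_centralizer_iff]
    intro u hu
    rw [hR] at hu
    exact (mem_centralizer_singleton_iff.mp (hle hu))
  obtain ⟨i, j, hiR, hjR, hi4, hi2, hjj, hji, hgi, hgj⟩ :=
    Cfsg.Agent.Lib.H22.exists_sl23_gens hx4 hx2 hyy hyx hodd hgx hgy hnc
  rw [← hR] at hiR hjR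
  have hjij : j * i * j = i := by
    calc j * i * j = (j * i * j⁻¹) * (j * j) := by group
      _ = i⁻¹ * i ^ 2 := by rw [hji, hjj]
      _ = i := by group
  have h3i : g ^ 3 * i * (g ^ 3)⁻¹ = i := by
    calc g ^ 3 * i * (g ^ 3)⁻¹ = g * (g * (g * i * g⁻¹) * g⁻¹) * g⁻¹ := by
          rw [pow_succ, pow_two]; group
      _ = g * (g * j * g⁻¹) * g⁻¹ := by rw [hgi]
      _ = g * (i * j) * g⁻¹ := by rw [hgj]
      _ = (g * i * g⁻¹) * (g * j * g⁻¹) := by group
      _ = j * (i * j) := by rw [hgi, hgj]
      _ = i := by rw [← mul_assoc, hjij]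
  have hij : j ≠ i := by
    intro h1
    rw [h1] at hji
    have h2 : i = i⁻¹ := by
      calc i = i * i * i⁻¹ := by group
        _ = i⁻¹ := hji
    apply hi2
    calc i ^ 2 = i * i := pow_two i
      _ = i * i⁻¹ := by rw [← h2]
      _ = 1 := mul_inv_cancel i
  -- `q = 3`
  have hq3 : q = 3 := by
    by_contra hne
    have hcop : Nat.Coprime 3 (orderOf g) := by
      rw [hgq]
      exact (Nat.coprime_primes Nat.prime_three hq).mpr (Ne.symm hne)
    obtain ⟨m, hm⟩ := exists_pow_eq_self_of_coprime hcop
    have hc3 : Commute (g ^ 3) i := by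
      show g ^ 3 * i = i * g ^ 3
      calc g ^ 3 * i = g ^ 3 * i * (g ^ 3)⁻¹ * g ^ 3 := by group
        _ = i * g ^ 3 := by rw [h3i]
    have hc : Commute g i := by
      rw [← hm]; exact hc3.pow_left m
    apply hij
    rw [← hgi, hc.eq]; group
  have hg3 : g ^ 3 = 1 := by rw [← hq3, ← hgq]; exact pow_orderOf_eq_one g
  have hg1 : g ≠ 1 := by
    intro h
    rw [h, orderOf_one] at hgq
    rw [← hgq] at hq3
    omega
  obtain ⟨U, hUdef⟩ : ∃ U : Subgroup G, U = closure ({i, j, g} : Set G) := ⟨_, rfl⟩
  have hiU : i ∈ U := by rw [hUdef]; exact subset_closure (by simp)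
  have hjU : j ∈ U := by rw [hUdef]; exact subset_closure (by simp)
  have hgU : g ∈ U := by rw [hUdef]; exact subset_closure (by simp)
  have htriple : Cfsg.Agent.Lib.H22.SL23Triple (⟨i, hiU⟩ : U) ⟨j, hjU⟩ ⟨g, hgU⟩ :=
    { i4 := Subtype.ext (by simpa using hi4)
      i2 := fun h => hi2 (by simpa using congrArg Subtype.val h)
      jj := Subtype.ext (by simpa using hjj)
      ji := Subtype.ext (by simpa using hji)
      w3 := Subtype.ext (by simpa using hg3)
      w1 := fun h => hg1 (by simpa using congrArg Subtype.val h)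
      wi := Subtype.ext (by simpa using hgi)
      wj := Subtype.ext (by simpa using hgj) }
  have htop : closure ({⟨i, hiU⟩, ⟨j, hjU⟩, ⟨g, hgU⟩} : Set U) = ⊤ := by
    apply Subgroup.map_injective U.subtype_injective
    rw [MonoidHom.map_closure, ← MonoidHom.range_eq_map, Subgroup.range_subtype]
    conv_rhs => rw [hUdef]
    congr 1
    simp [Set.image_insert_eq]
  obtain ⟨e⟩ := htriple.nonempty_mulEquiv_sl23 htop
  have hUcard : Nat.card U = 24 := by
    rw [Nat.card_congr e.toEquiv, Nat.card_eq_fintype_card]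
    exact Cfsg.Agent.Lib.H2.SL23.card_G₀
  refine ⟨U, ?_, ⟨e⟩⟩
  -- normality via `|G| ∣ 48`
  have hRQ : Nonempty (R ≃* QuaternionGroup 2) := by
    apply Cfsg.Agent.Lib.H22.quaternion_equiv_of_gens 2 (⟨x, hxR⟩ : R) ⟨y, hyR⟩
    · exact Subtype.ext (by simpa using hx4)
    · exact Subtype.ext (by simpa using hyy)
    · exact Subtype.ext (by simpa using hyx)
    · apply Subgroup.map_injective R.subtype_injective
      rw [MonoidHom.map_closure, ← MonoidHom.range_eq_map, Subgroup.range_subtype]
      conv_rhs => rw [hR]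
      congr 1
      simp [Set.image_insert_eq]
    · rw [hcard]
  obtain ⟨eQ⟩ := hRQ
  have hAut : Nat.card (MulAut R) ∣ 24 := Cfsg.Agent.Lib.H5.AutQ8.card_mulAut_dvd_of_equiv eQ
  have hNC := Cfsg.Agent.Lib.H5.relIndex_centralizer_normalizer_dvd R
  rw [Subgroup.normalizer_eq_top, Subgroup.relIndex_top_right] at hNC
  have hCidx : (centralizer (R : Set G)).index ∣ 24 := hNC.trans hAut
  -- the centralizer has order at most 2
  have hiC : i ∉ centralizer (R : Set G) := by
    intro h
    have := (mem_centralizer_iff.mp h) j hjR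
    apply hij
    have h1 : j * i * j⁻¹ = i := by rw [this]; group
    have h2 : i = i⁻¹ := by rw [← hji, h1]
    exfalso
    apply hi2
    calc i ^ 2 = i * i := pow_two i
      _ = i * i⁻¹ := by rw [← h2]
      _ = 1 := mul_inv_cancel i
  have hjC : j ∉ centralizer (R : Set G) := by
    intro h
    have := (mem_centralizer_iff.mp h) i hiR
    have h1 : j * i * j⁻¹ = i := by rw [← this]; group
    have h2 : i = i⁻¹ := by rw [← hji, h1]
    apply hi2
    calc i ^ 2 = i * i := pow_two i
      _ = i * i⁻¹ := by rw [← h2]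
      _ = 1 := mul_inv_cancel i
  have hCcard : Nat.card (centralizer (R : Set G)) ∣ 2 := by
    have h1 : Nat.card (centralizer (R : Set G)) ∣ 2 ^ 3 := by
      have := Subgroup.card_dvd_of_le hCR
      rwa [hcard] at this
    obtain ⟨m, hm, hm2⟩ := (Nat.dvd_prime_pow Nat.prime_two).mp h1
    have hsub : Nat.card ((centralizer (R : Set G)).subgroupOf R) =
        Nat.card (centralizer (R : Set G)) :=
      Nat.card_congr (Subgroup.subgroupOfEquivOfLe hCR).toEquiv
    have hci := ((centralizer (R : Set G)).subgroupOf R).card_mul_index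
    rw [hsub, hcard, hm2] at hci
    interval_cases m
    · rw [hm2]; norm_num
    · rw [hm2]; norm_num
    · exfalso
      have hindex : ((centralizer (R : Set G)).subgroupOf R).index = 2 := by omega
      have := (Subgroup.mul_mem_iff_of_index_two hindex (a := (⟨i, hiR⟩ : R))
        (b := (⟨j, hjR⟩ : R))).mpr
        ⟨fun h => absurd (by simpa [mem_subgroupOf] using h) hiC,
         fun h => absurd (by simpa [mem_subgroupOf] using h) hjC⟩
      have hijC : i * j ∈ centralizer (R : Set G) := by simpa [mem_subgroupOf] using this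
      have := (mem_centralizer_iff.mp hijC) i hiR
      -- i * (i * j) = i * j * i  ⇒ i * j = j * i
      apply hjC
      have hcomm : i * j = j * i := by
        have h1 : i * (i * j) = i * (j * i) := by rw [this]; group
        exact mul_left_cancel h1
      rw [mem_centralizer_iff]
      intro u hu
      rw [hR] at hu
      have hle : closure ({x, y} : Set G) ≤ centralizer {j} := by
        rw [← hR]
        intro v hv
        exfalso
        have h1 : j * i * j⁻¹ = i := by rw [← hcomm]; group
        have h2 : i = i⁻¹ := by rw [← hji, h1]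
        apply hi2
        calc i ^ 2 = i * i := pow_two i
          _ = i * i⁻¹ := by rw [← h2]
          _ = 1 := mul_inv_cancel i
      exact (mem_centralizer_singleton_iff.mp (hle hu))
    · exfalso
      have hindex : ((centralizer (R : Set G)).subgroupOf R).index = 1 := by omega
      rw [Subgroup.index_eq_one, Subgroup.subgroupOf_eq_top] at hindex
      exact hiC (hindex hiR)
  have hG48 : Nat.card G ∣ 48 := by
    rw [← (centralizer (R : Set G)).card_mul_index]
    exact Nat.mul_dvd_mul hCcard hCidx
  have hUG := U.card_mul_index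
  rw [hUcard] at hUG
  have hUdvd : 24 ∣ Nat.card G := ⟨_, hUG.symm⟩
  have hGpos : 0 < Nat.card G := Nat.card_pos
  have hG : Nat.card G = 24 ∨ Nat.card G = 48 := by
    obtain ⟨a, ha⟩ := hUdvd
    obtain ⟨b, hb⟩ := hG48
    have : a * b = 2 := by nlinarith
    have ha12 : a = 1 ∨ a = 2 := by
      have : a ∣ 2 := ⟨b, this.symm⟩
      rcases (Nat.dvd_prime Nat.prime_two).mp this with h | h
      · left; exact h
      · right; exact h
    rcases ha12 with rfl | rfl
    · left; omega
    · right; omega
  rcases hG with hG | hG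
  · have : U.index = 1 := by rw [hG] at hUG; omega
    rw [Subgroup.index_eq_one] at this
    rw [this]; infer_instance
  · have : U.index = 2 := by rw [hG] at hUG; omega
    exact Subgroup.normal_of_index_eq_two this

end Cfsg.Agent.Lib.H14.DLike
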