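import Mathlib
import Cfsg.Agent.Lib.H6.DXSQUARE

/-!
# S4467 piece XARG (helper14): `exists_pow_of_nontrivial_action`

`A / Z` of order `r^(2m)` with `x` acting nontrivially, `x^p` trivially: the fixed points `C / Z`
have square order `r^(2c)` (SQUARE), `c < m`, and the fixed point congruence gives
`p ∣ r^(2(m-c)) - 1`.
-/

namespace Cfsg.Agent.Lib.H14.DX
open scoped commutatorElement

section alg
variable {G : Type*} [Group G]

/-- central factors drop out of a commutator -/
theorem xarg_comm_central {z₁ z₂ a x : G} (h₁ : z₁ ∈ Subgroup.center G) (h₂ : z₂ ∈ Subgroup.center G) :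
    ⁅z₁ * a, z₂ * x⁆ = ⁅a, x⁆ := by
  have c1 : ∀ g, Commute z₁ g := fun g => (Subgroup.mem_center_iff.mp h₁ g).symm
  have c2 : ∀ g, Commute z₂ g := fun g => (Subgroup.mem_center_iff.mp h₂ g).symm
  rw [commutatorElement_def, commutatorElement_def]
  calc z₁ * a * (z₂ * x) * (z₁ * a)⁻¹ * (z₂ * x)⁻¹
      = z₁ * (a * (z₂ * x) * a⁻¹) * z₁⁻¹ * (z₂ * x)⁻¹ := by group
    _ = (a * (z₂ * x) * a⁻¹) * (z₂ * x)⁻¹ := by
        rw [(c1 (a * (z₂ * x) * a⁻¹)).eq]; group
    _ = a * (z₂ * (x * a⁻¹ * x⁻¹) * z₂⁻¹) := by group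
    _ = a * x * a⁻¹ * x⁻¹ := by
        rw [(c2 (x * a⁻¹ * x⁻¹)).eq]; group

theorem xarg_conj_central {z : G} (hz : z ∈ Subgroup.center G) (g : G) : g * z * g⁻¹ = z := by
  rw [(Subgroup.mem_center_iff.mp hz g)]; group

/-- `a ↦ ⁅c, a⁆` is multiplicative when the commutators are central -/
theorem xarg_comm_mul {c a b : G} (hb : ⁅c, b⁆ ∈ Subgroup.center G) :
    ⁅c, a * b⁆ = ⁅c, a⁆ * ⁅c, b⁆ := by
  have : ⁅c, a * b⁆ = ⁅c, a⁆ * (a * ⁅c, b⁆ * a⁻¹) := by
    simp only [commutatorElement_def]; group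
  rw [this, xarg_conj_central hb]

/-- `⁅c, ·⁆` is invariant under conjugation by `x` when `⁅c, x⁆` is central -/
theorem xarg_comm_conj {c x b : G} (hx : ⁅c, x⁆ ∈ Subgroup.center G) (hb : ⁅c, b⁆ ∈ Subgroup.center G) :
    ⁅c, x * b * x⁻¹⁆ = ⁅c, b⁆ := by
  have e1 : ⁅c, x * b * x⁻¹⁆ = x * ⁅x⁻¹ * c * x, b⁆ * x⁻¹ := by
    simp only [commutatorElement_def]; group
  have e2 : x⁻¹ * c * x = ⁅c, x⁆ * c := by
    have h := Subgroup.mem_center_iff.mp hx x⁻¹
    calc x⁻¹ * c * x = (x⁻¹ * ⁅c, x⁆) * x * c := by simp only [commutatorElement_def]; group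
      _ = ⁅c, x⁆ * x⁻¹ * x * c := by rw [h]
      _ = ⁅c, x⁆ * c := by group
  have e3 : ⁅⁅c, x⁆ * c, b⁆ = ⁅c, b⁆ := by
    have := xarg_comm_central (a := c) (x := b) hx (Subgroup.one_mem _)
    rwa [one_mul] at this
  rw [e1, e2, e3, xarg_conj_central hb]

end alg

section main
variable {G : Type*} [Group G]

/-- `C`: the elements of `A` whose commutator with `x` is central -/
def xargC (A : Subgroup G) (x : G) : Subgroup G where
  carrier := {a | a ∈ A ∧ ⁅a, x⁆ ∈ Subgroup.center G}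
  one_mem' := ⟨A.one_mem, by simp⟩
  mul_mem' := by
    rintro a b ⟨ha, hax⟩ ⟨hb, hbx⟩
    refine ⟨A.mul_mem ha hb, ?_⟩
    have : ⁅a * b, x⁆ = (a * ⁅b, x⁆ * a⁻¹) * ⁅a, x⁆ := by
      simp only [commutatorElement_def]; group
    rw [this, xarg_conj_central hbx]
    exact (Subgroup.center G).mul_mem hbx hax
  inv_mem' := by
    rintro a ⟨ha, hax⟩
    refine ⟨A.inv_mem ha, ?_⟩
    have : ⁅a⁻¹, x⁆ = a⁻¹ * ⁅a, x⁆⁻¹ * a⁻¹⁻¹ := by
      simp only [commutatorElement_def]; group
    rw [this, xarg_conj_central (inv_mem hax)]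
    exact inv_mem hax

theorem mem_xargC {A : Subgroup G} {x a : G} :
    a ∈ xargC A x ↔ a ∈ A ∧ ⁅a, x⁆ ∈ Subgroup.center G := Iff.rfl

theorem xargC_le (A : Subgroup G) (x : G) : xargC A x ≤ A := fun _ h => h.1

theorem center_le_xargC {A : Subgroup G} (hZA : Subgroup.center G ≤ A) (x : G) :
    Subgroup.center G ≤ xargC A x := by
  intro z hz
  refine ⟨hZA hz, ?_⟩
  have : ⁅z, x⁆ = 1 := by
    rw [commutatorElement_eq_one_iff_commute]
    exact (Subgroup.mem_center_iff.mp hz x).symm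
  rw [this]; exact Subgroup.one_mem _

variable (A : Subgroup G) [A.Normal] (hcl : ⁅A, A⁆ ≤ Subgroup.center G)

omit [A.Normal] in
include hcl in
theorem xarg_comm_mem {a b : G} (ha : a ∈ A) (hb : b ∈ A) : ⁅a, b⁆ ∈ Subgroup.center G :=
  hcl (Subgroup.commutator_mem_commutator ha hb)

theorem xarg_conj_pow_mem {a : G} (ha : a ∈ A) (x : G) (k : ℕ) : x ^ k * a * (x ^ k)⁻¹ ∈ A :=
  ‹A.Normal›.conj_mem a ha (x ^ k)

/-- the partial norms `(a x)^k x^{-k}` -/
theorem xarg_norm_succ (a x : G) (k : ℕ) :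
    (a * x) ^ (k + 1) * (x ^ (k + 1))⁻¹ = ((a * x) ^ k * (x ^ k)⁻¹) * (x ^ k * a * (x ^ k)⁻¹) := by
  rw [pow_succ, pow_succ]
  generalize (a * x) ^ k = u
  generalize x ^ k = y
  group

theorem xarg_norm_mem {a : G} (ha : a ∈ A) (x : G) (k : ℕ) : (a * x) ^ k * (x ^ k)⁻¹ ∈ A := by
  induction k with
  | zero => simp
  | succ k ih =>
    rw [xarg_norm_succ]
    exact A.mul_mem ih (xarg_conj_pow_mem A ha x k)

include hcl in
theorem xarg_comm_conj_pow {c a x : G} (hc : c ∈ xargC A x) (ha : a ∈ A) (k : ℕ) :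
    ⁅c, x ^ k * a * (x ^ k)⁻¹⁆ = ⁅c, a⁆ := by
  induction k with
  | zero => simp
  | succ k ih =>
    have : x ^ (k + 1) * a * (x ^ (k + 1))⁻¹ = x * (x ^ k * a * (x ^ k)⁻¹) * x⁻¹ := by
      rw [pow_succ']; group
    rw [this, xarg_comm_conj hc.2 (xarg_comm_mem A hcl hc.1 (xarg_conj_pow_mem A ha x k)), ih]

include hcl in
theorem xarg_comm_norm {c a x : G} (hc : c ∈ xargC A x) (ha : a ∈ A) (k : ℕ) :
    ⁅c, (a * x) ^ k * (x ^ k)⁻¹⁆ = ⁅c, a⁆ ^ k := by
  induction k with
  | zero => simp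
  | succ k ih =>
    rw [xarg_norm_succ, xarg_comm_mul (xarg_comm_mem A hcl hc.1 (xarg_conj_pow_mem A ha x k)), ih,
      xarg_comm_conj_pow A hcl hc ha, pow_succ]

omit [A.Normal] in
include hcl in
theorem xarg_comm_pow {c a : G} (hc : c ∈ A) (ha : a ∈ A) (k : ℕ) :
    ⁅c, a ^ k⁆ = ⁅c, a⁆ ^ k := by
  induction k with
  | zero => simp
  | succ k ih =>
    rw [pow_succ, xarg_comm_mul (xarg_comm_mem A hcl hc ha), ih, pow_succ]

include hcl in
/-- the norm lies in `C` -/
theorem xarg_norm_mem_C {a x : G} (ha : a ∈ A) (p : ℕ) (hxp : ⁅a, x ^ p⁆ ∈ Subgroup.center G) :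
    (a * x) ^ p * (x ^ p)⁻¹ ∈ xargC A x := by
  refine ⟨xarg_norm_mem A ha x p, ?_⟩
  set u := (a * x) ^ p with hu
  set y := x ^ p with hy
  have hN : u * y⁻¹ ∈ A := xarg_norm_mem A ha x p
  have F1 : x * u * x⁻¹ = a⁻¹ * u * a := by
    have h1 : x * u * x⁻¹ = (x * a) ^ p := by
      rw [hu, ← conj_pow]; congr 1; group
    have h2 : a⁻¹ * u * a = (x * a) ^ p := by
      have : a⁻¹ * u * a = a⁻¹ * u * a⁻¹⁻¹ := by rw [inv_inv]
      rw [this, hu, ← conj_pow]; congr 1; group
    rw [h1, h2]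
  have F2 : y⁻¹ * x * y = x := by
    rw [hy]
    have : Commute x (x ^ p) := (Commute.refl x).pow_right p
    rw [mul_assoc, this.eq]; group
  have e1 : ⁅u * y⁻¹, x⁆ = u * a⁻¹ * u⁻¹ * a := by
    calc ⁅u * y⁻¹, x⁆ = u * (y⁻¹ * x * y) * x⁻¹ * (x * u * x⁻¹)⁻¹ := by
          simp only [commutatorElement_def]; group
      _ = u * x * x⁻¹ * (a⁻¹ * u * a)⁻¹ := by rw [F2, F1]
      _ = u * a⁻¹ * u⁻¹ * a := by group
  have e2 : u * a⁻¹ * u⁻¹ * a
      = ((u * y⁻¹ * a⁻¹) * ⁅a, y⁆ * (u * y⁻¹ * a⁻¹)⁻¹) * ⁅u * y⁻¹, a⁻¹⁆ := by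
    simp only [commutatorElement_def]; group
  rw [e1, e2, xarg_conj_central hxp]
  exact (Subgroup.center G).mul_mem hxp (xarg_comm_mem A hcl hN (A.inv_mem ha))


include hcl in
/-- an element of `C` commuting with all of `C` commutes with all of `A` -/
theorem xarg_center_commute (p n : ℕ) (hpn : Nat.Coprime p n) {x : G}
    (hxp : ∀ a ∈ A, ⁅a, x ^ p⁆ ∈ Subgroup.center G)
    (hn : ∀ a ∈ A, a ^ n ∈ Subgroup.center G)
    {c : G} (hc : c ∈ xargC A x) (hcc : ∀ d ∈ xargC A x, Commute c d)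
    {a : G} (ha : a ∈ A) : Commute c a := by
  rw [← commutatorElement_eq_one_iff_commute]
  have h1 : ⁅c, a⁆ ^ p = 1 := by
    rw [← xarg_comm_norm A hcl hc ha p, commutatorElement_eq_one_iff_commute]
    exact hcc _ (xarg_norm_mem_C A hcl ha p (hxp a ha))
  have h2 : ⁅c, a⁆ ^ n = 1 := by
    rw [← xarg_comm_pow A hcl hc.1 ha n, commutatorElement_eq_one_iff_commute]
    exact (Subgroup.mem_center_iff.mp (hn a ha) c)
  have := pow_gcd_eq_one.mpr ⟨h1, h2⟩
  rwa [hpn, pow_one] at this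

end main
section cong
variable {H : Type*} [Group H] [Finite H]

/-- fixed point congruence for an automorphism of `p`-power order modulo a subgroup -/
theorem xarg_card_congr (p : ℕ) [Fact p.Prime] (N K : Subgroup H) (σ : H ≃* H)
    (hσN : ∀ a, a ∈ N → σ a ∈ N)
    (hp : ∀ a, a⁻¹ * (σ ^ p) a ∈ N)
    (hNK : N ≤ K)
    (hK : ∀ a, a ∈ K ↔ a⁻¹ * σ a ∈ N) :
    N.index ≡ N.relIndex K [MOD p] := by
  classical
  have : Fintype (H ⧸ N) := Fintype.ofFinite _
  -- the induced map on cosets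
  let f : H ⧸ N → H ⧸ N := Quotient.map' (fun a => σ a) (fun a b hab => by
    rw [QuotientGroup.leftRel_apply] at hab ⊢
    have := hσN _ hab
    simpa using this)
  have hf : ∀ a : H, f (QuotientGroup.mk a) = QuotientGroup.mk (σ a) := fun a => rfl
  have hfk : ∀ (k : ℕ) (a : H), f^[k] (QuotientGroup.mk a) = QuotientGroup.mk ((σ ^ k) a) := by
    intro k
    induction k with
    | zero => intro a; simp
    | succ k ih =>
      intro a
      rw [Function.iterate_succ_apply', ih, hf, pow_succ', MulAut.mul_apply]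
  let F : Function.End (H ⧸ N) := f
  have hfp : F ^ p ^ 1 = 1 := by
    rw [pow_one]
    have e : (F ^ p : H ⧸ N → H ⧸ N) = f^[p] :=
      hom_coe_pow (fun g : Function.End (H ⧸ N) ↦ (g : H ⧸ N → H ⧸ N)) rfl (fun g h ↦ rfl) F p
    funext v
    rw [show (F ^ p) v = f^[p] v from congrFun e v]
    induction v using QuotientGroup.induction_on with
    | H a =>
      rw [hfk]
      change _ = QuotientGroup.mk a
      rw [QuotientGroup.eq]
      have := N.inv_mem (hp a)
      simpa using this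
  have hcong := Equiv.Perm.card_fixedPoints_modEq (p := p) (n := 1) (f := F) hfp
  -- the fixed points are the image of `K`
  let ι : K ⧸ N.subgroupOf K → H ⧸ N := Quotient.map' (fun k => (k : H)) (fun a b hab => by
    rw [QuotientGroup.leftRel_apply] at hab ⊢
    simpa [Subgroup.mem_subgroupOf] using hab)
  have hι : ∀ k : K, ι (QuotientGroup.mk k) = QuotientGroup.mk (k : H) := fun k => rfl
  have hinj : Function.Injective ι := by
    intro u v
    induction u using QuotientGroup.induction_on with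
    | H a =>
      induction v using QuotientGroup.induction_on with
      | H b =>
        intro h
        rw [hι, hι, QuotientGroup.eq] at h
        rw [QuotientGroup.eq, Subgroup.mem_subgroupOf]
        simpa using h
  have hrange : Set.range ι = Function.fixedPoints f := by
    ext v
    induction v using QuotientGroup.induction_on with
    | H a =>
      rw [Function.mem_fixedPoints, Function.IsFixedPt, hf, QuotientGroup.eq]
      constructor
      · rintro ⟨u, hu⟩
        induction u using QuotientGroup.induction_on with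
        | H k =>
          rw [hι, QuotientGroup.eq] at hu
          have ha : a ∈ K := by
            have := K.mul_mem k.2 (hNK hu)
            simpa using this
          have := N.inv_mem ((hK a).mp ha)
          simpa using this
      · intro h
        have ha : a ∈ K := by
          rw [hK]
          have := N.inv_mem h
          simpa using this
        exact ⟨QuotientGroup.mk ⟨a, ha⟩, rfl⟩
  have h1 : Fintype.card (H ⧸ N) = N.index := by
    rw [Subgroup.index_eq_card, Nat.card_eq_fintype_card]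
  have h2 : Fintype.card (Function.fixedPoints F) = N.relIndex K := by
    rw [← Nat.card_eq_fintype_card]
    change Nat.card (Function.fixedPoints f) = _
    rw [← hrange, Nat.card_range_of_injective hinj, Subgroup.relIndex, Subgroup.index_eq_card]
  rw [h1, h2] at hcong
  exact hcong

end cong

section final
universe u
variable {G : Type u} [Group G] [Finite G]

/-- arithmetic end of XARG -/
theorem xarg_arith (p r m c : ℕ) (hp : p.Prime) (hr : r.Prime) (hpr : r ≠ p) (hcm : c < m)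
    (h : r ^ (2 * m) ≡ r ^ (2 * c) [MOD p]) :
    ∃ j, 1 ≤ j ∧ j ≤ m ∧ (p ∣ r ^ j - 1 ∨ p ∣ r ^ j + 1) := by
  refine ⟨m - c, by omega, by omega, ?_⟩
  have hcop : Nat.Coprime p r := (Nat.coprime_primes hp hr).mpr (Ne.symm hpr)
  have h1 : r ^ (2 * m) = r ^ (2 * c) * (r ^ (m - c)) ^ 2 := by
    rw [← pow_mul, ← pow_add]; congr 1; omega
  have hr1 : 1 ≤ r ^ (m - c) := Nat.one_le_pow _ _ hr.pos
  have h2 : p ∣ r ^ (2 * m) - r ^ (2 * c) := (Nat.modEq_iff_dvd' (by
    rw [h1]; exact Nat.le_mul_of_pos_right _ (by positivity))).mp h.symm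
  have h3 : r ^ (2 * m) - r ^ (2 * c) = r ^ (2 * c) * ((r ^ (m - c) - 1) * (r ^ (m - c) + 1)) := by
    rw [h1]
    have : (r ^ (m - c)) ^ 2 = (r ^ (m - c) - 1) * (r ^ (m - c) + 1) + 1 := by
      obtain ⟨t, ht⟩ : ∃ t, r ^ (m - c) = t + 1 := ⟨r ^ (m - c) - 1, by omega⟩
      rw [ht]; simp; ring
    rw [this, mul_add, mul_one, Nat.add_sub_cancel]
  rw [h3] at h2
  have h4 : p ∣ (r ^ (m - c) - 1) * (r ^ (m - c) + 1) :=
    (Nat.Coprime.pow_right (2 * c) hcop).dvd_of_dvd_mul_left h2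
  exact (hp.dvd_mul).mp h4


/-- XARG with the SQUARE lemma as a hypothesis -/
theorem xarg_core
    (hSQ : ∀ (C : Type u) [Group C] [Finite C], commutator C ≤ Subgroup.center C →
      IsCyclic (Subgroup.center C) → IsSquare (Subgroup.center C).index)
    (p r m : ℕ) [Fact p.Prime] (hr : r.Prime) (hpr : r ≠ p) (hcyc : IsCyclic (Subgroup.center G))
    (A : Subgroup G) [A.Normal] (hZA : Subgroup.center G ≤ A)
    (hcl : ⁅A, A⁆ ≤ Subgroup.center G)
    (hZ : A ⊓ Subgroup.centralizer (A : Set G) = Subgroup.center G)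
    (hidx : (Subgroup.center G).relIndex A = r ^ (2 * m))
    (x : G) (hxp : ∀ a ∈ A, ⁅a, x ^ p⁆ ∈ Subgroup.center G)
    (a₀ : G) (ha₀ : a₀ ∈ A) (hne : ⁅a₀, x⁆ ∉ Subgroup.center G) :
    ∃ j, 1 ≤ j ∧ j ≤ m ∧ (p ∣ r ^ j - 1 ∨ p ∣ r ^ j + 1) := by
  have hp : p.Prime := Fact.out
  set Z := Subgroup.center G with hZdef
  set C := xargC A x with hC
  have hZC : Z ≤ C := center_le_xargC hZA x
  have hCA : C ≤ A := xargC_le A x
  -- powers
  have hn : ∀ a ∈ A, a ^ (r ^ (2 * m)) ∈ Z := by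
    intro a ha
    have := Subgroup.pow_index_mem (Z.subgroupOf A) (⟨a, ha⟩ : A)
    rw [Subgroup.mem_subgroupOf] at this
    rw [← hidx]
    simpa [Subgroup.relIndex] using this
  have hcop : Nat.Coprime p (r ^ (2 * m)) :=
    Nat.Coprime.pow_right _ ((Nat.coprime_primes hp hr).mpr (Ne.symm hpr))
  -- the centre of `C`
  have hcenter : Subgroup.center C = Z.subgroupOf C := by
    ext c
    rw [Subgroup.mem_subgroupOf, Subgroup.mem_center_iff]
    constructor
    · intro h
      have hcc : ∀ d ∈ C, Commute (c : G) d := by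
        intro d hd
        have := h ⟨d, hd⟩
        exact (congrArg Subtype.val this).symm
      have hmem : (c : G) ∈ A ⊓ Subgroup.centralizer (A : Set G) := by
        refine ⟨hCA c.2, ?_⟩
        change (c : G) ∈ Subgroup.centralizer (A : Set G)
        rw [Subgroup.mem_centralizer_iff]
        intro a ha
        exact ((xarg_center_commute A hcl p _ hcop hxp hn c.2 hcc ha).eq).symm
      rw [hZ] at hmem
      exact hmem
    · intro h d
      exact Subtype.ext (Subgroup.mem_center_iff.mp h d)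
  -- SQUARE
  have hsq : IsSquare (Z.relIndex C) := by
    have h2 : commutator C ≤ Subgroup.center C := by
      rw [commutator_def, Subgroup.commutator_le]
      intro a _ b _
      rw [hcenter, Subgroup.mem_subgroupOf]
      exact xarg_comm_mem A hcl (hCA a.2) (hCA b.2)
    have h3 : IsCyclic (Subgroup.center C) := by
      rw [hcenter]
      exact (Subgroup.subgroupOfEquivOfLe hZC).isCyclic.mpr hcyc
    have := hSQ C h2 h3
    rwa [hcenter] at this
  -- index arithmetic
  have hmul : Z.relIndex C * C.relIndex A = r ^ (2 * m) := by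
    rw [Subgroup.relIndex_mul_relIndex _ _ _ hZC hCA, hidx]
  obtain ⟨e, he, hee⟩ := (Nat.dvd_prime_pow hr).mp (Dvd.intro _ hmul)
  obtain ⟨s, hs⟩ := hsq
  obtain ⟨f, hf, hff⟩ := (Nat.dvd_prime_pow hr).mp (show s ∣ r ^ e from ⟨s, by rw [← hee, hs]⟩)
  have he2 : e = 2 * f := by
    have : r ^ e = r ^ (2 * f) := by rw [← hee, hs, hff, ← pow_add]; congr 1; omega
    exact Nat.pow_right_injective hr.two_le this
  have hfm : f < m := by
    rcases Nat.lt_or_ge f m with h | h
    · exact h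
    · exfalso
      have hfm' : f = m := by omega
      rw [hee, he2, hfm'] at hmul
      have h1 : C.relIndex A = 1 := by
        have hpos : 0 < r ^ (2 * m) := pow_pos hr.pos _
        exact Nat.eq_of_mul_eq_mul_left hpos (by rw [hmul, mul_one])
      rw [Subgroup.relIndex_eq_one] at h1
      exact hne (h1 ha₀).2
  -- the congruence
  have hcong : r ^ (2 * m) ≡ r ^ (2 * f) [MOD p] := by
    have := xarg_card_congr p (Z.subgroupOf A) (C.subgroupOf A) (MulAut.conjNormal x : MulAut A)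
      ?_ ?_ ?_ ?_
    · rw [Subgroup.relIndex_subgroupOf hCA, hee, he2] at this
      have h0 : (Z.subgroupOf A).index = r ^ (2 * m) := hidx
      rwa [h0] at this
    · intro a ha
      rw [Subgroup.mem_subgroupOf] at ha ⊢
      rw [MulAut.conjNormal_apply, xarg_conj_central ha]
      exact ha
    · intro a
      rw [Subgroup.mem_subgroupOf, ← map_pow]
      have h1 : ((a⁻¹ * (MulAut.conjNormal (x ^ p) : MulAut A) a : A) : G) = ⁅(a : G)⁻¹, x ^ p⁆ := by
        rw [Subgroup.coe_mul, MulAut.conjNormal_apply, commutatorElement_def]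
        simp [mul_assoc]
      rw [h1]
      exact hxp _ (A.inv_mem a.2)
    · exact Subgroup.subgroupOf_mono A hZC
    · intro a
      rw [Subgroup.mem_subgroupOf, Subgroup.mem_subgroupOf]
      have h1 : ((a⁻¹ * (MulAut.conjNormal x : MulAut A) a : A) : G) = ⁅(a : G)⁻¹, x⁆ := by
        rw [Subgroup.coe_mul, MulAut.conjNormal_apply, commutatorElement_def]
        simp [mul_assoc]
      rw [h1]
      constructor
      · intro h
        exact (C.inv_mem h).2
      · intro h
        have : (a : G)⁻¹ ∈ C := ⟨A.inv_mem a.2, h⟩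
        simpa using C.inv_mem this
  exact xarg_arith p r m f hp hr hpr hfm hcong

end final



/-- **XARG** -/
theorem exists_pow_of_nontrivial_action {G : Type*} [Group G] [Finite G] (p r m : ℕ)
    [Fact p.Prime] (hr : r.Prime) (hpr : r ≠ p) (hcyc : IsCyclic (Subgroup.center G))
    (A : Subgroup G) [A.Normal] (hZA : Subgroup.center G ≤ A)
    (hcl : ⁅A, A⁆ ≤ Subgroup.center G)
    (hZ : A ⊓ Subgroup.centralizer (A : Set G) = Subgroup.center G)
    (hidx : (Subgroup.center G).relIndex A = r ^ (2 * m))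
    (x : G) (hxp : ∀ a ∈ A, ⁅a, x ^ p⁆ ∈ Subgroup.center G)
    (a₀ : G) (ha₀ : a₀ ∈ A) (hne : ⁅a₀, x⁆ ∉ Subgroup.center G) :
    ∃ j, 1 ≤ j ∧ j ≤ m ∧ (p ∣ r ^ j - 1 ∨ p ∣ r ^ j + 1) :=
  xarg_core (fun _ _ _ h2 hc => Cfsg.Agent.Lib.H6.DX.isSquare_index_center h2 hc)
    p r m hr hpr hcyc A hZA hcl hZ hidx x hxp a₀ ha₀ hne

end Cfsg.Agent.Lib.H14.DX
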