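import Mathlib
import Cfsg.Agent.Lib.H26.Involves
import Cfsg.Agent.Lib.H22.DihQuatRecog

set_option autoImplicit false

namespace Cfsg.Agent.Lib.H14

/-- (B) ⇒ (C): a 2-element normalizing but not centralizing a p-subgroup yields a 2-element
inverting a nontrivial p-element. -/
theorem exists_inverting_of_not_centralizing {G : Type*} [Group G] {p : ℕ} [Fact p.Prime]
    (x : G) (P : Subgroup G) (hx : ∃ k : ℕ, orderOf x = 2 ^ k) (hP : IsPGroup p P)
    (hxN : x ∈ Subgroup.normalizer (P : Set G)) (hxC : x ∉ Subgroup.centralizer (P : Set G)) :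
    ∃ x y : G, (∃ k : ℕ, orderOf x = 2 ^ k) ∧ (∃ k : ℕ, orderOf y = p ^ k) ∧ y ≠ 1 ∧
      x * y * x⁻¹ = y⁻¹ := by
  obtain ⟨k, hk⟩ := hx
  have hex : ∃ j : ℕ, x ^ (2 ^ j) ∈ Subgroup.centralizer (P : Set G) :=
    ⟨k, by rw [← hk, pow_orderOf_eq_one]; exact one_mem _⟩
  classical
  set j := Nat.find hex with hj
  have hjmem := Nat.find_spec hex
  have hj0 : j ≠ 0 := by
    intro h0
    rw [← hj, h0] at hjmem
    simp at hjmem
    exact hxC hjmem
  obtain ⟨i, hi⟩ := Nat.exists_eq_succ_of_ne_zero hj0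
  have hnot : x ^ (2 ^ i) ∉ Subgroup.centralizer (P : Set G) := by
    apply Nat.find_min hex
    rw [← hj, hi]; exact Nat.lt_succ_self i
  set t := x ^ (2 ^ i) with ht
  have htt : t * t ∈ Subgroup.centralizer (P : Set G) := by
    have : t * t = x ^ (2 ^ j) := by
      rw [ht, ← pow_add, hi, pow_succ, mul_two]
    rw [this]; exact hjmem
  have htN : t ∈ Subgroup.normalizer (P : Set G) := pow_mem hxN _
  have htord : ∃ k : ℕ, orderOf t = 2 ^ k := by
    have hd : orderOf t ∣ 2 ^ k := by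
      rw [← hk]; exact orderOf_pow_dvd _
    obtain ⟨m, _, hm⟩ := (Nat.dvd_prime_pow Nat.prime_two).1 hd
    exact ⟨m, hm⟩
  rw [Subgroup.mem_centralizer_iff] at hnot
  push Not at hnot
  obtain ⟨g, hgP, hg⟩ := hnot
  have hgP' : g ∈ P := hgP
  have hconj : t * g * t⁻¹ ∈ P := (Subgroup.mem_normalizer_iff.mp htN g).mp hgP'
  refine ⟨t, g⁻¹ * (t * g * t⁻¹), htord, ?_, ?_, ?_⟩
  · have hy : g⁻¹ * (t * g * t⁻¹) ∈ P := P.mul_mem (P.inv_mem hgP') hconj
    obtain ⟨m, hm⟩ := (IsPGroup.iff_orderOf.mp hP) ⟨_, hy⟩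
    refine ⟨m, ?_⟩
    rw [← hm, Subgroup.orderOf_mk]
  · intro h1
    apply hg
    have : t * g * t⁻¹ = g := by
      have := congrArg (fun z => g * z) h1
      simpa using this
    calc g * t = (t * g * t⁻¹) * t := by rw [this]
      _ = t * g := by group
  · have hc := (Subgroup.mem_centralizer_iff.mp htt) g hgP
    have h2 : t * t * g * (t * t)⁻¹ = g := by
      rw [← hc]; group
    calc t * (g⁻¹ * (t * g * t⁻¹)) * t⁻¹ = (t * g * t⁻¹)⁻¹ * (t * t * g * (t * t)⁻¹) := by group
      _ = (t * g * t⁻¹)⁻¹ * g := by rw [h2]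
      _ = (g⁻¹ * (t * g * t⁻¹))⁻¹ := by group

/-- (C) ⇒ (B). -/
theorem exists_not_centralizing_of_inverting {G : Type*} [Group G] [Finite G] {p : ℕ} [Fact p.Prime]
    (hp : p ≠ 2) (x y : G) (hx : ∃ k : ℕ, orderOf x = 2 ^ k) (hy : ∃ k : ℕ, orderOf y = p ^ k)
    (hy1 : y ≠ 1) (hxy : x * y * x⁻¹ = y⁻¹) :
    ∃ (x : G) (P : Subgroup G), (∃ k : ℕ, orderOf x = 2 ^ k) ∧ IsPGroup p ↥P ∧
      x ∈ Subgroup.normalizer (P : Set G) ∧ x ∉ Subgroup.centralizer (P : Set G) := by
  refine ⟨x, Subgroup.zpowers y, hx, ?_, ?_, ?_⟩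
  · obtain ⟨k, hk⟩ := hy
    apply IsPGroup.of_card (n := k)
    rw [Nat.card_zpowers, hk]
  · have hle : Subgroup.zpowers y ≤ (Subgroup.zpowers y).map (MulAut.conj x⁻¹).toMonoidHom := by
      rw [Subgroup.zpowers_le]
      refine ⟨y⁻¹, inv_mem (Subgroup.mem_zpowers y), ?_⟩
      simp only [MulEquiv.coe_toMonoidHom, MulAut.conj_apply, inv_inv]
      rw [← hxy]; group
    have hcard : Nat.card ((Subgroup.zpowers y).map (MulAut.conj x⁻¹).toMonoidHom) = Nat.card (Subgroup.zpowers y) :=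
      Subgroup.card_map_of_injective (MulAut.conj x⁻¹).injective
    have heq : Subgroup.zpowers y = (Subgroup.zpowers y).map (MulAut.conj x⁻¹).toMonoidHom :=
      Subgroup.eq_of_le_of_card_ge hle (le_of_eq hcard)
    rw [Subgroup.mem_normalizer_iff]
    intro h
    constructor
    · intro hh
      rw [heq] at hh
      obtain ⟨z, hz, hzz⟩ := hh
      simp only [MulEquiv.coe_toMonoidHom, MulAut.conj_apply, inv_inv] at hzz
      rw [← hzz]
      have : x * (x⁻¹ * z * x) * x⁻¹ = z := by group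
      rw [this]; exact hz
    · intro hh
      rw [heq]
      refine ⟨x * h * x⁻¹, hh, ?_⟩
      simp only [MulEquiv.coe_toMonoidHom, MulAut.conj_apply, inv_inv]
      group
  · intro hc
    have h1 := (Subgroup.mem_centralizer_iff.mp hc) y (Subgroup.mem_zpowers y)
    have h2 : y = y⁻¹ := by
      rw [← hxy, ← h1]; group
    have h3 : y ^ 2 = 1 := by
      rw [pow_two]
      nth_rewrite 1 [h2]
      exact inv_mul_cancel y
    obtain ⟨k, hk⟩ := hy
    have hd : p ^ k ∣ 2 := by
      rw [← hk]; exact orderOf_dvd_of_pow_eq_one h3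
    have hk0 : k = 0 := by
      by_contra hk0
      have hp2 : p ∣ 2 := dvd_trans (dvd_pow_self p hk0) hd
      have := (Nat.prime_dvd_prime_iff_eq (Fact.out : p.Prime) Nat.prime_two).mp hp2
      exact hp this
    rw [hk0, pow_zero, orderOf_eq_one_iff] at hk
    exact hy1 hk


/-- In a finite group generated by a 2-element `x` and an element `y` of odd prime order `p`
inverted by `x`, there is a surjection onto the dihedral group of order `2p`. -/
theorem exists_surjective_dihedral_of_gens {K : Type*} [Group K] [Finite K] {p : ℕ} [Fact p.Prime]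
    (hp : p ≠ 2) (x y : K) (hx : ∃ k : ℕ, orderOf x = 2 ^ k) (hy : orderOf y = p)
    (hxy : x * y * x⁻¹ = y⁻¹) (hgen : Subgroup.closure ({x, y} : Set K) = ⊤) :
    ∃ f : K →* DihedralGroup p, Function.Surjective f := by
  have hpp : p.Prime := Fact.out
  have : NeZero p := ⟨hpp.ne_zero⟩
  obtain ⟨m, hm⟩ := hx
  -- x^2 is central
  have hcen : x ^ 2 ∈ Subgroup.center K := by
    have hle : Subgroup.closure ({x, y} : Set K) ≤ Subgroup.centralizer {x ^ 2} := by
      rw [Subgroup.closure_le]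
      rintro g (rfl | rfl)
      · rw [SetLike.mem_coe, Subgroup.mem_centralizer_iff]
        intro h hh
        rw [Set.mem_singleton_iff] at hh
        subst hh
        rw [← pow_succ, ← pow_succ']
      · rw [SetLike.mem_coe, Subgroup.mem_centralizer_iff]
        intro h hh
        rw [Set.mem_singleton_iff] at hh
        subst hh
        have h1 : x * g = g⁻¹ * x := by
          rw [← hxy]; group
        have h2 : x * g⁻¹ = g * x := by
          have : x * g⁻¹ * x⁻¹ = g := by
            have := congrArg (fun z => z⁻¹) hxy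
            simp only [mul_inv_rev, inv_inv] at this
            rw [← mul_assoc] at this
            exact this
          calc x * g⁻¹ = (x * g⁻¹ * x⁻¹) * x := by group
            _ = g * x := by rw [this]
        calc x ^ 2 * g = x * (x * g) := by rw [pow_two, mul_assoc]
          _ = x * (g⁻¹ * x) := by rw [h1]
          _ = (x * g⁻¹) * x := by rw [mul_assoc]
          _ = g * x * x := by rw [h2]
          _ = g * x ^ 2 := by rw [pow_two, mul_assoc]
    rw [hgen] at hle
    rw [Subgroup.mem_center_iff]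
    intro g
    have := (Subgroup.mem_centralizer_iff.mp (hle (Subgroup.mem_top g))) (x ^ 2) rfl
    exact this.symm
  set R : Subgroup K := Subgroup.zpowers (x ^ 2) with hR
  have hRc : R ≤ Subgroup.center K := by
    rw [hR, Subgroup.zpowers_le]; exact hcen
  have hRn : R.Normal := by
    constructor
    intro n hn g
    have := Subgroup.mem_center_iff.mp (hRc hn) g
    have h2 : g * n * g⁻¹ = n := by rw [this]; group
    rw [h2]; exact hn
  -- y ≠ 1, x ≠ 1
  have hy1 : y ≠ 1 := by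
    intro h
    rw [h, orderOf_one] at hy
    exact hpp.one_lt.ne' hy.symm
  have hyy : y ≠ y⁻¹ := by
    intro h
    have h3 : y ^ 2 = 1 := by
      rw [pow_two]
      nth_rewrite 1 [h]
      exact inv_mul_cancel y
    have hd : p ∣ 2 := by
      rw [← hy]; exact orderOf_dvd_of_pow_eq_one h3
    exact hp ((Nat.prime_dvd_prime_iff_eq hpp Nat.prime_two).mp hd)
  have hx1 : x ≠ 1 := by
    intro h
    apply hyy
    rw [← hxy, h]; group
  -- R is a 2-group
  have hRcard : Nat.card R ∣ 2 ^ m := by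
    rw [hR, Nat.card_zpowers, ← hm]
    exact orderOf_pow_dvd 2
  have hyR : y ∉ R := by
    intro h
    have h1 : orderOf y ∣ Nat.card R := by
      have := orderOf_dvd_natCard (⟨y, h⟩ : R)
      rwa [Subgroup.orderOf_mk] at this
    rw [hy] at h1
    have h2 : p ∣ 2 ^ m := dvd_trans h1 hRcard
    have h3 : p ∣ 2 := hpp.dvd_of_dvd_pow h2
    exact hp ((Nat.prime_dvd_prime_iff_eq hpp Nat.prime_two).mp h3)
  have hxR : x ∉ R := by
    intro h
    rw [hR, Subgroup.mem_zpowers_iff] at h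
    obtain ⟨k, hk⟩ := h
    have h1 : x ^ (2 * k - 1) = 1 := by
      rw [zpow_sub, zpow_one, zpow_mul, zpow_ofNat, hk]
      exact mul_inv_cancel x
    have h2 : (orderOf x : ℤ) ∣ 2 * k - 1 := orderOf_dvd_iff_zpow_eq_one.mpr h1
    have hm0 : m = 0 := by
      by_contra hm0
      have h3 : (2 : ℤ) ∣ orderOf x := by
        rw [hm]; push_cast
        exact dvd_pow_self 2 hm0
      have h4 : (2 : ℤ) ∣ 2 * k - 1 := dvd_trans h3 h2
      omega
    rw [hm0, pow_zero, orderOf_eq_one_iff] at hm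
    exact hx1 hm
  -- the quotient
  let Q := K ⧸ R
  let r : Q := QuotientGroup.mk y
  let s : Q := QuotientGroup.mk x
  have hr : r ^ p = 1 := by
    change (QuotientGroup.mk y : Q) ^ p = 1
    rw [← QuotientGroup.mk_pow, ← hy, pow_orderOf_eq_one]; rfl
  have hs : s * s = 1 := by
    change (QuotientGroup.mk x : Q) * QuotientGroup.mk x = 1
    rw [← QuotientGroup.mk_mul, QuotientGroup.eq_one_iff, ← pow_two]
    exact Subgroup.mem_zpowers _
  have hsr : s * r * s⁻¹ = r⁻¹ := by
    change (QuotientGroup.mk x : Q) * QuotientGroup.mk y * (QuotientGroup.mk x)⁻¹ = (QuotientGroup.mk y)⁻¹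
    rw [← QuotientGroup.mk_inv, ← QuotientGroup.mk_mul, ← QuotientGroup.mk_mul, hxy]; rfl
  have hgenQ : Subgroup.closure ({r, s} : Set Q) = ⊤ := by
    have h1 : Subgroup.map (QuotientGroup.mk' R) (Subgroup.closure ({x, y} : Set K)) = ⊤ := by
      rw [hgen, ← MonoidHom.range_eq_map, MonoidHom.range_eq_top]
      exact QuotientGroup.mk'_surjective R
    rw [MonoidHom.map_closure, Set.image_pair] at h1
    rw [Set.pair_comm]
    exact h1
  have hr1 : r ≠ 1 := by
    intro h
    exact hyR ((QuotientGroup.eq_one_iff y).mp h)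
  have hs1 : s ≠ 1 := by
    intro h
    exact hxR ((QuotientGroup.eq_one_iff x).mp h)
  have hordr : orderOf r = p := by
    have hd : orderOf r ∣ p := orderOf_dvd_of_pow_eq_one hr
    rcases (Nat.dvd_prime hpp).mp hd with h | h
    · exact absurd (orderOf_eq_one_iff.mp h) hr1
    · exact h
  have hords : orderOf s = 2 := by
    have hd : orderOf s ∣ 2 := orderOf_dvd_of_pow_eq_one (by rw [pow_two]; exact hs)
    rcases (Nat.dvd_prime Nat.prime_two).mp hd with h | h
    · exact absurd (orderOf_eq_one_iff.mp h) hs1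
    · exact h
  have hcard : Nat.card Q = 2 * p := by
    apply Nat.dvd_antisymm
    · set f := Cfsg.Agent.Lib.H1.dihedralLift p r s hr hs hsr with hf
      have hsurj : Function.Surjective f := by
        rw [← MonoidHom.range_eq_top, eq_top_iff, ← hgenQ, Subgroup.closure_le]
        rintro g (rfl | rfl)
        · refine ⟨DihedralGroup.r 1, ?_⟩
          rw [hf, Cfsg.Agent.Lib.H1.dihedralLift_r, ZMod.val_one_eq_one_mod, Nat.mod_eq_of_lt hpp.one_lt, pow_one]
        · refine ⟨DihedralGroup.sr 0, ?_⟩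
          rw [hf, Cfsg.Agent.Lib.H1.dihedralLift_sr, ZMod.val_zero, pow_zero, mul_one]
      have := Subgroup.card_dvd_of_surjective f hsurj
      rwa [DihedralGroup.nat_card] at this
    · have h2 : 2 ∣ Nat.card Q := by rw [← hords]; exact orderOf_dvd_natCard s
      have h3 : p ∣ Nat.card Q := by rw [← hordr]; exact orderOf_dvd_natCard r
      have hcop : Nat.Coprime 2 p := by
        rw [Nat.coprime_primes Nat.prime_two hpp]; exact fun h => hp h.symm
      exact hcop.mul_dvd_of_dvd_of_dvd h2 h3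
  obtain ⟨e⟩ := Cfsg.Agent.Lib.H22.dihedral_equiv_of_gens p r s hr hs hsr hgenQ hcard
  exact ⟨e.toMonoidHom.comp (QuotientGroup.mk' R), e.surjective.comp (QuotientGroup.mk'_surjective R)⟩


/-- (C) ⇒ (A). -/
theorem involves_dihedral_of_inverting {G : Type*} [Group G] [Finite G] {p : ℕ} [Fact p.Prime]
    (hp : p ≠ 2) (x y : G) (hx : ∃ k : ℕ, orderOf x = 2 ^ k) (hy : ∃ k : ℕ, orderOf y = p ^ k)
    (hy1 : y ≠ 1) (hxy : x * y * x⁻¹ = y⁻¹) : Cfsg.Involves (DihedralGroup p) G := by
  have hpp : p.Prime := Fact.out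
  obtain ⟨k, hk⟩ := hy
  have hk0 : k ≠ 0 := by
    intro h
    rw [h, pow_zero, orderOf_eq_one_iff] at hk
    exact hy1 hk
  obtain ⟨j, rfl⟩ := Nat.exists_eq_succ_of_ne_zero hk0
  set y' := y ^ (p ^ j) with hy'
  have hy'ord : orderOf y' = p := by
    have h1 : orderOf (y ^ (orderOf y / p)) = p :=
      orderOf_pow_orderOf_div (by rw [hk]; exact pow_ne_zero _ hpp.ne_zero)
        (by rw [hk]; exact dvd_pow_self p hk0)
    have h2 : orderOf y / p = p ^ j := by
      rw [hk, pow_succ, Nat.mul_div_cancel _ hpp.pos]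
    rw [h2] at h1
    exact h1
  have hxy' : x * y' * x⁻¹ = y'⁻¹ := by
    rw [hy', ← conj_pow, hxy, inv_pow]
  set K : Subgroup G := Subgroup.closure ({x, y'} : Set G) with hK
  have hxK : x ∈ K := Subgroup.subset_closure (Set.mem_insert _ _)
  have hyK : y' ∈ K := Subgroup.subset_closure (Set.mem_insert_of_mem _ rfl)
  have hgen : Subgroup.closure ({(⟨x, hxK⟩ : K), ⟨y', hyK⟩} : Set K) = ⊤ := by
    have h := Subgroup.closure_closure_coe_preimage (k := ({x, y'} : Set G))
    have hset : (((↑) : Subgroup.closure ({x, y'} : Set G) → G) ⁻¹' ({x, y'} : Set G))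
        = ({(⟨x, hxK⟩ : K), ⟨y', hyK⟩} : Set K) := by
      ext z
      simp only [Set.mem_preimage, Set.mem_insert_iff, Set.mem_singleton_iff]
      constructor
      · rintro (h | h)
        · left; exact Subtype.ext h
        · right; exact Subtype.ext h
      · rintro (h | h)
        · left; rw [h]
        · right; rw [h]
    rw [hset] at h
    exact h
  obtain ⟨f, hf⟩ := exists_surjective_dihedral_of_gens hp (⟨x, hxK⟩ : K) ⟨y', hyK⟩
    (by obtain ⟨m, hm⟩ := hx; exact ⟨m, by rw [Subgroup.orderOf_mk, hm]⟩)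
    (by rw [Subgroup.orderOf_mk, hy'ord])
    (by apply Subtype.ext; simpa using hxy') hgen
  exact Cfsg.Agent.Lib.H26.involves_iff.mpr ⟨K, f, hf⟩


open DihedralGroup in
theorem dih_mem_zpowers_r_one {n : ℕ} (g : DihedralGroup n) :
    g ∈ Subgroup.zpowers (r 1 : DihedralGroup n) ↔ ∃ i : ZMod n, g = r i := by
  constructor
  · intro h
    obtain ⟨k, hk⟩ := Subgroup.mem_zpowers_iff.mp h
    exact ⟨(k : ZMod n), by rw [← hk, r_one_zpow]⟩
  · rintro ⟨i, rfl⟩
    obtain ⟨k, hk⟩ : ∃ k : ℤ, (k : ZMod n) = i := ZMod.intCast_surjective i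
    rw [← hk, ← r_one_zpow]
    exact Subgroup.zpow_mem_zpowers _ _

open DihedralGroup in
theorem dih_zpowers_r_one_normal {n : ℕ} : (Subgroup.zpowers (r 1 : DihedralGroup n)).Normal := by
  constructor
  intro a ha g
  rw [dih_mem_zpowers_r_one] at ha ⊢
  obtain ⟨i, rfl⟩ := ha
  rcases g with j | j
  · exact ⟨i, by rw [inv_r, r_mul_r, r_mul_r]; congr 1; ring⟩
  · exact ⟨-i, by rw [inv_sr, sr_mul_r, sr_mul_sr]; congr 1; ring⟩

open DihedralGroup in
/-- (A) ⇒ (B) inside a group `K` with a surjection onto `D_p`. -/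
theorem exists_not_centralizing_of_surjective {K : Type*} [Group K] [Finite K] {p : ℕ} [Fact p.Prime]
    (hp : p ≠ 2) (f : K →* DihedralGroup p) (hf : Function.Surjective f) :
    ∃ (x : K) (P : Subgroup K), (∃ k : ℕ, orderOf x = 2 ^ k) ∧ IsPGroup p ↥P ∧
      x ∈ Subgroup.normalizer (P : Set K) ∧ x ∉ Subgroup.centralizer (P : Set K) := by
  have hpp : p.Prime := Fact.out
  have : NeZero p := ⟨hpp.ne_zero⟩
  -- a p-element g₁ with f g₁ = r v, v ≠ 0
  obtain ⟨g₀, hg₀⟩ := hf (r 1)
  have hord0 : orderOf g₀ ≠ 0 := (orderOf_pos g₀).ne'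
  obtain ⟨a, v, hv, hav⟩ := Nat.exists_eq_pow_mul_and_not_dvd hord0 p hpp.ne_one
  set g₁ := g₀ ^ v with hg₁
  have hv0 : v ≠ 0 := by
    intro h; rw [h] at hv; exact hv (dvd_zero p)
  have hg₁ord : orderOf g₁ = p ^ a := by
    rw [hg₁, orderOf_pow_of_dvd hv0 (by rw [hav]; exact dvd_mul_left _ _), hav,
      Nat.mul_div_cancel _ (Nat.pos_of_ne_zero hv0)]
  have hfg₁ : f g₁ = r (v : ZMod p) := by
    rw [hg₁, map_pow, hg₀, r_one_pow]
  have hvz : (v : ZMod p) ≠ 0 := by
    rw [Ne, ZMod.natCast_eq_zero_iff]; exact hv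
  have hPg : IsPGroup p (Subgroup.zpowers g₁) := by
    apply IsPGroup.of_card (n := a)
    rw [Nat.card_zpowers, hg₁ord]
  obtain ⟨P, hP⟩ := hPg.exists_le_sylow
  have hg₁P : g₁ ∈ (P : Subgroup K) := hP (Subgroup.mem_zpowers g₁)
  -- N = preimage of rotations
  have hnorm : (Subgroup.zpowers (r 1 : DihedralGroup p)).Normal := dih_zpowers_r_one_normal
  set N : Subgroup K := (Subgroup.zpowers (r 1 : DihedralGroup p)).comap f with hN
  have hNn : N.Normal := hnorm.comap f
  have hPN : (P : Subgroup K) ≤ N := by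
    intro g hg
    rw [hN, Subgroup.mem_comap, dih_mem_zpowers_r_one]
    rcases hfg : f g with i | i
    · exact ⟨i, rfl⟩
    · exfalso
      obtain ⟨b, hb⟩ := (IsPGroup.iff_orderOf.mp P.isPGroup') ⟨g, hg⟩
      rw [Subgroup.orderOf_mk] at hb
      have h1 : orderOf (f g) ∣ orderOf g := orderOf_map_dvd f g
      rw [hfg, orderOf_sr, hb] at h1
      have h2 : 2 ∣ p := Nat.prime_two.dvd_of_dvd_pow h1
      exact hp ((Nat.prime_dvd_prime_iff_eq Nat.prime_two hpp).mp h2).symm
  have hfr := Sylow.normalizer_sup_eq_top' P hPN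
  obtain ⟨s₀, hs₀⟩ := hf (sr 0)
  have hs₀mem : s₀ ∈ (⊤ : Subgroup K) := Subgroup.mem_top _
  rw [← hfr, ← SetLike.mem_coe, Subgroup.mul_normal] at hs₀mem
  obtain ⟨t, ht, n, hn, htn⟩ := Set.mem_mul.mp hs₀mem
  have hft : ∃ j, f t = sr j := by
    rcases hft : f t with i | i
    · exfalso
      have hn' : f n ∈ Subgroup.zpowers (r 1 : DihedralGroup p) := hn
      obtain ⟨i', hi'⟩ := (dih_mem_zpowers_r_one _).mp hn'
      have : f s₀ = r (i + i') := by
        rw [← htn, map_mul, hft, hi', r_mul_r]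
      rw [hs₀] at this
      exact absurd this (by simp)
    · exact ⟨i, rfl⟩
  obtain ⟨j, hj⟩ := hft
  have hordt : orderOf t ≠ 0 := (orderOf_pos t).ne'
  obtain ⟨m, u, hu, hmu⟩ := Nat.exists_eq_two_pow_mul_odd hordt
  have hu0 : u ≠ 0 := by
    intro h; rw [h] at hu; exact (Nat.not_odd_iff_even.mpr ⟨0, rfl⟩) hu
  set x := t ^ u with hx
  have hxord : orderOf x = 2 ^ m := by
    rw [hx, orderOf_pow_of_dvd hu0 (by rw [hmu]; exact dvd_mul_left _ _), hmu,
      Nat.mul_div_cancel _ (Nat.pos_of_ne_zero hu0)]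
  have hfx : f x = sr j := by
    rw [hx, map_pow, hj]
    obtain ⟨w, hw⟩ := hu
    rw [hw, pow_succ, pow_mul, pow_two, sr_mul_self, one_pow, one_mul]
  have hxN := pow_mem ht u
  rw [← hx] at hxN
  refine ⟨x, P, ⟨m, hxord⟩, P.isPGroup', hxN, ?_⟩
  intro hc
  have h1 := (Subgroup.mem_centralizer_iff.mp hc) g₁ hg₁P
  have h2 := congrArg f h1
  rw [map_mul, map_mul, hfx, hfg₁, r_mul_sr, sr_mul_r] at h2
  have h3 : j - (v : ZMod p) = j + v := by
    simpa using h2
  have h4 : (2 : ZMod p) * v = 0 := by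
    have : (v : ZMod p) + v = 0 := by
      have h5 : (v : ZMod p) + v = j + v - (j - v) := by ring
      rw [h5, ← h3]; ring
    rw [two_mul]; exact this
  rcases mul_eq_zero.mp h4 with h5 | h5
  · have : ((2 : ℕ) : ZMod p) = 0 := by exact_mod_cast h5
    rw [ZMod.natCast_eq_zero_iff] at this
    exact hp ((Nat.prime_dvd_prime_iff_eq hpp Nat.prime_two).mp this)
  · exact hvz h5


/-- (A) ⇒ (B). -/
theorem exists_not_centralizing_of_involves {G : Type*} [Group G] [Finite G] {p : ℕ} [Fact p.Prime]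
    (hp : p ≠ 2) (h : Cfsg.Involves (DihedralGroup p) G) :
    ∃ (x : G) (P : Subgroup G), (∃ k : ℕ, orderOf x = 2 ^ k) ∧ IsPGroup p ↥P ∧
      x ∈ Subgroup.normalizer (P : Set G) ∧ x ∉ Subgroup.centralizer (P : Set G) := by
  obtain ⟨K, f, hf⟩ := Cfsg.Agent.Lib.H26.involves_iff.mp h
  obtain ⟨x, P, ⟨k, hk⟩, hP, hN, hC⟩ := exists_not_centralizing_of_surjective hp f hf
  refine ⟨(x : G), P.map K.subtype, ⟨k, by rw [← hk, Subgroup.orderOf_coe]⟩, hP.map K.subtype, ?_, ?_⟩
  · rw [Subgroup.mem_normalizer_iff]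
    intro g
    constructor
    · rintro ⟨z, hz, rfl⟩
      refine ⟨x * z * x⁻¹, (Subgroup.mem_normalizer_iff.mp hN z).mp hz, ?_⟩
      simp
    · rintro ⟨z, hz, hzz⟩
      have hg : g = ((x⁻¹ * z * x : K) : G) := by
        have : (z : G) = (x : G) * g * (x : G)⁻¹ := hzz
        simp only [Subgroup.coe_mul, Subgroup.coe_inv, this]
        group
      refine ⟨x⁻¹ * z * x, ?_, hg.symm⟩
      have := (Subgroup.mem_normalizer_iff.mp hN (x⁻¹ * z * x)).mpr (by
        have h2 : x * (x⁻¹ * z * x) * x⁻¹ = z := by group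
        rw [h2]; exact hz)
      exact this
  · intro hc
    apply hC
    rw [Subgroup.mem_centralizer_iff]
    intro g hg
    have := (Subgroup.mem_centralizer_iff.mp hc) (g : G) ⟨g, hg, rfl⟩
    apply Subtype.ext
    simpa using this

end Cfsg.Agent.Lib.H14
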