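import Mathlib
import Cfsg.Agent.Lib.H14.Norm
import Cfsg.Agent.Lib.H14.Amalgam2

set_option autoImplicit false

namespace Cfsg.Agent.Lib.H14.DihQuot

open DihedralGroup

variable {G : Type*} [Group G] [Finite G] {l : ℕ} [Fact l.Prime]

/-- Frobenius property: if `ρ` has trivial centralizer in the normal subgroup `Q = ker π`, every
element of the coset `Qρ` is a `Q`-conjugate of `ρ`. -/
theorem exists_conj_of_map_eq {H : Type*} [Group H] (Q : Subgroup G) [Q.Normal] (π : G →* H)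
    (hker : π.ker = Q) (ρ : G) (hCρ : ∀ q ∈ Q, q * ρ = ρ * q → q = 1) (z : G) (hz : π z = π ρ) :
    ∃ q ∈ Q, z = q * ρ * q⁻¹ := by
  -- the map q ↦ q ρ q⁻¹ ρ⁻¹ on Q is injective hence surjective
  let f : Q → Q := fun q => ⟨(q : G) * ρ * (q : G)⁻¹ * ρ⁻¹, by
    have h1 : ρ * (q : G)⁻¹ * ρ⁻¹ ∈ Q := ‹Q.Normal›.conj_mem _ (Q.inv_mem q.2) ρ
    have h2 := Q.mul_mem q.2 h1
    have e : (q : G) * (ρ * (q : G)⁻¹ * ρ⁻¹) = (q : G) * ρ * (q : G)⁻¹ * ρ⁻¹ := by group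
    rw [e] at h2; exact h2⟩
  have hinj : Function.Injective f := by
    intro q₁ q₂ h
    have h' : (q₁ : G) * ρ * (q₁ : G)⁻¹ * ρ⁻¹ = q₂ * ρ * (q₂ : G)⁻¹ * ρ⁻¹ := congrArg Subtype.val h
    have h2 : ((q₂ : G)⁻¹ * q₁) * ρ = ρ * ((q₂ : G)⁻¹ * q₁) := by
      have h3 : (q₁ : G) * ρ * (q₁ : G)⁻¹ = q₂ * ρ * (q₂ : G)⁻¹ := mul_right_cancel h'
      calc ((q₂ : G)⁻¹ * q₁) * ρ = (q₂ : G)⁻¹ * ((q₁ : G) * ρ * (q₁ : G)⁻¹) * q₁ := by group
        _ = (q₂ : G)⁻¹ * ((q₂ : G) * ρ * (q₂ : G)⁻¹) * q₁ := by rw [h3]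
        _ = ρ * ((q₂ : G)⁻¹ * q₁) := by group
    have h4 := hCρ _ (Q.mul_mem (Q.inv_mem q₂.2) q₁.2) h2
    apply Subtype.ext
    have : (q₁ : G) = q₂ := by
      have := congrArg (fun t => (q₂ : G) * t) h4
      simpa using this
    exact this
  have hsurj : Function.Surjective f := Finite.surjective_of_injective hinj
  have hzQ : z * ρ⁻¹ ∈ Q := by
    rw [← hker, MonoidHom.mem_ker, map_mul, map_inv, hz, mul_inv_cancel]
  obtain ⟨q, hq⟩ := hsurj ⟨z * ρ⁻¹, hzQ⟩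
  refine ⟨q, q.2, ?_⟩
  have h' : (q : G) * ρ * (q : G)⁻¹ * ρ⁻¹ = z * ρ⁻¹ := congrArg Subtype.val hq
  exact (mul_right_cancel h').symm


omit [Finite G] in
theorem mem_nzr_zpowers_of_inv (t ρ : G) (h : t * ρ * t⁻¹ = ρ⁻¹) :
    t ∈ Subgroup.normalizer (Subgroup.zpowers ρ : Set G) := by
  have h' : t⁻¹ * ρ * t = ρ⁻¹ := by
    have h1 : ρ = t⁻¹ * ρ⁻¹ * t := by rw [← h]; group
    calc t⁻¹ * ρ * t = (t⁻¹ * ρ⁻¹ * t)⁻¹ := by group
      _ = ρ⁻¹ := by rw [← h1]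
  rw [Subgroup.mem_normalizer_iff]
  intro x
  constructor
  · intro hx
    obtain ⟨k, rfl⟩ := Subgroup.mem_zpowers_iff.mp hx
    rw [← conj_zpow, h]
    exact Subgroup.zpow_mem _ (Subgroup.inv_mem _ (Subgroup.mem_zpowers ρ)) k
  · intro hx
    obtain ⟨k, hk⟩ := Subgroup.mem_zpowers_iff.mp hx
    have : x = (t⁻¹ * ρ * t) ^ k := by
      have e : t⁻¹ * ρ * t = t⁻¹ * ρ * t⁻¹⁻¹ := by rw [inv_inv]
      rw [e, conj_zpow, hk]; group
    rw [this, h']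
    exact Subgroup.zpow_mem _ (Subgroup.inv_mem _ (Subgroup.mem_zpowers ρ)) k

omit [Finite G] in
theorem mem_nzr_zpowers_of_comm (t ρ : G) (h : t * ρ = ρ * t) :
    t ∈ Subgroup.normalizer (Subgroup.zpowers ρ : Set G) := by
  apply Subgroup.centralizer_le_normalizer
  rw [Subgroup.mem_centralizer_iff]
  intro x hx
  obtain ⟨k, rfl⟩ := Subgroup.mem_zpowers_iff.mp hx
  have hc : Commute ρ t := h.symm
  exact (hc.zpow_left k).eq

/-- `π` is injective on `N(⟨ρ⟩)`. -/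
theorem eq_one_of_mem_nzr (Q : Subgroup G) [Q.Normal] (π : G →* DihedralGroup l)
    (hker : π.ker = Q) (ρ : G) (hρr : ρ ^ l = 1) (i : ZMod l) (hi : i ≠ 0) (hπρ : π ρ = r i)
    (hCρ : ∀ q ∈ Q, q * ρ = ρ * q → q = 1)
    (n : G) (hn : n ∈ Subgroup.normalizer (Subgroup.zpowers ρ : Set G)) (hπn : π n = 1) : n = 1 := by
  have hnQ : n ∈ Q := by rw [← hker]; exact hπn
  apply hCρ n hnQ
  have h1 : n * ρ * n⁻¹ ∈ Subgroup.zpowers ρ :=
    (Subgroup.mem_normalizer_iff.mp hn ρ).mp (Subgroup.mem_zpowers ρ)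
  obtain ⟨k, hk⟩ := Subgroup.mem_zpowers_iff.mp h1
  -- ρ^(k-1) ∈ Q
  have h2 : π (ρ ^ (k - 1)) = 1 := by
    have : ρ ^ (k - 1) = n * ρ * n⁻¹ * ρ⁻¹ := by
      rw [zpow_sub, zpow_one, hk]
    rw [this, map_mul, map_mul, map_mul, map_inv, map_inv, hπn]
    simp
  rw [map_zpow, hπρ, r_zpow, one_def] at h2
  have h3 : i * ((k - 1 : ℤ) : ZMod l) = 0 := by
    injection h2
  have h4 : ((k - 1 : ℤ) : ZMod l) = 0 := by
    rcases mul_eq_zero.mp h3 with h | h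
    · exact absurd h hi
    · exact h
  rw [ZMod.intCast_zmod_eq_zero_iff_dvd] at h4
  obtain ⟨m, hm⟩ := h4
  have h5 : ρ ^ (k - 1) = 1 := by
    rw [hm, zpow_mul, zpow_natCast, hρr, one_zpow]
  have h6 : n * ρ * n⁻¹ = ρ := by
    rw [← hk]
    have : ρ ^ k = ρ ^ (k - 1) * ρ := by rw [← zpow_add_one]; congr 1; ring
    rw [this, h5, one_mul]
  calc n * ρ = (n * ρ * n⁻¹) * n := by group
    _ = ρ * n := by rw [h6]

theorem eq_of_mem_nzr (Q : Subgroup G) [Q.Normal] (π : G →* DihedralGroup l)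
    (hker : π.ker = Q) (ρ : G) (hρr : ρ ^ l = 1) (i : ZMod l) (hi : i ≠ 0) (hπρ : π ρ = r i)
    (hCρ : ∀ q ∈ Q, q * ρ = ρ * q → q = 1)
    (n m : G) (hn : n ∈ Subgroup.normalizer (Subgroup.zpowers ρ : Set G))
    (hm : m ∈ Subgroup.normalizer (Subgroup.zpowers ρ : Set G)) (h : π n = π m) : n = m := by
  have h1 := eq_one_of_mem_nzr Q π hker ρ hρr i hi hπρ hCρ (n * m⁻¹)
    (Subgroup.mul_mem _ hn (Subgroup.inv_mem _ hm)) (by rw [map_mul, map_inv, h, mul_inv_cancel])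
  exact mul_inv_eq_one.mp h1


/-- The context: `Q = ker π` for `π : G → D_l`, `ρ` of order `l` mapping to a nontrivial rotation,
with trivial centralizer in `Q`. -/
structure Ctx (Q : Subgroup G) (π : G →* DihedralGroup l) (ρ : G) (i : ZMod l) : Prop where
  hn : Q.Normal
  hker : π.ker = Q
  hρl : ρ ^ l = 1
  hi : i ≠ 0
  hπρ : π ρ = r i
  hCρ : ∀ q ∈ Q, q * ρ = ρ * q → q = 1

variable {Q : Subgroup G} {π : G →* DihedralGroup l} {ρ : G} {i : ZMod l}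

theorem Ctx.inj (C : Ctx Q π ρ i) (n m : G)
    (hn : n ∈ Subgroup.normalizer (Subgroup.zpowers ρ : Set G))
    (hm : m ∈ Subgroup.normalizer (Subgroup.zpowers ρ : Set G)) (h : π n = π m) : n = m :=
  have := C.hn
  eq_of_mem_nzr Q π C.hker ρ C.hρl i C.hi C.hπρ C.hCρ n m hn hm h

theorem Ctx.conj (C : Ctx Q π ρ i) (z : G) (hz : π z = π ρ) : ∃ q ∈ Q, z = q * ρ * q⁻¹ :=
  have := C.hn
  exists_conj_of_map_eq Q π C.hker ρ C.hCρ z hz

theorem Ctx.map_eq_of_mem (C : Ctx Q π ρ i) (q : G) (hq : q ∈ Q) : π q = 1 := by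
  have : q ∈ π.ker := by rw [C.hker]; exact hq
  exact this

/-- an element of `N(⟨ρ⟩)` mapping to a reflection inverts `ρ`. -/
theorem Ctx.inverts (C : Ctx Q π ρ i) (a : G)
    (ha : a ∈ Subgroup.normalizer (Subgroup.zpowers ρ : Set G)) (j : ZMod l) (hπa : π a = sr j) :
    a * ρ * a⁻¹ = ρ⁻¹ := by
  have hρN : ρ ∈ Subgroup.normalizer (Subgroup.zpowers ρ : Set G) :=
    Subgroup.le_normalizer (Subgroup.mem_zpowers ρ)
  apply C.inj _ _ (Subgroup.mul_mem _ (Subgroup.mul_mem _ ha hρN) (Subgroup.inv_mem _ ha))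
    (Subgroup.inv_mem _ hρN)
  rw [map_mul, map_mul, map_inv, map_inv, hπa, C.hπρ, inv_sr, inv_r, sr_mul_r, sr_mul_sr]
  congr 1; ring

/-- Two involutions in the cosets of `a` and `aρ` are simultaneously `Q`-conjugate to `a`, `aρ`. -/
theorem Ctx.two_inv (C : Ctx Q π ρ i) (a : G)
    (ha : a ∈ Subgroup.normalizer (Subgroup.zpowers ρ : Set G)) (haa : a * a = 1) (j : ZMod l)
    (hπa : π a = sr j) (b b' : G) (hbb : b * b = 1) (hb'b' : b' * b' = 1) (hπb : π b = sr j)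
    (hπb' : π b' = sr (j + i)) : ∃ q ∈ Q, b = q * a * q⁻¹ ∧ b' = q * (a * ρ) * q⁻¹ := by
  have h1 : π (b * b') = π ρ := by
    rw [map_mul, hπb, hπb', C.hπρ, sr_mul_sr]; congr 1; ring
  obtain ⟨q, hq, hz⟩ := C.conj _ h1
  have hb_inv : b⁻¹ = b := inv_eq_of_mul_eq_one_right hbb
  have hb'_inv : b'⁻¹ = b' := inv_eq_of_mul_eq_one_right hb'b'
  have ha_inv : a⁻¹ = a := inv_eq_of_mul_eq_one_right haa
  obtain ⟨b₁, hb₁⟩ : ∃ x, x = q⁻¹ * b * q := ⟨_, rfl⟩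
  obtain ⟨b₁', hb₁'⟩ : ∃ x, x = q⁻¹ * b' * q := ⟨_, rfl⟩
  have hprod : b₁ * b₁' = ρ := by
    calc b₁ * b₁' = q⁻¹ * (b * b') * q := by rw [hb₁, hb₁']; group
      _ = ρ := by rw [hz]; group
  have hb₁b₁ : b₁ * b₁ = 1 := by
    calc b₁ * b₁ = q⁻¹ * (b * b) * q := by rw [hb₁]; group
      _ = 1 := by rw [hbb]; group
  have hb₁'b₁' : b₁' * b₁' = 1 := by
    calc b₁' * b₁' = q⁻¹ * (b' * b') * q := by rw [hb₁']; group
      _ = 1 := by rw [hb'b']; group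
  have hb₁_inv : b₁⁻¹ = b₁ := inv_eq_of_mul_eq_one_right hb₁b₁
  have hb₁'_inv : b₁'⁻¹ = b₁' := inv_eq_of_mul_eq_one_right hb₁'b₁'
  have hinv : b₁ * ρ * b₁⁻¹ = ρ⁻¹ := by
    rw [← hprod, mul_inv_rev, hb₁_inv, hb₁'_inv]
    calc b₁ * (b₁ * b₁') * b₁ = (b₁ * b₁) * b₁' * b₁ := by group
      _ = b₁' * b₁ := by rw [hb₁b₁, one_mul]
  have hb₁N := mem_nzr_zpowers_of_inv b₁ ρ hinv
  have hπq : π q = 1 := C.map_eq_of_mem q hq
  have hπb₁ : π b₁ = π a := by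
    rw [hb₁, map_mul, map_mul, map_inv, hπq, hπb, hπa]; simp
  have hb₁a : b₁ = a := C.inj _ _ hb₁N ha hπb₁
  refine ⟨q, hq, ?_, ?_⟩
  · rw [← hb₁a, hb₁]; group
  · have : b₁' = a * ρ := by
      rw [← hprod, ← hb₁a, ← mul_assoc, hb₁b₁, one_mul]
    rw [← this, hb₁']; group


/-- every element of `D_l` is hit by an element of `N(⟨ρ⟩)`. -/
theorem Ctx.exists_mem_nzr (C : Ctx Q π ρ i) (hπ : Function.Surjective π) (d : DihedralGroup l) :
    ∃ n ∈ Subgroup.normalizer (Subgroup.zpowers ρ : Set G), π n = d := by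
  obtain ⟨g, hg⟩ := hπ d
  rcases d with k | k
  · -- rotation: g ρ g⁻¹ in coset of ρ
    have h1 : π (g * ρ * g⁻¹) = π ρ := by
      rw [map_mul, map_mul, map_inv, hg, C.hπρ, inv_r, r_mul_r, r_mul_r]; congr 1; ring
    obtain ⟨q, hq, hz⟩ := C.conj _ h1
    refine ⟨q⁻¹ * g, mem_nzr_zpowers_of_comm _ _ ?_, ?_⟩
    · calc q⁻¹ * g * ρ = q⁻¹ * (g * ρ * g⁻¹) * g := by group
        _ = q⁻¹ * (q * ρ * q⁻¹) * g := by rw [hz]
        _ = ρ * (q⁻¹ * g) := by group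
    · rw [map_mul, map_inv, C.map_eq_of_mem q hq, hg]; simp
  · have h1 : π (g * ρ⁻¹ * g⁻¹) = π ρ := by
      rw [map_mul, map_mul, map_inv, map_inv, hg, C.hπρ, inv_sr, inv_r, sr_mul_r, sr_mul_sr]
      congr 1; ring
    obtain ⟨q, hq, hz⟩ := C.conj _ h1
    refine ⟨q⁻¹ * g, mem_nzr_zpowers_of_inv _ _ ?_, ?_⟩
    · have h2 : q⁻¹ * g * ρ⁻¹ * (q⁻¹ * g)⁻¹ = ρ := by
        calc q⁻¹ * g * ρ⁻¹ * (q⁻¹ * g)⁻¹ = q⁻¹ * (g * ρ⁻¹ * g⁻¹) * q := by group
          _ = q⁻¹ * (q * ρ * q⁻¹) * q := by rw [hz]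
          _ = ρ := by group
      calc q⁻¹ * g * ρ * (q⁻¹ * g)⁻¹ = (q⁻¹ * g * ρ⁻¹ * (q⁻¹ * g)⁻¹)⁻¹ := by group
        _ = ρ⁻¹ := by rw [h2]
    · rw [map_mul, map_inv, C.map_eq_of_mem q hq, hg]; simp

theorem Ctx.mul_rho (C : Ctx Q π ρ i) (a : G)
    (ha : a ∈ Subgroup.normalizer (Subgroup.zpowers ρ : Set G)) (haa : a * a = 1) (j : ZMod l)
    (hπa : π a = sr j) : (a * ρ) * (a * ρ) = 1 ∧
      a * ρ ∈ Subgroup.normalizer (Subgroup.zpowers ρ : Set G) ∧ π (a * ρ) = sr (j + i) := by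
  have hinv := C.inverts a ha j hπa
  refine ⟨?_, ?_, ?_⟩
  · calc a * ρ * (a * ρ) = (a * ρ * a⁻¹) * (a * a) * ρ := by group
      _ = 1 := by rw [hinv, haa]; group
  · exact Subgroup.mul_mem _ ha (Subgroup.le_normalizer (Subgroup.mem_zpowers ρ))
  · rw [map_mul, hπa, C.hπρ, sr_mul_r]

/-- all involutions mapping to reflections are conjugate to `a`. -/
theorem Ctx.conj_inv (C : Ctx Q π ρ i) (hl : l ≠ 2) (hπ : Function.Surjective π) (a : G)
    (ha : a ∈ Subgroup.normalizer (Subgroup.zpowers ρ : Set G)) (haa : a * a = 1) (j : ZMod l)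
    (hπa : π a = sr j) (b : G) (hbb : b * b = 1) (j' : ZMod l) (hπb : π b = sr j') :
    ∃ g : G, g * a * g⁻¹ = b := by
  have hlp : l.Prime := Fact.out
  have h2 : (2 : ZMod l) ≠ 0 := by
    intro h
    have : ((2 : ℕ) : ZMod l) = 0 := by exact_mod_cast h
    rw [ZMod.natCast_eq_zero_iff] at this
    exact hl ((Nat.prime_dvd_prime_iff_eq hlp Nat.prime_two).mp this)
  -- k with j' + 2k = j
  set k : ZMod l := (j - j') * (2 : ZMod l)⁻¹ with hk
  have hk2 : j' + 2 * k = j := by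
    rw [hk]; field_simp; ring
  obtain ⟨g, hg⟩ := hπ (r k)
  obtain ⟨haρ2, haρN, hπaρ⟩ := C.mul_rho a ha haa j hπa
  have hb₁ : π (g⁻¹ * b * g) = sr j := by
    rw [map_mul, map_mul, map_inv, hg, hπb, inv_r, r_mul_sr, sr_mul_r, ← hk2]; congr 1; ring
  obtain ⟨q, hq, h1, _⟩ := C.two_inv a ha haa j hπa (g⁻¹ * b * g) (a * ρ)
    (by calc g⁻¹ * b * g * (g⁻¹ * b * g) = g⁻¹ * (b * b) * g := by group
          _ = 1 := by rw [hbb]; group) haρ2 hb₁ hπaρ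
  refine ⟨g * q, ?_⟩
  calc g * q * a * (g * q)⁻¹ = g * (q * a * q⁻¹) * g⁻¹ := by group
    _ = g * (g⁻¹ * b * g) * g⁻¹ := by rw [← h1]
    _ = b := by group

/-- `Q = C_Q(a) C_Q(aρ)`. -/
theorem Ctx.factor (C : Ctx Q π ρ i) (a : G)
    (ha : a ∈ Subgroup.normalizer (Subgroup.zpowers ρ : Set G)) (haa : a * a = 1) (j : ZMod l)
    (hπa : π a = sr j) (q : G) (hq : q ∈ Q) :
    ∃ x y : G, x ∈ Q ∧ x * a = a * x ∧ y ∈ Q ∧ y * (a * ρ) = (a * ρ) * y ∧ q = x * y := by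
  obtain ⟨haρ2, haρN, hπaρ⟩ := C.mul_rho a ha haa j hπa
  have hπq : π q = 1 := C.map_eq_of_mem q hq
  obtain ⟨p, hp, h1, h2⟩ := C.two_inv a ha haa j hπa (q⁻¹ * a * q) (a * ρ)
    (by calc q⁻¹ * a * q * (q⁻¹ * a * q) = q⁻¹ * (a * a) * q := by group
          _ = 1 := by rw [haa]; group) haρ2
    (by rw [map_mul, map_mul, map_inv, hπq, hπa]; simp) hπaρ
  have := C.hn
  refine ⟨q * p, p⁻¹, Q.mul_mem hq hp, ?_, Q.inv_mem hp, ?_, by group⟩
  · calc q * p * a = q * (p * a * p⁻¹) * p := by group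
      _ = q * (q⁻¹ * a * q) * p := by rw [← h1]
      _ = a * (q * p) := by group
  · calc p⁻¹ * (a * ρ) = p⁻¹ * (p * (a * ρ) * p⁻¹) := by rw [← h2]
      _ = a * ρ * p⁻¹ := by group

theorem Ctx.inter (C : Ctx Q π ρ i) (a x : G) (hx : x ∈ Q) (h1 : x * a = a * x)
    (h2 : x * (a * ρ) = (a * ρ) * x) : x = 1 := by
  apply C.hCρ x hx
  have h3 : a⁻¹ * x = x * a⁻¹ := by
    calc a⁻¹ * x = a⁻¹ * (x * a) * a⁻¹ := by group
      _ = a⁻¹ * (a * x) * a⁻¹ := by rw [h1]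
      _ = x * a⁻¹ := by group
  calc x * ρ = x * a⁻¹ * (a * ρ) := by group
    _ = a⁻¹ * x * (a * ρ) := by rw [h3]
    _ = a⁻¹ * (x * (a * ρ)) := by group
    _ = a⁻¹ * ((a * ρ) * x) := by rw [h2]
    _ = ρ * x := by group


theorem Ctx.card_mul (C : Ctx Q π ρ i) (a : G)
    (ha : a ∈ Subgroup.normalizer (Subgroup.zpowers ρ : Set G)) (haa : a * a = 1) (j : ZMod l)
    (hπa : π a = sr j) :
    Nat.card ↥(Q ⊓ Subgroup.centralizer ({a} : Set G)) *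
      Nat.card ↥(Q ⊓ Subgroup.centralizer ({a * ρ} : Set G)) = Nat.card ↥Q := by
  let f : ↥(Q ⊓ Subgroup.centralizer ({a} : Set G)) × ↥(Q ⊓ Subgroup.centralizer ({a * ρ} : Set G)) → ↥Q :=
    fun xy => ⟨(xy.1 : G) * (xy.2 : G), Q.mul_mem (Subgroup.mem_inf.mp xy.1.2).1 (Subgroup.mem_inf.mp xy.2.2).1⟩
  have hbij : Function.Bijective f := by
    constructor
    · rintro ⟨x₁, y₁⟩ ⟨x₂, y₂⟩ h
      have h' : (x₁ : G) * (y₁ : G) = (x₂ : G) * (y₂ : G) := congrArg Subtype.val h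
      -- z = x₂⁻¹ x₁ = y₂ y₁⁻¹ lies in both centralizers
      have hz : (x₂ : G)⁻¹ * x₁ = (y₂ : G) * (y₁ : G)⁻¹ := by
        calc (x₂ : G)⁻¹ * x₁ = (x₂ : G)⁻¹ * ((x₁ : G) * y₁) * (y₁ : G)⁻¹ := by group
          _ = (x₂ : G)⁻¹ * ((x₂ : G) * y₂) * (y₁ : G)⁻¹ := by rw [h']
          _ = (y₂ : G) * (y₁ : G)⁻¹ := by group
      have hA := (Q ⊓ Subgroup.centralizer ({a} : Set G)).mul_mem
        ((Q ⊓ Subgroup.centralizer ({a} : Set G)).inv_mem x₂.2) x₁.2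
      have hB := (Q ⊓ Subgroup.centralizer ({a * ρ} : Set G)).mul_mem y₂.2
        ((Q ⊓ Subgroup.centralizer ({a * ρ} : Set G)).inv_mem y₁.2)
      rw [← hz] at hB
      have h1 := C.inter a _ (Subgroup.mem_inf.mp hA).1
        (Subgroup.mem_centralizer_singleton_iff.mp (Subgroup.mem_inf.mp hA).2)
        (Subgroup.mem_centralizer_singleton_iff.mp (Subgroup.mem_inf.mp hB).2)
      have hx : (x₁ : G) = x₂ := by
        have := congrArg (fun t => (x₂ : G) * t) h1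
        simpa using this
      have hy : (y₁ : G) = y₂ := by
        rw [hx] at h'
        exact mul_left_cancel h'
      exact Prod.ext (Subtype.ext hx) (Subtype.ext hy)
    · rintro ⟨q, hq⟩
      obtain ⟨x, y, hxQ, hxa, hyQ, hya, hqxy⟩ := C.factor a ha haa j hπa q hq
      refine ⟨(⟨x, Subgroup.mem_inf.mpr ⟨hxQ, Subgroup.mem_centralizer_singleton_iff.mpr hxa⟩⟩,
        ⟨y, Subgroup.mem_inf.mpr ⟨hyQ, Subgroup.mem_centralizer_singleton_iff.mpr hya⟩⟩), ?_⟩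
      exact Subtype.ext hqxy.symm
  rw [← Nat.card_prod]
  exact Nat.card_congr (Equiv.ofBijective f hbij)

omit [Fact l.Prime] in
theorem card_inf_centralizer_conj_le (Q : Subgroup G) [Q.Normal] (a g : G) :
    Nat.card ↥(Q ⊓ Subgroup.centralizer ({a} : Set G)) ≤
      Nat.card ↥(Q ⊓ Subgroup.centralizer ({g * a * g⁻¹} : Set G)) := by
  have hle : (Q ⊓ Subgroup.centralizer ({a} : Set G)).map (MulAut.conj g).toMonoidHom ≤
      Q ⊓ Subgroup.centralizer ({g * a * g⁻¹} : Set G) := by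
    rintro _ ⟨x, hx, rfl⟩
    obtain ⟨hxQ, hxa⟩ := Subgroup.mem_inf.mp hx
    rw [Subgroup.mem_centralizer_singleton_iff] at hxa
    refine Subgroup.mem_inf.mpr ⟨?_, ?_⟩
    · exact ‹Q.Normal›.conj_mem x hxQ g
    · rw [Subgroup.mem_centralizer_singleton_iff]
      simp only [MulEquiv.coe_toMonoidHom, MulAut.conj_apply]
      calc g * x * g⁻¹ * (g * a * g⁻¹) = g * (x * a) * g⁻¹ := by group
        _ = g * (a * x) * g⁻¹ := by rw [hxa]
        _ = g * a * g⁻¹ * (g * x * g⁻¹) := by group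
  have h1 := Subgroup.card_le_of_le hle
  rwa [Subgroup.card_map_of_injective (MulAut.conj g).injective] at h1


omit [Finite G] in
theorem exists_sr_of_sq (hl : l ≠ 2) (d : DihedralGroup l) (hd : d * d = 1) (hd1 : d ≠ 1) :
    ∃ j, d = sr j := by
  have hlp : l.Prime := Fact.out
  rcases d with k | k
  · exfalso
    rw [r_mul_r, one_def] at hd
    have h1 : k + k = 0 := by injection hd
    have h2 : (2 : ZMod l) * k = 0 := by rw [two_mul]; exact h1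
    rcases mul_eq_zero.mp h2 with h | h
    · have : ((2 : ℕ) : ZMod l) = 0 := by exact_mod_cast h
      rw [ZMod.natCast_eq_zero_iff] at this
      exact hl ((Nat.prime_dvd_prime_iff_eq hlp Nat.prime_two).mp this)
    · apply hd1; rw [h, one_def]
  · exact ⟨k, rfl⟩

/-- Build the context from the hypotheses of the statement. -/
theorem exists_ctx (hl : l ≠ 2) [hN : (Cfsg.pCore 2 G).Normal]
    (e : G ⧸ Cfsg.pCore 2 G ≃* DihedralGroup l) (R : Sylow l G)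
    (hC : Cfsg.pCore 2 G ⊓ Subgroup.centralizer ((R : Subgroup G) : Set G) = ⊥) :
    ∃ (ρ : G) (i : ZMod l), (R : Subgroup G) = Subgroup.zpowers ρ ∧
      Ctx (Cfsg.pCore 2 G) (e.toMonoidHom.comp (QuotientGroup.mk' (Cfsg.pCore 2 G))) ρ i := by
  have hlp : l.Prime := Fact.out
  set Q := Cfsg.pCore 2 G with hQ
  set π : G →* DihedralGroup l := e.toMonoidHom.comp (QuotientGroup.mk' Q) with hπdef
  have hQ2 : IsPGroup 2 ↥Q := Cfsg.Agent.Lib.H14.pCore_isPGroup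
  have hker : π.ker = Q := by
    ext x
    rw [MonoidHom.mem_ker, hπdef, MonoidHom.comp_apply]
    constructor
    · intro h
      have : QuotientGroup.mk' Q x = 1 := by
        apply e.injective
        rw [map_one]; exact h
      exact (QuotientGroup.eq_one_iff x).mp this
    · intro h
      have : QuotientGroup.mk' Q x = 1 := (QuotientGroup.eq_one_iff x).mpr h
      rw [this]; exact map_one _
  obtain ⟨k, hk⟩ := IsPGroup.iff_card.mp hQ2
  have hcardG : Nat.card G = 2 * l * 2 ^ k := by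
    rw [← hk, Subgroup.card_eq_card_quotient_mul_card_subgroup Q, Nat.card_congr e.toEquiv,
      DihedralGroup.nat_card]
  have hcardR : Nat.card (R : Subgroup G) = l := by
    rw [Sylow.card_eq_multiplicity, hcardG]
    have h2l : (2 : ℕ) ≠ l := fun h => hl h.symm
    have : (2 * l * 2 ^ k).factorization l = 1 := by
      rw [Nat.factorization_mul (Nat.mul_ne_zero (by norm_num) hlp.ne_zero) (by positivity),
        Nat.factorization_mul (by norm_num) hlp.ne_zero, Nat.factorization_pow]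
      simp [Nat.Prime.factorization Nat.prime_two, Nat.Prime.factorization hlp, h2l]
    rw [this, pow_one]
  have hcyc : IsCyclic ↥(R : Subgroup G) := isCyclic_of_prime_card hcardR
  obtain ⟨ρ', hρ'⟩ := hcyc.exists_generator
  have hρ'ord : orderOf ρ' = l := by
    rw [orderOf_eq_card_of_forall_mem_zpowers hρ', hcardR]
  set ρ : G := (ρ' : G) with hρ
  have hρord : orderOf ρ = l := by rw [hρ, Subgroup.orderOf_coe, hρ'ord]
  have hRz : (R : Subgroup G) = Subgroup.zpowers ρ := by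
    apply le_antisymm
    · intro x hx
      obtain ⟨m, hm⟩ := Subgroup.mem_zpowers_iff.mp (hρ' ⟨x, hx⟩)
      exact Subgroup.mem_zpowers_iff.mpr ⟨m, by simpa using congrArg Subtype.val hm⟩
    · rw [Subgroup.zpowers_le]; exact ρ'.2
  have hρ1 : ρ ≠ 1 := by
    intro h
    rw [h, orderOf_one] at hρord
    exact hlp.one_lt.ne hρord
  have hρQ : ρ ∉ Q := by
    intro h
    have h1 : orderOf ρ ∣ Nat.card Q := by
      have := orderOf_dvd_natCard (⟨ρ, h⟩ : Q)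
      rwa [Subgroup.orderOf_mk] at this
    rw [hρord, hk] at h1
    have h3 : l ∣ 2 := hlp.dvd_of_dvd_pow h1
    exact hl ((Nat.prime_dvd_prime_iff_eq hlp Nat.prime_two).mp h3)
  have hπρ : ∃ i : ZMod l, i ≠ 0 ∧ π ρ = r i := by
    rcases hd : π ρ with i | i
    · refine ⟨i, ?_, rfl⟩
      rintro rfl
      apply hρQ
      rw [← hker, MonoidHom.mem_ker, hd, one_def]
    · exfalso
      have h1 : orderOf (π ρ) ∣ orderOf ρ := orderOf_map_dvd π ρ
      rw [hd, orderOf_sr, hρord] at h1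
      exact hl ((Nat.prime_dvd_prime_iff_eq Nat.prime_two hlp).mp h1).symm
  obtain ⟨i, hi, hπρi⟩ := hπρ
  refine ⟨ρ, i, hRz, ⟨hN, hker, by rw [← hρord, pow_orderOf_eq_one], hi, hπρi, ?_⟩⟩
  intro q hq hcomm
  have hqC : q ∈ Subgroup.centralizer ((R : Subgroup G) : Set G) := by
    rw [hRz, Subgroup.mem_centralizer_iff]
    intro x hx
    obtain ⟨m, rfl⟩ := Subgroup.mem_zpowers_iff.mp hx
    have hc : Commute ρ q := hcomm.symm
    exact (hc.zpow_left m).eq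
  have : q ∈ Q ⊓ Subgroup.centralizer ((R : Subgroup G) : Set G) := Subgroup.mem_inf.mpr ⟨hq, hqC⟩
  rw [hC] at this
  exact Subgroup.mem_bot.mp this

end Cfsg.Agent.Lib.H14.DihQuot
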