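import Mathlib

set_option autoImplicit false

namespace Cfsg.Agent.Lib.H14.DuadMap

open Finset

variable {α : Type*} [DecidableEq α]

theorem symmDiff_pair {a b c : α} (hab : a ≠ b) (hac : a ≠ c)
    (hbc : b ≠ c) : symmDiff ({a, b} : Finset α) {a, c} = {b, c} := by
  ext t
  simp only [Finset.mem_symmDiff, Finset.mem_insert, Finset.mem_singleton]
  constructor
  · rintro (⟨h1 | h1, h2⟩ | ⟨h1 | h1, h2⟩)
    · exact absurd (Or.inl h1) h2
    · exact Or.inl h1
    · exact absurd (Or.inl h1) h2
    · exact Or.inr h1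
  · rintro (h | h)
    · left
      refine ⟨Or.inr h, ?_⟩
      rintro (h' | h')
      · exact hab (h'.symm.trans h)
      · exact hbc (h.symm.trans h')
    · right
      refine ⟨Or.inr h, ?_⟩
      rintro (h' | h')
      · exact hac (h'.symm.trans h)
      · exact hbc (h'.symm.trans h)

theorem card_symmDiff_add (A B : Finset α) :
    (symmDiff A B).card + 2 * (A ∩ B).card = A.card + B.card := by
  have h1 : symmDiff A B = (A \ B) ∪ (B \ A) := rfl
  have h2 : Disjoint (A \ B) (B \ A) := disjoint_sdiff_sdiff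
  rw [h1, card_union_of_disjoint h2]
  have h3 := card_sdiff_add_card_inter A B
  have h4 := card_sdiff_add_card_inter B A
  rw [inter_comm B A] at h4
  omega

/-- A map on 2-sets which is injective and additive for intersecting pairs is induced by an
injective map on points. -/
theorem exists_point_map (F : Finset α → Finset α)
    (hcard : ∀ S : Finset α, S.card = 2 → (F S).card = 2)
    (hinj : ∀ S T : Finset α, S.card = 2 → T.card = 2 → F S = F T → S = T)
    (hadd : ∀ S T : Finset α, S.card = 2 → T.card = 2 → (symmDiff S T).card = 2 →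
      F (symmDiff S T) = symmDiff (F S) (F T))
    (p₀ q₁ q₂ : α) (h01 : p₀ ≠ q₁) (h02 : p₀ ≠ q₂) (h12 : q₁ ≠ q₂) :
    ∃ π : α → α, Function.Injective π ∧ ∀ p q, p ≠ q → F {p, q} = {π p, π q} := by
  have c2 : ∀ {a b : α}, a ≠ b → ({a, b} : Finset α).card = 2 := fun h => Finset.card_pair h
  -- intersecting pairs have images meeting in exactly one point
  have meet : ∀ {a b c : α}, a ≠ b → a ≠ c → b ≠ c → (F {a, b} ∩ F {a, c}).card = 1 := by
    intro a b c hab hac hbc
    have hs := symmDiff_pair hab hac hbc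
    have h1 := hadd {a, b} {a, c} (c2 hab) (c2 hac) (by rw [hs]; exact c2 hbc)
    have h2 := hcard _ (c2 hbc)
    rw [← hs, h1] at h2
    have := card_symmDiff_add (F {a, b}) (F {a, c})
    rw [h2, hcard _ (c2 hab), hcard _ (c2 hac)] at this
    omega
  obtain ⟨a, ha⟩ := Finset.card_eq_one.mp (meet h01 h02 h12)
  have haA : a ∈ F {p₀, q₁} := (Finset.mem_inter.mp (by rw [ha]; exact Finset.mem_singleton_self a)).1
  have haB : a ∈ F {p₀, q₂} := (Finset.mem_inter.mp (by rw [ha]; exact Finset.mem_singleton_self a)).2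
  -- the common point lies in all images of pairs through p₀
  have star : ∀ s, s ≠ p₀ → a ∈ F {p₀, s} := by
    intro s hs
    by_cases hs1 : s = q₁
    · rw [hs1]; exact haA
    by_cases hs2 : s = q₂
    · rw [hs2]; exact haB
    by_contra hna
    have m1 := meet (Ne.symm hs) h01 hs1
    have m2 := meet (Ne.symm hs) h02 hs2
    set D := F {p₀, s} with hD
    set A := F {p₀, q₁} with hA
    set B := F {p₀, q₂} with hB
    have hDc : D.card = 2 := hcard _ (c2 (Ne.symm hs))
    have hdisj : Disjoint (D ∩ A) (D ∩ B) := by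
      rw [Finset.disjoint_left]
      intro t ht1 ht2
      have : t ∈ A ∩ B := Finset.mem_inter.mpr ⟨(Finset.mem_inter.mp ht1).2, (Finset.mem_inter.mp ht2).2⟩
      rw [ha, Finset.mem_singleton] at this
      rw [this] at ht1
      exact hna (Finset.mem_inter.mp ht1).1
    have hsub : (D ∩ A) ∪ (D ∩ B) ⊆ D ∩ symmDiff A B := by
      intro t ht
      rw [Finset.mem_union] at ht
      rw [Finset.mem_inter, Finset.mem_symmDiff]
      rcases ht with ht | ht
      · have hd := (Finset.mem_inter.mp ht).1
        have hta := (Finset.mem_inter.mp ht).2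
        refine ⟨hd, Or.inl ⟨hta, ?_⟩⟩
        intro htb
        have : t ∈ A ∩ B := Finset.mem_inter.mpr ⟨hta, htb⟩
        rw [ha, Finset.mem_singleton] at this
        rw [this] at hd
        exact hna hd
      · have hd := (Finset.mem_inter.mp ht).1
        have htb := (Finset.mem_inter.mp ht).2
        refine ⟨hd, Or.inr ⟨htb, ?_⟩⟩
        intro hta
        have : t ∈ A ∩ B := Finset.mem_inter.mpr ⟨hta, htb⟩
        rw [ha, Finset.mem_singleton] at this
        rw [this] at hd
        exact hna hd
    have hcardU : ((D ∩ A) ∪ (D ∩ B)).card = 2 := by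
      rw [Finset.card_union_of_disjoint hdisj, m1, m2]
    have hsd : symmDiff A B = F {q₁, q₂} := by
      rw [hA, hB, ← hadd _ _ (c2 h01) (c2 h02) (by rw [symmDiff_pair h01 h02 h12]; exact c2 h12),
        symmDiff_pair h01 h02 h12]
    have hsdc : (symmDiff A B).card = 2 := by rw [hsd]; exact hcard _ (c2 h12)
    have h2le : 2 ≤ (D ∩ symmDiff A B).card := by
      rw [← hcardU]; exact Finset.card_le_card hsub
    have hDsub : D ∩ symmDiff A B = D := by
      apply Finset.eq_of_subset_of_card_le Finset.inter_subset_left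
      rw [hDc]; exact h2le
    have hDsub' : D ∩ symmDiff A B = symmDiff A B := by
      apply Finset.eq_of_subset_of_card_le Finset.inter_subset_right
      rw [hsdc]; exact h2le
    have hDeq : D = F {q₁, q₂} := by rw [← hsd, ← hDsub', hDsub]
    have := hinj _ _ (c2 (Ne.symm hs)) (c2 h12) hDeq
    have hp : p₀ ∈ ({q₁, q₂} : Finset α) := by rw [← this]; exact Finset.mem_insert_self _ _
    rw [Finset.mem_insert, Finset.mem_singleton] at hp
    rcases hp with hp | hp
    · exact h01 hp
    · exact h02 hp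
  -- the other point
  have other : ∀ s, s ≠ p₀ → ∃ b, b ≠ a ∧ F {p₀, s} = {a, b} := by
    intro s hs
    have hc := hcard _ (c2 (Ne.symm hs))
    obtain ⟨u, v, huv, hE⟩ := Finset.card_eq_two.mp hc
    have hmem := star s hs
    rw [hE, Finset.mem_insert, Finset.mem_singleton] at hmem
    rcases hmem with rfl | rfl
    · exact ⟨v, Ne.symm huv, hE⟩
    · exact ⟨u, huv, by rw [hE, Finset.pair_comm]⟩
  classical
  choose! g hg using other
  let π : α → α := fun s => if s = p₀ then a else g s
  have hπ0 : π p₀ = a := if_pos rfl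
  have hπs : ∀ s, s ≠ p₀ → π s = g s := fun s hs => if_neg hs
  have hne_a : ∀ s, s ≠ p₀ → π s ≠ a := fun s hs => by rw [hπs s hs]; exact (hg s hs).1
  have hF0 : ∀ s, s ≠ p₀ → F {p₀, s} = {a, π s} := fun s hs => by rw [hπs s hs]; exact (hg s hs).2
  have hinjπ : ∀ s t, s ≠ p₀ → t ≠ p₀ → π s = π t → s = t := by
    intro s t hs ht hst
    have : F {p₀, s} = F {p₀, t} := by rw [hF0 s hs, hF0 t ht, hst]
    have h := hinj _ _ (c2 (Ne.symm hs)) (c2 (Ne.symm ht)) this
    have hsm : s ∈ ({p₀, t} : Finset α) := by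
      rw [← h]; exact Finset.mem_insert_of_mem (Finset.mem_singleton_self s)
    rw [Finset.mem_insert, Finset.mem_singleton] at hsm
    rcases hsm with h' | h'
    · exact absurd h' hs
    · exact h'
  have hFst : ∀ s t, s ≠ p₀ → t ≠ p₀ → s ≠ t → F {s, t} = {π s, π t} := by
    intro s t hs ht hst
    have hsd := symmDiff_pair (Ne.symm hs) (Ne.symm ht) hst
    have := hadd _ _ (c2 (Ne.symm hs)) (c2 (Ne.symm ht)) (by rw [hsd]; exact c2 hst)
    rw [hsd, hF0 s hs, hF0 t ht] at this
    rw [this]
    have hne : π s ≠ π t := fun h => hst (hinjπ s t hs ht h)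
    exact symmDiff_pair (Ne.symm (hne_a s hs)) (Ne.symm (hne_a t ht)) hne
  refine ⟨π, ?_, ?_⟩
  · intro s t hst
    by_cases hs : s = p₀ <;> by_cases ht : t = p₀
    · rw [hs, ht]
    · exfalso; rw [hs, hπ0] at hst; exact hne_a t ht hst.symm
    · exfalso; rw [ht, hπ0] at hst; exact hne_a s hs hst
    · exact hinjπ s t hs ht hst
  · intro p q hpq
    by_cases hp : p = p₀ <;> by_cases hq : q = p₀
    · exfalso; exact hpq (hp.trans hq.symm)
    · rw [hp, hπ0]; exact hF0 q hq
    · rw [hq, hπ0, Finset.pair_comm, hF0 p hp, Finset.pair_comm]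
    · exact hFst p q hp hq hpq

end Cfsg.Agent.Lib.H14.DuadMap
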