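import Cfsg.Agent.Lib.H14.PReduced5
set_option autoImplicit false
open Cfsg

namespace Cfsg.Agent.Lib.H14

section
variable {G : Type*} [Group G] {p : ℕ}

theorem comm_closure_of_comm (s : Set G) (hcomm : ∀ x ∈ s, ∀ y ∈ s, x * y = y * x) :
    ∀ a ∈ Subgroup.closure s, ∀ b ∈ Subgroup.closure s, a * b = b * a := by
  have step1 : ∀ x ∈ s, Subgroup.closure s ≤ Subgroup.centralizer ({x} : Set G) := by
    intro x hx
    rw [Subgroup.closure_le]
    intro y hy
    rw [SetLike.mem_coe, Subgroup.mem_centralizer_iff]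
    intro z hz
    rw [Set.mem_singleton_iff] at hz
    subst hz
    exact hcomm z hx y hy
  have step2 : ∀ a ∈ Subgroup.closure s, Subgroup.closure s ≤ Subgroup.centralizer ({a} : Set G) := by
    intro a ha
    rw [Subgroup.closure_le]
    intro y hy
    rw [SetLike.mem_coe, Subgroup.mem_centralizer_iff]
    intro z hz
    rw [Set.mem_singleton_iff] at hz
    subst hz
    have := Subgroup.mem_centralizer_iff.mp (step1 y hy ha) y (Set.mem_singleton y)
    exact this.symm
  intro a ha b hb
  exact Subgroup.mem_centralizer_iff.mp (step2 a ha hb) a (Set.mem_singleton a)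

theorem isElementaryAbelian_closure_of_comm (s : Set G) (hs : ∀ x ∈ s, x ^ p = 1)
    (hcomm : ∀ x ∈ s, ∀ y ∈ s, x * y = y * x) :
    Cfsg.IsElementaryAbelian p (Subgroup.closure s) := by
  have hc := comm_closure_of_comm s hcomm
  refine ⟨⟨⟨?_⟩⟩, ?_⟩
  · rintro ⟨a, ha⟩ ⟨b, hb⟩
    exact Subtype.ext (hc a ha b hb)
  · intro a ha
    induction ha using Subgroup.closure_induction with
    | mem x hx => exact hs x hx
    | one => exact one_pow p
    | mul x y hx hy ihx ihy =>
      rw [(show Commute x y from hc x hx y hy).mul_pow, ihx, ihy, one_mul]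
    | inv x hx ih => rw [inv_pow, ih, inv_one]

end

end Cfsg.Agent.Lib.H14
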