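import Cfsg.Agent.Lib.H1.ExtraGlue

/-! Counting in extraspecial 2-groups of plus type. -/

set_option autoImplicit false

namespace Cfsg.Agent.Lib.H14
open scoped commutatorElement
open Cfsg.Agent.Lib.H1

universe u

/-- In a group of Heisenberg type (e.g. an extraspecial group), an abelian subgroup `B` satisfies
`|B|² ≤ p·|E|`. -/
theorem isHeis_card_sq_le {p : ℕ} [hp : Fact p.Prime] :
    ∀ (n : ℕ) (E : Type u) [Group E] [Finite E], Nat.card E = n → IsHeis p E →
      ∀ B : Subgroup E, (∀ a ∈ B, ∀ b ∈ B, a * b = b * a) → Nat.card B ^ 2 ≤ p * Nat.card E := by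
  intro n
  induction n using Nat.strong_induction_on with
  | _ n ih =>
    intro E _ _ hn h B hB
    have hpE : p ≤ Nat.card E := by
      rw [← h.card_center]; exact Subgroup.card_le_card_group _
    by_cases hBZ : B ≤ Subgroup.center E
    · have h1 : Nat.card B ≤ p := by
        rw [← h.card_center]; exact Subgroup.card_le_of_le hBZ
      calc Nat.card B ^ 2 = Nat.card B * Nat.card B := sq _
        _ ≤ p * p := Nat.mul_le_mul h1 h1
        _ ≤ p * Nat.card E := Nat.mul_le_mul_left p hpE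
    · obtain ⟨b, hbB, hbZ⟩ := SetLike.not_le_iff_exists.mp hBZ
      rw [Subgroup.mem_center_iff] at hbZ
      push Not at hbZ
      obtain ⟨y, hy⟩ := hbZ
      have hxy : ⁅b, y⁆ ≠ 1 := fun h' => hy (commutatorElement_eq_one_iff_mul_comm.mp h').symm
      have hQ := h.pairCentralizer_isHeis hxy
      have hcQ := h.card_pairCentralizer hxy
      have hppos : 0 < p := hp.out.pos
      have hQlt : Nat.card (pairCentralizer b y) < n := by
        rw [← hn, ← hcQ]
        have h2 : 1 < p * p := by nlinarith [hp.out.one_lt]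
        have h3 : 0 < Nat.card (pairCentralizer b y) := Nat.card_pos
        nlinarith
      -- the subgroup `B₁ = B ∩ C(y) ≤ Q`
      have hB1Q : B ⊓ Subgroup.centralizer ({y} : Set E) ≤ pairCentralizer b y := by
        intro g hg
        rw [mem_pairCentralizer_iff]
        refine ⟨hB b hbB g hg.1, ?_⟩
        exact (Subgroup.mem_centralizer_singleton_iff.mp hg.2).symm
      have hidx : (Subgroup.centralizer ({y} : Set E)).relIndex B ∣ p := by
        have := Cfsg.Agent.Lib.H16.relIndex_centralizer_dvd_card B (Subgroup.center E) y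
          (fun k _ => h.comm_mem k y)
          (fun d hd => (Subgroup.mem_center_iff.mp hd y).symm)
          (fun d hd k _ => (Subgroup.mem_center_iff.mp hd k).symm)
        rwa [h.card_center] at this
      have hcardB : Nat.card B =
          Nat.card ↥(B ⊓ Subgroup.centralizer ({y} : Set E)) *
            (Subgroup.centralizer ({y} : Set E)).relIndex B := by
        have h1 := ((Subgroup.centralizer ({y} : Set E)).subgroupOf B).card_mul_index
        rw [← h1]
        congr 1
        rw [← Subgroup.inf_subgroupOf_left]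
        exact (Nat.card_congr (Subgroup.subgroupOfEquivOfLe inf_le_left).toEquiv)
      have hle : Nat.card B ≤ Nat.card ↥(B ⊓ Subgroup.centralizer ({y} : Set E)) * p := by
        rw [hcardB]
        exact Nat.mul_le_mul_left _ (Nat.le_of_dvd hppos hidx)
      have hIH := ih _ hQlt (pairCentralizer b y) rfl hQ
        ((B ⊓ Subgroup.centralizer ({y} : Set E)).subgroupOf (pairCentralizer b y))
        (by
          intro a ha c hc
          apply Subtype.ext
          exact hB _ (Subgroup.mem_subgroupOf.mp ha).1 _ (Subgroup.mem_subgroupOf.mp hc).1)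
      rw [Nat.card_congr (Subgroup.subgroupOfEquivOfLe hB1Q).toEquiv] at hIH
      calc Nat.card B ^ 2 ≤ (Nat.card ↥(B ⊓ Subgroup.centralizer ({y} : Set E)) * p) ^ 2 :=
            Nat.pow_le_pow_left hle 2
        _ = Nat.card ↥(B ⊓ Subgroup.centralizer ({y} : Set E)) ^ 2 * (p * p) := by ring
        _ ≤ p * Nat.card (pairCentralizer b y) * (p * p) := Nat.mul_le_mul_right _ hIH
        _ = p * Nat.card E := by rw [← hcQ]; ring

theorem comm_closure_of_pairwise_comm {G : Type*} [Group G] (S : Set G)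
    (hS : ∀ x ∈ S, ∀ y ∈ S, x * y = y * x) :
    ∀ x ∈ Subgroup.closure S, ∀ y ∈ Subgroup.closure S, x * y = y * x := by
  have h1 : Subgroup.closure S ≤ Subgroup.centralizer S := by
    rw [Subgroup.closure_le]
    intro x hx
    rw [SetLike.mem_coe, Subgroup.mem_centralizer_iff]
    intro y hy
    exact hS y hy x hx
  have h2 : Subgroup.closure S ≤ Subgroup.centralizer (Subgroup.centralizer S : Set G) :=
    Subgroup.closure_le_centralizer_centralizer S
  intro x hx y hy
  exact (Subgroup.mem_centralizer_iff.mp (h2 hx) y (h1 hy)).symm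

/-- An abelian subgroup of the largest possible order in a group of Heisenberg type is
self-centralizing. -/
theorem isHeis_mem_of_centralizes {p : ℕ} [hp : Fact p.Prime] {E : Type u} [Group E] [Finite E]
    (h : IsHeis p E) (A : Subgroup E) (hA : ∀ a ∈ A, ∀ b ∈ A, a * b = b * a)
    (hcard : Nat.card A ^ 2 = p * Nat.card E) (g : E) (hg : ∀ a ∈ A, a * g = g * a) : g ∈ A := by
  have hS : ∀ x ∈ ((A : Set E) ∪ {g}), ∀ y ∈ ((A : Set E) ∪ {g}), x * y = y * x := by
    rintro x (hx | hx) y (hy | hy)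
    · exact hA x hx y hy
    · rw [Set.mem_singleton_iff] at hy; subst hy; exact hg x hx
    · rw [Set.mem_singleton_iff] at hx; subst hx; exact (hg y hy).symm
    · rw [Set.mem_singleton_iff] at hx hy; subst hx; subst hy; rfl
  have hB := comm_closure_of_pairwise_comm _ hS
  have hle := isHeis_card_sq_le (p := p) _ E rfl h _ hB
  rw [← hcard] at hle
  have hAB : A ≤ Subgroup.closure ((A : Set E) ∪ {g}) := by
    intro a ha; exact Subgroup.subset_closure (Or.inl ha)
  have hcle : Nat.card ↥(Subgroup.closure ((A : Set E) ∪ {g})) ≤ Nat.card A := by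
    by_contra hlt
    rw [not_le] at hlt
    have := Nat.pow_lt_pow_left hlt (n := 2) (by norm_num)
    omega
  have heq : A = Subgroup.closure ((A : Set E) ∪ {g}) := Subgroup.eq_of_le_of_card_ge hAB hcle
  rw [heq]
  exact Subgroup.subset_closure (Or.inr rfl)

/-- class two computation -/
theorem sq_mul_mul_of_central {E : Type*} [Group E] (g a a₀ c : E)
    (hc : ∀ x : E, c * x = x * c) (h1 : a₀ * g = c * g * a₀) (h2 : a₀ * a = a * a₀)
    (h3 : a₀ * a₀ = 1) : (g * (a * a₀)) ^ 2 = (g * a) ^ 2 * c := by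
  calc (g * (a * a₀)) ^ 2 = g * a * (a₀ * g) * (a * a₀) := by simp only [sq, mul_assoc]
    _ = g * a * (c * g * a₀) * (a * a₀) := by rw [h1]
    _ = g * a * (c * g) * (a₀ * a) * a₀ := by simp only [mul_assoc]
    _ = g * a * (g * c) * (a * a₀) * a₀ := by rw [hc g, h2]
    _ = g * a * g * (c * a) * (a₀ * a₀) := by simp only [mul_assoc]
    _ = g * a * g * (a * c) * 1 := by rw [hc a, h3]
    _ = (g * a) ^ 2 * c := by simp only [sq, mul_assoc, mul_one]

theorem isHeis_center_eq_or {E : Type*} [Group E] (h : IsHeis 2 E) {z w : E}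
    (hz : z ∈ Subgroup.center E) (hz1 : z ≠ 1) (hw : w ∈ Subgroup.center E) : w = 1 ∨ w = z := by
  by_cases hw1 : w = 1
  · exact Or.inl hw1
  · right
    obtain ⟨y, -, hy⟩ := (Nat.card_eq_two_iff' (1 : Subgroup.center E)).mp h.card_center
    have e1 := hy ⟨z, hz⟩ (fun h' => hz1 (congrArg Subtype.val h'))
    have e2 := hy ⟨w, hw⟩ (fun h' => hw1 (congrArg Subtype.val h'))
    exact congrArg Subtype.val (e2.trans e1.symm)

theorem isHeis_two_mul_card_fiber {E : Type u} [Group E] [Finite E] (h : IsHeis 2 E)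
    (A : Subgroup E) (hA : ∀ a ∈ A, ∀ b ∈ A, a * b = b * a) (hA2 : ∀ a ∈ A, a ^ 2 = 1)
    (hcard : Nat.card A ^ 2 = 2 * Nat.card E) (g : E) (hg : g ∉ A) :
    2 * Nat.card {a : A // (g * (a : E)) ^ 2 = 1} = Nat.card A := by
  classical
  have : Fact (Nat.Prime 2) := ⟨Nat.prime_two⟩
  obtain ⟨a₀, ha₀, hne⟩ : ∃ a₀ ∈ A, a₀ * g ≠ g * a₀ := by
    by_contra hcon
    push Not at hcon
    exact hg (isHeis_mem_of_centralizes h A hA hcard g hcon)
  have hc1 : ⁅a₀, g⁆ ≠ 1 := fun h' => hne (commutatorElement_eq_one_iff_mul_comm.mp h')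
  have hcz : ⁅a₀, g⁆ ∈ Subgroup.center E := h.comm_mem a₀ g
  have hc : ∀ x : E, ⁅a₀, g⁆ * x = x * ⁅a₀, g⁆ := fun x =>
    (Subgroup.mem_center_iff.mp hcz x).symm
  have h1 : a₀ * g = ⁅a₀, g⁆ * g * a₀ := by
    rw [commutatorElement_def]; group
  have h3 : a₀ * a₀ = 1 := by rw [← sq]; exact hA2 a₀ ha₀
  have hcc : ⁅a₀, g⁆ * ⁅a₀, g⁆ = 1 := by
    have := h.orderOf_eq hcz hc1
    rw [← sq, ← this]; exact pow_orderOf_eq_one _
  have key : ∀ a ∈ A, (g * (a * a₀)) ^ 2 = (g * a) ^ 2 * ⁅a₀, g⁆ := fun a ha =>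
    sq_mul_mul_of_central g a a₀ _ hc h1 (hA a₀ ha₀ a ha) h3
  have hsqZ : ∀ x : E, x ^ 2 ∈ Subgroup.center E := h.pow_mem
  let e : {a : A // (g * (a : E)) ^ 2 = 1} ≃ {a : A // ¬ (g * (a : E)) ^ 2 = 1} :=
    { toFun := fun a => ⟨(a : A) * ⟨a₀, ha₀⟩, by
        have := key (a : A) (a : A).2
        rw [a.2, one_mul] at this
        rw [Subgroup.coe_mul]
        show ¬ (g * (((a : A) : E) * a₀)) ^ 2 = 1
        rw [this]; exact hc1⟩
      invFun := fun a => ⟨(a : A) * ⟨a₀, ha₀⟩, by
        have := key (a : A) (a : A).2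
        rcases isHeis_center_eq_or h hcz hc1 (hsqZ (g * ((a : A) : E))) with h' | h'
        · exact absurd h' a.2
        · rw [h', hcc] at this
          rw [Subgroup.coe_mul]
          exact this⟩
      left_inv := fun a => by
        apply Subtype.ext
        apply Subtype.ext
        show ((a : A) : E) * a₀ * a₀ = ((a : A) : E)
        rw [mul_assoc, h3, mul_one]
      right_inv := fun a => by
        apply Subtype.ext
        apply Subtype.ext
        show ((a : A) : E) * a₀ * a₀ = ((a : A) : E)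
        rw [mul_assoc, h3, mul_one] }
  have h5 := Nat.card_congr e
  have h6 := Nat.card_congr (Equiv.sumCompl (fun a : A => (g * (a : E)) ^ 2 = 1))
  rw [Nat.card_sum] at h6
  omega

theorem isHeis_two_mul_card_sq_eq_one {E : Type u} [Group E] [Finite E] (h : IsHeis 2 E)
    (A : Subgroup E) (hA : ∀ a ∈ A, ∀ b ∈ A, a * b = b * a) (hA2 : ∀ a ∈ A, a ^ 2 = 1)
    (hcard : Nat.card A ^ 2 = 2 * Nat.card E) :
    2 * Nat.card {g : E // g ^ 2 = 1} = Nat.card A + Nat.card E := by
  classical
  have : Fintype E := Fintype.ofFinite E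
  have e1 : {x : E × A // (x.1 * (x.2 : E)) ^ 2 = 1} ≃ A × {k : E // k ^ 2 = 1} :=
    { toFun := fun x => (x.1.2, ⟨x.1.1 * (x.1.2 : E), x.2⟩)
      invFun := fun y => ⟨(y.2.1 * (y.1 : E)⁻¹, y.1), by
        show (y.2.1 * (y.1 : E)⁻¹ * (y.1 : E)) ^ 2 = 1
        rw [inv_mul_cancel_right]; exact y.2.2⟩
      left_inv := fun x => by
        apply Subtype.ext
        apply Prod.ext
        · show x.1.1 * (x.1.2 : E) * (x.1.2 : E)⁻¹ = x.1.1
          rw [mul_inv_cancel_right]
        · rfl
      right_inv := fun y => by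
        apply Prod.ext
        · rfl
        · apply Subtype.ext
          show y.2.1 * (y.1 : E)⁻¹ * (y.1 : E) = y.2.1
          rw [inv_mul_cancel_right] }
  have h1 : Nat.card {x : E × A // (x.1 * (x.2 : E)) ^ 2 = 1} =
      Nat.card A * Nat.card {k : E // k ^ 2 = 1} := by
    rw [Nat.card_congr e1, Nat.card_prod]
  have h2 : Nat.card {x : E × A // (x.1 * (x.2 : E)) ^ 2 = 1} =
      ∑ g : E, Nat.card {a : A // (g * (a : E)) ^ 2 = 1} := by
    rw [Nat.card_congr (Equiv.subtypeProdEquivSigmaSubtype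
      (fun (g : E) (a : A) => (g * (a : E)) ^ 2 = 1)), Nat.card_sigma]
  have h3 : ∑ g : E, 2 * Nat.card {a : A // (g * (a : E)) ^ 2 = 1} =
      Nat.card A * (2 * Nat.card A) + (Nat.card E - Nat.card A) * Nat.card A := by
    rw [← Fintype.sum_subtype_add_sum_subtype (fun g : E => g ∈ A)]
    congr 1
    · have : ∀ g : {g : E // g ∈ A}, 2 * Nat.card {a : A // ((g : E) * (a : E)) ^ 2 = 1} =
          2 * Nat.card A := by
        intro g
        congr 1
        apply Nat.card_congr
        exact Equiv.subtypeUnivEquiv (fun a => hA2 _ (A.mul_mem g.2 a.2))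
      rw [Finset.sum_congr rfl (fun g _ => this g), Finset.sum_const, Finset.card_univ,
        smul_eq_mul, ← Nat.card_eq_fintype_card]
    · have : ∀ g : {g : E // ¬ g ∈ A}, 2 * Nat.card {a : A // ((g : E) * (a : E)) ^ 2 = 1} =
          Nat.card A := fun g => isHeis_two_mul_card_fiber h A hA hA2 hcard g g.2
      rw [Finset.sum_congr rfl (fun g _ => this g), Finset.sum_const, Finset.card_univ,
        smul_eq_mul, Fintype.card_subtype_compl, ← Nat.card_eq_fintype_card,
        ← Nat.card_eq_fintype_card]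
  rw [← Finset.mul_sum, ← h2, h1] at h3
  have hAE : Nat.card A ≤ Nat.card E := Subgroup.card_le_card_group A
  obtain ⟨d, hd⟩ := Nat.exists_eq_add_of_le hAE
  have hApos : 0 < Nat.card A := Nat.card_pos
  have h4 : Nat.card E - Nat.card A = d := by omega
  rw [h4] at h3
  have h5 : Nat.card A * (2 * Nat.card {k : E // k ^ 2 = 1}) =
      Nat.card A * (Nat.card A + Nat.card E) := by
    rw [hd]; nlinarith
  exact Nat.eq_of_mul_eq_mul_left hApos h5

theorem isHeis_orderOf_eq_four_iff {E : Type*} [Group E] (h : IsHeis 2 E) (x : E) :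
    orderOf x = 4 ↔ ¬ x ^ 2 = 1 := by
  have : Fact (Nat.Prime 2) := ⟨Nat.prime_two⟩
  constructor
  · intro h4 h2
    have := orderOf_dvd_of_pow_eq_one h2
    rw [h4] at this
    omega
  · intro h2
    have h4 : x ^ 2 ^ (1 + 1) = 1 := by
      have hz := h.pow_mem x
      have := h.orderOf_eq hz h2
      have h5 : (x ^ 2) ^ 2 = 1 := by
        have h6 := pow_orderOf_eq_one (x ^ 2)
        rwa [this] at h6
      rw [← pow_mul] at h5
      exact h5
    have := orderOf_eq_prime_pow (p := 2) (n := 1) (by rwa [pow_one]) h4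
    rw [this]; norm_num

theorem card_orderOf_four {E : Type u} [Group E] [Finite E] (m : ℕ)
    (hE : Cfsg.IsExtraspecial 2 E) (hcard : Nat.card E = 2 ^ (2 * m + 1))
    (hplus : ∃ A : Subgroup E, Cfsg.IsElementaryAbelian 2 A ∧ Nat.card A = 2 ^ (m + 1)) :
    Nat.card {x : E // orderOf x = 4} = 2 ^ (2 * m) - 2 ^ m := by
  classical
  have : Fact (Nat.Prime 2) := ⟨Nat.prime_two⟩
  have h : IsHeis 2 E := IsHeis.of_isExtraspecial hE
  obtain ⟨A, ⟨hAc, hA2⟩, hAcard⟩ := hplus
  have hA : ∀ a ∈ A, ∀ b ∈ A, a * b = b * a := by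
    intro a ha b hb
    have := hAc.is_comm.comm ⟨a, ha⟩ ⟨b, hb⟩
    exact congrArg Subtype.val this
  have hsq : Nat.card A ^ 2 = 2 * Nat.card E := by
    rw [hAcard, hcard]; ring
  have hcount := isHeis_two_mul_card_sq_eq_one h A hA hA2 hsq
  have h1 : Nat.card {x : E // orderOf x = 4} = Nat.card {x : E // ¬ x ^ 2 = 1} :=
    Nat.card_congr (Equiv.subtypeEquivRight (isHeis_orderOf_eq_four_iff h))
  have h2 := Nat.card_congr (Equiv.sumCompl (fun x : E => x ^ 2 = 1))
  rw [Nat.card_sum] at h2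
  rw [h1]
  have e1 : (2 : ℕ) ^ (m + 1) = 2 * 2 ^ m := by ring
  have e2 : (2 : ℕ) ^ (2 * m + 1) = 2 * 2 ^ (2 * m) := by ring
  rw [hAcard, hcard, e1, e2] at hcount
  rw [hcard, e2] at h2
  omega

theorem two_pow_mod_five (m : ℕ) : 2 ^ m % 5 = 2 ^ (m % 4) % 5 := by
  conv_lhs => rw [← Nat.div_add_mod m 4, pow_add, pow_mul]
  rw [Nat.mul_mod, Nat.pow_mod]
  norm_num

theorem four_dvd_of_five_dvd (m : ℕ) (h : 5 ∣ 2 ^ (2 * m) - 2 ^ m) : 4 ∣ m := by
  have hle : 2 ^ m ≤ 2 ^ (2 * m) := Nat.pow_le_pow_right (by norm_num) (by omega)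
  have h1 : 2 ^ m ≡ 2 ^ (2 * m) [MOD 5] := (Nat.modEq_iff_dvd' hle).mpr h
  unfold Nat.ModEq at h1
  rw [two_pow_mod_five m, two_pow_mod_five (2 * m)] at h1
  have h2 : (2 * m) % 4 = (2 * (m % 4)) % 4 := by omega
  rw [h2] at h1
  have h3 : m % 4 < 4 := Nat.mod_lt _ (by norm_num)
  apply Nat.dvd_of_mod_eq_zero
  generalize m % 4 = r at h1 h3
  interval_cases r <;> simp_all

theorem four_dvd_of_aut {E : Type u} [Group E] [Finite E] (m : ℕ)
    (hE : Cfsg.IsExtraspecial 2 E) (hcard : Nat.card E = 2 ^ (2 * m + 1))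
    (hplus : ∃ A : Subgroup E, Cfsg.IsElementaryAbelian 2 A ∧ Nat.card A = 2 ^ (m + 1))
    (ω : E ≃* E) (hω : orderOf ω = 5) (hfix : ∀ x : E, ω x = x ↔ x ∈ Subgroup.center E) :
    4 ∣ m := by
  classical
  have : Fact (Nat.Prime 2) := ⟨Nat.prime_two⟩
  have : Fact (Nat.Prime 5) := ⟨by norm_num⟩
  have h : IsHeis 2 E := IsHeis.of_isExtraspecial hE
  have hcount := card_orderOf_four m hE hcard hplus
  have : Fintype E := Fintype.ofFinite E
  let f : Equiv.Perm {x : E // orderOf x = 4} :=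
    ω.toEquiv.subtypeEquiv (fun a => by
      show orderOf a = 4 ↔ orderOf (ω a) = 4
      rw [MulEquiv.orderOf_eq])
  have hf : ∀ (n : ℕ) (x : {x : E // orderOf x = 4}), (((f ^ n) x : {x : E // orderOf x = 4}) : E)
      = (ω ^ n) (x : E) := by
    intro n
    induction n with
    | zero => intro x; simp
    | succ n ih =>
      intro x
      rw [pow_succ, pow_succ, Equiv.Perm.mul_apply, MulAut.mul_apply, ih]
      rfl
  have hf5 : f ^ 5 ^ 1 = 1 := by
    ext x
    rw [pow_one, hf, ← hω, pow_orderOf_eq_one]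
    rfl
  have hmod := Equiv.Perm.card_compl_support_modEq (p := 5) (n := 1) hf5
  have hempty : f.supportᶜ.card = 0 := by
    rw [Finset.card_eq_zero]
    apply Finset.eq_empty_of_forall_notMem
    intro x hx
    rw [Finset.mem_compl, Equiv.Perm.mem_support, not_not] at hx
    have h1 : ω (x : E) = (x : E) := congrArg Subtype.val hx
    have h2 : (x : E) ∈ Subgroup.center E := (hfix _).mp h1
    have h3 : ¬ (x : E) ^ 2 = 1 := (isHeis_orderOf_eq_four_iff h _).mp x.2
    apply h3
    have h4 : (⟨(x : E), h2⟩ : Subgroup.center E) ^ 2 = 1 := by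
      rw [← h.card_center]; exact pow_card_eq_one'
    exact congrArg Subtype.val h4
  rw [hempty, ← Nat.card_eq_fintype_card, hcount] at hmod
  exact four_dvd_of_five_dvd m ((Nat.modEq_zero_iff_dvd).mp hmod.symm)

end Cfsg.Agent.Lib.H14
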