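import Mathlib

set_option autoImplicit false

/-! # The field with sixteen elements `F₂[t]/(t⁴+t+1)`, with its operations given by tables;
`ck` is the polynomial whose coefficients are the binary digits of `k` -/

namespace Cfsg.Agent.Lib.H14

/-- the field with sixteen elements -/
inductive F16 : Type
  | c0 | c1 | c2 | c3 | c4 | c5 | c6 | c7 | c8 | c9 | c10 | c11 | c12 | c13 | c14 | c15
  deriving DecidableEq

instance : Fintype F16 :=
  ⟨⟨([F16.c0, F16.c1, F16.c2, F16.c3, F16.c4, F16.c5, F16.c6, F16.c7, F16.c8, F16.c9, F16.c10, F16.c11, F16.c12, F16.c13, F16.c14, F16.c15] : List F16), by decide⟩, fun x => by cases x <;> decide⟩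

namespace F16

/-- addition of `c0` -/
def add0 : F16 → F16
  | c0 => c0
  | c1 => c1
  | c2 => c2
  | c3 => c3
  | c4 => c4
  | c5 => c5
  | c6 => c6
  | c7 => c7
  | c8 => c8
  | c9 => c9
  | c10 => c10
  | c11 => c11
  | c12 => c12
  | c13 => c13
  | c14 => c14
  | c15 => c15

/-- addition of `c1` -/
def add1 : F16 → F16
  | c0 => c1
  | c1 => c0
  | c2 => c3
  | c3 => c2
  | c4 => c5
  | c5 => c4
  | c6 => c7
  | c7 => c6
  | c8 => c9
  | c9 => c8
  | c10 => c11
  | c11 => c10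
  | c12 => c13
  | c13 => c12
  | c14 => c15
  | c15 => c14

/-- addition of `c2` -/
def add2 : F16 → F16
  | c0 => c2
  | c1 => c3
  | c2 => c0
  | c3 => c1
  | c4 => c6
  | c5 => c7
  | c6 => c4
  | c7 => c5
  | c8 => c10
  | c9 => c11
  | c10 => c8
  | c11 => c9
  | c12 => c14
  | c13 => c15
  | c14 => c12
  | c15 => c13

/-- addition of `c3` -/
def add3 : F16 → F16
  | c0 => c3
  | c1 => c2
  | c2 => c1
  | c3 => c0
  | c4 => c7
  | c5 => c6
  | c6 => c5
  | c7 => c4
  | c8 => c11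
  | c9 => c10
  | c10 => c9
  | c11 => c8
  | c12 => c15
  | c13 => c14
  | c14 => c13
  | c15 => c12

/-- addition of `c4` -/
def add4 : F16 → F16
  | c0 => c4
  | c1 => c5
  | c2 => c6
  | c3 => c7
  | c4 => c0
  | c5 => c1
  | c6 => c2
  | c7 => c3
  | c8 => c12
  | c9 => c13
  | c10 => c14
  | c11 => c15
  | c12 => c8
  | c13 => c9
  | c14 => c10
  | c15 => c11

/-- addition of `c5` -/
def add5 : F16 → F16
  | c0 => c5
  | c1 => c4
  | c2 => c7
  | c3 => c6
  | c4 => c1
  | c5 => c0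
  | c6 => c3
  | c7 => c2
  | c8 => c13
  | c9 => c12
  | c10 => c15
  | c11 => c14
  | c12 => c9
  | c13 => c8
  | c14 => c11
  | c15 => c10

/-- addition of `c6` -/
def add6 : F16 → F16
  | c0 => c6
  | c1 => c7
  | c2 => c4
  | c3 => c5
  | c4 => c2
  | c5 => c3
  | c6 => c0
  | c7 => c1
  | c8 => c14
  | c9 => c15
  | c10 => c12
  | c11 => c13
  | c12 => c10
  | c13 => c11
  | c14 => c8
  | c15 => c9

/-- addition of `c7` -/
def add7 : F16 → F16
  | c0 => c7
  | c1 => c6
  | c2 => c5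
  | c3 => c4
  | c4 => c3
  | c5 => c2
  | c6 => c1
  | c7 => c0
  | c8 => c15
  | c9 => c14
  | c10 => c13
  | c11 => c12
  | c12 => c11
  | c13 => c10
  | c14 => c9
  | c15 => c8

/-- addition of `c8` -/
def add8 : F16 → F16
  | c0 => c8
  | c1 => c9
  | c2 => c10
  | c3 => c11
  | c4 => c12
  | c5 => c13
  | c6 => c14
  | c7 => c15
  | c8 => c0
  | c9 => c1
  | c10 => c2
  | c11 => c3
  | c12 => c4
  | c13 => c5
  | c14 => c6
  | c15 => c7

/-- addition of `c9` -/
def add9 : F16 → F16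
  | c0 => c9
  | c1 => c8
  | c2 => c11
  | c3 => c10
  | c4 => c13
  | c5 => c12
  | c6 => c15
  | c7 => c14
  | c8 => c1
  | c9 => c0
  | c10 => c3
  | c11 => c2
  | c12 => c5
  | c13 => c4
  | c14 => c7
  | c15 => c6

/-- addition of `c10` -/
def add10 : F16 → F16
  | c0 => c10
  | c1 => c11
  | c2 => c8
  | c3 => c9
  | c4 => c14
  | c5 => c15
  | c6 => c12
  | c7 => c13
  | c8 => c2
  | c9 => c3
  | c10 => c0
  | c11 => c1
  | c12 => c6
  | c13 => c7
  | c14 => c4
  | c15 => c5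

/-- addition of `c11` -/
def add11 : F16 → F16
  | c0 => c11
  | c1 => c10
  | c2 => c9
  | c3 => c8
  | c4 => c15
  | c5 => c14
  | c6 => c13
  | c7 => c12
  | c8 => c3
  | c9 => c2
  | c10 => c1
  | c11 => c0
  | c12 => c7
  | c13 => c6
  | c14 => c5
  | c15 => c4

/-- addition of `c12` -/
def add12 : F16 → F16
  | c0 => c12
  | c1 => c13
  | c2 => c14
  | c3 => c15
  | c4 => c8
  | c5 => c9
  | c6 => c10
  | c7 => c11
  | c8 => c4
  | c9 => c5
  | c10 => c6
  | c11 => c7
  | c12 => c0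
  | c13 => c1
  | c14 => c2
  | c15 => c3

/-- addition of `c13` -/
def add13 : F16 → F16
  | c0 => c13
  | c1 => c12
  | c2 => c15
  | c3 => c14
  | c4 => c9
  | c5 => c8
  | c6 => c11
  | c7 => c10
  | c8 => c5
  | c9 => c4
  | c10 => c7
  | c11 => c6
  | c12 => c1
  | c13 => c0
  | c14 => c3
  | c15 => c2

/-- addition of `c14` -/
def add14 : F16 → F16
  | c0 => c14
  | c1 => c15
  | c2 => c12
  | c3 => c13
  | c4 => c10
  | c5 => c11
  | c6 => c8
  | c7 => c9
  | c8 => c6
  | c9 => c7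
  | c10 => c4
  | c11 => c5
  | c12 => c2
  | c13 => c3
  | c14 => c0
  | c15 => c1

/-- addition of `c15` -/
def add15 : F16 → F16
  | c0 => c15
  | c1 => c14
  | c2 => c13
  | c3 => c12
  | c4 => c11
  | c5 => c10
  | c6 => c9
  | c7 => c8
  | c8 => c7
  | c9 => c6
  | c10 => c5
  | c11 => c4
  | c12 => c3
  | c13 => c2
  | c14 => c1
  | c15 => c0

/-- addition -/
def add : F16 → F16 → F16
  | c0, b => add0 b
  | c1, b => add1 b
  | c2, b => add2 b
  | c3, b => add3 b
  | c4, b => add4 b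
  | c5, b => add5 b
  | c6, b => add6 b
  | c7, b => add7 b
  | c8, b => add8 b
  | c9, b => add9 b
  | c10, b => add10 b
  | c11, b => add11 b
  | c12, b => add12 b
  | c13, b => add13 b
  | c14, b => add14 b
  | c15, b => add15 b

/-- multiplication by `c0` -/
def mul0 : F16 → F16
  | c0 => c0
  | c1 => c0
  | c2 => c0
  | c3 => c0
  | c4 => c0
  | c5 => c0
  | c6 => c0
  | c7 => c0
  | c8 => c0
  | c9 => c0
  | c10 => c0
  | c11 => c0
  | c12 => c0
  | c13 => c0
  | c14 => c0
  | c15 => c0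

/-- multiplication by `c1` -/
def mul1 : F16 → F16
  | c0 => c0
  | c1 => c1
  | c2 => c2
  | c3 => c3
  | c4 => c4
  | c5 => c5
  | c6 => c6
  | c7 => c7
  | c8 => c8
  | c9 => c9
  | c10 => c10
  | c11 => c11
  | c12 => c12
  | c13 => c13
  | c14 => c14
  | c15 => c15

/-- multiplication by `c2` -/
def mul2 : F16 → F16
  | c0 => c0
  | c1 => c2
  | c2 => c4
  | c3 => c6
  | c4 => c8
  | c5 => c10
  | c6 => c12
  | c7 => c14
  | c8 => c3
  | c9 => c1
  | c10 => c7
  | c11 => c5
  | c12 => c11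
  | c13 => c9
  | c14 => c15
  | c15 => c13

/-- multiplication by `c3` -/
def mul3 : F16 → F16
  | c0 => c0
  | c1 => c3
  | c2 => c6
  | c3 => c5
  | c4 => c12
  | c5 => c15
  | c6 => c10
  | c7 => c9
  | c8 => c11
  | c9 => c8
  | c10 => c13
  | c11 => c14
  | c12 => c7
  | c13 => c4
  | c14 => c1
  | c15 => c2

/-- multiplication by `c4` -/
def mul4 : F16 → F16
  | c0 => c0
  | c1 => c4
  | c2 => c8
  | c3 => c12
  | c4 => c3
  | c5 => c7
  | c6 => c11
  | c7 => c15
  | c8 => c6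
  | c9 => c2
  | c10 => c14
  | c11 => c10
  | c12 => c5
  | c13 => c1
  | c14 => c13
  | c15 => c9

/-- multiplication by `c5` -/
def mul5 : F16 → F16
  | c0 => c0
  | c1 => c5
  | c2 => c10
  | c3 => c15
  | c4 => c7
  | c5 => c2
  | c6 => c13
  | c7 => c8
  | c8 => c14
  | c9 => c11
  | c10 => c4
  | c11 => c1
  | c12 => c9
  | c13 => c12
  | c14 => c3
  | c15 => c6

/-- multiplication by `c6` -/
def mul6 : F16 → F16
  | c0 => c0
  | c1 => c6
  | c2 => c12
  | c3 => c10
  | c4 => c11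
  | c5 => c13
  | c6 => c7
  | c7 => c1
  | c8 => c5
  | c9 => c3
  | c10 => c9
  | c11 => c15
  | c12 => c14
  | c13 => c8
  | c14 => c2
  | c15 => c4

/-- multiplication by `c7` -/
def mul7 : F16 → F16
  | c0 => c0
  | c1 => c7
  | c2 => c14
  | c3 => c9
  | c4 => c15
  | c5 => c8
  | c6 => c1
  | c7 => c6
  | c8 => c13
  | c9 => c10
  | c10 => c3
  | c11 => c4
  | c12 => c2
  | c13 => c5
  | c14 => c12
  | c15 => c11

/-- multiplication by `c8` -/
def mul8 : F16 → F16
  | c0 => c0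
  | c1 => c8
  | c2 => c3
  | c3 => c11
  | c4 => c6
  | c5 => c14
  | c6 => c5
  | c7 => c13
  | c8 => c12
  | c9 => c4
  | c10 => c15
  | c11 => c7
  | c12 => c10
  | c13 => c2
  | c14 => c9
  | c15 => c1

/-- multiplication by `c9` -/
def mul9 : F16 → F16
  | c0 => c0
  | c1 => c9
  | c2 => c1
  | c3 => c8
  | c4 => c2
  | c5 => c11
  | c6 => c3
  | c7 => c10
  | c8 => c4
  | c9 => c13
  | c10 => c5
  | c11 => c12
  | c12 => c6
  | c13 => c15
  | c14 => c7
  | c15 => c14

/-- multiplication by `c10` -/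
def mul10 : F16 → F16
  | c0 => c0
  | c1 => c10
  | c2 => c7
  | c3 => c13
  | c4 => c14
  | c5 => c4
  | c6 => c9
  | c7 => c3
  | c8 => c15
  | c9 => c5
  | c10 => c8
  | c11 => c2
  | c12 => c1
  | c13 => c11
  | c14 => c6
  | c15 => c12

/-- multiplication by `c11` -/
def mul11 : F16 → F16
  | c0 => c0
  | c1 => c11
  | c2 => c5
  | c3 => c14
  | c4 => c10
  | c5 => c1
  | c6 => c15
  | c7 => c4
  | c8 => c7
  | c9 => c12
  | c10 => c2
  | c11 => c9
  | c12 => c13
  | c13 => c6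
  | c14 => c8
  | c15 => c3

/-- multiplication by `c12` -/
def mul12 : F16 → F16
  | c0 => c0
  | c1 => c12
  | c2 => c11
  | c3 => c7
  | c4 => c5
  | c5 => c9
  | c6 => c14
  | c7 => c2
  | c8 => c10
  | c9 => c6
  | c10 => c1
  | c11 => c13
  | c12 => c15
  | c13 => c3
  | c14 => c4
  | c15 => c8

/-- multiplication by `c13` -/
def mul13 : F16 → F16
  | c0 => c0
  | c1 => c13
  | c2 => c9
  | c3 => c4
  | c4 => c1
  | c5 => c12
  | c6 => c8
  | c7 => c5
  | c8 => c2
  | c9 => c15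
  | c10 => c11
  | c11 => c6
  | c12 => c3
  | c13 => c14
  | c14 => c10
  | c15 => c7

/-- multiplication by `c14` -/
def mul14 : F16 → F16
  | c0 => c0
  | c1 => c14
  | c2 => c15
  | c3 => c1
  | c4 => c13
  | c5 => c3
  | c6 => c2
  | c7 => c12
  | c8 => c9
  | c9 => c7
  | c10 => c6
  | c11 => c8
  | c12 => c4
  | c13 => c10
  | c14 => c11
  | c15 => c5

/-- multiplication by `c15` -/
def mul15 : F16 → F16
  | c0 => c0
  | c1 => c15
  | c2 => c13
  | c3 => c2
  | c4 => c9
  | c5 => c6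
  | c6 => c4
  | c7 => c11
  | c8 => c1
  | c9 => c14
  | c10 => c12
  | c11 => c3
  | c12 => c8
  | c13 => c7
  | c14 => c5
  | c15 => c10

/-- multiplication -/
def mul : F16 → F16 → F16
  | c0, b => mul0 b
  | c1, b => mul1 b
  | c2, b => mul2 b
  | c3, b => mul3 b
  | c4, b => mul4 b
  | c5, b => mul5 b
  | c6, b => mul6 b
  | c7, b => mul7 b
  | c8, b => mul8 b
  | c9, b => mul9 b
  | c10, b => mul10 b
  | c11, b => mul11 b
  | c12, b => mul12 b
  | c13, b => mul13 b
  | c14, b => mul14 b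
  | c15, b => mul15 b

/-- inverse -/
def inv : F16 → F16
  | c0 => c0
  | c1 => c1
  | c2 => c9
  | c3 => c14
  | c4 => c13
  | c5 => c11
  | c6 => c7
  | c7 => c6
  | c8 => c15
  | c9 => c2
  | c10 => c12
  | c11 => c5
  | c12 => c10
  | c13 => c4
  | c14 => c3
  | c15 => c8

/-- the Frobenius map `x ↦ x⁴` -/
def frob : F16 → F16
  | c0 => c0
  | c1 => c1
  | c2 => c3
  | c3 => c2
  | c4 => c5
  | c5 => c4
  | c6 => c6
  | c7 => c7
  | c8 => c15
  | c9 => c14
  | c10 => c12
  | c11 => c13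
  | c12 => c10
  | c13 => c11
  | c14 => c9
  | c15 => c8

instance : Add F16 := ⟨add⟩
instance : Mul F16 := ⟨mul⟩
instance : Zero F16 := ⟨c0⟩
instance : One F16 := ⟨c1⟩
instance : Neg F16 := ⟨id⟩
instance : Inv F16 := ⟨inv⟩

theorem add_assoc' : ∀ a b c : F16, a + b + c = a + (b + c) := by decide +kernel
theorem zero_add' : ∀ a : F16, 0 + a = a := by decide
theorem add_zero' : ∀ a : F16, a + 0 = a := by decide
theorem add_comm' : ∀ a b : F16, a + b = b + a := by decide +kernel
theorem neg_add_cancel' : ∀ a : F16, -a + a = 0 := by decide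
theorem mul_assoc' : ∀ a b c : F16, a * b * c = a * (b * c) := by decide +kernel
theorem one_mul' : ∀ a : F16, 1 * a = a := by decide
theorem mul_one' : ∀ a : F16, a * 1 = a := by decide
theorem zero_mul' : ∀ a : F16, 0 * a = 0 := by decide
theorem mul_zero' : ∀ a : F16, a * 0 = 0 := by decide
theorem mul_comm' : ∀ a b : F16, a * b = b * a := by decide +kernel
theorem left_distrib' : ∀ a b c : F16, a * (b + c) = a * b + a * c := by decide +kernel
theorem right_distrib' : ∀ a b c : F16, (a + b) * c = a * c + b * c := by decide +kernel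
theorem mul_inv_cancel' : ∀ a : F16, a ≠ 0 → a * a⁻¹ = 1 := by decide

instance : Field F16 where
  add_assoc := add_assoc'
  zero_add := zero_add'
  add_zero := add_zero'
  add_comm := add_comm'
  neg_add_cancel := neg_add_cancel'
  nsmul := nsmulRec
  zsmul := zsmulRec
  mul_assoc := mul_assoc'
  one_mul := one_mul'
  mul_one := mul_one'
  zero_mul := zero_mul'
  mul_zero := mul_zero'
  mul_comm := mul_comm'
  left_distrib := left_distrib'
  right_distrib := right_distrib'
  exists_pair_ne := ⟨c0, c1, by decide⟩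
  mul_inv_cancel := mul_inv_cancel'
  inv_zero := rfl
  nnqsmul := _
  nnqsmul_def := fun _ _ => rfl
  qsmul := _
  qsmul_def := fun _ _ => rfl

theorem card_eq : Fintype.card F16 = 16 := rfl

theorem frob_eq : ∀ x : F16, frob x = x ^ 4 := by decide

theorem add_self' : ∀ x : F16, x + x = 0 := by decide

theorem neg_eq' (x : F16) : -x = x := rfl

theorem sub_eq_add' (x y : F16) : x - y = x + y := by
  rw [sub_eq_add_neg, neg_eq']

end F16

end Cfsg.Agent.Lib.H14
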