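import Mathlib

set_option autoImplicit false

/-! # The field with eight elements `F₂[x]/(x³+x+1)`, with its operations given by tables -/

namespace Cfsg.Agent.Lib.H14

/-- the field with eight elements; `fk` is the polynomial with binary digits `k` -/
inductive F8 : Type
  | f0 | f1 | f2 | f3 | f4 | f5 | f6 | f7
  deriving DecidableEq

instance : Fintype F8 :=
  ⟨⟨([F8.f0, F8.f1, F8.f2, F8.f3, F8.f4, F8.f5, F8.f6, F8.f7] : List F8), by decide⟩, fun x => by cases x <;> decide⟩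

namespace F8

/-- addition -/
def add : F8 → F8 → F8
  | f0, f0 => f0
  | f0, f1 => f1
  | f0, f2 => f2
  | f0, f3 => f3
  | f0, f4 => f4
  | f0, f5 => f5
  | f0, f6 => f6
  | f0, f7 => f7
  | f1, f0 => f1
  | f1, f1 => f0
  | f1, f2 => f3
  | f1, f3 => f2
  | f1, f4 => f5
  | f1, f5 => f4
  | f1, f6 => f7
  | f1, f7 => f6
  | f2, f0 => f2
  | f2, f1 => f3
  | f2, f2 => f0
  | f2, f3 => f1
  | f2, f4 => f6
  | f2, f5 => f7
  | f2, f6 => f4
  | f2, f7 => f5
  | f3, f0 => f3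
  | f3, f1 => f2
  | f3, f2 => f1
  | f3, f3 => f0
  | f3, f4 => f7
  | f3, f5 => f6
  | f3, f6 => f5
  | f3, f7 => f4
  | f4, f0 => f4
  | f4, f1 => f5
  | f4, f2 => f6
  | f4, f3 => f7
  | f4, f4 => f0
  | f4, f5 => f1
  | f4, f6 => f2
  | f4, f7 => f3
  | f5, f0 => f5
  | f5, f1 => f4
  | f5, f2 => f7
  | f5, f3 => f6
  | f5, f4 => f1
  | f5, f5 => f0
  | f5, f6 => f3
  | f5, f7 => f2
  | f6, f0 => f6
  | f6, f1 => f7
  | f6, f2 => f4
  | f6, f3 => f5
  | f6, f4 => f2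
  | f6, f5 => f3
  | f6, f6 => f0
  | f6, f7 => f1
  | f7, f0 => f7
  | f7, f1 => f6
  | f7, f2 => f5
  | f7, f3 => f4
  | f7, f4 => f3
  | f7, f5 => f2
  | f7, f6 => f1
  | f7, f7 => f0

/-- multiplication -/
def mul : F8 → F8 → F8
  | f0, f0 => f0
  | f0, f1 => f0
  | f0, f2 => f0
  | f0, f3 => f0
  | f0, f4 => f0
  | f0, f5 => f0
  | f0, f6 => f0
  | f0, f7 => f0
  | f1, f0 => f0
  | f1, f1 => f1
  | f1, f2 => f2
  | f1, f3 => f3
  | f1, f4 => f4
  | f1, f5 => f5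
  | f1, f6 => f6
  | f1, f7 => f7
  | f2, f0 => f0
  | f2, f1 => f2
  | f2, f2 => f4
  | f2, f3 => f6
  | f2, f4 => f3
  | f2, f5 => f1
  | f2, f6 => f7
  | f2, f7 => f5
  | f3, f0 => f0
  | f3, f1 => f3
  | f3, f2 => f6
  | f3, f3 => f5
  | f3, f4 => f7
  | f3, f5 => f4
  | f3, f6 => f1
  | f3, f7 => f2
  | f4, f0 => f0
  | f4, f1 => f4
  | f4, f2 => f3
  | f4, f3 => f7
  | f4, f4 => f6
  | f4, f5 => f2
  | f4, f6 => f5
  | f4, f7 => f1
  | f5, f0 => f0
  | f5, f1 => f5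
  | f5, f2 => f1
  | f5, f3 => f4
  | f5, f4 => f2
  | f5, f5 => f7
  | f5, f6 => f3
  | f5, f7 => f6
  | f6, f0 => f0
  | f6, f1 => f6
  | f6, f2 => f7
  | f6, f3 => f1
  | f6, f4 => f5
  | f6, f5 => f3
  | f6, f6 => f2
  | f6, f7 => f4
  | f7, f0 => f0
  | f7, f1 => f7
  | f7, f2 => f5
  | f7, f3 => f2
  | f7, f4 => f1
  | f7, f5 => f6
  | f7, f6 => f4
  | f7, f7 => f3

/-- inverse -/
def inv : F8 → F8
  | f0 => f0
  | f1 => f1
  | f2 => f5
  | f3 => f6
  | f4 => f7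
  | f5 => f2
  | f6 => f3
  | f7 => f4

instance : Add F8 := ⟨add⟩
instance : Mul F8 := ⟨mul⟩
instance : Zero F8 := ⟨f0⟩
instance : One F8 := ⟨f1⟩
instance : Neg F8 := ⟨id⟩
instance : Inv F8 := ⟨inv⟩

theorem add_assoc' : ∀ a b c : F8, a + b + c = a + (b + c) := by decide
theorem zero_add' : ∀ a : F8, 0 + a = a := by decide
theorem add_zero' : ∀ a : F8, a + 0 = a := by decide
theorem add_comm' : ∀ a b : F8, a + b = b + a := by decide
theorem neg_add_cancel' : ∀ a : F8, -a + a = 0 := by decide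
theorem mul_assoc' : ∀ a b c : F8, a * b * c = a * (b * c) := by decide
theorem one_mul' : ∀ a : F8, 1 * a = a := by decide
theorem mul_one' : ∀ a : F8, a * 1 = a := by decide
theorem zero_mul' : ∀ a : F8, 0 * a = 0 := by decide
theorem mul_zero' : ∀ a : F8, a * 0 = 0 := by decide
theorem mul_comm' : ∀ a b : F8, a * b = b * a := by decide
theorem left_distrib' : ∀ a b c : F8, a * (b + c) = a * b + a * c := by decide
theorem right_distrib' : ∀ a b c : F8, (a + b) * c = a * c + b * c := by decide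
theorem mul_inv_cancel' : ∀ a : F8, a ≠ 0 → a * a⁻¹ = 1 := by decide

instance : Field F8 where
  add_assoc := add_assoc'
  zero_add := zero_add'
  add_zero := add_zero'
  add_comm := add_comm'
  neg_add_cancel := neg_add_cancel'
  nsmul := nsmulRec
  zsmul := zsmulRec
  mul_assoc := mul_assoc'
  one_mul := one_mul'
  mul_one := mul_one'
  zero_mul := zero_mul'
  mul_zero := mul_zero'
  mul_comm := mul_comm'
  left_distrib := left_distrib'
  right_distrib := right_distrib'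
  exists_pair_ne := ⟨f0, f1, by decide⟩
  mul_inv_cancel := mul_inv_cancel'
  inv_zero := rfl
  nnqsmul := _
  nnqsmul_def := fun _ _ => rfl
  qsmul := _
  qsmul_def := fun _ _ => rfl

theorem card_eq : Fintype.card F8 = 8 := rfl

theorem neg_eq (a : F8) : -a = a := rfl

end F8

end Cfsg.Agent.Lib.H14
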