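import Mathlib
import Cfsg.Agent.Lib.H1.PGroupBasic

/-!
# S1542 piece PG: a nonabelian `p`-group has `|K : K'| ≥ p²`.
-/

set_option autoImplicit false

namespace Cfsg.Agent.Lib.H14.FB

/-- `⁅K, K⁆.subgroupOf K` is the derived subgroup of `K`. -/
theorem commutator_subgroupOf_eq {N : Type*} [Group N] (K : Subgroup N) :
    (⁅K, K⁆.subgroupOf K) = commutator K := by
  rw [← Subgroup.map_subtype_commutator, Subgroup.subgroupOf,
    Subgroup.comap_map_eq_self_of_injective K.subtype_injective]

/-- A group whose abelianization is cyclic and whose derived subgroup lies in the Frattini subgroup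
is commutative. -/
theorem mul_comm_of_isCyclic_abelianization {K : Type*} [Group K] [Finite K]
    (hfr : commutator K ≤ frattini K) (hcyc : IsCyclic (K ⧸ commutator K)) (a b : K) :
    a * b = b * a := by
  obtain ⟨g, hg⟩ := hcyc.exists_generator
  obtain ⟨x, rfl⟩ := QuotientGroup.mk_surjective g
  have hsup : Subgroup.zpowers x ⊔ frattini K = ⊤ := by
    rw [eq_top_iff]
    intro y _
    obtain ⟨i, hi⟩ := Subgroup.mem_zpowers_iff.mp (hg (y : K ⧸ commutator K))
    have h1 : (x ^ i)⁻¹ * y ∈ commutator K := by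
      rw [← QuotientGroup.eq]
      rw [QuotientGroup.mk_zpow]
      exact hi
    have h2 : y = x ^ i * ((x ^ i)⁻¹ * y) := by group
    rw [h2]
    exact Subgroup.mul_mem_sup (Subgroup.zpow_mem_zpowers x i) (hfr h1)
  have htop : Subgroup.zpowers x = ⊤ := frattini_nongenerating hsup
  have ha : a ∈ Subgroup.zpowers x := htop ▸ Subgroup.mem_top a
  have hb : b ∈ Subgroup.zpowers x := htop ▸ Subgroup.mem_top b
  obtain ⟨i, rfl⟩ := Subgroup.mem_zpowers_iff.mp ha
  obtain ⟨j, rfl⟩ := Subgroup.mem_zpowers_iff.mp hb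
  rw [← zpow_add, ← zpow_add, add_comm]

/-- PG.  A nonabelian `p`-group has `|K : K'| ≥ p²`. -/
theorem sq_le_index_commutator {N : Type*} [Group N] [Finite N] (K : Subgroup N) (p : ℕ)
    [Fact p.Prime] (hK : IsPGroup p K) (hna : ¬ IsMulCommutative K) :
    p ^ 2 ≤ (⁅K, K⁆.subgroupOf K).index := by
  have hpp : p.Prime := Fact.out
  rw [commutator_subgroupOf_eq]
  obtain ⟨j, hj⟩ := hK.index (commutator K)
  rw [hj]
  by_contra hlt
  rw [not_le] at hlt
  have hj1 : j < 2 := (Nat.pow_lt_pow_iff_right hpp.one_lt).mp hlt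
  apply hna
  have hcyc : IsCyclic (K ⧸ commutator K) := by
    apply isCyclic_of_card_dvd_prime (p := p)
    rw [← Subgroup.index_eq_card, hj]
    interval_cases j
    · simp
    · simp
  have hfr := Cfsg.Agent.Lib.H1.isPGroup_commutator_le_frattini hK
  exact ⟨⟨fun a b => mul_comm_of_isCyclic_abelianization hfr hcyc a b⟩⟩

end Cfsg.Agent.Lib.H14.FB
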