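import Mathlib
import Cfsg.Agent.Lib.H14.FBPG

/-!
# S1542 pieces ACT + CARD: the complement of a Frobenius kernel `K` acts without fixed points
on `K / K'`.
-/

set_option autoImplicit false

namespace Cfsg.Agent.Lib.H14.FB

/-- The conjugation action of `N` on the abelianization of a normal subgroup `K`. -/
noncomputable def conjAbelianization {N : Type*} [Group N] (K : Subgroup N) [K.Normal] :
    N →* MulAut (Abelianization K) where
  toFun n := (MulAut.conjNormal n : K ≃* K).abelianizationCongr
  map_one' := by
    apply MulEquiv.ext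
    intro w
    obtain ⟨k, rfl⟩ := QuotientGroup.mk_surjective w
    change (MulAut.conjNormal (1 : N) : K ≃* K).abelianizationCongr (Abelianization.of k) = _
    rw [abelianizationCongr_of, map_one]
    rfl
  map_mul' a b := by
    apply MulEquiv.ext
    intro w
    obtain ⟨k, rfl⟩ := QuotientGroup.mk_surjective w
    change (MulAut.conjNormal (a * b) : K ≃* K).abelianizationCongr (Abelianization.of k) =
      (MulAut.conjNormal a : K ≃* K).abelianizationCongr
        ((MulAut.conjNormal b : K ≃* K).abelianizationCongr (Abelianization.of k))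
    rw [abelianizationCongr_of, abelianizationCongr_of,
      abelianizationCongr_of, map_mul]
    rfl

theorem conjAbelianization_of {N : Type*} [Group N] (K : Subgroup N) [K.Normal] (n : N) (k : K) :
    conjAbelianization K n (Abelianization.of k) =
      Abelianization.of (MulAut.conjNormal n k) :=
  abelianizationCongr_of _ _

theorem le_ker_conjAbelianization {N : Type*} [Group N] (K : Subgroup N) [K.Normal] :
    K ≤ (conjAbelianization K).ker := by
  intro n hn
  rw [MonoidHom.mem_ker]
  apply MulEquiv.ext
  intro w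
  obtain ⟨k, rfl⟩ := QuotientGroup.mk_surjective w
  change conjAbelianization K n (Abelianization.of k) = Abelianization.of k
  rw [conjAbelianization_of]
  have h1 : MulAut.conjNormal n k = (⟨n, hn⟩ : K) * k * (⟨n, hn⟩ : K)⁻¹ := by
    apply Subtype.ext
    rw [MulAut.conjNormal_apply]
    rfl
  rw [h1, map_mul, map_mul, map_inv, mul_comm, inv_mul_cancel_left]

/-- ACT.  A Frobenius group `N` with kernel `K`: `N ⧸ K` acts on `K / K'` without fixed points. -/
theorem exists_fpf_action {N : Type*} [Group N] [Finite N] (K : Subgroup N) [K.Normal]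
    (hC : ∀ k ∈ K, k ≠ 1 → Subgroup.centralizer ({k} : Set N) ≤ K) :
    ∃ ρ : N ⧸ K →* MulAut (Abelianization K),
      ∀ u : N ⧸ K, u ≠ 1 → ∀ w : Abelianization K, ρ u w = w → w = 1 := by
  classical
  refine ⟨QuotientGroup.lift K (conjAbelianization K) (le_ker_conjAbelianization K), ?_⟩
  intro u hu w hw
  obtain ⟨n, rfl⟩ := QuotientGroup.mk_surjective u
  have hnK : n ∉ K := by
    intro h
    exact hu ((QuotientGroup.eq_one_iff n).mpr h)
  rw [QuotientGroup.lift_mk] at hw
  -- the commutator map `k ↦ n k n⁻¹ k⁻¹` on `K`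
  let φ : K → K := fun k => MulAut.conjNormal n k * k⁻¹
  have hφinj : Function.Injective φ := by
    intro k k' hkk
    by_contra hne
    have hval : n * (k : N) * n⁻¹ * (k : N)⁻¹ = n * (k' : N) * n⁻¹ * (k' : N)⁻¹ := by
      have := congrArg (fun z : K => (z : N)) hkk
      simpa [φ, MulAut.conjNormal_apply] using this
    set c : N := (k' : N)⁻¹ * (k : N) with hc
    have hcK : c ∈ K := K.mul_mem (K.inv_mem k'.2) k.2
    have hc1 : c ≠ 1 := by
      intro h1
      apply hne
      apply Subtype.ext
      have : (k : N) = (k' : N) * c := by rw [hc]; group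
      rw [this, h1, mul_one]
    have hcomm : c * n⁻¹ = n⁻¹ * c := by
      -- from `k n⁻¹ k⁻¹ = k' n⁻¹ k'⁻¹`
      have h2 : (k : N) * n⁻¹ * (k : N)⁻¹ = (k' : N) * n⁻¹ * (k' : N)⁻¹ := by
        have := congrArg (fun z => n⁻¹ * z) hval
        simpa [mul_assoc] using this
      have h3 : (k' : N)⁻¹ * ((k : N) * n⁻¹ * (k : N)⁻¹) * (k : N) =
          (k' : N)⁻¹ * ((k' : N) * n⁻¹ * (k' : N)⁻¹) * (k : N) := by rw [h2]
      rw [hc]
      calc (k' : N)⁻¹ * (k : N) * n⁻¹
          = (k' : N)⁻¹ * ((k : N) * n⁻¹ * (k : N)⁻¹) * (k : N) := by group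
        _ = (k' : N)⁻¹ * ((k' : N) * n⁻¹ * (k' : N)⁻¹) * (k : N) := h3
        _ = n⁻¹ * ((k' : N)⁻¹ * (k : N)) := by group
    have hn : n ∈ Subgroup.centralizer ({c} : Set N) := by
      rw [Subgroup.mem_centralizer_iff]
      intro z hz
      rw [Set.mem_singleton_iff] at hz
      subst hz
      have h5 := congrArg (fun y => n * y * n) hcomm
      simp only [mul_assoc, inv_mul_cancel, mul_one, mul_inv_cancel_left] at h5
      exact h5.symm
    exact hnK (hC c hcK hc1 hn)
  have hφsurj : Function.Surjective φ := Finite.injective_iff_surjective.mp hφinj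
  -- the map `w ↦ ρ n w * w⁻¹` on the abelianization
  let ψ : Abelianization K → Abelianization K := fun w => conjAbelianization K n w * w⁻¹
  have hψsurj : Function.Surjective ψ := by
    intro w
    obtain ⟨y, rfl⟩ := QuotientGroup.mk_surjective w
    obtain ⟨k, rfl⟩ := hφsurj y
    refine ⟨Abelianization.of k, ?_⟩
    change conjAbelianization K n (Abelianization.of k) * (Abelianization.of k)⁻¹ =
      Abelianization.of (MulAut.conjNormal n k * k⁻¹)
    rw [conjAbelianization_of, map_mul, map_inv]
  have hψinj : Function.Injective ψ := Finite.injective_iff_surjective.mpr hψsurj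
  apply hψinj
  change conjAbelianization K n w * w⁻¹ = conjAbelianization K n 1 * 1⁻¹
  rw [hw, map_one, mul_inv_cancel, inv_one, mul_one]

/-- CARD. -/
theorem card_abelianization_eq {N : Type*} [Group N] [Finite N] (K : Subgroup N) :
    Nat.card (Abelianization K) = (⁅K, K⁆.subgroupOf K).index := by
  rw [commutator_subgroupOf_eq, Subgroup.index_eq_card]
  rfl

end Cfsg.Agent.Lib.H14.FB
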