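import Mathlib

/-!
# S1542 piece NUM: the arithmetic bound `4 (f n)² + 1 < p ^ max n 2`.
-/

set_option autoImplicit false

namespace Cfsg.Agent.Lib.H14.FB

/-- `q² n² + 1 < (q+1)^n` for `q ≥ 6`, `n ≥ 3`. -/
theorem num_aux (q : ℕ) (hq : 6 ≤ q) (n : ℕ) (hn : 3 ≤ n) :
    q ^ 2 * n ^ 2 + 1 < (q + 1) ^ n := by
  induction n, hn using Nat.le_induction with
  | base =>
    -- (q+1)^3 = q^3 + 3q^2 + 3q + 1 > 9 q^2 + 1  since q^3 ≥ 6 q^2
    have h1 : 6 * q ^ 2 ≤ q ^ 3 := by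
      have : q ^ 3 = q * q ^ 2 := by ring
      rw [this]
      exact Nat.mul_le_mul_right _ hq
    nlinarith [h1]
  | succ n hn ih =>
    -- (q+1)^(n+1) = (q+1) (q+1)^n > (q+1)(q² n² + 1) ≥ q² (n+1)² + 1
    have h2 : (n + 1) ^ 2 ≤ (q + 1) * n ^ 2 := by nlinarith [hn, hq]
    calc q ^ 2 * (n + 1) ^ 2 + 1 ≤ q ^ 2 * ((q + 1) * n ^ 2) + 1 := by
          have := Nat.mul_le_mul_left (q ^ 2) h2
          omega
      _ ≤ (q + 1) * (q ^ 2 * n ^ 2 + 1) := by nlinarith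
      _ < (q + 1) * (q + 1) ^ n := by
          exact Nat.mul_lt_mul_of_pos_left ih (by omega)
      _ = (q + 1) ^ (n + 1) := by ring

/-- NUM (arithmetic).  `f ∣ p - 1`, `f`, `n` odd, `p` odd, and `f = 1 → n = 1`:
`4 (f n)² + 1 < p ^ max n 2`. -/
theorem num_bound (p f n : ℕ) (hp : p.Prime) (hp2 : p ≠ 2) (hf : f ∣ p - 1) (hfodd : Odd f)
    (hnodd : Odd n) (hfn : f = 1 → n = 1) : 4 * (f * n) ^ 2 + 1 < p ^ max n 2 := by
  have hp3 : 3 ≤ p := by
    have := hp.two_le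
    omega
  have hpodd : Odd p := hp.odd_of_ne_two hp2
  -- `2 f ∣ p - 1`
  have h2f : 2 * f ∣ p - 1 := by
    have hev : 2 ∣ p - 1 := by
      obtain ⟨k, hk⟩ := hpodd
      exact ⟨k, by omega⟩
    have hcop : Nat.Coprime 2 f := by
      rw [Nat.coprime_comm]
      exact Nat.Coprime.symm (Nat.coprime_two_left.mpr hfodd)
    exact Nat.Coprime.mul_dvd_of_dvd_of_dvd hcop hev hf
  have hle : 2 * f ≤ p - 1 := Nat.le_of_dvd (by omega) h2f
  obtain ⟨q, rfl⟩ : ∃ q, p = q + 1 := ⟨p - 1, by omega⟩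
  have hle' : 2 * f ≤ q := by simpa using hle
  have hmain : 4 * (f * n) ^ 2 ≤ q ^ 2 * n ^ 2 := by
    have : 4 * (f * n) ^ 2 = (2 * f) ^ 2 * n ^ 2 := by ring
    rw [this]
    exact Nat.mul_le_mul_right _ (Nat.pow_le_pow_left hle' 2)
  rcases Nat.lt_or_ge n 3 with h | h
  · -- n = 1
    have hn1 : n = 1 := by
      obtain ⟨k, hk⟩ := hnodd
      omega
    subst hn1
    have : max 1 2 = 2 := rfl
    rw [this]
    nlinarith [hmain]
  · have hf1 : f ≠ 1 := by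
      intro h1
      have := hfn h1
      omega
    have hf3 : 3 ≤ f := by
      obtain ⟨k, hk⟩ := hfodd
      omega
    have hq6 : 6 ≤ q := by omega
    rw [max_eq_left (by omega : 2 ≤ n)]
    exact lt_of_le_of_lt (by omega) (num_aux q hq6 n h)

end Cfsg.Agent.Lib.H14.FB
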