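import Cfsg.Agent.Lib.H14.FCDefs

/-!
# S4427 piece AVG: averaging idempotents of subgroups, augmentation (helper14)
-/

set_option autoImplicit false

namespace Cfsg.Agent.Lib.H14.FC

open Cfsg MonoidAlgebra Cfsg.Agent.Lib.H23 Cfsg.Agent.Lib.H24 Cfsg.Agent.Lib.L0
open scoped ComplexConjugate

section
variable {G : Type*} [Group G] [Fintype G]

open Classical in
theorem coeff_avg (H : Subgroup G) (g : G) :
    (avg H).coeff g = if g ∈ H then ((Nat.card H : ℂ))⁻¹ else 0 := by
  unfold avg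
  rw [coeff_ofFun]

theorem card_ne_zero' (H : Subgroup G) : (Nat.card H : ℂ) ≠ 0 :=
  Nat.cast_ne_zero.2 Nat.card_pos.ne'

theorem sum_coeff_avg (H : Subgroup G) : ∑ g : G, (avg H).coeff g = 1 := by
  classical
  simp only [coeff_avg]
  rw [Finset.sum_ite, Finset.sum_const_zero, add_zero, Finset.sum_const, nsmul_eq_mul]
  have : (Finset.univ.filter (fun g : G => g ∈ H)).card = Nat.card H := by
    rw [Nat.card_eq_fintype_card, Fintype.card_subtype]
  rw [this]
  exact mul_inv_cancel₀ (card_ne_zero' H)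

theorem avg_mul_self (H : Subgroup G) : avg H * avg H = avg H := by
  classical
  apply MonoidAlgebra.ext
  ext g
  rw [coeff_mul_eq_sum]
  simp only [coeff_avg]
  by_cases hg : g ∈ H
  · have : ∀ h : G, (if h ∈ H then ((Nat.card H : ℂ))⁻¹ else 0) *
        (if h⁻¹ * g ∈ H then ((Nat.card H : ℂ))⁻¹ else 0) =
        if h ∈ H then ((Nat.card H : ℂ))⁻¹ * ((Nat.card H : ℂ))⁻¹ else 0 := by
      intro h
      by_cases hh : h ∈ H
      · rw [if_pos hh, if_pos hh, if_pos (H.mul_mem (H.inv_mem hh) hg)]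
      · rw [if_neg hh, if_neg hh, zero_mul]
    simp only [this]
    rw [if_pos hg, Finset.sum_ite, Finset.sum_const_zero, add_zero, Finset.sum_const,
      nsmul_eq_mul]
    have hc : (Finset.univ.filter (fun g : G => g ∈ H)).card = Nat.card H := by
      rw [Nat.card_eq_fintype_card, Fintype.card_subtype]
    rw [hc, ← mul_assoc, mul_inv_cancel₀ (card_ne_zero' H), one_mul]
  · rw [if_neg hg]
    refine Finset.sum_eq_zero (fun h _ => ?_)
    by_cases hh : h ∈ H
    · have : h⁻¹ * g ∉ H := fun h' => hg (by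
        have := H.mul_mem hh h'
        rwa [mul_inv_cancel_left] at this)
      rw [if_neg this, mul_zero]
    · rw [if_neg hh, zero_mul]

theorem avg_mem_intCoeff {p : ℕ} {M : Ideal AlgInt} (hM : IsPModular p M) [M.IsPrime]
    (H : Subgroup G) (hH : ¬ p ∣ Nat.card H) : avg H ∈ intCoeff (G := G) M := by
  classical
  intro g
  rw [coeff_avg]
  split_ifs
  · exact memLocalRing_inv_natCast hM hH
  · exact memLocalRing_zero (Ideal.IsPrime.ne_top')

/-- double coset count: if `Q ∩ g R g⁻¹ = 1` for all `g` then the corner trace is `|G|/(|Q||R|)`. -/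
theorem sum_avg_avg (Q R : Subgroup G)
    (hQR : ∀ g h : G, h ∈ Q → g⁻¹ * h⁻¹ * g ∈ R → h = 1) :
    ∑ g : G, ∑ h : G, (avg Q).coeff h * (avg R).coeff (g⁻¹ * h⁻¹ * g) =
      (Nat.card G : ℂ) / ((Nat.card Q : ℂ) * (Nat.card R : ℂ)) := by
  classical
  have key : ∀ g : G, ∑ h : G, (avg Q).coeff h * (avg R).coeff (g⁻¹ * h⁻¹ * g) =
      ((Nat.card Q : ℂ))⁻¹ * ((Nat.card R : ℂ))⁻¹ := by
    intro g
    rw [Finset.sum_eq_single (1 : G)]
    · rw [coeff_avg, coeff_avg, if_pos Q.one_mem]
      have : g⁻¹ * (1 : G)⁻¹ * g = 1 := by group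
      rw [this, if_pos R.one_mem]
    · intro h _ hh
      rw [coeff_avg, coeff_avg]
      by_cases h1 : h ∈ Q
      · by_cases h2 : g⁻¹ * h⁻¹ * g ∈ R
        · exact absurd (hQR g h h1 h2) hh
        · rw [if_neg h2, mul_zero]
      · rw [if_neg h1, zero_mul]
    · intro h
      exact absurd (Finset.mem_univ _) h
  simp only [key]
  rw [Finset.sum_const, Finset.card_univ, nsmul_eq_mul, ← Nat.card_eq_fintype_card,
    div_eq_mul_inv, mul_inv]

omit [Fintype G] in
theorem augHom_single (g : G) (c : ℂ) : augHom (MonoidAlgebra.single g c) = c := by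
  unfold augHom
  rw [MonoidAlgebra.lift_single]
  simp

theorem augHom_apply (z : MonoidAlgebra ℂ G) : augHom z = ∑ g : G, z.coeff g := by
  conv_lhs => rw [eq_sum_single z]
  rw [map_sum]
  refine Finset.sum_congr rfl (fun g _ => ?_)
  exact augHom_single g _

end

end Cfsg.Agent.Lib.H14.FC
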