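import Cfsg.Agent.Lib.H14.FCDefs

/-!
# S4427 piece CORNER: dimension of a corner `ε₁ A ε₂` as a trace (helper14)
-/

set_option autoImplicit false

namespace Cfsg.Agent.Lib.H14.FC

open Cfsg MonoidAlgebra Cfsg.Agent.Lib.H23 Cfsg.Agent.Lib.H24 Cfsg.Agent.Lib.L0
open scoped ComplexConjugate

section
variable {G : Type*} [Group G] [Fintype G]

theorem trace_eq_sum_coeff (f : MonoidAlgebra ℂ G →ₗ[ℂ] MonoidAlgebra ℂ G) :
    LinearMap.trace ℂ (MonoidAlgebra ℂ G) f = ∑ g : G, (f (MonoidAlgebra.single g 1)).coeff g := by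
  classical
  rw [LinearMap.trace_eq_matrix_trace ℂ (MonoidAlgebra.basis G ℂ) f, Matrix.trace]
  refine Finset.sum_congr rfl (fun g _ => ?_)
  rw [Matrix.diag_apply, LinearMap.toMatrix_apply, MonoidAlgebra.basis_apply]
  rfl

theorem coeff_single_mul_mul (ε₁ ε₂ : MonoidAlgebra ℂ G) (g : G) :
    (ε₁ * (MonoidAlgebra.single g 1 * ε₂)).coeff g =
      ∑ h : G, ε₁.coeff h * ε₂.coeff (g⁻¹ * h⁻¹ * g) := by
  classical
  rw [coeff_mul_eq_sum]
  refine Finset.sum_congr rfl (fun h _ => ?_)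
  congr 1
  rw [coeff_mul_eq_sum, Finset.sum_eq_single g]
  · rw [MonoidAlgebra.coeff_single, Finsupp.single_eq_same, one_mul]
    congr 1
    group
  · intro k _ hk
    rw [MonoidAlgebra.coeff_single, Finsupp.single_eq_of_ne hk, zero_mul]
  · intro h'
    exact absurd (Finset.mem_univ _) h'

theorem finrank_range_cornerMap (ε₁ ε₂ : MonoidAlgebra ℂ G) (h₁ : ε₁ * ε₁ = ε₁)
    (h₂ : ε₂ * ε₂ = ε₂) :
    (Module.finrank ℂ (LinearMap.range (cornerMap ε₁ ε₂)) : ℂ) =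
      ∑ g : G, ∑ h : G, ε₁.coeff h * ε₂.coeff (g⁻¹ * h⁻¹ * g) := by
  have hid : IsIdempotentElem (cornerMap ε₁ ε₂) := by
    apply LinearMap.ext
    intro a
    show cornerMap ε₁ ε₂ (cornerMap ε₁ ε₂ a) = cornerMap ε₁ ε₂ a
    rw [cornerMap_apply, cornerMap_apply]
    calc ε₁ * (ε₁ * (a * ε₂) * ε₂) = (ε₁ * ε₁) * (a * (ε₂ * ε₂)) := by noncomm_ring
      _ = ε₁ * (a * ε₂) := by rw [h₁, h₂]
  rw [← (LinearMap.IsIdempotentElem.isProj_range _ hid).trace, trace_eq_sum_coeff]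
  refine Finset.sum_congr rfl (fun g _ => ?_)
  rw [cornerMap_apply, coeff_single_mul_mul]

end

end Cfsg.Agent.Lib.H14.FC
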