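import Mathlib
import Cfsg.Prelude.Def_Blocks
import Cfsg.Agent.Lib.H23.BlockNecklace
import Cfsg.Agent.Lib.H24.CharKer
import Cfsg.Agent.Lib.L0.PRegCongP

/-!
# S4427 (Brauer, three primes): common definitions for the pieces (helper14)

`cornerMap ε₁ ε₂ : a ↦ ε₁ * a * ε₂`, `idemChar e` (the character of the left ideal `A * e`),
`avg H` (averaging idempotent of a subgroup), `augHom` (augmentation).
-/

set_option autoImplicit false

namespace Cfsg.Agent.Lib.H14.FC

open Cfsg MonoidAlgebra Cfsg.Agent.Lib.H23 Cfsg.Agent.Lib.H24 Cfsg.Agent.Lib.L0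
open scoped ComplexConjugate

section
variable {G : Type*} [Group G]

/-- The projection `a ↦ ε₁ * a * ε₂`. -/
noncomputable def cornerMap (ε₁ ε₂ : MonoidAlgebra ℂ G) :
    MonoidAlgebra ℂ G →ₗ[ℂ] MonoidAlgebra ℂ G :=
  (LinearMap.mulLeft ℂ ε₁).comp (LinearMap.mulRight ℂ ε₂)

theorem cornerMap_apply (ε₁ ε₂ a : MonoidAlgebra ℂ G) : cornerMap ε₁ ε₂ a = ε₁ * (a * ε₂) := rfl

/-- The augmentation as an algebra homomorphism. -/
noncomputable def augHom : MonoidAlgebra ℂ G →ₐ[ℂ] ℂ :=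
  MonoidAlgebra.lift ℂ ℂ G (1 : G →* ℂ)

variable [Fintype G]

/-- The character of the left ideal `A * e`: `g ↦ ∑ h, e (h⁻¹ g⁻¹ h)`. -/
noncomputable def idemChar (e : MonoidAlgebra ℂ G) (g : G) : ℂ :=
  ∑ h : G, e.coeff (h⁻¹ * g⁻¹ * h)

open Classical in
/-- The averaging element of a subgroup. -/
noncomputable def avg (H : Subgroup G) : MonoidAlgebra ℂ G :=
  ofFun (fun g => if g ∈ H then ((Nat.card H : ℂ))⁻¹ else 0)

end

end Cfsg.Agent.Lib.H14.FC
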