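import Cfsg.Agent.Lib.H14.FCDefs

/-!
# S4427 piece SPEC: the spectral idempotent for the unit roots (helper14)
-/

set_option autoImplicit false

namespace Cfsg.Agent.Lib.H14.FC

open Cfsg MonoidAlgebra Cfsg.Agent.Lib.H23 Cfsg.Agent.Lib.H24 Cfsg.Agent.Lib.L0
open scoped ComplexConjugate
open Polynomial

section Spec

variable {M : Ideal AlgInt} [hP : M.IsPrime]

/-- `X - a` and `X - b` are coprime over the local ring when `b - a` is a unit there. -/
theorem isCoprime_X_sub_C (a b : localRing M) (ha : MemLocalIdeal M (a : ℂ))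
    (hb : ¬ MemLocalIdeal M (b : ℂ)) :
    IsCoprime (X - C a : (localRing M)[X]) (X - C b) := by
  have hba : ¬ MemLocalIdeal M ((b : ℂ) - a) := by
    intro h
    apply hb
    have := memLocalIdeal_add h ha
    simpa using this
  have hinv : MemLocalRing M (((b : ℂ) - a)⁻¹) :=
    memLocalRing_inv (memLocalRing_sub b.2 a.2) hba
  let w : localRing M := ⟨((b : ℂ) - a)⁻¹, hinv⟩
  have hw : w * (b - a) = 1 := by
    apply Subtype.ext
    show ((b : ℂ) - a)⁻¹ * ((b : ℂ) - a) = 1
    exact inv_mul_cancel₀ (ne_zero_of_not_memLocalIdeal hba)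
  refine ⟨C w, -C w, ?_⟩
  have : C w * (X - C a) + -C w * (X - C b) = C (w * (b - a)) := by
    rw [C_mul, C_sub]; ring
  rw [this, hw, C_1]

end Spec

theorem exists_spectral_idem {p : ℕ} {M : Ideal AlgInt} (hM : IsPModular p M)
    {A : Type*} [Ring A] [Algebra ℂ A] (aug : A →ₐ[ℂ] ℂ) (S : Subring A)
    (hS : ∀ c : ℂ, MemLocalRing M c → ∀ x ∈ S, c • x ∈ S)
    (E : A) (hE : E ∈ S) (haug : aug E = 1)
    (P : Polynomial ℂ) (hPm : P.Monic) (hroots : ∀ z : ℂ, P.IsRoot z → MemLocalRing M z)
    (hPE : Polynomial.aeval E P = 0) :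
    ∃ e y : A, e * e = e ∧ e ∈ S ∧ aug e = 1 ∧ e = E * y ∧ E * y = y * E := by
  classical
  have hP := isPrime_of_isPModular hM
  set R := localRing M with hR
  set ι : R →+* ℂ := R.subtype with hι
  have hP0 : P ≠ 0 := hPm.ne_zero
  -- the roots
  set m := Multiset.card P.roots with hm
  set F : Finset R := P.roots.toFinset.subtype (fun z => z ∈ R) with hF
  have hFmem : ∀ r : R, r ∈ F ↔ P.IsRoot (r : ℂ) := by
    intro r
    rw [hF, Finset.mem_subtype, Multiset.mem_toFinset, mem_roots hP0]
  set Fi : Finset R := F.filter (fun r : R => MemLocalIdeal M (r : ℂ)) with hFi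
  set Fu : Finset R := F.filter (fun r : R => ¬ MemLocalIdeal M (r : ℂ)) with hFu
  set g : R[X] := ∏ r ∈ Fi, ((X : R[X]) - (C r : R[X])) ^ m with hg
  set h : R[X] := ∏ r ∈ Fu, ((X : R[X]) - (C r : R[X])) ^ m with hh
  have hcop : IsCoprime g h := by
    refine IsCoprime.prod_left (fun a ha => IsCoprime.prod_right (fun b hb => ?_))
    refine IsCoprime.pow ?_
    exact isCoprime_X_sub_C a b (Finset.mem_filter.1 ha).2 (Finset.mem_filter.1 hb).2
  obtain ⟨u, v, huv⟩ := hcop
  -- P divides the image of g * h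
  have hgh : (g * h).map ι = ∏ z ∈ P.roots.toFinset, (X - C z) ^ m := by
    have h1 : g * h = ∏ r ∈ F, ((X : R[X]) - (C r : R[X])) ^ m := by
      rw [hg, hh, hFi, hFu]
      exact Finset.prod_filter_mul_prod_filter_not F _ _
    rw [h1, Polynomial.map_prod]
    have h2 : ∀ r : R, (((X : R[X]) - (C r : R[X])) ^ m : R[X]).map ι = ((X : ℂ[X]) - C (r : ℂ)) ^ m := by
      intro r
      rw [Polynomial.map_pow, Polynomial.map_sub, Polynomial.map_X, Polynomial.map_C]
      rfl
    simp only [h2]
    rw [hF, Finset.prod_subtype_eq_prod_filter (f := fun z : ℂ => (X - C z) ^ m)]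
    refine Finset.prod_congr ?_ (fun _ _ => rfl)
    ext z
    simp only [Finset.mem_filter, Multiset.mem_toFinset, and_iff_left_iff_imp]
    intro hz
    exact hroots z ((mem_roots hP0).1 hz)
  have hdvd : P ∣ (g * h).map ι := by
    rw [hgh]
    conv_lhs => rw [(IsAlgClosed.splits P).eq_prod_roots_of_monic hPm,
      Finset.prod_multiset_map_count]
    refine Finset.prod_dvd_prod_of_dvd _ _ (fun z _ => ?_)
    exact pow_dvd_pow _ (Multiset.count_le_card z P.roots)
  obtain ⟨q, hq⟩ := hdvd
  -- the evaluation ring hom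
  set Φ : R[X] →+* A := (Polynomial.aeval E : ℂ[X] →ₐ[ℂ] A).toRingHom.comp (Polynomial.mapRingHom ι)
    with hΦ
  have hΦapp : ∀ f : R[X], Φ f = Polynomial.aeval E (f.map ι) := fun f => rfl
  have hΦgh : Φ (g * h) = 0 := by
    rw [hΦapp, hq, map_mul, hPE, zero_mul]
  have hΦS : ∀ f : R[X], Φ f ∈ S := by
    intro f
    induction f using Polynomial.induction_on' with
    | add f₁ f₂ h₁ h₂ => rw [map_add]; exact S.add_mem h₁ h₂
    | monomial n a =>
      rw [hΦapp, Polynomial.map_monomial, Polynomial.aeval_monomial, ← Algebra.smul_def]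
      exact hS _ a.2 _ (S.pow_mem hE n)
  have hcomm : ∀ f₁ f₂ : R[X], Φ f₁ * Φ f₂ = Φ f₂ * Φ f₁ := by
    intro f₁ f₂
    rw [← map_mul, ← map_mul, mul_comm]
  -- 1 is a unit root
  have hroot1 : P.IsRoot 1 := by
    have h1 : aug (Polynomial.aeval E P) = Polynomial.aeval (aug E) P :=
      (Polynomial.aeval_algHom_apply aug E P).symm
    rw [hPE, map_zero, haug] at h1
    rw [Polynomial.IsRoot.def, ← Polynomial.coe_aeval_eq_eval]
    exact h1.symm
  have hmpos : 0 < m := by
    rw [hm, Multiset.card_pos_iff_exists_mem]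
    exact ⟨1, (mem_roots hP0).2 hroot1⟩
  have h1mem : (⟨1, hroots 1 hroot1⟩ : R) ∈ Fu := by
    rw [hFu, Finset.mem_filter, hFmem]
    exact ⟨hroot1, not_memLocalIdeal_one⟩
  have hh1 : (h.map ι).eval 1 = 0 := by
    rw [hh, Polynomial.map_prod, Polynomial.eval_prod]
    refine Finset.prod_eq_zero h1mem ?_
    rw [Polynomial.map_pow, Polynomial.map_sub, Polynomial.map_X, Polynomial.map_C,
      Polynomial.eval_pow, Polynomial.eval_sub, Polynomial.eval_X, Polynomial.eval_C]
    show ((1 : ℂ) - 1) ^ m = 0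
    rw [sub_self, zero_pow hmpos.ne']
  have haugΦ : ∀ f : R[X], aug (Φ f) = (f.map ι).eval 1 := by
    intro f
    rw [hΦapp, ← Polynomial.aeval_algHom_apply, haug, Polynomial.coe_aeval_eq_eval]
  -- constant coefficient of h
  set c : ℂ := (h.map ι).coeff 0 with hc
  have hc0 : c ≠ 0 := by
    rw [hc, Polynomial.coeff_zero_eq_eval_zero, hh, Polynomial.map_prod, Polynomial.eval_prod,
      Finset.prod_ne_zero_iff]
    intro r hr
    rw [Polynomial.map_pow, Polynomial.map_sub, Polynomial.map_X, Polynomial.map_C,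
      Polynomial.eval_pow, Polynomial.eval_sub, Polynomial.eval_X, Polynomial.eval_C]
    apply pow_ne_zero
    rw [zero_sub, neg_ne_zero]
    exact ne_zero_of_not_memLocalIdeal (Finset.mem_filter.1 hr).2
  -- the idempotent
  refine ⟨Φ (u * g), Polynomial.aeval E (C (-c⁻¹) * (h.map ι).divX * (u * g).map ι), ?_, hΦS _, ?_,
    ?_, ?_⟩
  · -- idempotent
    have h1 : u * g * (u * g) - u * g = -(u * v) * (g * h) := by
      have : u * g = 1 - v * h := by rw [← huv]; ring
      calc u * g * (u * g) - u * g = u * g * (u * g - 1) := by ring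
        _ = u * g * (-(v * h)) := by rw [this]; ring
        _ = -(u * v) * (g * h) := by ring
    have h2 : Φ (u * g) * Φ (u * g) - Φ (u * g) = 0 := by
      rw [← map_mul, ← map_sub, h1, map_mul, hΦgh, mul_zero]
    exact sub_eq_zero.1 h2
  · -- augmentation
    rw [haugΦ]
    have : u * g = 1 - v * h := by rw [← huv]; ring
    rw [this, Polynomial.map_sub, Polynomial.map_one, Polynomial.map_mul, Polynomial.eval_sub,
      Polynomial.eval_one, Polynomial.eval_mul, hh1, mul_zero, sub_zero]
  · -- e = E * y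
    have hEy : E * Polynomial.aeval E (C (-c⁻¹) * (h.map ι).divX * (u * g).map ι) =
        Polynomial.aeval E (X * (C (-c⁻¹) * (h.map ι).divX * (u * g).map ι)) := by
      simp only [map_mul, Polynomial.aeval_X, mul_assoc]
    rw [hΦapp, hEy]
    have hdiv : X * (C (-c⁻¹) * (h.map ι).divX * (u * g).map ι) =
        (u * g).map ι - C (c⁻¹) * (u.map ι) * ((g * h).map ι) := by
      have h3 : (h.map ι).divX * X + C c = h.map ι := Polynomial.divX_mul_X_add _
      have h4 : X * (h.map ι).divX = h.map ι - C c := by linear_combination h3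
      have h5 : C (c⁻¹) * C c = (1 : ℂ[X]) := by
        rw [← C_mul, inv_mul_cancel₀ hc0, C_1]
      calc X * (C (-c⁻¹) * (h.map ι).divX * (u * g).map ι)
          = C (-c⁻¹) * (X * (h.map ι).divX) * (u * g).map ι := by ring
        _ = C (-c⁻¹) * (h.map ι - C c) * (u * g).map ι := by rw [h4]
        _ = (C (c⁻¹) * C c) * (u * g).map ι - C (c⁻¹) * (h.map ι) * (u * g).map ι := by
            rw [C_neg]; ring
        _ = (u * g).map ι - C (c⁻¹) * (u.map ι) * ((g * h).map ι) := by
            rw [h5, one_mul, Polynomial.map_mul, Polynomial.map_mul]; ring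
    rw [hdiv, map_sub, map_mul (Polynomial.aeval E) _ ((g * h).map ι)]
    have : Polynomial.aeval E ((g * h).map ι) = 0 := hΦgh
    rw [this, mul_zero, sub_zero]
  · -- commutation
    have hEy : E * Polynomial.aeval E (C (-c⁻¹) * (h.map ι).divX * (u * g).map ι) =
        Polynomial.aeval E (X * (C (-c⁻¹) * (h.map ι).divX * (u * g).map ι)) := by
      simp only [map_mul, Polynomial.aeval_X, mul_assoc]
    have hyE : Polynomial.aeval E (C (-c⁻¹) * (h.map ι).divX * (u * g).map ι) * E =
        Polynomial.aeval E ((C (-c⁻¹) * (h.map ι).divX * (u * g).map ι) * X) := by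
      simp only [map_mul, Polynomial.aeval_X, mul_assoc]
    rw [hEy, hyE, mul_comm]

end Cfsg.Agent.Lib.H14.FC
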