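import Cfsg.Agent.Lib.H14.FCDefs
import Cfsg.Agent.Lib.H14.FCAVG
import Cfsg.Agent.Lib.H1.FCCORNER
import Cfsg.Agent.Lib.H1.FCCHAR
import Cfsg.Agent.Lib.H9.FCINJ
import Cfsg.Agent.Lib.H8.FCINTEG
import Cfsg.Agent.Lib.L0.CharCentral
import Cfsg.Agent.Lib.H8.FCROOTS
import Cfsg.Agent.Lib.H14.FCSPEC

/-!
# S4427 (Brauer, three primes): final assembly (helper14)
-/

set_option autoImplicit false

namespace Cfsg.Agent.Lib.H14.FC

open Cfsg MonoidAlgebra Cfsg.Agent.Lib.H23 Cfsg.Agent.Lib.H24 Cfsg.Agent.Lib.L0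
open scoped ComplexConjugate



/-- The analytic core: a function with the right inner products is the truncated constant. -/
theorem eq_theta_of_bounds {G : Type*} [Group G] [Fintype G] (p N0 : ℕ) (μ : G → ℂ)
    (h0 : ∀ g, p ∣ orderOf g → μ g = 0)
    (h1 : ∑ g, μ g = (Fintype.card G : ℂ))
    (h2 : ∑ g, Complex.normSq (μ g) ≤ (Fintype.card G : ℝ) * N0)
    (h3 : (Fintype.card {g : G // ¬ p ∣ orderOf g} : ℝ) * N0 = Fintype.card G) :
    ∀ g, μ g = if p ∣ orderOf g then 0 else (N0 : ℂ) := by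
  classical
  set θ : G → ℝ := fun g => if p ∣ orderOf g then 0 else (N0 : ℝ) with hθ
  have hsq : ∑ g, (θ g) ^ 2 = (Fintype.card G : ℝ) * N0 := by
    have : ∀ g, (θ g) ^ 2 = if ¬ p ∣ orderOf g then (N0 : ℝ) ^ 2 else 0 := by
      intro g; simp only [hθ]; split_ifs <;> simp
    simp only [this]
    rw [Finset.sum_ite, Finset.sum_const_zero, add_zero, Finset.sum_const, nsmul_eq_mul]
    rw [← h3, ← Fintype.card_subtype]
    ring
  have hre : ∑ g, θ g * (μ g).re = (Fintype.card G : ℝ) * N0 := by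
    have : ∀ g, θ g * (μ g).re = (N0 : ℝ) * (μ g).re := by
      intro g; simp only [hθ]; split_ifs with h
      · rw [h0 g h]; simp
      · rfl
    simp only [this]
    rw [← Finset.mul_sum, ← Complex.re_sum, h1]
    simp [mul_comm]
  have hkey : ∑ g, Complex.normSq (μ g - (θ g : ℂ)) ≤ 0 := by
    have : ∀ g, Complex.normSq (μ g - (θ g : ℂ)) =
        Complex.normSq (μ g) - 2 * (θ g * (μ g).re) + (θ g) ^ 2 := by
      intro g
      simp only [Complex.normSq_apply, Complex.sub_re, Complex.sub_im, Complex.ofReal_re,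
        Complex.ofReal_im]
      ring
    simp only [this]
    rw [Finset.sum_add_distrib, Finset.sum_sub_distrib, ← Finset.mul_sum, hre, hsq]
    linarith
  have hzero : ∀ g, Complex.normSq (μ g - (θ g : ℂ)) = 0 := by
    intro g
    have hnn : ∀ g ∈ Finset.univ, 0 ≤ Complex.normSq (μ g - (θ g : ℂ)) :=
      fun g _ => Complex.normSq_nonneg _
    have := (Finset.sum_eq_zero_iff_of_nonneg hnn).1
      (le_antisymm hkey (Finset.sum_nonneg hnn)) g (Finset.mem_univ g)
    exact this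
  intro g
  have := Complex.normSq_eq_zero.1 (hzero g)
  rw [sub_eq_zero] at this
  rw [this]
  simp only [hθ]
  split_ifs <;> simp


section Main
variable {G : Type*} [Group G] [Fintype G]

theorem sum_idemChar (e : MonoidAlgebra ℂ G) :
    ∑ g, idemChar e g = (Fintype.card G : ℂ) * ∑ k, e.coeff k := by
  unfold idemChar
  rw [Finset.sum_comm]
  have : ∀ h : G, ∑ g : G, e.coeff (h⁻¹ * g⁻¹ * h) = ∑ k, e.coeff k := by
    intro h
    exact Fintype.sum_equiv
      ((Equiv.inv G).trans ((Equiv.mulLeft h⁻¹).trans (Equiv.mulRight h))) _ _ (fun g => by simp)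
  simp only [this]
  rw [Finset.sum_const, Finset.card_univ, nsmul_eq_mul]

theorem sum_idemChar_mul_inv (e : MonoidAlgebra ℂ G) (he : e * e = e) :
    ∑ g, idemChar e g * idemChar e g⁻¹ =
      (Fintype.card G : ℂ) * (Module.finrank ℂ (LinearMap.range (cornerMap e e)) : ℂ) := by
  have hcf := isClassFunction_of_isCharacter (Cfsg.Agent.Lib.H1.FC.isCharacter_idemChar e he)
  rw [Cfsg.Agent.Lib.H1.FC.finrank_range_cornerMap e e he he]
  have h1 : ∀ g : G, idemChar e g * idemChar e g⁻¹ =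
      ∑ h : G, idemChar e g * e.coeff (h⁻¹ * g * h) := by
    intro g
    rw [← Finset.mul_sum]
    congr 1
    simp [idemChar]
  simp only [h1]
  rw [Finset.sum_comm]
  have h2 : ∀ h : G, ∑ g : G, idemChar e g * e.coeff (h⁻¹ * g * h) =
      ∑ k : G, idemChar e k * e.coeff k := by
    intro h
    refine Fintype.sum_equiv ((Equiv.mulLeft h⁻¹).trans (Equiv.mulRight h)) _ _ (fun g => ?_)
    simp only [Equiv.trans_apply, Equiv.coe_mulLeft, Equiv.coe_mulRight]
    congr 1
    have := hcf g h⁻¹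
    simpa using this.symm
  simp only [h2]
  rw [Finset.sum_const, Finset.card_univ, nsmul_eq_mul]
  congr 1
  rw [Finset.sum_comm]
  refine Finset.sum_congr rfl (fun k _ => ?_)
  rw [idemChar, Finset.sum_mul]
  refine Finset.sum_congr rfl (fun g _ => ?_)
  ring

end Main

section Main2
variable {G : Type*} [Group G] [Fintype G]

theorem not_dvd_orderOf_pow (p : ℕ) (hp : p.Prime) (y : G) :
    ¬ p ∣ orderOf (y ^ p ^ (Nat.card G).factorization p) := by
  intro hdvd
  set a := (Nat.card G).factorization p with ha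
  have hpos : 0 < Nat.card G := Nat.card_pos
  have h1 : (y ^ p ^ a) ^ (Nat.card G / p ^ a) = 1 := by
    rw [← pow_mul, Nat.mul_div_cancel' (Nat.ordProj_dvd _ _)]
    exact pow_card_eq_one'
  have h2 : orderOf (y ^ p ^ a) ∣ Nat.card G / p ^ a := orderOf_dvd_of_pow_eq_one h1
  have h3 : ¬ p ∣ Nat.card G / p ^ a := Nat.not_dvd_ordCompl hp hpos.ne'
  exact h3 (dvd_trans hdvd h2)

theorem idemChar_eq_zero {p : ℕ} {M : Ideal AlgInt} (hM : IsPModular p M)
    (e : MonoidAlgebra ℂ G) (he : e * e = e) (hint : ∀ g, MemLocalRing M (e.coeff g))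
    (g : G) (hg : p ∣ orderOf g) : idemChar e g = 0 := by
  classical
  have hp := prime_of_isPModular hM
  unfold idemChar
  rw [sum_conj_eq (fun x => e.coeff x) g⁻¹]
  have hC : ∀ x c : G, x ∈ {y : G | IsConj g⁻¹ y} → c⁻¹ * x * c ∈ {y : G | IsConj g⁻¹ y} := by
    intro x c hx
    have : IsConj x (c⁻¹ * x * c) := isConj_iff.mpr ⟨c⁻¹, by simp⟩
    exact IsConj.trans hx this
  have hpow : ∀ y : G, y ^ p ^ (Nat.card G).factorization p ∉ {y : G | IsConj g⁻¹ y} := by
    intro y hy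
    have hord : orderOf (y ^ p ^ (Nat.card G).factorization p) = orderOf g := by
      obtain ⟨c, hc⟩ := (hy : IsConj g⁻¹ _)
      rw [← SemiconjBy.orderOf_eq _ hc, orderOf_inv]
    exact not_dvd_orderOf_pow p hp y (hord ▸ hg)
  have := sum_coeff_eq_zero_of_idempotent hM e he hint {y : G | IsConj g⁻¹ y} hC _ hpow
  rw [Finset.sum_filter]
  simp only [Set.mem_ofPred_eq] at this
  rw [this, mul_zero]

end Main2

section Main3
variable {G : Type*} [Group G] [Fintype G]

theorem factorization_three (p q r a b c : ℕ) (hp : p.Prime) (hq : q.Prime) (hr : r.Prime)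
    (hpq : p ≠ q) (hqr : q ≠ r) :
    (p ^ a * q ^ b * r ^ c).factorization q = b := by
  have h1 : p ^ a ≠ 0 := pow_ne_zero _ hp.ne_zero
  have h2 : q ^ b ≠ 0 := pow_ne_zero _ hq.ne_zero
  have h3 : r ^ c ≠ 0 := pow_ne_zero _ hr.ne_zero
  rw [Nat.factorization_mul (mul_ne_zero h1 h2) h3, Nat.factorization_mul h1 h2,
    hp.factorization_pow, hq.factorization_pow, hr.factorization_pow]
  simp [hpq, hqr.symm]

theorem main (p q r a b c : ℕ) (hp : p.Prime) (hq : q.Prime)
    (hr : r.Prime) (hpq : p ≠ q) (hpr : p ≠ r) (hqr : q ≠ r)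
    (hG : Nat.card G = p ^ a * q ^ b * r ^ c)
    (hcount : Nat.card {g : G // ¬ p ∣ orderOf g} = q ^ b * r ^ c) :
    ∃ N : Subgroup G, N.Normal ∧ Nat.card N = q ^ b * r ^ c := by
  classical
  obtain ⟨M, hM⟩ := PRegP.exists_isPModular hp
  have hP := isPrime_of_isPModular hM
  have : Fact q.Prime := ⟨hq⟩
  have : Fact r.Prime := ⟨hr⟩
  obtain ⟨Q⟩ : Nonempty (Sylow q G) := inferInstance
  obtain ⟨R⟩ : Nonempty (Sylow r G) := inferInstance
  have hQcard : Nat.card (Q : Subgroup G) = q ^ b := by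
    rw [Sylow.card_eq_multiplicity, hG, factorization_three p q r a b c hp hq hr hpq hqr]
  have hRcard : Nat.card (R : Subgroup G) = r ^ c := by
    rw [Sylow.card_eq_multiplicity, hG]
    have : p ^ a * q ^ b * r ^ c = p ^ a * r ^ c * q ^ b := by ring
    rw [this, factorization_three p r q a c b hp hr hq hpr hqr.symm]
  have hpQ : ¬ p ∣ Nat.card (Q : Subgroup G) := by
    rw [hQcard]
    intro h
    exact hpq ((Nat.prime_dvd_prime_iff_eq hp hq).1 (hp.dvd_of_dvd_pow h))
  have hpR : ¬ p ∣ Nat.card (R : Subgroup G) := by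
    rw [hRcard]
    intro h
    exact hpr ((Nat.prime_dvd_prime_iff_eq hp hr).1 (hp.dvd_of_dvd_pow h))
  have hQR : ∀ g h : G, h ∈ (Q : Subgroup G) → g⁻¹ * h⁻¹ * g ∈ (R : Subgroup G) → h = 1 := by
    intro g h hhQ hhR
    have h1 : orderOf h ∣ q ^ b := by
      rw [← hQcard]
      have := Subgroup.orderOf_dvd_natCard (Q : Subgroup G) hhQ
      exact this
    have h2 : orderOf h ∣ r ^ c := by
      rw [← hRcard]
      have h3 := Subgroup.orderOf_dvd_natCard (R : Subgroup G) hhR
      have h4 : orderOf (g⁻¹ * h⁻¹ * g) = orderOf h := by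
        have : SemiconjBy g⁻¹ h⁻¹ (g⁻¹ * h⁻¹ * g) := by
          unfold SemiconjBy; group
        rw [← this.orderOf_eq, orderOf_inv]
      rwa [h4] at h3
    have hcop : Nat.Coprime (q ^ b) (r ^ c) :=
      Nat.Coprime.pow _ _ ((Nat.coprime_primes hq hr).2 hqr)
    have := Nat.eq_one_of_dvd_coprimes hcop h1 h2
    exact orderOf_eq_one_iff.1 this
  set eQ := avg (Q : Subgroup G) with heQ
  set eR := avg (R : Subgroup G) with heR
  have hQi : eQ * eQ = eQ := avg_mul_self _
  have hRi : eR * eR = eR := avg_mul_self _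
  have hQint : eQ ∈ intCoeff (G := G) M := avg_mem_intCoeff hM _ hpQ
  have hRint : eR ∈ intCoeff (G := G) M := avg_mem_intCoeff hM _ hpR
  set E := eQ * eR * eQ with hEdef
  have hEint : E ∈ intCoeff (G := G) M :=
    Subring.mul_mem _ (Subring.mul_mem _ hQint hRint) hQint
  have haugQ : augHom eQ = 1 := by rw [augHom_apply, sum_coeff_avg]
  have haugR : augHom eR = 1 := by rw [augHom_apply, sum_coeff_avg]
  have haugE : augHom E = 1 := by rw [hEdef, map_mul, map_mul, haugQ, haugR]; simp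
  obtain ⟨P, hPm, hPc, hPE⟩ := Cfsg.Agent.Lib.H8.FC.exists_monic_annihilator (M := M) E hEint
  have hroots : ∀ z : ℂ, P.IsRoot z → MemLocalRing M z :=
    fun z hz => Cfsg.Agent.Lib.H8.FC.memLocalRing_of_isRoot P hPm hPc z hz
  obtain ⟨e, y, hee, heS, hauge, hey, hcomm⟩ :=
    exists_spectral_idem hM (augHom (G := G)) (intCoeff (G := G) M)
      (fun c hc x hx => smul_mem_intCoeff hc hx) E hEint haugE P hPm hroots hPE
  have hμ := Cfsg.Agent.Lib.H1.FC.isCharacter_idemChar e hee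
  have h0 : ∀ g, p ∣ orderOf g → idemChar e g = 0 :=
    fun g hg => idemChar_eq_zero hM e hee (mem_intCoeff.1 heS) g hg
  have h1 : ∑ g, idemChar e g = (Fintype.card G : ℂ) := by
    rw [sum_idemChar, ← augHom_apply, hauge, mul_one]
  -- the corner dimensions
  have hcornerQR : Module.finrank ℂ (LinearMap.range (cornerMap eQ eR)) = p ^ a := by
    have h := Cfsg.Agent.Lib.H1.FC.finrank_range_cornerMap eQ eR hQi hRi
    rw [sum_avg_avg _ _ hQR, hQcard, hRcard, hG] at h
    have hq0 : (q : ℂ) ^ b ≠ 0 := pow_ne_zero _ (Nat.cast_ne_zero.2 hq.ne_zero)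
    have hr0 : (r : ℂ) ^ c ≠ 0 := pow_ne_zero _ (Nat.cast_ne_zero.2 hr.ne_zero)
    have : ((p ^ a * q ^ b * r ^ c : ℕ) : ℂ) / (((q ^ b : ℕ) : ℂ) * ((r ^ c : ℕ) : ℂ)) =
        ((p ^ a : ℕ) : ℂ) := by
      push_cast
      rw [mul_assoc, mul_div_assoc, div_self (mul_ne_zero hq0 hr0), mul_one]
    rw [this] at h
    exact_mod_cast h
  have hcorner : Module.finrank ℂ (LinearMap.range (cornerMap e e)) ≤ p ^ a := by
    rw [← hcornerQR]
    exact Cfsg.Agent.Lib.H9.FC.finrank_corner_le e eQ eR E y hEdef hQi hey hcomm hee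
  have h2 : ∑ g, Complex.normSq (idemChar e g) ≤ (Fintype.card G : ℝ) * (p ^ a : ℕ) := by
    have hC : ((∑ g, Complex.normSq (idemChar e g) : ℝ) : ℂ) =
        (Fintype.card G : ℂ) * (Module.finrank ℂ (LinearMap.range (cornerMap e e)) : ℂ) := by
      rw [← sum_idemChar_mul_inv e hee]
      push_cast
      refine Finset.sum_congr rfl (fun g _ => ?_)
      rw [isCharacter_apply_inv hμ g, Complex.mul_conj]
    have hR : (∑ g, Complex.normSq (idemChar e g) : ℝ) =
        (Fintype.card G : ℝ) * (Module.finrank ℂ (LinearMap.range (cornerMap e e)) : ℝ) := by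
      exact_mod_cast hC
    rw [hR]
    gcongr
  have h3 : (Fintype.card {g : G // ¬ p ∣ orderOf g} : ℝ) * (p ^ a : ℕ) = Fintype.card G := by
    rw [← Nat.card_eq_fintype_card, ← Nat.card_eq_fintype_card, hcount, hG]
    push_cast
    ring
  have hθ := eq_theta_of_bounds p (p ^ a) (idemChar e) h0 h1 h2 h3
  refine ⟨charKer (idemChar e) hμ, inferInstance, ?_⟩
  rw [← hcount]
  refine Nat.card_congr (Equiv.subtypeEquivRight (fun g => ?_))
  rw [mem_charKer, hθ g, hθ 1]
  have h11 : ¬ p ∣ orderOf (1 : G) := by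
    rw [orderOf_one]; exact hp.one_lt.ne' ∘ Nat.dvd_one.1
  rw [if_neg h11]
  have hpa : ((p ^ a : ℕ) : ℂ) ≠ 0 := Nat.cast_ne_zero.2 (pow_ne_zero _ hp.ne_zero)
  constructor
  · intro h hd
    rw [if_pos hd] at h
    exact hpa h.symm
  · intro h
    rw [if_neg h]

end Main3

end Cfsg.Agent.Lib.H14.FC
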