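import Mathlib
import Cfsg.Prelude.Def_Transfer

/-!
# S2861 core: the abstract configuration in `L / O_p(L)`

`Conf p Y N`: `Y` a nontrivial elementary abelian `p`-subgroup of `H` whose normal closure is `H`,
`N` a proper subgroup with `Y ≤ N ≤ N_H(Y)` containing every proper overgroup of `Y`.
`Concl p Y N`: `Y` is the only nontrivial elementary abelian normal `p`-subgroup of `N`.
-/

set_option autoImplicit false
open Cfsg

namespace Cfsg.Agent.Lib.H14.FL

structure Conf {H : Type*} [Group H] (p : ℕ) (Y N : Subgroup H) : Prop where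
  hYN : Y ≤ N
  hNY : N ≤ Subgroup.normalizer (Y : Set H)
  hmax : ∀ X : Subgroup H, Y ≤ X → X ≠ ⊤ → X ≤ N
  hNtop : N ≠ ⊤
  hYea : Cfsg.IsElementaryAbelian p Y
  hYne : Y ≠ ⊥
  hncl : Subgroup.normalClosure (Y : Set H) = ⊤

def Concl {H : Type*} [Group H] (p : ℕ) (Y N : Subgroup H) : Prop :=
  ∀ V : Subgroup H, V ≤ N → N ≤ Subgroup.normalizer (V : Set H) →
    Cfsg.IsElementaryAbelian p V → V ≠ ⊥ → V = Y

section basic
variable {H K : Type*} [Group H] [Group K] {p : ℕ}

theorem elemAb_map' (f : H →* K) {B : Subgroup H} (hB : Cfsg.IsElementaryAbelian p B) :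
    Cfsg.IsElementaryAbelian p (B.map f) := by
  refine ⟨⟨⟨?_⟩⟩, ?_⟩
  · rintro ⟨_, x, hx, rfl⟩ ⟨_, y, hy, rfl⟩
    apply Subtype.ext
    have := hB.1.is_comm.comm ⟨x, hx⟩ ⟨y, hy⟩
    have h2 : x * y = y * x := congrArg Subtype.val this
    show f x * f y = f y * f x
    rw [← map_mul, ← map_mul, h2]
  · rintro _ ⟨x, hx, rfl⟩
    rw [← map_pow, hB.2 x hx, map_one]

theorem elemAb_isPGroup {B : Subgroup H} (hB : Cfsg.IsElementaryAbelian p B) : IsPGroup p ↥B := by
  intro g
  refine ⟨1, ?_⟩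
  apply Subtype.ext
  rw [pow_one, SubgroupClass.coe_pow, hB.2 g g.2]
  rfl

theorem elemAb_comm {B : Subgroup H} (hB : Cfsg.IsElementaryAbelian p B) {x y : H}
    (hx : x ∈ B) (hy : y ∈ B) : x * y = y * x :=
  congrArg Subtype.val (hB.1.is_comm.comm ⟨x, hx⟩ ⟨y, hy⟩)

/-- the normal elementary abelian conclusion is invariant under isomorphism -/
theorem Concl.of_equiv (e : H ≃* K) {Y N : Subgroup H}
    (h : Concl p (Y.map e.toMonoidHom) (N.map e.toMonoidHom)) : Concl p Y N := by
  intro V hVN hNV hVea hVne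
  have h1 := h (V.map e.toMonoidHom) (Subgroup.map_mono hVN) ?_ (elemAb_map' _ hVea) ?_
  · exact Subgroup.map_injective e.injective h1
  · rw [← Subgroup.map_equiv_normalizer_eq]
    exact Subgroup.map_mono hNV
  · intro hbot
    exact hVne ((Subgroup.map_eq_bot_iff_of_injective V e.injective).1 hbot)

theorem Conf.map (e : H ≃* K) {Y N : Subgroup H} (h : Conf p Y N) :
    Conf p (Y.map e.toMonoidHom) (N.map e.toMonoidHom) := by
  refine ⟨Subgroup.map_mono h.hYN, ?_, ?_, ?_, elemAb_map' _ h.hYea, ?_, ?_⟩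
  · rw [← Subgroup.map_equiv_normalizer_eq]
    exact Subgroup.map_mono h.hNY
  · intro X hYX hX
    have h1 : Y ≤ X.comap e.toMonoidHom := Subgroup.map_le_iff_le_comap.1 hYX
    have h2 : X.comap e.toMonoidHom ≠ ⊤ := by
      intro htop
      apply hX
      rw [eq_top_iff]
      intro x _
      obtain ⟨y, rfl⟩ := e.surjective x
      have : y ∈ X.comap e.toMonoidHom := by rw [htop]; trivial
      exact this
    have h3 := h.hmax _ h1 h2
    intro x hx
    obtain ⟨y, rfl⟩ := e.surjective x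
    exact ⟨y, h3 hx, rfl⟩
  · intro htop
    apply h.hNtop
    rw [eq_top_iff]
    intro x _
    have : e x ∈ N.map e.toMonoidHom := by rw [htop]; trivial
    obtain ⟨y, hy, hxy⟩ := this
    have : y = x := e.injective hxy
    rwa [← this]
  · intro hbot
    exact h.hYne ((Subgroup.map_eq_bot_iff_of_injective Y e.injective).1 hbot)
  · have := Subgroup.map_normalClosure (Y : Set H) e.toMonoidHom e.surjective
    rw [h.hncl] at this
    rw [Subgroup.coe_map, ← this]
    rw [eq_top_iff]
    intro x _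
    obtain ⟨y, rfl⟩ := e.surjective x
    exact ⟨y, trivial, rfl⟩

/-- a `p`-subgroup normalising a Sylow `p`-subgroup lies in it -/
theorem le_sylow_of_le_normalizer [Fact p.Prime] (P : Sylow p H) (V : Subgroup H)
    (hV : IsPGroup p ↥V) (hVN : V ≤ Subgroup.normalizer ((P : Subgroup H) : Set H)) :
    V ≤ (P : Subgroup H) := by
  have h1 : IsPGroup p ↥(V ⊔ (P : Subgroup H)) := hV.to_sup_of_normal_right' P.2 hVN
  have h2 := P.is_maximal' h1 le_sup_right
  rw [← h2]
  exact le_sup_left

end basic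

end Cfsg.Agent.Lib.H14.FL
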