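import Mathlib
import Cfsg.Prelude.Def_LocalStructure
import Cfsg.Prelude.Def_CaseTheorems
import Cfsg.Agent.Lib.H14.PReduced4
import Cfsg.Agent.Lib.H14.FLCore

/-!
# S2861: from `L ∈ 𝔏_G(Y_M)` to the abstract configuration in `L / O_p(L)`
-/

set_option autoImplicit false
set_option linter.unusedSectionVars false
open Cfsg

namespace Cfsg.Agent.Lib.H14.FL

section plumb
variable {G : Type*} [Group G] [Finite G] {p : ℕ} [Fact p.Prime]

theorem elemAb_subgroupOf {Y : Subgroup G} (hY : Cfsg.IsElementaryAbelian p Y) (K : Subgroup G) :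
    Cfsg.IsElementaryAbelian p (Y.subgroupOf K) := by
  refine ⟨⟨⟨?_⟩⟩, ?_⟩
  · rintro ⟨x, hx⟩ ⟨y, hy⟩
    apply Subtype.ext
    apply Subtype.ext
    exact elemAb_comm hY (Subgroup.mem_subgroupOf.1 hx) (Subgroup.mem_subgroupOf.1 hy)
  · intro x hx
    apply Subtype.ext
    rw [SubgroupClass.coe_pow, hY.2 _ (Subgroup.mem_subgroupOf.1 hx)]
    rfl

/-- the plumbing: the embedding of `N_L(Y)/A` into `L/O_p(L)` and the configuration there -/
theorem conf_of_frakL (M L NL : Subgroup G) (hL : Cfsg.IsInFrakL p M L)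
    (hNL : NL = L ⊓ Subgroup.normalizer ((Cfsg.largestPReducedOf p M : Subgroup G) : Set G))
    [hn : ((Cfsg.pCoreOf p L).subgroupOf NL).Normal] :
    ∃ ι : (↥NL ⧸ (Cfsg.pCoreOf p L).subgroupOf NL) →* (↥L ⧸ Cfsg.pCore p ↥L),
      Function.Injective ι ∧
      (((Cfsg.largestPReducedOf p M).subgroupOf NL).map
        (QuotientGroup.mk' ((Cfsg.pCoreOf p L).subgroupOf NL))).Normal ∧
      Cfsg.IsElementaryAbelian p (((Cfsg.largestPReducedOf p M).subgroupOf NL).map
        (QuotientGroup.mk' ((Cfsg.pCoreOf p L).subgroupOf NL))) ∧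
      Conf p ((((Cfsg.largestPReducedOf p M).subgroupOf NL).map
        (QuotientGroup.mk' ((Cfsg.pCoreOf p L).subgroupOf NL))).map ι) ι.range ∧
      Nat.card ↥((((Cfsg.largestPReducedOf p M).subgroupOf NL).map
        (QuotientGroup.mk' ((Cfsg.pCoreOf p L).subgroupOf NL))).map ι) =
        (Cfsg.largestPReducedOf p M ⊓ Cfsg.pCoreOf p L).relIndex (Cfsg.largestPReducedOf p M) := by
  classical
  obtain ⟨hYL, -, hAN, hmin, -, ⟨hlt, hmaxL⟩, -⟩ := hL
  set Y := Cfsg.largestPReducedOf p M with hYdef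
  set A := Cfsg.pCoreOf p L with hAdef
  set O := Cfsg.pCore p ↥L with hOdef
  have hAO : A = O.map L.subtype := rfl
  have hYea : Cfsg.IsElementaryAbelian p Y := (largestPReducedOf_props (p := p) M).2.1
  have hNLL : NL ≤ L := by rw [hNL]; exact inf_le_left
  have hNLN : NL ≤ Subgroup.normalizer ((Y : Subgroup G) : Set G) := by rw [hNL]; exact inf_le_right
  have hYNL : Y ≤ NL := by rw [hNL]; exact le_inf hYL Subgroup.le_normalizer
  have hAL : A ≤ L := Subgroup.map_subtype_le _
  have hANL : A ≤ NL := by rw [hNL]; exact le_inf hAL hAN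
  have hmemA : ∀ l : ↥L, l ∈ O ↔ (l : G) ∈ A := by
    intro l
    constructor
    · intro hl
      exact ⟨l, hl, rfl⟩
    · rintro ⟨y, hy, hyl⟩
      have : y = l := Subtype.ext hyl
      rwa [← this]
  -- `Y` is not contained in `A`
  have hYA : ¬ Y ≤ A := by
    intro hle
    have h1 : Y.subgroupOf L ≤ O := by
      intro x hx
      exact (hmemA x).2 (hle (Subgroup.mem_subgroupOf.1 hx))
    have h2 : (⊤ : Subgroup ↥L) ≤ O := by
      rw [← hmin.1]
      exact Subgroup.normalClosure_le_normal h1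
    have h3 : L ≤ A := by
      intro l hl
      exact (hmemA ⟨l, hl⟩).1 (h2 trivial)
    have h4 : L ≤ L ⊓ Subgroup.normalizer ((Y : Subgroup G) : Set G) := le_inf le_rfl (h3.trans hAN)
    exact lt_irrefl _ (lt_of_lt_of_le hlt h4)
  -- the map
  let φ : ↥NL →* (↥L ⧸ O) := (QuotientGroup.mk' O).comp (Subgroup.inclusion hNLL)
  have hφ : ∀ x : ↥NL, φ x = QuotientGroup.mk' O (Subgroup.inclusion hNLL x) := fun x => rfl
  have hker : ∀ x : ↥NL, φ x = 1 ↔ x ∈ A.subgroupOf NL := by
    intro x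
    rw [hφ, QuotientGroup.mk'_apply, QuotientGroup.eq_one_iff, hmemA, Subgroup.mem_subgroupOf]
    rfl
  let ι : (↥NL ⧸ A.subgroupOf NL) →* (↥L ⧸ O) :=
    QuotientGroup.lift (A.subgroupOf NL) φ (fun x hx => (hker x).2 hx)
  have hι : ∀ x : ↥NL, ι (QuotientGroup.mk' (A.subgroupOf NL) x) = φ x := fun x => rfl
  have hinj : Function.Injective ι := by
    rw [injective_iff_map_eq_one]
    intro q hq
    obtain ⟨x, rfl⟩ := QuotientGroup.mk'_surjective (A.subgroupOf NL) q
    rw [hι, hker] at hq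
    exact (QuotientGroup.eq_one_iff x).2 hq
  -- the image of `Y`
  have hYbar : ((Y.subgroupOf NL).map (QuotientGroup.mk' (A.subgroupOf NL))).map ι =
      (Y.subgroupOf L).map (QuotientGroup.mk' O) := by
    ext z
    constructor
    · rintro ⟨_, ⟨x, hx, rfl⟩, rfl⟩
      rw [hι, hφ]
      exact ⟨Subgroup.inclusion hNLL x, hx, rfl⟩
    · rintro ⟨l, hl, rfl⟩
      have hlY : (l : G) ∈ Y := Subgroup.mem_subgroupOf.1 hl
      refine ⟨_, ⟨⟨(l : G), hYNL hlY⟩, hlY, rfl⟩, ?_⟩
      rw [hι, hφ]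
      rfl
  have hYnormal : (Y.subgroupOf NL).Normal :=
    (Subgroup.normal_subgroupOf_iff_le_normalizer hYNL).2 hNLN
  have hYbarN : ((Y.subgroupOf NL).map (QuotientGroup.mk' (A.subgroupOf NL))).Normal :=
    hYnormal.map _ (QuotientGroup.mk'_surjective _)
  have hrange : ∀ l : ↥L, QuotientGroup.mk' O l ∈ ι.range ↔ (l : G) ∈ NL := by
    intro l
    constructor
    · rintro ⟨q, hq⟩
      obtain ⟨x, rfl⟩ := QuotientGroup.mk'_surjective (A.subgroupOf NL) q
      rw [hι, hφ, QuotientGroup.mk'_apply, QuotientGroup.mk'_apply, QuotientGroup.eq, hmemA] at hq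
      have h1 : ((Subgroup.inclusion hNLL x)⁻¹ * l : ↥L) = ((x : G)⁻¹ * (l : G) : G) := rfl
      rw [h1] at hq
      have h2 := NL.mul_mem x.2 (hANL hq)
      rwa [mul_inv_cancel_left] at h2
    · intro hl
      exact ⟨QuotientGroup.mk' (A.subgroupOf NL) ⟨(l : G), hl⟩, rfl⟩
  refine ⟨ι, hinj, hYbarN, elemAb_map' _ (elemAb_subgroupOf hYea NL), ?_, ?_⟩
  · refine ⟨Subgroup.map_le_range _ _, ?_, ?_, ?_, elemAb_map' _ (elemAb_map' _
      (elemAb_subgroupOf hYea NL)), ?_, ?_⟩
    · -- normalised by the range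
      rw [MonoidHom.range_eq_map]
      refine le_trans ?_ (Subgroup.le_normalizer_map ι)
      rw [Subgroup.normalizer_eq_top_iff.2 hYbarN]
    · -- maximality
      intro X hYX hX
      rw [hYbar] at hYX
      let X' : Subgroup G := (X.comap (QuotientGroup.mk' O)).map L.subtype
      have hX'L : X' ≤ L := Subgroup.map_subtype_le _
      have hYX' : Y ≤ X' := by
        intro y hy
        refine ⟨⟨y, hYL hy⟩, ?_, rfl⟩
        exact hYX ⟨⟨y, hYL hy⟩, hy, rfl⟩
      have hX'ne : X' ≠ L := by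
        intro heq
        apply hX
        rw [eq_top_iff]
        intro z _
        obtain ⟨l, rfl⟩ := QuotientGroup.mk'_surjective O z
        have : (l : G) ∈ X' := by rw [heq]; exact l.2
        obtain ⟨l', hl', hll⟩ := this
        have : l' = l := Subtype.ext hll
        rw [← this]
        exact hl'
      have h1 := hmaxL X' hYX' (lt_of_le_of_ne hX'L hX'ne)
      rw [← hNL] at h1
      intro z hz
      obtain ⟨l, rfl⟩ := QuotientGroup.mk'_surjective O z
      rw [hrange]
      exact h1 ⟨l, hz, rfl⟩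
    · -- proper
      intro htop
      obtain ⟨l, hlL, hlN⟩ := SetLike.exists_of_lt hlt
      rw [← hNL] at hlN
      apply hlN
      have : QuotientGroup.mk' O ⟨l, hlL⟩ ∈ ι.range := by rw [htop]; trivial
      exact (hrange _).1 this
    · -- nontrivial
      rw [hYbar]
      intro hbot
      apply hYA
      intro y hy
      have h1 : QuotientGroup.mk' O ⟨y, hYL hy⟩ ∈ (Y.subgroupOf L).map (QuotientGroup.mk' O) :=
        ⟨⟨y, hYL hy⟩, hy, rfl⟩
      rw [hbot, Subgroup.mem_bot, QuotientGroup.mk'_apply, QuotientGroup.eq_one_iff, hmemA] at h1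
      exact h1
    · -- normal closure
      rw [hYbar]
      have := Subgroup.map_normalClosure ((Y.subgroupOf L : Subgroup ↥L) : Set ↥L)
        (QuotientGroup.mk' O) (QuotientGroup.mk'_surjective O)
      rw [hmin.1] at this
      rw [Subgroup.coe_map, ← this, eq_top_iff]
      intro z _
      obtain ⟨l, rfl⟩ := QuotientGroup.mk'_surjective O z
      exact ⟨l, trivial, rfl⟩
  · rw [hYbar, ← Subgroup.relIndex_ker, QuotientGroup.ker_mk', Subgroup.inf_relIndex_left,
      ← Subgroup.relIndex_subgroupOf hYL]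
    congr 1
    ext l
    rw [Subgroup.mem_subgroupOf, hmemA]

end plumb

end Cfsg.Agent.Lib.H14.FL
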