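import Mathlib
import Cfsg.Agent.Lib.H2.SL2Sylow
import Cfsg.Agent.Lib.H14.FLCore

/-!
# S2861: the case `L / O_p(L) ≅ SL₂(F)`, `|F| = |Y|`
-/

set_option autoImplicit false
set_option linter.unusedSectionVars false
open Cfsg

namespace Cfsg.Agent.Lib.H14.FL

open Matrix Polynomial Cfsg.Agent.Lib.H2.SL2

section sl2
variable {F : Type*} [Field F] [Fintype F]

theorem exists_sq_add_sq_fl (y : F) : ∃ a b : F, a ^ 2 + b ^ 2 = y := by
  classical
  by_cases h2 : ringChar F = 2
  · obtain ⟨a, ha⟩ := FiniteField.isSquare_of_char_two h2 y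
    exact ⟨a, 0, by rw [ha]; ring⟩
  · have hodd : Fintype.card F % 2 = 1 := FiniteField.odd_card_of_char_ne_two h2
    obtain ⟨a, b, hab⟩ := FiniteField.exists_root_sum_quadratic (R := F)
      (f := (X : F[X]) ^ 2) (g := (X : F[X]) ^ 2 - C y) (degree_X_pow 2)
      (degree_X_pow_sub_C (by decide) _) hodd
    refine ⟨a, b, ?_⟩
    simp only [eval_pow, eval_X, eval_sub, eval_C] at hab
    linear_combination hab

/-- the diagonal torus element -/
def hSL {a : F} (ha : a ≠ 0) : SpecialLinearGroup (Fin 2) F :=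
  ⟨!![a, 0; 0, a⁻¹], by simp [Matrix.det_fin_two_of, ha]⟩

theorem lSL_one_not_mem_U : lSL (1 : F) ∉ U F := by
  intro h
  obtain ⟨t, ht⟩ := (mem_U_iff _).1 h
  have := congrArg (fun g : SpecialLinearGroup (Fin 2) F => (g : Matrix (Fin 2) (Fin 2) F) 1 0) ht
  simp [uSL_val, lSL_val] at this

theorem upper_of_mem_normalizer_U {x : SpecialLinearGroup (Fin 2) F}
    (hx : x ∈ Subgroup.normalizer ((U F : Subgroup (SpecialLinearGroup (Fin 2) F)) :
      Set (SpecialLinearGroup (Fin 2) F))) :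
    (x : Matrix (Fin 2) (Fin 2) F) 1 0 = 0 := by
  by_contra hne
  have := eq_top_of_U_of_conj (U F) (fun t => uSL_mem t) x hne (fun t => by
    rw [Subgroup.mem_normalizer_iff] at hx
    exact (hx _).1 (uSL_mem t))
  apply lSL_one_not_mem_U (F := F)
  rw [this]; trivial

theorem concl_U (p : ℕ) [Fact p.Prime] [CharP F p] {N : Subgroup (SpecialLinearGroup (Fin 2) F)}
    (hc : Conf p (U F) N) : Concl p (U F) N := by
  have hnt : Subgroup.normalizer ((U F : Subgroup (SpecialLinearGroup (Fin 2) F)) :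
      Set (SpecialLinearGroup (Fin 2) F)) ≠ ⊤ := by
    intro htop
    have h1 : lSL (1 : F) ∈ Subgroup.normalizer ((U F : Subgroup (SpecialLinearGroup (Fin 2) F)) :
      Set (SpecialLinearGroup (Fin 2) F)) := by rw [htop]; trivial
    have := upper_of_mem_normalizer_U h1
    simp [lSL_val] at this
  have hNn : Subgroup.normalizer ((U F : Subgroup (SpecialLinearGroup (Fin 2) F)) :
      Set (SpecialLinearGroup (Fin 2) F)) ≤ N := hc.hmax _ Subgroup.le_normalizer hnt
  intro V hVN hNV hVea hVne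
  have hVU : V ≤ U F :=
    le_sylow_of_le_normalizer (USylow (F := F) p) V (elemAb_isPGroup hVea) (hVN.trans hc.hNY)
  obtain ⟨⟨v, hv⟩, hv1'⟩ := (Subgroup.ne_bot_iff_exists_ne_one (H := V)).1 hVne
  have hv1 : v ≠ 1 := fun h => hv1' (Subtype.ext h)
  obtain ⟨t, rfl⟩ := (mem_U_iff _).1 (hVU hv)
  have ht : t ≠ 0 := by
    rintro rfl
    exact hv1 uSL_zero
  have hsq : ∀ a : F, uSL (a ^ 2 * t) ∈ V := by
    intro a
    by_cases ha : a = 0
    · subst ha
      rw [zero_pow (by norm_num), zero_mul, uSL_zero]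
      exact V.one_mem
    · have hup : ((hSL ha : SpecialLinearGroup (Fin 2) F) : Matrix (Fin 2) (Fin 2) F) 1 0 = 0 := by
        simp [hSL]
      have h1 : hSL ha ∈ Subgroup.normalizer ((V : Subgroup (SpecialLinearGroup (Fin 2) F)) :
          Set (SpecialLinearGroup (Fin 2) F)) := hNV (hNn (mem_normalizer_U_of_upper hup))
      rw [Subgroup.mem_normalizer_iff] at h1
      have h2 := (h1 _).1 hv
      rw [mul_uSL_of_upper hup, mul_inv_cancel_right] at h2
      have e : ((hSL ha : SpecialLinearGroup (Fin 2) F) : Matrix (Fin 2) (Fin 2) F) 0 0 * t /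
          ((hSL ha : SpecialLinearGroup (Fin 2) F) : Matrix (Fin 2) (Fin 2) F) 1 1 = a ^ 2 * t := by
        simp [hSL]
        field_simp
      rwa [e] at h2
  apply le_antisymm hVU
  intro x hx
  obtain ⟨s, rfl⟩ := (mem_U_iff _).1 hx
  obtain ⟨a, b, hab⟩ := exists_sq_add_sq_fl (s / t)
  have e : s = a ^ 2 * t + b ^ 2 * t := by
    rw [← add_mul, hab, div_mul_cancel₀ _ ht]
  rw [e, uSL_add]
  exact V.mul_mem (hsq a) (hsq b)

end sl2

theorem concl_sl2 {H : Type*} [Group H] (p : ℕ) [Fact p.Prime] {F : Type*} [Field F] [Fintype F]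
    (e : H ≃* SpecialLinearGroup (Fin 2) F) {Y N : Subgroup H} (hc : Conf p Y N)
    (hcard : Fintype.card F = Nat.card Y) : Concl p Y N := by
  classical
  have : Finite H := Finite.of_equiv _ e.symm.toEquiv
  obtain ⟨k, hk⟩ := (IsPGroup.iff_card (p := p)).1 (elemAb_isPGroup hc.hYea)
  have : CharP F p := charP_of_card_eq_prime_pow (hcard.trans hk)
  -- the image of `Y` is a Sylow subgroup
  have hYp : IsPGroup p ↥(Y.map e.toMonoidHom) := elemAb_isPGroup (elemAb_map' _ hc.hYea)
  obtain ⟨P, hP⟩ := hYp.exists_le_sylow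
  have hcardY' : Nat.card ↥(Y.map e.toMonoidHom) = Nat.card Y :=
    Nat.card_congr (Y.equivMapOfInjective e.toMonoidHom e.injective).symm.toEquiv
  have hcardP : Nat.card ↥(P : Subgroup (SpecialLinearGroup (Fin 2) F)) = Nat.card Y := by
    rw [Sylow.card_eq_multiplicity, ← Sylow.card_eq_multiplicity (USylow (F := F) p), coe_USylow,
      card_U, Nat.card_eq_fintype_card, hcard]
  have hYP : Y.map e.toMonoidHom = (P : Subgroup (SpecialLinearGroup (Fin 2) F)) :=
    Subgroup.eq_of_le_of_card_ge hP (by rw [hcardP, hcardY'])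
  obtain ⟨g, hg⟩ := MulAction.exists_smul_eq (SpecialLinearGroup (Fin 2) F) (USylow (F := F) p) P
  let e' : H ≃* SpecialLinearGroup (Fin 2) F := e.trans (MulAut.conj g⁻¹)
  have he' : ∀ y : H, e' y = g⁻¹ * e y * g := by
    intro y
    simp [e']
  have hYU : Y.map e'.toMonoidHom = U F := by
    ext x
    constructor
    · rintro ⟨y, hy, rfl⟩
      have h1 : e y ∈ (P : Subgroup (SpecialLinearGroup (Fin 2) F)) := by
        rw [← hYP]; exact ⟨y, hy, rfl⟩
      rw [← hg, mem_sylow_smul_iff] at h1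
      show e' y ∈ U F
      rw [he']
      exact h1
    · intro hx
      have h1 : g * x * g⁻¹ ∈ (P : Subgroup (SpecialLinearGroup (Fin 2) F)) := by
        rw [← hg, mem_sylow_smul_iff]
        have : g⁻¹ * (g * x * g⁻¹) * g = x := by group
        rw [this]
        exact hx
      rw [← hYP] at h1
      obtain ⟨y, hy, hyx⟩ := h1
      refine ⟨y, hy, ?_⟩
      show e' y = x
      have hyx' : e y = g * x * g⁻¹ := hyx
      rw [he', hyx']
      group
  apply Concl.of_equiv e'
  have h1 := hc.map e'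
  rw [hYU] at h1 ⊢
  exact concl_U p h1

end Cfsg.Agent.Lib.H14.FL
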