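import Mathlib
import Cfsg.Agent.Lib.H14.FLCore

/-!
# S2861: the case `|Y| = 2` (dihedral quotients and `Sz(2)`), by an abstract two-involution argument
-/

set_option autoImplicit false
open Cfsg

namespace Cfsg.Agent.Lib.H14.FL

section two
variable {H : Type*} [Group H]

theorem inv_conj_of_invol {t t' : H} (ht : t * t = 1) (ht' : t' * t' = 1) (j : ℤ) :
    t * (t * t') ^ j = (t * t') ^ (-j) * t := by
  have h1 : SemiconjBy t (t * t') (t * t')⁻¹ := by
    unfold SemiconjBy
    have e1 : (t * t')⁻¹ = t' * t := by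
      rw [inv_eq_iff_mul_eq_one]
      calc t * t' * (t' * t) = t * (t' * t') * t := by group
        _ = 1 := by rw [ht', mul_one, ht]
    rw [e1]
    calc t * (t * t') = (t * t) * t' := by group
      _ = t' * (t * t) := by rw [ht, one_mul, mul_one]
      _ = t' * t * t := by group
  have h2 := h1.zpow_right j
  unfold SemiconjBy at h2
  rw [h2, inv_zpow, zpow_neg]

/-- elements of the group generated by two involutions -/
theorem mem_closure_pair {t t' : H} (ht : t * t = 1) (ht' : t' * t' = 1) (x : H)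
    (hx : x ∈ Subgroup.closure ({t, t'} : Set H)) :
    ∃ i : ℤ, x = (t * t') ^ i ∨ x = (t * t') ^ i * t := by
  have hti : t⁻¹ = t := inv_eq_of_mul_eq_one_right ht
  induction hx using Subgroup.closure_induction with
  | mem x hx =>
    rcases hx with rfl | hx
    · exact ⟨0, Or.inr (by simp)⟩
    · rw [Set.mem_singleton_iff] at hx
      subst hx
      refine ⟨-1, Or.inr ?_⟩
      have e1 : (t * x)⁻¹ = x * t := by
        rw [inv_eq_iff_mul_eq_one]
        calc t * x * (x * t) = t * (x * x) * t := by group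
          _ = 1 := by rw [ht', mul_one, ht]
      rw [zpow_neg, zpow_one, e1, mul_assoc, ht, mul_one]
  | one => exact ⟨0, Or.inl (by simp)⟩
  | mul x y _ _ hx hy =>
    obtain ⟨i, hi⟩ := hx
    obtain ⟨j, hj⟩ := hy
    rcases hi with rfl | rfl <;> rcases hj with rfl | rfl
    · exact ⟨i + j, Or.inl (by rw [zpow_add])⟩
    · exact ⟨i + j, Or.inr (by rw [zpow_add, mul_assoc])⟩
    · refine ⟨i - j, Or.inr ?_⟩
      rw [mul_assoc, inv_conj_of_invol ht ht', ← mul_assoc, ← zpow_add, sub_eq_add_neg]
    · refine ⟨i - j, Or.inl ?_⟩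
      rw [mul_assoc, ← mul_assoc t, inv_conj_of_invol ht ht', mul_assoc, ht, mul_one, ← zpow_add,
        sub_eq_add_neg]
  | inv x _ hx =>
    obtain ⟨i, hi⟩ := hx
    rcases hi with rfl | rfl
    · exact ⟨-i, Or.inl (by rw [zpow_neg])⟩
    · refine ⟨i, Or.inr ?_⟩
      rw [mul_inv_rev, hti, ← zpow_neg, inv_conj_of_invol ht ht', neg_neg]

theorem concl_of_card_two {Y N : Subgroup H} (hc : Conf 2 Y N) (h2 : Nat.card Y = 2) :
    Concl 2 Y N := by
  -- the involution
  obtain ⟨⟨t, htY⟩, ht1, htu⟩ := (Nat.card_eq_two_iff' (1 : Y)).1 h2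
  have ht1' : t ≠ 1 := fun h => ht1 (Subtype.ext h)
  have hY : ∀ y ∈ Y, y = 1 ∨ y = t := by
    intro y hy
    by_cases h : y = 1
    · exact Or.inl h
    · right
      have := htu ⟨y, hy⟩ (fun h' => h (congrArg Subtype.val h'))
      exact congrArg Subtype.val this
  have htt : t * t = 1 := by
    have := hc.hYea.2 t htY
    rwa [pow_two] at this
  have hti : t⁻¹ = t := inv_eq_of_mul_eq_one_right htt
  -- a conjugate outside `N`
  obtain ⟨g, hg⟩ : ∃ g : H, g * t * g⁻¹ ∉ N := by
    by_contra hcon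
    have hcon' : ∀ g : H, g * t * g⁻¹ ∈ N := by
      intro g
      by_contra h
      exact hcon ⟨g, h⟩
    apply hc.hNtop
    rw [eq_top_iff, ← hc.hncl, Subgroup.normalClosure, Subgroup.closure_le]
    intro c hcc
    rw [Group.mem_conjugatesOfSet_iff] at hcc
    obtain ⟨y, hy, hyc⟩ := hcc
    rw [isConj_iff] at hyc
    obtain ⟨g, rfl⟩ := hyc
    rcases hY y hy with rfl | rfl
    · rw [mul_one, mul_inv_cancel]
      exact N.one_mem
    · exact hcon' g
  set t' := g * t * g⁻¹ with ht'def
  have ht't' : t' * t' = 1 := by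
    calc t' * t' = g * (t * t) * g⁻¹ := by rw [ht'def]; group
      _ = 1 := by rw [htt, mul_one, mul_inv_cancel]
  have hD : Subgroup.closure ({t, t'} : Set H) = ⊤ := by
    by_contra hne
    have hYD : Y ≤ Subgroup.closure ({t, t'} : Set H) := by
      intro y hy
      rcases hY y hy with rfl | rfl
      · exact Subgroup.one_mem _
      · exact Subgroup.subset_closure (Set.mem_insert _ _)
    have := hc.hmax _ hYD hne
    exact hg (this (Subgroup.subset_closure (Set.mem_insert_of_mem _ rfl)))
  have hall : ∀ x : H, ∃ i : ℤ, x = (t * t') ^ i ∨ x = (t * t') ^ i * t := by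
    intro x
    apply mem_closure_pair htt ht't'
    rw [hD]; trivial
  set u := t * t' with hu
  have hconj := inv_conj_of_invol htt ht't'
  rw [← hu] at hconj
  -- `t' = u⁻¹ t`
  have ht'u : t' = u ^ (-1 : ℤ) * t := by
    have e1 : u⁻¹ = t' * t := by
      rw [inv_eq_iff_mul_eq_one, hu]
      calc t * t' * (t' * t) = t * (t' * t') * t := by group
        _ = 1 := by rw [ht't', mul_one, htt]
    rw [zpow_neg, zpow_one, e1, mul_assoc, htt, mul_one]
  -- `u` has odd order
  obtain ⟨i, hi⟩ : ∃ i : ℤ, u ^ (2 * i + 1) = 1 := by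
    have key : ∀ i : ℤ, u ^ i * t * (u ^ i)⁻¹ = u ^ (2 * i) * t := by
      intro i
      rw [← zpow_neg, mul_assoc, hconj, neg_neg, ← mul_assoc, ← zpow_add, two_mul]
    obtain ⟨i, hgi⟩ := hall g
    refine ⟨i, ?_⟩
    have e2 : t' = u ^ (2 * i) * t := by
      rcases hgi with hgi | hgi
      · rw [ht'def, hgi, key]
      · rw [ht'def, hgi, mul_inv_rev, hti]
        calc u ^ i * t * t * (t * (u ^ i)⁻¹) = u ^ i * (t * t) * t * (u ^ i)⁻¹ := by group
          _ = u ^ (2 * i) * t := by rw [htt, mul_one, key]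
    rw [ht'u] at e2
    have e3 : u ^ (-1 : ℤ) = u ^ (2 * i) := mul_right_cancel e2
    rw [zpow_add, ← e3, zpow_neg, zpow_one, inv_mul_cancel]
  -- `N = {1, t}`
  have hcent : ∀ j : ℤ, t * u ^ j = u ^ j * t → u ^ j = 1 := by
    intro j hj
    rw [hconj] at hj
    have e1 : u ^ (-j) = u ^ j := mul_right_cancel hj
    have e2 : u ^ (2 * j) = 1 := by
      rw [two_mul, zpow_add]
      nth_rewrite 1 [← e1]
      rw [← zpow_add, neg_add_cancel, zpow_zero]
    have e3 : u ^ j = (u ^ (2 * i + 1)) ^ j * (u ^ (2 * j)) ^ (-i) := by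
      rw [← zpow_mul, ← zpow_mul, ← zpow_add]
      congr 1
      ring
    rw [e3, hi, e2, one_zpow, one_zpow, one_mul]
  have hN : ∀ n ∈ N, n = 1 ∨ n = t := by
    intro n hn
    have h1 : n * t * n⁻¹ ∈ Y := by
      have := hc.hNY hn
      rw [Subgroup.mem_normalizer_iff] at this
      exact (this t).1 htY
    have h2 : n * t * n⁻¹ = t := by
      rcases hY _ h1 with h | h
      · exfalso
        apply ht1'
        have : t = n⁻¹ * (n * t * n⁻¹) * n := by group
        rw [this, h]; group
      · exact h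
    have h3 : t * n = n * t := by
      calc t * n = (n * t * n⁻¹) * n := by rw [h2]
        _ = n * t := by group
    obtain ⟨j, hj | hj⟩ := hall n
    · left
      rw [hj] at h3 ⊢
      exact hcent j h3
    · right
      rw [hj] at h3 ⊢
      have h4 : t * u ^ j = u ^ j * t := by
        have : t * (u ^ j * t) * t = u ^ j * t * t * t := by rw [h3]
        calc t * u ^ j = t * (u ^ j * t) * t := by
              rw [mul_assoc, mul_assoc, htt, mul_one]
          _ = u ^ j * t * t * t := this
          _ = u ^ j * t := by rw [mul_assoc (u ^ j), htt, mul_one]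
      rw [hcent j h4, one_mul]
  -- conclusion
  intro V hVN _ _ hVne
  obtain ⟨⟨v, hv⟩, hv1'⟩ := (Subgroup.ne_bot_iff_exists_ne_one (H := V)).1 hVne
  have hv1 : v ≠ 1 := fun h => hv1' (Subtype.ext h)
  have hvt : v = t := (hN v (hVN hv)).resolve_left hv1
  apply le_antisymm
  · intro x hx
    rcases hN x (hVN hx) with rfl | rfl
    · exact Y.one_mem
    · exact htY
  · intro y hy
    rcases hY y hy with rfl | rfl
    · exact V.one_mem
    · rw [← hvt]; exact hv

end two

end Cfsg.Agent.Lib.H14.FL
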