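import Mathlib
import Cfsg.Prelude.Def_LieExceptional
import Cfsg.Prelude.Def_Sz
import Cfsg.Agent.Lib.H2.Sz12
import Cfsg.Agent.Lib.H2.Sz13
import Cfsg.Agent.Lib.H2.SzB3
import Cfsg.Agent.Lib.H14.FLCore
import Cfsg.Agent.Lib.H14.FLTwo

/-!
# S2861: the case `L / O_2(L) ≅ Sz(q)`, `q = |Y|`
-/

set_option autoImplicit false
set_option linter.unusedSimpArgs false
set_option linter.unusedSectionVars false
open Cfsg

namespace Cfsg.Agent.Lib.H14.FL

open Matrix Projectivization MulAction Cfsg.Agent.Lib.H2.Sz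

section sz
variable {F : Type*} [Field F] {m : ℕ} [Fintype F] (h : Fld F m)

include h

/-- the centre of the translation group: the translations `T 0 b` -/
def ZS : Subgroup (Cfsg.Sz F m) where
  carrier := {g | ∃ b : F, (g : SpecialLinearGroup (Fin 4) F) = T m 0 b}
  mul_mem' := by
    rintro x y ⟨b, hx⟩ ⟨d, hy⟩
    exact ⟨b + d + θ m 0 * 0, by rw [Subgroup.coe_mul, hx, hy, T_mul h, add_zero]⟩
  one_mem' := ⟨0, by rw [T_zero]; rfl⟩
  inv_mem' := by
    rintro x ⟨b, hx⟩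
    exact ⟨b + θ m 0 * 0, by rw [Subgroup.coe_inv, hx, T_inv h]⟩

theorem ZS_le_TS : ZS h ≤ TS h := by
  rintro x ⟨b, hx⟩
  exact ⟨0, b, hx⟩

theorem mem_ZS_of_sq {x : Cfsg.Sz F m} (hx : x ∈ TS h) (hxx : x * x = 1) : x ∈ ZS h := by
  obtain ⟨a, b, hab⟩ := exists_tS h ⟨x, hx⟩
  have h1 : tS h a b * tS h a b = 1 := by
    rw [← hab]
    exact Subtype.ext hxx
  rw [tS_sq, tS_eq_one_iff] at h1
  have ha : a = 0 := by
    rcases mul_eq_zero.1 h1.2 with h0 | h0
    · exact θ_eq_zero.1 h0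
    · exact h0
  subst ha
  refine ⟨b, ?_⟩
  have := congrArg (fun y : TS h => ((y : Cfsg.Sz F m) : SpecialLinearGroup (Fin 4) F)) hab
  exact this

theorem sq_of_mem_ZS {x : Cfsg.Sz F m} (hx : x ∈ ZS h) : x * x = 1 := by
  obtain ⟨b, hb⟩ := hx
  apply Subtype.ext
  rw [Subgroup.coe_mul, hb, T_mul h, θ_zero, zero_mul, add_zero, add_zero]
  have h2 := h.two
  have : b + b = 0 := by linear_combination b * h2
  rw [this, T_zero]
  rfl

theorem card_ZS : Nat.card (ZS h) = Fintype.card F := by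
  let ψ : F → ZS h := fun b => ⟨⟨T m 0 b, T_mem h 0 b⟩, ⟨b, rfl⟩⟩
  have hbij : Function.Bijective ψ := by
    constructor
    · intro b b' e
      have := congrArg (fun y : ZS h => ((y : Cfsg.Sz F m) : SpecialLinearGroup (Fin 4) F)) e
      exact (T_injective h this).2
    · rintro ⟨x, b, hb⟩
      exact ⟨b, Subtype.ext (Subtype.ext hb.symm)⟩
  rw [← Nat.card_congr (Equiv.ofBijective ψ hbij), Nat.card_eq_fintype_card]

theorem conj_mem_ZS_of_fix (hm : 1 ≤ m) (hF : Fintype.card F = 2 ^ (2 * m + 1))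
    {x : Cfsg.Sz F m} (hx : x • (pinf : Projectivization F (Fin 4 → F)) = pinf) {z : Cfsg.Sz F m}
    (hz : z ∈ ZS h) : x * z * x⁻¹ ∈ ZS h := by
  apply mem_ZS_of_sq h (conj_mem_TS_of_fix h hm hF hx (ZS_le_TS h hz))
  calc x * z * x⁻¹ * (x * z * x⁻¹) = x * (z * z) * x⁻¹ := by group
    _ = 1 := by rw [sq_of_mem_ZS h hz, mul_one, mul_inv_cancel]

theorem normalizer_ZS (hm : 1 ≤ m) (hF : Fintype.card F = 2 ^ (2 * m + 1)) :
    Subgroup.normalizer ((ZS h : Subgroup (Cfsg.Sz F m)) : Set (Cfsg.Sz F m)) =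
      stabilizer (Cfsg.Sz F m) (pinf : Projectivization F (Fin 4 → F)) := by
  ext x
  rw [Subgroup.mem_normalizer_iff, mem_stabilizer_iff]
  constructor
  · intro hx
    have hz : (⟨T m 0 1, T_mem h 0 1⟩ : Cfsg.Sz F m) ∈ ZS h := ⟨1, rfl⟩
    have h1 := (hx _).1 hz
    obtain ⟨b, hb⟩ := h1
    have hne : ¬ ((0 : F) = 0 ∧ b = 0) := by
      rintro ⟨-, rfl⟩
      rw [T_zero] at hb
      have h2 : x * (⟨T m 0 1, T_mem h 0 1⟩ : Cfsg.Sz F m) * x⁻¹ = 1 := Subtype.ext hb
      have h3 : (⟨T m 0 1, T_mem h 0 1⟩ : Cfsg.Sz F m) = 1 := by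
        have : (⟨T m 0 1, T_mem h 0 1⟩ : Cfsg.Sz F m) =
            x⁻¹ * (x * (⟨T m 0 1, T_mem h 0 1⟩ : Cfsg.Sz F m) * x⁻¹) * x := by group
        rw [this, h2]
        group
      have h4 : T m (0 : F) 1 = T m 0 0 := by
        rw [T_zero]
        exact congrArg Subtype.val h3
      exact one_ne_zero (T_injective h h4).2
    apply eq_pinf_of_T_smul h hne (smul_mem_of_mem_Sz x.2 pinf_mem)
    rw [← hb]
    show (x * (⟨T m 0 1, T_mem h 0 1⟩ : Cfsg.Sz F m) * x⁻¹) •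
      x • (pinf : Projectivization F (Fin 4 → F)) = x • pinf
    rw [← mul_smul, inv_mul_cancel_right, mul_smul]
    congr 1
    exact T_smul_pinf 0 1
  · intro hx t
    constructor
    · exact conj_mem_ZS_of_fix h hm hF hx
    · intro ht
      have hx' : x⁻¹ • (pinf : Projectivization F (Fin 4 → F)) = pinf := by
        rw [inv_smul_eq_iff, hx]
      have := conj_mem_ZS_of_fix h hm hF hx' ht
      have e : x⁻¹ * (x * t * x⁻¹) * x⁻¹⁻¹ = t := by group
      rwa [e] at this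

theorem concl_ZS (hm : 1 ≤ m) (hF : Fintype.card F = 2 ^ (2 * m + 1))
    {N : Subgroup (Cfsg.Sz F m)} (hc : Conf 2 (ZS h) N) : Concl 2 (ZS h) N := by
  have : Fact (Nat.Prime 2) := ⟨Nat.prime_two⟩
  have hNs : N ≤ stabilizer (Cfsg.Sz F m) (pinf : Projectivization F (Fin 4 → F)) := by
    rw [← normalizer_ZS h hm hF]
    exact hc.hNY
  have hsN : stabilizer (Cfsg.Sz F m) (pinf : Projectivization F (Fin 4 → F)) ≤ N := by
    apply hc.hmax _ _ (stabilizer_pinf_ne_top h)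
    exact (ZS_le_TS h).trans (TS_le_stabilizer h)
  intro V hVN hNV hVea hVne
  have hVT : V ≤ TS h := by
    apply le_sylow_of_le_normalizer (sylowTS h hm hF) V (elemAb_isPGroup hVea)
    rw [coe_sylowTS, normalizer_TS h hm hF]
    exact hVN.trans hNs
  have hVZ : V ≤ ZS h := by
    intro v hv
    apply mem_ZS_of_sq h (hVT hv)
    have := hVea.2 v hv
    rwa [pow_two] at this
  obtain ⟨⟨v, hv⟩, hv1'⟩ := (Subgroup.ne_bot_iff_exists_ne_one (H := V)).1 hVne
  have hv1 : v ≠ 1 := fun h => hv1' (Subtype.ext h)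
  obtain ⟨b, hb⟩ := hVZ hv
  have hb0 : b ≠ 0 := by
    rintro rfl
    apply hv1
    apply Subtype.ext
    rw [hb, T_zero]
    rfl
  apply le_antisymm hVZ
  rintro z ⟨c, hc'⟩
  by_cases hc0 : c = 0
  · subst hc0
    have : z = 1 := by
      apply Subtype.ext
      rw [hc', T_zero]
      rfl
    rw [this]
    exact V.one_mem
  · obtain ⟨k, hk⟩ := mul_θ_surjective h (c / b)
    simp only at hk
    have hk0 : k ≠ 0 := by
      rintro rfl
      rw [zero_mul] at hk
      exact (div_ne_zero hc0 hb0) hk.symm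
    let d : Cfsg.Sz F m := ⟨D m (Units.mk0 k hk0), D_mem h _⟩
    have hd : d ∈ stabilizer (Cfsg.Sz F m) (pinf : Projectivization F (Fin 4 → F)) := by
      rw [mem_stabilizer_iff, Sz_smul_def h]
      exact D_smul_pinf _
    have h1 := hNV (hsN hd)
    rw [Subgroup.mem_normalizer_iff] at h1
    have h2 := (h1 v).1 hv
    have e : d * v * d⁻¹ = z := by
      apply Subtype.ext
      rw [Subgroup.coe_mul, Subgroup.coe_mul, Subgroup.coe_inv, hb, hc']
      show D m (Units.mk0 k hk0) * T m 0 b * (D m (Units.mk0 k hk0))⁻¹ = T m 0 c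
      rw [D_conj_T h hm hF]
      simp only [Units.val_mk0, mul_zero]
      rw [hk, div_mul_cancel₀ _ hb0]
    rwa [e] at h2

/-- the Suzuki case in the ovoid model -/
theorem concl_sz_model (hm : 1 ≤ m) (hF : Fintype.card F = 2 ^ (2 * m + 1))
    {H : Type*} [Group H] (e : H ≃* Cfsg.Sz F m) {Y N : Subgroup H} (hc : Conf 2 Y N)
    (hcard : Fintype.card F = Nat.card Y) : Concl 2 Y N := by
  classical
  have : Fact (Nat.Prime 2) := ⟨Nat.prime_two⟩
  have hYp : IsPGroup 2 ↥(Y.map e.toMonoidHom) := elemAb_isPGroup (elemAb_map' _ hc.hYea)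
  obtain ⟨P, hP⟩ := hYp.exists_le_sylow
  obtain ⟨s, hs⟩ := exists_conj_TS h hm hF P
  let e' : H ≃* Cfsg.Sz F m := e.trans (MulAut.conj s)
  have he' : ∀ y : H, e' y = s * e y * s⁻¹ := by
    intro y
    simp [e']
  have hYea' : Cfsg.IsElementaryAbelian 2 (Y.map e'.toMonoidHom) := elemAb_map' _ hc.hYea
  have hle : Y.map e'.toMonoidHom ≤ ZS h := by
    rintro x ⟨y, hy, rfl⟩
    apply mem_ZS_of_sq h
    · show e' y ∈ TS h
      rw [he']
      exact (hs _).1 (hP ⟨y, hy, rfl⟩)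
    · have := hYea'.2 (e' y) ⟨y, hy, rfl⟩
      rwa [pow_two] at this
  have hcardY' : Nat.card ↥(Y.map e'.toMonoidHom) = Nat.card Y :=
    Nat.card_congr (Y.equivMapOfInjective e'.toMonoidHom e'.injective).symm.toEquiv
  have : Finite (Cfsg.Sz F m) := inferInstance
  have hYZ : Y.map e'.toMonoidHom = ZS h :=
    Subgroup.eq_of_le_of_card_ge hle (by rw [card_ZS h, hcardY', hcard])
  apply Concl.of_equiv e'
  have h1 := hc.map e'
  rw [hYZ] at h1 ⊢
  exact concl_ZS h hm hF h1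

end sz

/-- the Suzuki case, for the group of `Def_Sz` -/
theorem concl_sz {H : Type*} [Group H] {F : Type*} [Field F] [Fintype F] (m : ℕ)
    (hF : Fintype.card F = 2 ^ (2 * m + 1)) (e : H ≃* ↥(Cfsg.Lie.Sz F (2 ^ (m + 1))))
    {Y N : Subgroup H} (hc : Conf 2 Y N) (hcard : Fintype.card F = Nat.card Y) : Concl 2 Y N := by
  rcases Nat.eq_zero_or_pos m with rfl | hm
  · apply concl_of_card_two hc
    rw [← hcard, hF]
    norm_num
  · have h := fld_of_card hF
    exact concl_sz_model h hm hF (e.trans (Cfsg.Agent.Lib.H2.SzB.bridge h hm hF).symm) hc hcard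

end Cfsg.Agent.Lib.H14.FL
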