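import Mathlib

/-!
# S2863, abstract part: fixed points modulo a central subgroup for a pair of quadratic subgroups

`MS L A C Y₁ Y₂`: `A ⊴ L`, `C` central in `L`, `L = ⟨Y₁, Y₂⟩` with `Y₁, Y₂` abelian, conjugate in `L`,
acting quadratically on `A` (`[A, Yᵢ] ≤ Yᵢ`), `A = (Y₁ ∩ A)(Y₂ ∩ A)`, `(Y₁ ∩ A) ∩ (Y₂ ∩ A) = C` and
`[A, A] ≤ C`.  `Fx C x a` says that `x` fixes `a` modulo `C`.
-/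

set_option autoImplicit false

namespace Cfsg.Agent.Lib.H14.FM

variable {G : Type*} [Group G]

/-- `x` fixes `a` modulo `C` -/
def Fx (C : Subgroup G) (x a : G) : Prop := x * a * x⁻¹ * a⁻¹ ∈ C

structure MS (L A C Y₁ Y₂ : Subgroup G) : Prop where
  hAL : A ≤ L
  hAn : ∀ l ∈ L, ∀ a ∈ A, l * a * l⁻¹ ∈ A
  hCc : ∀ c ∈ C, ∀ l ∈ L, l * c = c * l
  hC1 : C ≤ Y₁ ⊓ A
  hC2 : C ≤ Y₂ ⊓ A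
  hinf : (Y₁ ⊓ A) ⊓ (Y₂ ⊓ A) ≤ C
  h1 : Y₁ ≤ L
  h2 : Y₂ ≤ L
  hgen : L ≤ Y₁ ⊔ Y₂
  hdec : ∀ a ∈ A, ∃ a₁ ∈ Y₁ ⊓ A, ∃ a₂ ∈ Y₂ ⊓ A, a = a₁ * a₂
  hq1 : ∀ u ∈ Y₁, ∀ a ∈ A, u * a * u⁻¹ * a⁻¹ ∈ Y₁
  hc1 : ∀ u ∈ Y₁, ∀ a ∈ Y₁, u * a = a * u
  hq2 : ∀ u ∈ Y₂, ∀ a ∈ A, u * a * u⁻¹ * a⁻¹ ∈ Y₂
  hc2 : ∀ u ∈ Y₂, ∀ a ∈ Y₂, u * a = a * u
  hAA : ∀ a ∈ A, ∀ b ∈ A, a * b * a⁻¹ * b⁻¹ ∈ C
  hsw : ∃ g ∈ L, ∀ x, x ∈ Y₂ ↔ g⁻¹ * x * g ∈ Y₁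

namespace MS

variable {L A C Y₁ Y₂ : Subgroup G}

theorem symm (h : MS L A C Y₁ Y₂) : MS L A C Y₂ Y₁ := by
  refine ⟨h.hAL, h.hAn, h.hCc, h.hC2, h.hC1, ?_, h.h2, h.h1, ?_, ?_, h.hq2, h.hc2, h.hq1, h.hc1,
    h.hAA, ?_⟩
  · rw [inf_comm]; exact h.hinf
  · rw [sup_comm]; exact h.hgen
  · intro a ha
    obtain ⟨a₁, ha₁, a₂, ha₂, e⟩ := h.hdec a⁻¹ (A.inv_mem ha)
    refine ⟨a₂⁻¹, (Y₂ ⊓ A).inv_mem ha₂, a₁⁻¹, (Y₁ ⊓ A).inv_mem ha₁, ?_⟩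
    rw [← mul_inv_rev, ← e, inv_inv]
  · obtain ⟨g, hg, hsw⟩ := h.hsw
    refine ⟨g⁻¹, L.inv_mem hg, fun x => ?_⟩
    rw [inv_inv, hsw]
    have : g⁻¹ * (g * x * g⁻¹) * g = x := by group
    rw [this]

theorem conj_C (h : MS L A C Y₁ Y₂) {c l : G} (hc : c ∈ C) (hl : l ∈ L) : l * c * l⁻¹ = c := by
  rw [h.hCc c hc l hl, mul_inv_cancel_right]

theorem hCA (h : MS L A C Y₁ Y₂) : C ≤ A := h.hC1.trans inf_le_right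

/-- the stabiliser modulo `C` of `a` -/
def Stab (h : MS L A C Y₁ Y₂) (a : G) : Subgroup G where
  carrier := {x | x ∈ L ∧ Fx C x a}
  one_mem' := ⟨L.one_mem, by
    show 1 * a * 1⁻¹ * a⁻¹ ∈ C
    have : 1 * a * 1⁻¹ * a⁻¹ = 1 := by group
    rw [this]; exact C.one_mem⟩
  mul_mem' := by
    rintro x y ⟨hx, hxa⟩ ⟨hy, hya⟩
    refine ⟨L.mul_mem hx hy, ?_⟩
    show x * y * a * (x * y)⁻¹ * a⁻¹ ∈ C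
    have e : x * y * a * (x * y)⁻¹ * a⁻¹ =
        (x * (y * a * y⁻¹ * a⁻¹) * x⁻¹) * (x * a * x⁻¹ * a⁻¹) := by group
    rw [e, h.conj_C hya hx]
    exact C.mul_mem hya hxa
  inv_mem' := by
    rintro x ⟨hx, hxa⟩
    refine ⟨L.inv_mem hx, ?_⟩
    show x⁻¹ * a * x⁻¹⁻¹ * a⁻¹ ∈ C
    have e : x⁻¹ * a * x⁻¹⁻¹ * a⁻¹ = x⁻¹ * (x * a * x⁻¹ * a⁻¹)⁻¹ * x⁻¹⁻¹ := by group
    rw [e, h.conj_C (C.inv_mem hxa) (L.inv_mem hx)]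
    exact C.inv_mem hxa

theorem mem_Stab (h : MS L A C Y₁ Y₂) {a x : G} : x ∈ h.Stab a ↔ x ∈ L ∧ Fx C x a := Iff.rfl

theorem fx_mul (h : MS L A C Y₁ Y₂) {x a b : G} (ha : a ∈ A) (hxa : Fx C x a)
    (hxb : Fx C x b) : Fx C x (a * b) := by
  show x * (a * b) * x⁻¹ * (a * b)⁻¹ ∈ C
  have e : x * (a * b) * x⁻¹ * (a * b)⁻¹ =
      (x * a * x⁻¹ * a⁻¹) * (a * (x * b * x⁻¹ * b⁻¹) * a⁻¹) := by group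
  rw [e, h.conj_C hxb (h.hAL ha)]
  exact C.mul_mem hxa hxb

theorem fx_inv (h : MS L A C Y₁ Y₂) {x a : G} (ha : a ∈ A) (hxa : Fx C x a) :
    Fx C x a⁻¹ := by
  show x * a⁻¹ * x⁻¹ * a⁻¹⁻¹ ∈ C
  have e : x * a⁻¹ * x⁻¹ * a⁻¹⁻¹ = a⁻¹ * (x * a * x⁻¹ * a⁻¹)⁻¹ * a⁻¹⁻¹ := by group
  rw [e, h.conj_C (C.inv_mem hxa) (h.hAL (A.inv_mem ha))]
  exact C.inv_mem hxa

theorem fx_of_comm {x a : G} (hxa : x * a = a * x) : Fx C x a := by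
  show x * a * x⁻¹ * a⁻¹ ∈ C
  rw [hxa, mul_inv_cancel_right, mul_inv_cancel]
  exact C.one_mem

theorem fx_conj (h : MS L A C Y₁ Y₂) {s x a : G} (hs : s ∈ L) (hxa : Fx C x a) :
    Fx C (s * x * s⁻¹) (s * a * s⁻¹) := by
  show s * x * s⁻¹ * (s * a * s⁻¹) * (s * x * s⁻¹)⁻¹ * (s * a * s⁻¹)⁻¹ ∈ C
  have e : s * x * s⁻¹ * (s * a * s⁻¹) * (s * x * s⁻¹)⁻¹ * (s * a * s⁻¹)⁻¹ =
      s * (x * a * x⁻¹ * a⁻¹) * s⁻¹ := by group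
  rw [e, h.conj_C hxa hs]
  exact hxa

theorem A_le_Stab (h : MS L A C Y₁ Y₂) {a : G} (ha : a ∈ A) : A ≤ h.Stab a :=
  fun x hx => ⟨h.hAL hx, h.hAA x hx a ha⟩

theorem Y1_le_Stab (h : MS L A C Y₁ Y₂) {a : G} (ha : a ∈ Y₁) : Y₁ ≤ h.Stab a :=
  fun x hx => ⟨h.h1 hx, fx_of_comm (h.hc1 x hx a ha)⟩

theorem Y2_le_Stab (h : MS L A C Y₁ Y₂) {a : G} (ha : a ∈ Y₂) : Y₂ ≤ h.Stab a :=
  fun x hx => ⟨h.h2 hx, fx_of_comm (h.hc2 x hx a ha)⟩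

/-- the fixed points of `Y₁` modulo `C` are `Y₁ ∩ A` -/
theorem fix_Y1 (h : MS L A C Y₁ Y₂) {a : G} (ha : a ∈ A) (hfix : ∀ u ∈ Y₁, Fx C u a) :
    a ∈ Y₁ := by
  obtain ⟨a₁, ha₁, a₂, ha₂, rfl⟩ := h.hdec a ha
  have hfix2 : ∀ u ∈ Y₁, Fx C u a₂ := by
    intro u hu
    have h1 : Fx C u a₁⁻¹ := fx_of_comm (h.hc1 u hu _ (Y₁.inv_mem ha₁.1))
    have := h.fx_mul (A.inv_mem ha₁.2) h1 (hfix u hu)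
    rwa [inv_mul_cancel_left] at this
  have hL : L ≤ h.Stab a₂ := by
    refine h.hgen.trans (sup_le ?_ (h.Y2_le_Stab ha₂.1))
    intro u hu
    exact ⟨h.h1 hu, hfix2 u hu⟩
  obtain ⟨g, hg, hsw⟩ := h.hsw
  have h3 : g⁻¹ * a₂ * g⁻¹⁻¹ * a₂⁻¹ ∈ C := (hL (L.inv_mem hg)).2
  have h4 : g⁻¹ * a₂ * g ∈ Y₁ := (hsw a₂).1 ha₂.1
  have h5 : a₂ ∈ Y₁ := by
    have e : a₂ = (g⁻¹ * a₂ * g⁻¹⁻¹ * a₂⁻¹)⁻¹ * (g⁻¹ * a₂ * g) := by group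
    rw [e]
    exact Y₁.mul_mem (Y₁.inv_mem (h.hC1 h3).1) h4
  exact Y₁.mul_mem ha₁.1 h5

/-- an element `u` of `Y₁` for which some element of `⟨u, Y₂, A⟩` conjugates `Y₁` into `Y₂ A` has the
same fixed points modulo `C` as `Y₁` -/
theorem fix_u (h : MS L A C Y₁ Y₂) {u n : G} (hu : u ∈ Y₁)
    (hn : n ∈ Subgroup.closure (({u} : Set G) ∪ (Y₂ : Set G) ∪ (A : Set G)))
    (hconj : ∀ y ∈ Y₁, n⁻¹ * y * n ∈ Y₂ ⊔ A) {a : G} (ha : a ∈ A) (hfix : Fx C u a) :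
    a ∈ Y₁ := by
  obtain ⟨a₁, ha₁, a₂, ha₂, rfl⟩ := h.hdec a ha
  have hfix2 : Fx C u a₂ := by
    have h1 : Fx C u a₁⁻¹ := fx_of_comm (h.hc1 u hu _ (Y₁.inv_mem ha₁.1))
    have := h.fx_mul (A.inv_mem ha₁.2) h1 hfix
    rwa [inv_mul_cancel_left] at this
  have hcl : Subgroup.closure (({u} : Set G) ∪ (Y₂ : Set G) ∪ (A : Set G)) ≤ h.Stab a₂ := by
    rw [Subgroup.closure_le]
    rintro x ((hx | hx) | hx)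
    · rw [Set.mem_singleton_iff] at hx
      subst hx
      exact ⟨h.h1 hu, hfix2⟩
    · exact h.Y2_le_Stab ha₂.1 hx
    · exact h.A_le_Stab ha₂.2 hx
  have hnS := hcl hn
  have hnL : n ∈ L := hnS.1
  have hb : n * a₂ * n⁻¹ ∈ A := h.hAn n hnL a₂ ha₂.2
  have hbfix : ∀ y ∈ Y₁, Fx C y (n * a₂ * n⁻¹) := by
    intro y hy
    have h1 : n⁻¹ * y * n ∈ h.Stab a₂ :=
      (sup_le (h.Y2_le_Stab ha₂.1) (h.A_le_Stab ha₂.2)) (hconj y hy)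
    have h2 := h.fx_conj hnL h1.2
    have e : n * (n⁻¹ * y * n) * n⁻¹ = y := by group
    rwa [e] at h2
  have hbY : n * a₂ * n⁻¹ ∈ Y₁ := h.fix_Y1 hb hbfix
  have h5 : a₂ ∈ Y₁ := by
    have e : a₂ = (n * a₂ * n⁻¹ * a₂⁻¹)⁻¹ * (n * a₂ * n⁻¹) := by group
    rw [e]
    exact Y₁.mul_mem (Y₁.inv_mem (h.hC1 hnS.2).1) hbY
  exact Y₁.mul_mem ha₁.1 h5

/-- products `u v` of elements with the fixed points of `Y₁`, `Y₂` are fixed-point-free modulo `C` -/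
theorem fix_uv (h : MS L A C Y₁ Y₂) {u v : G} (hu : u ∈ Y₁) (hv : v ∈ Y₂)
    (hfu : ∀ a ∈ A, Fx C u a → a ∈ Y₁) (hfv : ∀ a ∈ A, Fx C v a → a ∈ Y₂)
    {a : G} (ha : a ∈ A) (hfix : Fx C (u * v) a) : a ∈ C := by
  have hvL := h.h2 hv
  have hb : v * a * v⁻¹ ∈ A := h.hAn v hvL a ha
  have he : v * a * v⁻¹ * a⁻¹ ∈ Y₂ ⊓ A := ⟨h.hq2 v hv a ha, A.mul_mem hb (A.inv_mem ha)⟩
  have hf : u * (v * a * v⁻¹) * u⁻¹ * (v * a * v⁻¹)⁻¹ ∈ Y₁ ⊓ A :=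
    ⟨h.hq1 u hu _ hb, A.mul_mem (h.hAn u (h.h1 hu) _ hb) (A.inv_mem hb)⟩
  have hfe : u * (v * a * v⁻¹) * u⁻¹ * (v * a * v⁻¹)⁻¹ * (v * a * v⁻¹ * a⁻¹) ∈ C := by
    have e : u * (v * a * v⁻¹) * u⁻¹ * (v * a * v⁻¹)⁻¹ * (v * a * v⁻¹ * a⁻¹) =
        u * v * a * (u * v)⁻¹ * a⁻¹ := by group
    rw [e]
    exact hfix
  have hfC : u * (v * a * v⁻¹) * u⁻¹ * (v * a * v⁻¹)⁻¹ ∈ C := by
    apply h.hinf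
    refine ⟨hf, ?_⟩
    have e : u * (v * a * v⁻¹) * u⁻¹ * (v * a * v⁻¹)⁻¹ =
        (u * (v * a * v⁻¹) * u⁻¹ * (v * a * v⁻¹)⁻¹ * (v * a * v⁻¹ * a⁻¹)) *
          (v * a * v⁻¹ * a⁻¹)⁻¹ := by group
    rw [e]
    exact (Y₂ ⊓ A).mul_mem (h.hC2 hfe) ((Y₂ ⊓ A).inv_mem he)
  have heC : v * a * v⁻¹ * a⁻¹ ∈ C := by
    have e : v * a * v⁻¹ * a⁻¹ = (u * (v * a * v⁻¹) * u⁻¹ * (v * a * v⁻¹)⁻¹)⁻¹ *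
        (u * (v * a * v⁻¹) * u⁻¹ * (v * a * v⁻¹)⁻¹ * (v * a * v⁻¹ * a⁻¹)) := by group
    rw [e]
    exact C.mul_mem (C.inv_mem hfC) hfe
  have ha2 : a ∈ Y₂ := hfv a ha heC
  have hb1 : v * a * v⁻¹ ∈ Y₁ := hfu _ hb hfC
  have ha1 : a ∈ Y₁ := by
    have e : a = (v * a * v⁻¹ * a⁻¹)⁻¹ * (v * a * v⁻¹) := by group
    rw [e]
    exact Y₁.mul_mem (Y₁.inv_mem (h.hC1 heC).1) hb1
  exact h.hinf ⟨⟨ha1, ha⟩, ⟨ha2, ha⟩⟩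

end MS

end Cfsg.Agent.Lib.H14.FM
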