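import Mathlib
import Cfsg.Prelude.Def_LocalStructure
import Cfsg.Prelude.Def_CaseTheorems
import Cfsg.Agent.Lib.H14.PReduced4
import Cfsg.Agent.Lib.H14.FLCore
import Cfsg.Agent.Lib.H14.FMPair

/-!
# S2863: the pair structure `MS` for `L ∈ 𝔏_G(Y_M)` and a conjugate `gYg⁻¹`, `g ∈ L ∖ N_L(Y)`
-/

set_option autoImplicit false
set_option linter.unusedSectionVars false
open Cfsg

namespace Cfsg.Agent.Lib.H14.FM

open Cfsg.Agent.Lib.H14 Cfsg.Agent.Lib.H14.FL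

section
variable {G : Type*} [Group G]

/-- the conjugate subgroup `gYg⁻¹` -/
abbrev cjg (g : G) (Y : Subgroup G) : Subgroup G := Y.map (MulAut.conj g).toMonoidHom

theorem mem_cjg {g x : G} {Y : Subgroup G} : x ∈ cjg g Y ↔ g⁻¹ * x * g ∈ Y := by
  constructor
  · rintro ⟨y, hy, rfl⟩
    have : g⁻¹ * (MulAut.conj g).toMonoidHom y * g = y := by
      simp [MulAut.conj_apply, mul_assoc]
    rwa [this]
  · intro hx
    refine ⟨g⁻¹ * x * g, hx, ?_⟩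
    simp [MulAut.conj_apply, mul_assoc]

theorem conj_mem_cjg {g y : G} {Y : Subgroup G} (hy : y ∈ Y) : g * y * g⁻¹ ∈ cjg g Y := by
  rw [mem_cjg]
  have : g⁻¹ * (g * y * g⁻¹) * g = y := by group
  rwa [this]

theorem quad_mem {Z A : Subgroup G} (hAZ : A ≤ Subgroup.normalizer (Z : Set G)) {u a : G}
    (hu : u ∈ Z) (ha : a ∈ A) : u * a * u⁻¹ * a⁻¹ ∈ Z := by
  have h1 := (Subgroup.mem_normalizer_iff.1 (hAZ ha) u⁻¹).1 (Z.inv_mem hu)
  have e : u * a * u⁻¹ * a⁻¹ = u * (a * u⁻¹ * a⁻¹) := by group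
  rw [e]
  exact Z.mul_mem hu h1

theorem conj_mem_of_normalizer {Z : Subgroup G} {a z : G}
    (ha : a ∈ Subgroup.normalizer (Z : Set G)) (hz : z ∈ Z) : a * z * a⁻¹ ∈ Z :=
  (Subgroup.mem_normalizer_iff.1 ha z).1 hz

theorem le_normalizer_of_conj {P K : Subgroup G}
    (h : ∀ k ∈ K, ∀ x ∈ P, k * x * k⁻¹ ∈ P) : K ≤ Subgroup.normalizer (P : Set G) := by
  intro k hk
  rw [Subgroup.mem_normalizer_iff]
  intro x
  constructor
  · exact h k hk x
  · intro hx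
    have := h k⁻¹ (K.inv_mem hk) _ hx
    have e : k⁻¹ * (k * x * k⁻¹) * k⁻¹⁻¹ = x := by group
    rwa [e] at this

end

section
variable {G : Type*} [Group G] [Finite G] {p : ℕ} [Fact p.Prime]

/-- two distinct conjugates of `Y` in `L` generate `L` -/
theorem gen_of_not_mem (M L : Subgroup G) (hL : Cfsg.IsInFrakL p M L) {g : G} (hg : g ∈ L)
    (hgN : g ∉ Subgroup.normalizer ((Cfsg.largestPReducedOf p M : Subgroup G) : Set G)) :
    Cfsg.largestPReducedOf p M ⊔ cjg g (Cfsg.largestPReducedOf p M) = L := by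
  classical
  obtain ⟨hYL, -, -, hmin, -, ⟨hlt, hmaxL⟩, -⟩ := hL
  set Y := Cfsg.largestPReducedOf p M with hYdef
  set NL := L ⊓ Subgroup.normalizer ((Y : Subgroup G) : Set G) with hNLdef
  have hYNL : Y ≤ NL := le_inf hYL Subgroup.le_normalizer
  have hcL : cjg g Y ≤ L := by
    intro x hx
    rw [mem_cjg] at hx
    have := L.mul_mem (L.mul_mem hg (hYL hx)) (L.inv_mem hg)
    have e : g * (g⁻¹ * x * g) * g⁻¹ = x := by group
    rwa [e] at this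
  have hXL : Y ⊔ cjg g Y ≤ L := sup_le hYL hcL
  by_contra hne
  have hX : Y ⊔ cjg g Y ≤ NL := hmaxL _ le_sup_left (lt_of_le_of_ne hXL hne)
  have hcN : cjg g Y ≤ NL := le_sup_right.trans hX
  -- the conjugate of `NL` by `g⁻¹`
  have hY' : Y ≤ cjg g⁻¹ NL := by
    intro y hy
    rw [mem_cjg, inv_inv]
    exact hcN (conj_mem_cjg hy)
  have hN'L : cjg g⁻¹ NL ≤ L := by
    intro x hx
    rw [mem_cjg, inv_inv] at hx
    have := L.mul_mem (L.mul_mem (L.inv_mem hg) (inf_le_left (a := L) hx)) hg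
    have e : g⁻¹ * (g * x * g⁻¹) * g = x := by group
    rwa [e] at this
  have hN'ne : cjg g⁻¹ NL ≠ L := by
    intro heq
    apply lt_irrefl NL
    refine lt_of_lt_of_le hlt ?_
    intro l hl
    have h1 : g⁻¹ * l * g ∈ cjg g⁻¹ NL := by
      rw [heq]
      exact L.mul_mem (L.mul_mem (L.inv_mem hg) hl) hg
    rw [mem_cjg, inv_inv] at h1
    have e : g * (g⁻¹ * l * g) * g⁻¹ = l := by group
    rwa [e] at h1
  have hN'le : cjg g⁻¹ NL ≤ NL := hmaxL _ hY' (lt_of_le_of_ne hN'L hN'ne)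
  have hcard : Nat.card ↥(cjg g⁻¹ NL) = Nat.card ↥NL :=
    Nat.card_congr (NL.equivMapOfInjective (MulAut.conj g⁻¹).toMonoidHom
      (MulAut.conj g⁻¹).injective).symm.toEquiv
  have hN'eq : cjg g⁻¹ NL = NL := Subgroup.eq_of_le_of_card_ge hN'le (by rw [hcard])
  have hgn : g ∈ Subgroup.normalizer ((NL : Subgroup G) : Set G) := by
    have h1 : g⁻¹ ∈ Subgroup.normalizer ((NL : Subgroup G) : Set G) := by
      rw [Subgroup.mem_normalizer_iff]
      intro x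
      have h2 : g⁻¹ * x * g⁻¹⁻¹ ∈ cjg g⁻¹ NL ↔ x ∈ NL := by
        rw [mem_cjg]
        have e : g⁻¹⁻¹ * (g⁻¹ * x * g⁻¹⁻¹) * g⁻¹ = x := by group
        rw [e]
      rw [hN'eq] at h2
      exact h2.symm
    have := (Subgroup.normalizer ((NL : Subgroup G) : Set G)).inv_mem h1
    rwa [inv_inv] at this
  have hNn : L ⊓ Subgroup.normalizer ((NL : Subgroup G) : Set G) = L := by
    by_contra hne2
    have h1 : L ⊓ Subgroup.normalizer ((NL : Subgroup G) : Set G) ≤ NL :=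
      hmaxL _ (hYNL.trans (le_inf inf_le_left Subgroup.le_normalizer))
        (lt_of_le_of_ne inf_le_left hne2)
    exact hgN (inf_le_right (a := L) (h1 ⟨hg, hgn⟩))
  have hLn : L ≤ Subgroup.normalizer ((NL : Subgroup G) : Set G) := by
    rw [← hNn]; exact inf_le_right
  have hnormal : (NL.subgroupOf L).Normal :=
    (Subgroup.normal_subgroupOf_iff_le_normalizer inf_le_left).2 hLn
  have h1 : Y.subgroupOf L ≤ NL.subgroupOf L := by
    intro x hx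
    exact hYNL (Subgroup.mem_subgroupOf.1 hx)
  have h2 : (⊤ : Subgroup ↥L) ≤ NL.subgroupOf L := by
    rw [← hmin.1]
    exact Subgroup.normalClosure_le_normal h1
  apply lt_irrefl NL
  refine lt_of_lt_of_le hlt ?_
  intro l hl
  exact Subgroup.mem_subgroupOf.1 (h2 (Subgroup.mem_top (⟨l, hl⟩ : ↥L)))

/-- the structure `MS` for `Y` and a conjugate -/
theorem ms_of_frakL (M L : Subgroup G) (hL : Cfsg.IsInFrakL p M L) {g : G} (hg : g ∈ L)
    (hgN : g ∉ Subgroup.normalizer ((Cfsg.largestPReducedOf p M : Subgroup G) : Set G)) :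
    MS L (Cfsg.pCoreOf p L)
      (Cfsg.largestPReducedOf p M ⊓ Subgroup.centralizer ((L : Subgroup G) : Set G))
      (Cfsg.largestPReducedOf p M) (cjg g (Cfsg.largestPReducedOf p M)) := by
  classical
  have hgen := gen_of_not_mem M L hL hg hgN
  obtain ⟨hYL, hAcl, hAN, -, -, -, -⟩ := hL
  set Y := Cfsg.largestPReducedOf p M with hYdef
  set A := Cfsg.pCoreOf p L with hAdef
  set C := Y ⊓ Subgroup.centralizer ((L : Subgroup G) : Set G) with hCdef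
  have hYea : Cfsg.IsElementaryAbelian p Y := (largestPReducedOf_props (p := p) M).2.1
  have hAL : A ≤ L := pCoreOf_le p L
  have hAn : ∀ l ∈ L, ∀ a ∈ A, l * a * l⁻¹ ∈ A := fun l hl a ha =>
    conj_mem_of_normalizer (pCoreOf_normalized p L hl) ha
  have hcL : cjg g Y ≤ L := by
    rw [← hgen]; exact le_sup_right
  have hCc : ∀ c ∈ C, ∀ l ∈ L, l * c = c * l := fun c hc l hl =>
    Subgroup.mem_centralizer_iff.1 hc.2 l hl
  have hconjC : ∀ c ∈ C, ∀ l ∈ L, l * c * l⁻¹ = c := fun c hc l hl => by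
    rw [hCc c hc l hl, mul_inv_cancel_right]
  -- `C ≤ A`
  have hCA : C ≤ A := by
    apply le_pCoreOf p L C (inf_le_left.trans hYL)
    · apply le_normalizer_of_conj
      intro l hl c hc
      rw [hconjC c hc l hl]
      exact hc
    · exact (elemAb_isPGroup hYea).to_le inf_le_left
  have hC1 : C ≤ Y ⊓ A := le_inf inf_le_left hCA
  have hC2 : C ≤ cjg g Y ⊓ A := by
    refine le_inf ?_ hCA
    intro c hc
    rw [mem_cjg]
    have := hconjC c hc g⁻¹ (L.inv_mem hg)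
    rw [inv_inv] at this
    rw [this]
    exact hc.1
  -- `A` normalises the conjugate
  have hAN2 : A ≤ Subgroup.normalizer ((cjg g Y : Subgroup G) : Set G) := by
    apply le_normalizer_of_conj
    intro a ha x hx
    rw [mem_cjg] at hx ⊢
    have ha' : g⁻¹ * a * g ∈ A := by
      have := hAn g⁻¹ (L.inv_mem hg) a ha
      rwa [inv_inv] at this
    have := conj_mem_of_normalizer (hAN ha') hx
    have e : g⁻¹ * (a * x * a⁻¹) * g = g⁻¹ * a * g * (g⁻¹ * x * g) * (g⁻¹ * a * g)⁻¹ := by group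
    rw [e]
    exact this
  have hc1 : ∀ u ∈ Y, ∀ a ∈ Y, u * a = a * u := fun u hu a ha => elemAb_comm hYea hu ha
  have hc2 : ∀ u ∈ cjg g Y, ∀ a ∈ cjg g Y, u * a = a * u := by
    intro u hu a ha
    rw [mem_cjg] at hu ha
    have := hc1 _ hu _ ha
    have e1 : u * a = g * ((g⁻¹ * u * g) * (g⁻¹ * a * g)) * g⁻¹ := by group
    have e2 : a * u = g * ((g⁻¹ * a * g) * (g⁻¹ * u * g)) * g⁻¹ := by group
    rw [e1, e2, this]
  have hq1 : ∀ u ∈ Y, ∀ a ∈ A, u * a * u⁻¹ * a⁻¹ ∈ Y := fun u hu a ha => quad_mem hAN hu ha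
  have hq2 : ∀ u ∈ cjg g Y, ∀ a ∈ A, u * a * u⁻¹ * a⁻¹ ∈ cjg g Y :=
    fun u hu a ha => quad_mem hAN2 hu ha
  have hqA : ∀ u ∈ L, ∀ a ∈ A, u * a * u⁻¹ * a⁻¹ ∈ A := fun u hu a ha =>
    A.mul_mem (hAn u hu a ha) (A.inv_mem ha)
  -- intersection
  have hinf : (Y ⊓ A) ⊓ (cjg g Y ⊓ A) ≤ C := by
    rintro x ⟨⟨hx1, -⟩, ⟨hx2, -⟩⟩
    refine ⟨hx1, ?_⟩
    have h1 : Y ≤ Subgroup.centralizer ({x} : Set G) := by
      intro y hy
      rw [Subgroup.mem_centralizer_iff]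
      intro z hz
      rw [Set.mem_singleton_iff] at hz
      subst hz
      exact hc1 _ hx1 _ hy
    have h2 : cjg g Y ≤ Subgroup.centralizer ({x} : Set G) := by
      intro y hy
      rw [Subgroup.mem_centralizer_iff]
      intro z hz
      rw [Set.mem_singleton_iff] at hz
      subst hz
      exact hc2 _ hx2 _ hy
    have h3 : L ≤ Subgroup.centralizer ({x} : Set G) := by
      rw [← hgen]; exact sup_le h1 h2
    apply Subgroup.mem_centralizer_iff.2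
    intro l hl
    have := Subgroup.mem_centralizer_iff.1 (h3 hl) x rfl
    exact this.symm
  -- `A = W₁ W₂`
  have hLP : L ≤ Subgroup.normalizer (((Y ⊓ A) ⊔ (cjg g Y ⊓ A) : Subgroup G) : Set G) := by
    have key : ∀ k, (k ∈ Y ∨ k ∈ cjg g Y) → ∀ x ∈ (Y ⊓ A) ⊔ (cjg g Y ⊓ A),
        k * x * k⁻¹ ∈ (Y ⊓ A) ⊔ (cjg g Y ⊓ A) := by
      intro k hk x hx
      have hkL : k ∈ L := hk.elim (fun h => hYL h) (fun h => hcL h)
      have hmap : ((Y ⊓ A) ⊔ (cjg g Y ⊓ A)).map (MulAut.conj k).toMonoidHom ≤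
          (Y ⊓ A) ⊔ (cjg g Y ⊓ A) := by
        rw [Subgroup.map_sup]
        apply sup_le
        · rintro _ ⟨w, hw, rfl⟩
          show k * w * k⁻¹ ∈ _
          rcases hk with hk | hk
          · rw [hc1 k hk w hw.1, mul_inv_cancel_right]
            exact Subgroup.mem_sup_left hw
          · have e : k * w * k⁻¹ = (k * w * k⁻¹ * w⁻¹) * w := by group
            rw [e]
            exact Subgroup.mul_mem _ (Subgroup.mem_sup_right ⟨hq2 k hk w hw.2, hqA k hkL w hw.2⟩)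
              (Subgroup.mem_sup_left hw)
        · rintro _ ⟨w, hw, rfl⟩
          show k * w * k⁻¹ ∈ _
          rcases hk with hk | hk
          · have e : k * w * k⁻¹ = (k * w * k⁻¹ * w⁻¹) * w := by group
            rw [e]
            exact Subgroup.mul_mem_sup ⟨hq1 k hk w hw.2, hqA k hkL w hw.2⟩ hw
          · rw [hc2 k hk w hw.1, mul_inv_cancel_right]
            exact Subgroup.mem_sup_right hw
      exact hmap ⟨x, hx, rfl⟩
    rw [← hgen]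
    apply sup_le
    · exact le_normalizer_of_conj (fun k hk => key k (Or.inl hk))
    · exact le_normalizer_of_conj (fun k hk => key k (Or.inr hk))
  have hAP : A ≤ (Y ⊓ A) ⊔ (cjg g Y ⊓ A) := by
    have hPL : (Y ⊓ A) ⊔ (cjg g Y ⊓ A) ≤ L := sup_le (inf_le_right.trans hAL) (inf_le_right.trans hAL)
    have hnormal : (((Y ⊓ A) ⊔ (cjg g Y ⊓ A)).subgroupOf L).Normal :=
      (Subgroup.normal_subgroupOf_iff_le_normalizer hPL).2 hLP
    have h1 : (Y ⊓ A).subgroupOf L ≤ ((Y ⊓ A) ⊔ (cjg g Y ⊓ A)).subgroupOf L := by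
      intro x hx
      exact Subgroup.mem_sup_left (Subgroup.mem_subgroupOf.1 hx)
    have h2 := Subgroup.normalClosure_le_normal (N := ((Y ⊓ A) ⊔ (cjg g Y ⊓ A)).subgroupOf L) h1
    intro a ha
    obtain ⟨l, hl, rfl⟩ := hAcl.le ha
    exact Subgroup.mem_subgroupOf.1 (h2 hl)
  have hdec : ∀ a ∈ A, ∃ a₁ ∈ Y ⊓ A, ∃ a₂ ∈ cjg g Y ⊓ A, a = a₁ * a₂ := by
    intro a ha
    have haP := hAP ha
    rw [Subgroup.sup_eq_closure] at haP
    induction haP using Subgroup.closure_induction with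
    | mem x hx =>
      rcases hx with hx | hx
      · exact ⟨x, hx, 1, Subgroup.one_mem _, (mul_one x).symm⟩
      · exact ⟨1, Subgroup.one_mem _, x, hx, (one_mul x).symm⟩
    | one => exact ⟨1, Subgroup.one_mem _, 1, Subgroup.one_mem _, (mul_one 1).symm⟩
    | mul x y hx hy ihx ihy =>
      have hxA : x ∈ A := by
        have : Subgroup.closure (((Y ⊓ A : Subgroup G) : Set G) ∪ ((cjg g Y ⊓ A : Subgroup G) : Set G)) ≤ A := by
          rw [Subgroup.closure_le]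
          rintro z (hz | hz)
          · exact hz.2
          · exact hz.2
        exact this hx
      have hyA : y ∈ A := by
        have : Subgroup.closure (((Y ⊓ A : Subgroup G) : Set G) ∪ ((cjg g Y ⊓ A : Subgroup G) : Set G)) ≤ A := by
          rw [Subgroup.closure_le]
          rintro z (hz | hz)
          · exact hz.2
          · exact hz.2
        exact this hy
      obtain ⟨x₁, hx₁, x₂, hx₂, rfl⟩ := ihx hxA
      obtain ⟨y₁, hy₁, y₂, hy₂, rfl⟩ := ihy hyA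
      refine ⟨x₁ * y₁, (Y ⊓ A).mul_mem hx₁ hy₁, y₁⁻¹ * x₂ * y₁ * y₂, ?_, by group⟩
      refine (cjg g Y ⊓ A).mul_mem ⟨?_, ?_⟩ hy₂
      · have := conj_mem_of_normalizer (hAN2 (A.inv_mem hy₁.2)) hx₂.1
        rwa [inv_inv] at this
      · exact A.mul_mem (A.mul_mem (A.inv_mem hy₁.2) hx₂.2) hy₁.2
    | inv x hx ihx =>
      have hxA : x ∈ A := by
        have : Subgroup.closure (((Y ⊓ A : Subgroup G) : Set G) ∪ ((cjg g Y ⊓ A : Subgroup G) : Set G)) ≤ A := by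
          rw [Subgroup.closure_le]
          rintro z (hz | hz)
          · exact hz.2
          · exact hz.2
        exact this hx
      obtain ⟨x₁, hx₁, x₂, hx₂, rfl⟩ := ihx hxA
      refine ⟨x₁⁻¹, (Y ⊓ A).inv_mem hx₁, x₁ * x₂⁻¹ * x₁⁻¹, ⟨?_, ?_⟩, by group⟩
      · exact conj_mem_of_normalizer (hAN2 hx₁.2) ((cjg g Y).inv_mem hx₂.1)
      · exact A.mul_mem (A.mul_mem hx₁.2 (A.inv_mem hx₂.2)) (A.inv_mem hx₁.2)
  -- `[A, A] ≤ C`
  have hW12 : ∀ w ∈ Y ⊓ A, ∀ b ∈ cjg g Y ⊓ A, w * b * w⁻¹ * b⁻¹ ∈ C := by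
    intro w hw b hb
    apply hinf
    refine ⟨⟨?_, hqA w (hAL hw.2) b hb.2⟩, ⟨?_, hqA w (hAL hw.2) b hb.2⟩⟩
    · exact hq1 w hw.1 b hb.2
    · have h1 := conj_mem_of_normalizer (hAN2 hw.2) hb.1
      exact (cjg g Y).mul_mem h1 ((cjg g Y).inv_mem hb.1)
  have hW21 : ∀ w ∈ cjg g Y ⊓ A, ∀ b ∈ Y ⊓ A, w * b * w⁻¹ * b⁻¹ ∈ C := by
    intro w hw b hb
    have := C.inv_mem (hW12 b hb w hw)
    have e : (b * w * b⁻¹ * w⁻¹)⁻¹ = w * b * w⁻¹ * b⁻¹ := by group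
    rwa [e] at this
  have hW1A : ∀ w ∈ Y ⊓ A, ∀ b ∈ A, w * b * w⁻¹ * b⁻¹ ∈ C := by
    intro w hw b hb
    obtain ⟨b₁, hb₁, b₂, hb₂, rfl⟩ := hdec b hb
    have e : w * (b₁ * b₂) * w⁻¹ * (b₁ * b₂)⁻¹ =
        (w * b₁ * w⁻¹ * b₁⁻¹) * (b₁ * (w * b₂ * w⁻¹ * b₂⁻¹) * b₁⁻¹) := by group
    rw [e, hconjC _ (hW12 w hw b₂ hb₂) b₁ (hAL hb₁.2), hc1 w hw.1 b₁ hb₁.1, mul_inv_cancel_right,
      mul_inv_cancel, one_mul]
    exact hW12 w hw b₂ hb₂
  have hW2A : ∀ w ∈ cjg g Y ⊓ A, ∀ b ∈ A, w * b * w⁻¹ * b⁻¹ ∈ C := by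
    intro w hw b hb
    obtain ⟨b₁, hb₁, b₂, hb₂, hbb⟩ := hdec b⁻¹ (A.inv_mem hb)
    have hb' : b = b₂⁻¹ * b₁⁻¹ := by
      rw [← mul_inv_rev, ← hbb, inv_inv]
    rw [hb']
    have hb₂' : b₂⁻¹ ∈ cjg g Y ⊓ A := (cjg g Y ⊓ A).inv_mem hb₂
    have hb₁' : b₁⁻¹ ∈ Y ⊓ A := (Y ⊓ A).inv_mem hb₁
    have e : w * (b₂⁻¹ * b₁⁻¹) * w⁻¹ * (b₂⁻¹ * b₁⁻¹)⁻¹ =
        (w * b₂⁻¹ * w⁻¹ * b₂⁻¹⁻¹) * (b₂⁻¹ * (w * b₁⁻¹ * w⁻¹ * b₁⁻¹⁻¹) * b₂⁻¹⁻¹) := by group
    rw [e, hconjC _ (hW21 w hw _ hb₁') _ (hAL hb₂'.2), hc2 w hw.1 _ hb₂'.1, mul_inv_cancel_right,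
      mul_inv_cancel, one_mul]
    exact hW21 w hw _ hb₁'
  have hAA : ∀ a ∈ A, ∀ b ∈ A, a * b * a⁻¹ * b⁻¹ ∈ C := by
    intro a ha b hb
    obtain ⟨a₁, ha₁, a₂, ha₂, rfl⟩ := hdec a ha
    have e : a₁ * a₂ * b * (a₁ * a₂)⁻¹ * b⁻¹ =
        (a₁ * (a₂ * b * a₂⁻¹ * b⁻¹) * a₁⁻¹) * (a₁ * b * a₁⁻¹ * b⁻¹) := by group
    rw [e, hconjC _ (hW2A a₂ ha₂ b hb) a₁ (hAL ha₁.2)]
    exact C.mul_mem (hW2A a₂ ha₂ b hb) (hW1A a₁ ha₁ b hb)
  exact ⟨hAL, hAn, hCc, hC1, hC2, hinf, hYL, hcL, hgen.ge, hdec, hq1, hc1, hq2, hc2, hAA,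
    ⟨g, hg, fun x => mem_cjg⟩⟩

end

end Cfsg.Agent.Lib.H14.FM
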