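import Mathlib
import Cfsg.Agent.Lib.H14.FMStruct

/-!
# S2863: the input needed from the quotient `L / O_p(L)`

`Inp p Y`: (swap) for `u ∈ Y ∖ 1` and a conjugate `sYs⁻¹ ≠ Y` some element of `⟨u, sYs⁻¹⟩` conjugates
`sYs⁻¹` onto `Y`; (elems) every element is a `p`-element, or conjugate to a product `u v` of nontrivial
elements of `Y` and of a conjugate `sYs⁻¹ ≠ Y` ("good"), or central with `x u` good for some `u ∈ Y ∖ 1`.
-/

set_option autoImplicit false
set_option linter.unusedSectionVars false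

namespace Cfsg.Agent.Lib.H14.FM

section
variable {H : Type*} [Group H]

/-- `x` is conjugate to a product of nontrivial elements of `Y` and of a different conjugate of `Y` -/
def Good (Y : Subgroup H) (x : H) : Prop :=
  ∃ r s : H, s ∉ Subgroup.normalizer (Y : Set H) ∧ ∃ u ∈ Y, ∃ v ∈ cjg s Y,
    u ≠ 1 ∧ v ≠ 1 ∧ r * x * r⁻¹ = u * v

structure Inp (p : ℕ) (Y : Subgroup H) : Prop where
  swap : ∀ s : H, s ∉ Subgroup.normalizer (Y : Set H) → ∀ u ∈ Y, u ≠ 1 →
    ∃ n ∈ Subgroup.closure (({u} : Set H) ∪ ((cjg s Y : Subgroup H) : Set H)),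
      ∀ y ∈ Y, n⁻¹ * y * n ∈ cjg s Y
  elems : ∀ x : H, (∃ k : ℕ, x ^ (p ^ k) = 1) ∨ Good Y x ∨
    (x ∈ Subgroup.center H ∧ ∃ u ∈ Y, u ≠ 1 ∧ Good Y (x * u))

theorem Good.conj {Y : Subgroup H} {x : H} (t : H) (h : Good Y (t * x * t⁻¹)) : Good Y x := by
  obtain ⟨r, s, hs, u, hu, v, hv, hu1, hv1, e⟩ := h
  refine ⟨r * t, s, hs, u, hu, v, hv, hu1, hv1, ?_⟩
  rw [← e]
  group

variable {K : Type*} [Group K]

theorem mem_normalizer_map_equiv (e : H ≃* K) (Y : Subgroup H) (s : H) :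
    e s ∈ Subgroup.normalizer ((Y.map e.toMonoidHom : Subgroup K) : Set K) ↔
      s ∈ Subgroup.normalizer (Y : Set H) := by
  rw [← Subgroup.map_equiv_normalizer_eq]
  constructor
  · rintro ⟨s', hs', hss⟩
    have : s' = s := e.injective hss
    rwa [← this]
  · intro hs
    exact ⟨s, hs, rfl⟩

theorem mem_cjg_map_equiv (e : H ≃* K) (Y : Subgroup H) (s x : H) :
    e x ∈ cjg (e s) (Y.map e.toMonoidHom) ↔ x ∈ cjg s Y := by
  rw [mem_cjg, mem_cjg]
  constructor
  · rintro ⟨y, hy, hyx⟩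
    have h1 : e y = e (s⁻¹ * x * s) := by
      rw [map_mul, map_mul, map_inv]
      exact hyx
    have : y = s⁻¹ * x * s := e.injective h1
    rwa [← this]
  · intro hx
    refine ⟨s⁻¹ * x * s, hx, ?_⟩
    show e (s⁻¹ * x * s) = _
    rw [map_mul, map_mul, map_inv]

theorem Good.of_equiv (e : H ≃* K) {Y : Subgroup H} {x : H}
    (h : Good (Y.map e.toMonoidHom) (e x)) : Good Y x := by
  obtain ⟨r, s, hs, u, hu, v, hv, hu1, hv1, he⟩ := h
  obtain ⟨r, rfl⟩ := e.surjective r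
  obtain ⟨s, rfl⟩ := e.surjective s
  obtain ⟨u, hu', rfl⟩ := hu
  obtain ⟨v, rfl⟩ := e.surjective v
  refine ⟨r, s, ?_, u, hu', v, ?_, ?_, ?_, ?_⟩
  · intro hcon
    exact hs ((mem_normalizer_map_equiv e Y s).2 hcon)
  · exact (mem_cjg_map_equiv e Y s v).1 hv
  · rintro rfl
    exact hu1 (map_one e)
  · rintro rfl
    exact hv1 (map_one e)
  · apply e.injective
    rw [map_mul, map_mul, map_inv, map_mul]
    exact he

theorem Inp.of_equiv {p : ℕ} (e : H ≃* K) {Y : Subgroup H} (h : Inp p (Y.map e.toMonoidHom)) :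
    Inp p Y := by
  constructor
  · intro s hs u hu hu1
    have hs' : e s ∉ Subgroup.normalizer ((Y.map e.toMonoidHom : Subgroup K) : Set K) :=
      fun hcon => hs ((mem_normalizer_map_equiv e Y s).1 hcon)
    have hu1' : e u ≠ 1 := by
      intro h0
      apply hu1
      apply e.injective
      rw [h0, map_one]
    obtain ⟨n', hn', hconj⟩ := h.swap (e s) hs' (e u) ⟨u, hu, rfl⟩ hu1'
    have hle : Subgroup.closure (({e u} : Set K) ∪
        ((cjg (e s) (Y.map e.toMonoidHom) : Subgroup K) : Set K)) ≤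
        (Subgroup.closure (({u} : Set H) ∪ ((cjg s Y : Subgroup H) : Set H))).map
          e.toMonoidHom := by
      rw [Subgroup.closure_le]
      rintro z (hz | hz)
      · rw [Set.mem_singleton_iff] at hz
        subst hz
        exact ⟨u, Subgroup.subset_closure (Or.inl rfl), rfl⟩
      · obtain ⟨z, rfl⟩ := e.surjective z
        exact ⟨z, Subgroup.subset_closure (Or.inr ((mem_cjg_map_equiv e Y s z).1 hz)), rfl⟩
    obtain ⟨n, hn, rfl⟩ := hle hn'
    refine ⟨n, hn, fun y hy => ?_⟩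
    have := hconj (e y) ⟨y, hy, rfl⟩
    apply (mem_cjg_map_equiv e Y s _).1
    have e1 : e (n⁻¹ * y * n) = (e.toMonoidHom n)⁻¹ * e y * e.toMonoidHom n := by
      rw [map_mul, map_mul, map_inv]
      rfl
    rw [e1]
    exact this
  · intro x
    rcases h.elems (e x) with ⟨k, hk⟩ | hg | ⟨hc, u, hu, hu1, hg⟩
    · left
      refine ⟨k, ?_⟩
      apply e.injective
      rw [map_pow, hk, map_one]
    · right; left
      exact hg.of_equiv e
    · right; right
      obtain ⟨u, hu', rfl⟩ := hu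
      refine ⟨?_, u, hu', ?_, ?_⟩
      · rw [Subgroup.mem_center_iff] at hc ⊢
        intro g
        apply e.injective
        rw [map_mul, map_mul]
        exact hc (e g)
      · rintro rfl
        exact hu1 (map_one e)
      · apply Good.of_equiv e
        rw [map_mul]
        exact hg

end

section sylow
variable {H : Type*} [Group H] [Finite H] {p : ℕ} [Fact p.Prime]

theorem mem_sylow_smul_iff' (g y : H) (P : Sylow p H) :
    y ∈ ((g • P : Sylow p H) : Subgroup H) ↔ g⁻¹ * y * g ∈ (P : Subgroup H) := by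
  rw [Sylow.coe_subgroup_smul, Subgroup.mem_pointwise_smul_iff_inv_smul_mem]
  simp [MulAut.smul_def]

/-- the swapping property from the TI property of the Sylow `p`-subgroups -/
theorem swap_of_ti (Y : Subgroup H) (T₀ : Sylow p H) (hYT : Y ≤ (T₀ : Subgroup H))
    (hti : ∀ P Q : Sylow p H, ∀ x : H, x ≠ 1 → x ∈ (P : Subgroup H) → x ∈ (Q : Subgroup H) → P = Q)
    (hchar : ∀ d : H, d • T₀ = T₀ → ∀ y ∈ Y, d * y * d⁻¹ ∈ Y)
    (s : H) (u : H) (hu : u ∈ Y) (hu1 : u ≠ 1) :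
    ∃ n ∈ Subgroup.closure (({u} : Set H) ∪ ((cjg s Y : Subgroup H) : Set H)),
      ∀ y ∈ Y, n⁻¹ * y * n ∈ cjg s Y := by
  classical
  set D := Subgroup.closure (({u} : Set H) ∪ ((cjg s Y : Subgroup H) : Set H)) with hD
  have huD : u ∈ D := Subgroup.subset_closure (Or.inl rfl)
  have hY2D : cjg s Y ≤ D := fun x hx => Subgroup.subset_closure (Or.inr hx)
  have hz : s * u * s⁻¹ ∈ cjg s Y := conj_mem_cjg hu
  have hz1 : s * u * s⁻¹ ≠ 1 := by
    intro h0
    apply hu1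
    have : u = s⁻¹ * (s * u * s⁻¹) * s := by group
    rw [this, h0]; group
  have hzT : s * u * s⁻¹ ∈ ((s • T₀ : Sylow p H) : Subgroup H) := by
    rw [mem_sylow_smul_iff']
    have : s⁻¹ * (s * u * s⁻¹) * s = u := by group
    rw [this]
    exact hYT hu
  -- Sylow subgroups of `D`
  have hY2p : IsPGroup p ↥((cjg s Y).subgroupOf D) := by
    have h1 : IsPGroup p ↥(cjg s Y) := (T₀.2.to_le hYT).map _
    exact h1.comap_subtype
  obtain ⟨P, hP⟩ := hY2p.exists_le_sylow
  have hup : IsPGroup p ↥((Subgroup.zpowers u).subgroupOf D) := by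
    have h1 : IsPGroup p ↥(Subgroup.zpowers u) :=
      T₀.2.to_le ((Subgroup.zpowers_le).2 (hYT hu))
    exact h1.comap_subtype
  obtain ⟨Q, hQ⟩ := hup.exists_le_sylow
  obtain ⟨d, hd⟩ := MulAction.exists_smul_eq ↥D P Q
  have hud : d⁻¹ * ⟨u, huD⟩ * d ∈ (P : Subgroup ↥D) := by
    have h1 : (⟨u, huD⟩ : ↥D) ∈ (Q : Subgroup ↥D) := hQ (by
      rw [Subgroup.mem_subgroupOf]
      exact Subgroup.mem_zpowers u)
    rw [← hd] at h1
    rw [Sylow.coe_subgroup_smul, Subgroup.mem_pointwise_smul_iff_inv_smul_mem] at h1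
    simpa [MulAut.smul_def] using h1
  -- a Sylow subgroup of `H` containing `P`
  have hP'p : IsPGroup p ↥((P : Subgroup ↥D).map D.subtype) := P.2.map _
  obtain ⟨T', hT'⟩ := hP'p.exists_le_sylow
  have hzT' : s * u * s⁻¹ ∈ (T' : Subgroup H) := by
    apply hT'
    exact ⟨⟨s * u * s⁻¹, hY2D hz⟩, hP (by rw [Subgroup.mem_subgroupOf]; exact hz), rfl⟩
  have hT'eq : T' = s • T₀ := hti _ _ _ hz1 hzT' hzT
  have hudT : (d : H)⁻¹ * u * (d : H) ∈ ((s • T₀ : Sylow p H) : Subgroup H) := by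
    rw [← hT'eq]
    apply hT'
    exact ⟨_, hud, rfl⟩
  have huT : u ∈ ((((d : H) * s) • T₀ : Sylow p H) : Subgroup H) := by
    rw [mem_sylow_smul_iff'] at hudT ⊢
    have e : ((d : H) * s)⁻¹ * u * ((d : H) * s) = s⁻¹ * ((d : H)⁻¹ * u * (d : H)) * s := by group
    rw [e]
    exact hudT
  have hfix : ((d : H) * s) • T₀ = T₀ := hti _ _ _ hu1 huT (hYT hu)
  have hfix' : ((d : H) * s)⁻¹ • T₀ = T₀ := by
    rw [inv_smul_eq_iff, hfix]
  refine ⟨(d : H), d.2, fun y hy => ?_⟩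
  rw [mem_cjg]
  have := hchar _ hfix' y hy
  have e : ((d : H) * s)⁻¹ * y * ((d : H) * s)⁻¹⁻¹ = s⁻¹ * ((d : H)⁻¹ * y * (d : H)) * s := by group
  rwa [e] at this

end sylow

end Cfsg.Agent.Lib.H14.FM
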