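import Mathlib
import Cfsg.Prelude.Def_LocalStructure
import Cfsg.Prelude.Def_CaseTheorems
import Cfsg.Agent.Lib.H14.FMInp

/-!
# S2863: assembly, from the input on `L / O_p(L)` to fixed-point-freeness on `O_p(L) / C_Y(L)`
-/

set_option autoImplicit false
set_option linter.unusedSectionVars false
open Cfsg

namespace Cfsg.Agent.Lib.H14.FM

open Cfsg.Agent.Lib.H14 Cfsg.Agent.Lib.H14.FL

section
variable {G : Type*} [Group G]

/-- the image in `L / O` of a subgroup of `G` -/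
abbrev bar (L : Subgroup G) (O : Subgroup ↥L) [O.Normal] (Z : Subgroup G) : Subgroup (↥L ⧸ O) :=
  (Z.subgroupOf L).map (QuotientGroup.mk' O)

variable {L : Subgroup G} {O : Subgroup ↥L} [O.Normal]

theorem mem_bar {Z : Subgroup G} {z : ↥L ⧸ O} :
    z ∈ bar L O Z ↔ ∃ l : ↥L, (l : G) ∈ Z ∧ QuotientGroup.mk' O l = z := by
  constructor
  · rintro ⟨l, hl, rfl⟩
    exact ⟨l, Subgroup.mem_subgroupOf.1 hl, rfl⟩
  · rintro ⟨l, hl, rfl⟩
    exact ⟨l, Subgroup.mem_subgroupOf.2 hl, rfl⟩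

theorem mk_mem_bar {Z : Subgroup G} {l : ↥L} (hl : (l : G) ∈ Z) :
    QuotientGroup.mk' O l ∈ bar L O Z := mem_bar.2 ⟨l, hl, rfl⟩

theorem bar_cjg (Y : Subgroup G) (g : ↥L) :
    bar L O (cjg (g : G) Y) = cjg (QuotientGroup.mk' O g) (bar L O Y) := by
  ext z
  rw [mem_cjg]
  constructor
  · intro hz
    obtain ⟨l, hl, rfl⟩ := mem_bar.1 hz
    rw [mem_cjg] at hl
    rw [← map_inv, ← map_mul, ← map_mul]
    exact mk_mem_bar hl
  · intro hz
    obtain ⟨y, hy, hyz⟩ := mem_bar.1 hz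
    have e : z = QuotientGroup.mk' O (g * y * g⁻¹) := by
      rw [map_mul, map_mul, map_inv, hyz]
      group
    rw [e]
    apply mk_mem_bar
    exact conj_mem_cjg hy

/-- lifting an equality in the quotient -/
theorem lift_eq {A : Subgroup G} (hmemA : ∀ l : ↥L, l ∈ O ↔ (l : G) ∈ A) {x y : ↥L}
    (h : QuotientGroup.mk' O x = QuotientGroup.mk' O y) : ∃ a ∈ A, (x : G) = (y : G) * a := by
  have h1 : y⁻¹ * x ∈ O := by
    rw [QuotientGroup.mk'_apply, QuotientGroup.mk'_apply, eq_comm, QuotientGroup.eq] at h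
    exact h
  refine ⟨(y : G)⁻¹ * (x : G), (hmemA _).1 h1, ?_⟩
  rw [mul_inv_cancel_left]

/-- lifting the swapping element -/
theorem lift_swap {A : Subgroup G} (hmemA : ∀ l : ↥L, l ∈ O ↔ (l : G) ∈ A)
    (Z₁ Z₂ : Subgroup G) (hZ₁ : Z₁ ≤ L) {w₀ : G} (hw₀ : w₀ ∈ Z₁)
    {n' : ↥L ⧸ O}
    (hn' : n' ∈ Subgroup.closure (({QuotientGroup.mk' O ⟨w₀, hZ₁ hw₀⟩} : Set (↥L ⧸ O)) ∪
      ((bar L O Z₂ : Subgroup (↥L ⧸ O)) : Set (↥L ⧸ O))))
    (hc : ∀ y ∈ bar L O Z₁, n'⁻¹ * y * n' ∈ bar L O Z₂) :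
    ∃ n ∈ Subgroup.closure (({w₀} : Set G) ∪ (Z₂ : Set G) ∪ (A : Set G)),
      ∀ y ∈ Z₁, n⁻¹ * y * n ∈ Z₂ ⊔ A := by
  set cl := Subgroup.closure (({w₀} : Set G) ∪ (Z₂ : Set G) ∪ (A : Set G)) with hcl
  have hle : Subgroup.closure (({QuotientGroup.mk' O ⟨w₀, hZ₁ hw₀⟩} : Set (↥L ⧸ O)) ∪
      ((bar L O Z₂ : Subgroup (↥L ⧸ O)) : Set (↥L ⧸ O))) ≤
      (cl.subgroupOf L).map (QuotientGroup.mk' O) := by
    rw [Subgroup.closure_le]
    rintro z (hz | hz)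
    · rw [Set.mem_singleton_iff] at hz
      subst hz
      refine ⟨⟨w₀, hZ₁ hw₀⟩, ?_, rfl⟩
      rw [SetLike.mem_coe, Subgroup.mem_subgroupOf]
      exact Subgroup.subset_closure (Or.inl (Or.inl rfl))
    · obtain ⟨l, hl, rfl⟩ := mem_bar.1 hz
      refine ⟨l, ?_, rfl⟩
      rw [SetLike.mem_coe, Subgroup.mem_subgroupOf]
      exact Subgroup.subset_closure (Or.inl (Or.inr hl))
  obtain ⟨n₁, hn₁, rfl⟩ := hle hn'
  refine ⟨(n₁ : G), Subgroup.mem_subgroupOf.1 hn₁, fun y hy => ?_⟩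
  have h1 := hc _ (mk_mem_bar (O := O) (l := ⟨y, hZ₁ hy⟩) hy)
  obtain ⟨l₂, hl₂, hl₂e⟩ := mem_bar.1 h1
  have h2 : QuotientGroup.mk' O (n₁⁻¹ * ⟨y, hZ₁ hy⟩ * n₁) = QuotientGroup.mk' O l₂ := by
    rw [hl₂e, map_mul, map_mul, map_inv]
  obtain ⟨a, ha, hxa⟩ := lift_eq hmemA h2
  have e : (n₁ : G)⁻¹ * y * (n₁ : G) = (l₂ : G) * a := hxa
  rw [e]
  exact Subgroup.mul_mem_sup hl₂ ha

end

section main
variable {G : Type*} [Group G] [Finite G] {p : ℕ} [Fact p.Prime]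

theorem mem_pCore_iff (L : Subgroup G) (l : ↥L) :
    l ∈ Cfsg.pCore p ↥L ↔ (l : G) ∈ Cfsg.pCoreOf p L := by
  constructor
  · intro hl
    exact ⟨l, hl, rfl⟩
  · rintro ⟨y, hy, hyl⟩
    have : y = l := Subtype.ext hyl
    rwa [← this]

/-- elements whose image is good act fixed-point-freely modulo `C` -/
theorem fpf_of_good (M L : Subgroup G) (hL : Cfsg.IsInFrakL p M L)
    (hinp : Inp p (bar L (Cfsg.pCore p ↥L) (Cfsg.largestPReducedOf p M)))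
    (h' : ↥L) (hgood : Good (bar L (Cfsg.pCore p ↥L) (Cfsg.largestPReducedOf p M))
      (QuotientGroup.mk' (Cfsg.pCore p ↥L) h'))
    (b : G) (hb : b ∈ Cfsg.pCoreOf p L)
    (hfix : Fx (Cfsg.largestPReducedOf p M ⊓ Subgroup.centralizer ((L : Subgroup G) : Set G))
      (h' : G) b) :
    b ∈ Cfsg.largestPReducedOf p M ⊓ Subgroup.centralizer ((L : Subgroup G) : Set G) := by
  classical
  have hYL : Cfsg.largestPReducedOf p M ≤ L := hL.1
  set Y := Cfsg.largestPReducedOf p M with hYdef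
  set A := Cfsg.pCoreOf p L with hAdef
  set O := Cfsg.pCore p ↥L with hOdef
  set C := Y ⊓ Subgroup.centralizer ((L : Subgroup G) : Set G) with hCdef
  have hmemA : ∀ l : ↥L, l ∈ O ↔ (l : G) ∈ A := mem_pCore_iff L
  obtain ⟨r, s, hs, u, hu, v, hv, hu1, hv1, he⟩ := hgood
  obtain ⟨r₀, rfl⟩ := QuotientGroup.mk'_surjective O r
  obtain ⟨g, rfl⟩ := QuotientGroup.mk'_surjective O s
  obtain ⟨u₀, hu₀, rfl⟩ := mem_bar.1 hu
  rw [← bar_cjg] at hv
  obtain ⟨v₀, hv₀, rfl⟩ := mem_bar.1 hv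
  -- `g` does not normalise `Y`
  have hgN : (g : G) ∉ Subgroup.normalizer ((Y : Subgroup G) : Set G) := by
    intro hcon
    apply hs
    apply le_normalizer_of_conj (K := Subgroup.zpowers (QuotientGroup.mk' O g)) (P := bar L O Y) ?_
      (Subgroup.mem_zpowers _)
    intro k hk x hx
    obtain ⟨i, rfl⟩ := Subgroup.mem_zpowers_iff.1 hk
    obtain ⟨y, hy, rfl⟩ := mem_bar.1 hx
    rw [← map_zpow, ← map_inv, ← map_mul, ← map_mul]
    apply mk_mem_bar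
    have hgi : ((g ^ i : ↥L) : G) ∈ Subgroup.normalizer ((Y : Subgroup G) : Set G) := by
      rw [SubgroupClass.coe_zpow]
      exact Subgroup.zpow_mem _ hcon i
    exact conj_mem_of_normalizer hgi hy
  have ms := ms_of_frakL M L hL g.2 hgN
  -- fixed points of `u₀`
  have hfu : ∀ a ∈ A, Fx C (u₀ : G) a → a ∈ Y := by
    obtain ⟨n', hn', hc⟩ := hinp.swap _ hs _ hu hu1
    rw [← bar_cjg] at hn' hc
    obtain ⟨n, hn, hconj⟩ := lift_swap hmemA Y (cjg (g : G) Y) hYL hu₀ hn' hc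
    intro a ha hfa
    exact ms.fix_u hu₀ hn hconj ha hfa
  -- fixed points of `v₀`
  have hs' : (QuotientGroup.mk' O g)⁻¹ ∉ Subgroup.normalizer ((bar L O Y : Subgroup (↥L ⧸ O)) :
      Set (↥L ⧸ O)) := by
    intro hcon
    apply hs
    have := Subgroup.inv_mem _ hcon
    rwa [inv_inv] at this
  have hfv : ∀ a ∈ A, Fx C (v₀ : G) a → a ∈ cjg (g : G) Y := by
    have hu' : (QuotientGroup.mk' O g)⁻¹ * QuotientGroup.mk' O v₀ * QuotientGroup.mk' O g ∈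
        bar L O Y := by
      have := mk_mem_bar (O := O) hv₀
      rw [bar_cjg, mem_cjg] at this
      exact this
    have hu'1 : (QuotientGroup.mk' O g)⁻¹ * QuotientGroup.mk' O v₀ * QuotientGroup.mk' O g ≠ 1 := by
      intro h0
      apply hv1
      have : QuotientGroup.mk' O v₀ = QuotientGroup.mk' O g *
          ((QuotientGroup.mk' O g)⁻¹ * QuotientGroup.mk' O v₀ * QuotientGroup.mk' O g) *
          (QuotientGroup.mk' O g)⁻¹ := by group
      rw [this, h0]; group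
    obtain ⟨n'', hn'', hc''⟩ := hinp.swap _ hs' _ hu' hu'1
    -- conjugate back by `s`
    set s := QuotientGroup.mk' O g with hsdef
    have hn2 : s * n'' * s⁻¹ ∈ Subgroup.closure (({QuotientGroup.mk' O ⟨(v₀ : G),
        ms.h2 hv₀⟩} : Set (↥L ⧸ O)) ∪ ((bar L O Y : Subgroup (↥L ⧸ O)) : Set (↥L ⧸ O))) := by
      have hle : Subgroup.closure (({s⁻¹ * QuotientGroup.mk' O v₀ * s} : Set (↥L ⧸ O)) ∪
          ((cjg s⁻¹ (bar L O Y) : Subgroup (↥L ⧸ O)) : Set (↥L ⧸ O))) ≤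
          (Subgroup.closure (({QuotientGroup.mk' O ⟨(v₀ : G), ms.h2 hv₀⟩} : Set (↥L ⧸ O)) ∪
            ((bar L O Y : Subgroup (↥L ⧸ O)) : Set (↥L ⧸ O)))).comap
            (MulAut.conj s).toMonoidHom := by
        rw [Subgroup.closure_le]
        rintro z (hz | hz)
        · rw [Set.mem_singleton_iff] at hz
          subst hz
          rw [SetLike.mem_coe, Subgroup.mem_comap]
          apply Subgroup.subset_closure
          left
          rw [Set.mem_singleton_iff]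
          show s * (s⁻¹ * QuotientGroup.mk' O v₀ * s) * s⁻¹ = _
          have : (⟨(v₀ : G), ms.h2 hv₀⟩ : ↥L) = v₀ := rfl
          rw [this]
          group
        · rw [SetLike.mem_coe, mem_cjg, inv_inv] at hz
          rw [SetLike.mem_coe, Subgroup.mem_comap]
          apply Subgroup.subset_closure
          right
          exact hz
      have := hle hn''
      rw [Subgroup.mem_comap] at this
      exact this
    have hc2 : ∀ y ∈ bar L O (cjg (g : G) Y), (s * n'' * s⁻¹)⁻¹ * y * (s * n'' * s⁻¹) ∈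
        bar L O Y := by
      intro y hy
      rw [bar_cjg, mem_cjg] at hy
      have := hc'' _ hy
      rw [mem_cjg, inv_inv] at this
      have e : (s * n'' * s⁻¹)⁻¹ * y * (s * n'' * s⁻¹) =
          s * (n''⁻¹ * (s⁻¹ * y * s) * n'') * s⁻¹ := by group
      rw [e]
      exact this
    obtain ⟨n, hn, hconj⟩ := lift_swap hmemA (cjg (g : G) Y) Y ms.h2 hv₀ hn2 hc2
    intro a ha hfa
    exact ms.symm.fix_u hv₀ hn hconj ha hfa
  -- the product
  have huv : ∀ a ∈ A, Fx C ((u₀ : G) * (v₀ : G)) a → a ∈ C :=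
    fun a ha hfa => ms.fix_uv hu₀ hv₀ hfu hfv ha hfa
  -- transfer to `h'`
  have he' : QuotientGroup.mk' O (r₀ * h' * r₀⁻¹) = QuotientGroup.mk' O (u₀ * v₀) := by
    rw [map_mul, map_mul, map_inv, map_mul]
    exact he
  obtain ⟨a', ha', hxa⟩ := lift_eq hmemA he'
  have hxa' : (r₀ : G) * (h' : G) * (r₀ : G)⁻¹ = (u₀ : G) * (v₀ : G) * a' := hxa
  have hb' : (r₀ : G) * b * (r₀ : G)⁻¹ ∈ A := ms.hAn _ r₀.2 b hb
  have h1 : Fx C ((r₀ : G) * (h' : G) * (r₀ : G)⁻¹) ((r₀ : G) * b * (r₀ : G)⁻¹) :=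
    ms.fx_conj r₀.2 hfix
  rw [hxa'] at h1
  have h2 : (u₀ : G) * (v₀ : G) * a' ∈ ms.Stab ((r₀ : G) * b * (r₀ : G)⁻¹) :=
    ⟨L.mul_mem (L.mul_mem u₀.2 v₀.2) (ms.hAL ha'), h1⟩
  have h3 : (u₀ : G) * (v₀ : G) ∈ ms.Stab ((r₀ : G) * b * (r₀ : G)⁻¹) := by
    have := (ms.Stab _).mul_mem h2 ((ms.Stab _).inv_mem (ms.A_le_Stab hb' ha'))
    rwa [mul_inv_cancel_right] at this
  have h4 := huv _ hb' h3.2
  have h5 := ms.conj_C h4 (L.inv_mem r₀.2)
  have e : (r₀ : G)⁻¹ * ((r₀ : G) * b * (r₀ : G)⁻¹) * (r₀ : G)⁻¹⁻¹ = b := by group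
  rw [e] at h5
  rw [h5]
  exact h4

/-- the main assembly: the input on `L / O_p(L)` gives fixed-point-freeness of every element of
non-`p`-power order -/
theorem fpf_of_inp (M L : Subgroup G) (hL : Cfsg.IsInFrakL p M L)
    (hinp : Inp p (bar L (Cfsg.pCore p ↥L) (Cfsg.largestPReducedOf p M)))
    (h : G) (hh : h ∈ L) (hnp : ¬ ∃ k : ℕ, orderOf h = p ^ k) :
    ∀ a ∈ Cfsg.pCoreOf p L,
      h * a * h⁻¹ * a⁻¹ ∈ Cfsg.largestPReducedOf p M ⊓
        Subgroup.centralizer ((L : Subgroup G) : Set G) →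
      a ∈ Cfsg.largestPReducedOf p M ⊓ Subgroup.centralizer ((L : Subgroup G) : Set G) := by
  classical
  intro a ha hfix
  have hYL : Cfsg.largestPReducedOf p M ≤ L := hL.1
  have hlt := hL.2.2.2.2.2.1.1
  set Y := Cfsg.largestPReducedOf p M with hYdef
  set A := Cfsg.pCoreOf p L with hAdef
  set O := Cfsg.pCore p ↥L with hOdef
  set C := Y ⊓ Subgroup.centralizer ((L : Subgroup G) : Set G) with hCdef
  have hmemA : ∀ l : ↥L, l ∈ O ↔ (l : G) ∈ A := mem_pCore_iff L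
  have hfix' : Fx C h a := hfix
  rcases hinp.elems (QuotientGroup.mk' O ⟨h, hh⟩) with ⟨k, hk⟩ | hgood | ⟨hcen, u, hu, hu1, hgood⟩
  · -- `p`-element
    exfalso
    apply hnp
    have h1 : (⟨h, hh⟩ : ↥L) ^ (p ^ k) ∈ O := by
      rw [← map_pow] at hk
      exact (QuotientGroup.eq_one_iff _).1 hk
    have h2 : h ^ (p ^ k) ∈ A := by
      have := (hmemA _).1 h1
      rwa [SubgroupClass.coe_pow] at this
    obtain ⟨j, hj⟩ := (pCoreOf_isPGroup p L) ⟨h ^ (p ^ k), h2⟩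
    have h3 : (h ^ (p ^ k)) ^ (p ^ j) = 1 := by
      have := congrArg Subtype.val hj
      simpa using this
    rw [← pow_mul, ← pow_add] at h3
    have h4 : orderOf h ∣ p ^ (k + j) := orderOf_dvd_of_pow_eq_one h3
    obtain ⟨i, -, hi⟩ := (Nat.dvd_prime_pow Fact.out).1 h4
    exact ⟨i, hi⟩
  · exact fpf_of_good M L hL hinp ⟨h, hh⟩ hgood a ha hfix'
  · -- central case
    obtain ⟨u₀, hu₀, rfl⟩ := mem_bar.1 hu
    obtain ⟨g, hgL, hgN⟩ := SetLike.exists_of_lt hlt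
    have hgN' : g ∉ Subgroup.normalizer ((Y : Subgroup G) : Set G) := fun hcon => hgN ⟨hgL, hcon⟩
    have ms := ms_of_frakL M L hL hgL hgN'
    have hgood' : Good (bar L O Y) (QuotientGroup.mk' O (⟨h, hh⟩ * u₀)) := by
      rw [map_mul]; exact hgood
    have hkey : ∀ b ∈ A, Fx C (h * (u₀ : G)) b → b ∈ C := fun b hb hfb =>
      fpf_of_good M L hL hinp (⟨h, hh⟩ * u₀) hgood' b hb hfb
    -- `u₀⁻¹ h u₀ = h a₃`
    have ha3 : h⁻¹ * (u₀ : G)⁻¹ * h * (u₀ : G) ∈ A := by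
      have h1 : (⟨h, hh⟩ : ↥L)⁻¹ * u₀⁻¹ * ⟨h, hh⟩ * u₀ ∈ O := by
        rw [← QuotientGroup.eq_one_iff, ← QuotientGroup.mk'_apply, map_mul, map_mul, map_mul,
          map_inv, map_inv]
        rw [Subgroup.mem_center_iff] at hcen
        have := hcen (QuotientGroup.mk' O u₀)⁻¹
        rw [mul_assoc ((QuotientGroup.mk' O ⟨h, hh⟩)⁻¹), this]
        group
      exact (hmemA _).1 h1
    have hconj : Fx C h ((u₀ : G) * a * (u₀ : G)⁻¹) := by
      have h1 : h * (h⁻¹ * (u₀ : G)⁻¹ * h * (u₀ : G)) ∈ ms.Stab a :=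
        (ms.Stab a).mul_mem ⟨hh, hfix'⟩ (ms.A_le_Stab ha ha3)
      have h2 := ms.fx_conj u₀.2 h1.2
      have e : (u₀ : G) * (h * (h⁻¹ * (u₀ : G)⁻¹ * h * (u₀ : G))) * (u₀ : G)⁻¹ = h := by group
      rwa [e] at h2
    have hb : (u₀ : G) * a * (u₀ : G)⁻¹ * a⁻¹ ∈ Y ⊓ A :=
      ⟨ms.hq1 _ hu₀ a ha, A.mul_mem (ms.hAn _ u₀.2 a ha) (A.inv_mem ha)⟩
    have hfb : Fx C h ((u₀ : G) * a * (u₀ : G)⁻¹ * a⁻¹) :=
      ms.fx_mul (ms.hAn _ u₀.2 a ha) hconj (ms.fx_inv ha hfix')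
    have hfb' : Fx C (u₀ : G) ((u₀ : G) * a * (u₀ : G)⁻¹ * a⁻¹) :=
      MS.fx_of_comm (ms.hc1 _ hu₀ _ hb.1)
    have h3 : h * (u₀ : G) ∈ ms.Stab ((u₀ : G) * a * (u₀ : G)⁻¹ * a⁻¹) :=
      (ms.Stab _).mul_mem ⟨hh, hfb⟩ ⟨u₀.2, hfb'⟩
    have hbC := hkey _ hb.2 h3.2
    have h4 : h * (u₀ : G) ∈ ms.Stab a := (ms.Stab a).mul_mem ⟨hh, hfix'⟩ ⟨u₀.2, hbC⟩
    exact hkey a ha h4.2

end main

end Cfsg.Agent.Lib.H14.FM
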