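import Mathlib
import Cfsg.Prelude.Def_LocalStructure
import Cfsg.Prelude.Def_CaseTheorems
import Cfsg.Agent.Lib.H14.FLPlumb
import Cfsg.Agent.Lib.H14.FMAsm

/-!
# S2863: the abstract configuration `Conf` for the image of `Y` in `L / O_p(L)` (explicit form)
-/

set_option autoImplicit false
set_option linter.unusedSectionVars false
open Cfsg

namespace Cfsg.Agent.Lib.H14.FM

open Cfsg.Agent.Lib.H14 Cfsg.Agent.Lib.H14.FL

section
variable {G : Type*} [Group G] [Finite G] {p : ℕ} [Fact p.Prime]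

theorem conf_bar (M L : Subgroup G) (hL : Cfsg.IsInFrakL p M L) :
    Conf p (bar L (Cfsg.pCore p ↥L) (Cfsg.largestPReducedOf p M))
      (bar L (Cfsg.pCore p ↥L)
        (L ⊓ Subgroup.normalizer ((Cfsg.largestPReducedOf p M : Subgroup G) : Set G))) ∧
    Nat.card ↥(bar L (Cfsg.pCore p ↥L) (Cfsg.largestPReducedOf p M)) =
      (Cfsg.largestPReducedOf p M ⊓ Cfsg.pCoreOf p L).relIndex (Cfsg.largestPReducedOf p M) := by
  classical
  obtain ⟨hYL, -, hAN, hmin, -, ⟨hlt, hmaxL⟩, -⟩ := hL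
  set Y := Cfsg.largestPReducedOf p M with hYdef
  set A := Cfsg.pCoreOf p L with hAdef
  set O := Cfsg.pCore p ↥L with hOdef
  set NL := L ⊓ Subgroup.normalizer ((Y : Subgroup G) : Set G) with hNLdef
  have hYea : Cfsg.IsElementaryAbelian p Y := (largestPReducedOf_props (p := p) M).2.1
  have hNLL : NL ≤ L := inf_le_left
  have hYNL : Y ≤ NL := le_inf hYL Subgroup.le_normalizer
  have hAL : A ≤ L := Subgroup.map_subtype_le _
  have hANL : A ≤ NL := le_inf hAL hAN
  have hmemA : ∀ l : ↥L, l ∈ O ↔ (l : G) ∈ A := mem_pCore_iff L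
  have hYA : ¬ Y ≤ A := by
    intro hle
    have h1 : Y.subgroupOf L ≤ O := by
      intro x hx
      exact (hmemA x).2 (hle (Subgroup.mem_subgroupOf.1 hx))
    have h2 : (⊤ : Subgroup ↥L) ≤ O := by
      rw [← hmin.1]
      exact Subgroup.normalClosure_le_normal h1
    have h3 : L ≤ A := by
      intro l hl
      exact (hmemA ⟨l, hl⟩).1 (h2 trivial)
    have h4 : L ≤ NL := le_inf le_rfl (h3.trans hAN)
    exact lt_irrefl _ (lt_of_lt_of_le hlt h4)
  have hrange : ∀ l : ↥L, QuotientGroup.mk' O l ∈ bar L O NL ↔ (l : G) ∈ NL := by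
    intro l
    constructor
    · intro hl
      obtain ⟨l', hl', hll⟩ := mem_bar.1 hl
      obtain ⟨a, ha, hxa⟩ := lift_eq hmemA hll.symm
      rw [hxa]
      exact NL.mul_mem hl' (hANL ha)
    · intro hl
      exact mk_mem_bar hl
  refine ⟨⟨?_, ?_, ?_, ?_, elemAb_map' _ (elemAb_subgroupOf hYea L), ?_, ?_⟩, ?_⟩
  · exact Subgroup.map_mono (fun x hx => hYNL (Subgroup.mem_subgroupOf.1 hx))
  · apply le_normalizer_of_conj
    intro k hk x hx
    obtain ⟨l, hl, rfl⟩ := mem_bar.1 hk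
    obtain ⟨y, hy, rfl⟩ := mem_bar.1 hx
    rw [← map_inv, ← map_mul, ← map_mul]
    apply mk_mem_bar
    exact conj_mem_of_normalizer (inf_le_right (a := L) hl) hy
  · intro X hYX hX
    let X' : Subgroup G := (X.comap (QuotientGroup.mk' O)).map L.subtype
    have hX'L : X' ≤ L := Subgroup.map_subtype_le _
    have hYX' : Y ≤ X' := by
      intro y hy
      refine ⟨⟨y, hYL hy⟩, ?_, rfl⟩
      exact hYX (mk_mem_bar (l := ⟨y, hYL hy⟩) hy)
    have hX'ne : X' ≠ L := by
      intro heq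
      apply hX
      rw [eq_top_iff]
      intro z _
      obtain ⟨l, rfl⟩ := QuotientGroup.mk'_surjective O z
      have : (l : G) ∈ X' := by rw [heq]; exact l.2
      obtain ⟨l', hl', hll⟩ := this
      have : l' = l := Subtype.ext hll
      rw [← this]
      exact hl'
    have h1 := hmaxL X' hYX' (lt_of_le_of_ne hX'L hX'ne)
    intro z hz
    obtain ⟨l, rfl⟩ := QuotientGroup.mk'_surjective O z
    rw [hrange]
    exact h1 ⟨l, hz, rfl⟩
  · intro htop
    obtain ⟨l, hlL, hlN⟩ := SetLike.exists_of_lt hlt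
    apply hlN
    have : QuotientGroup.mk' O ⟨l, hlL⟩ ∈ bar L O NL := by rw [htop]; trivial
    exact (hrange _).1 this
  · intro hbot
    apply hYA
    intro y hy
    have h1 : QuotientGroup.mk' O ⟨y, hYL hy⟩ ∈ bar L O Y := mk_mem_bar (l := ⟨y, hYL hy⟩) hy
    rw [hbot, Subgroup.mem_bot, QuotientGroup.mk'_apply, QuotientGroup.eq_one_iff, hmemA] at h1
    exact h1
  · have := Subgroup.map_normalClosure ((Y.subgroupOf L : Subgroup ↥L) : Set ↥L)
      (QuotientGroup.mk' O) (QuotientGroup.mk'_surjective O)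
    rw [hmin.1] at this
    rw [Subgroup.coe_map, ← this, eq_top_iff]
    intro z _
    obtain ⟨l, rfl⟩ := QuotientGroup.mk'_surjective O z
    exact ⟨l, trivial, rfl⟩
  · rw [← Subgroup.relIndex_ker, QuotientGroup.ker_mk', Subgroup.inf_relIndex_left,
      ← Subgroup.relIndex_subgroupOf hYL]
    congr 1
    ext l
    rw [Subgroup.mem_subgroupOf, hmemA]

end

end Cfsg.Agent.Lib.H14.FM
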