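import Mathlib
import Cfsg.Agent.Lib.H2.SL2Sylow
import Cfsg.Agent.Lib.H14.FLSL2
import Cfsg.Agent.Lib.H14.FMInp

/-!
# S2863: the input `Inp` for `SL₂(F)` and its upper unitriangular subgroup
-/

set_option autoImplicit false
set_option linter.unusedSectionVars false
set_option linter.unusedSimpArgs false
open Cfsg

namespace Cfsg.Agent.Lib.H14.FM

open Matrix Cfsg.Agent.Lib.H2.SL2 Cfsg.Agent.Lib.H14.FL

section sl2
variable {F : Type*} [Field F]

/-- a matrix of determinant one -/
def mkSL (a b c d : F) (h : a * d - b * c = 1) : SpecialLinearGroup (Fin 2) F :=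
  ⟨!![a, b; c, d], by rw [Matrix.det_fin_two_of]; exact h⟩

theorem mkSL_val (a b c d : F) (h : a * d - b * c = 1) :
    ((mkSL a b c d h : SpecialLinearGroup (Fin 2) F) : Matrix (Fin 2) (Fin 2) F) =
      !![a, b; c, d] := rfl

/-- the key factorisation: an element with nonzero lower left entry -/
theorem key_fact' (x : SpecialLinearGroup (Fin 2) F) (a b c d : F)
    (ha : (x : Matrix (Fin 2) (Fin 2) F) 0 0 = a) (hb : (x : Matrix (Fin 2) (Fin 2) F) 0 1 = b)
    (hc' : (x : Matrix (Fin 2) (Fin 2) F) 1 0 = c) (hd : (x : Matrix (Fin 2) (Fin 2) F) 1 1 = d)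
    (hc : c ≠ 0) :
    x * mkSL ((1 - d) / c) (-1) 1 0 (by ring) =
      uSL ((a + d - 2) / c) * mkSL ((1 - d) / c) (-1) 1 0 (by ring) * uSL (-c) := by
  have hdet := det_eq_one x
  rw [ha, hb, hc', hd] at hdet
  apply ext_entries <;>
    simp only [mul_val, uSL_val, mkSL_val, Matrix.of_apply, Matrix.cons_val', Matrix.cons_val_zero,
      Matrix.cons_val_one, Matrix.empty_val', Matrix.cons_val_fin_one, ha, hb, hc', hd]
  · field_simp
    linear_combination (-1) * hdet
  · field_simp
    ring
  · field_simp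
    ring
  · ring

theorem key_fact (x : SpecialLinearGroup (Fin 2) F)
    (hc : (x : Matrix (Fin 2) (Fin 2) F) 1 0 ≠ 0) :
    x * mkSL ((1 - (x : Matrix (Fin 2) (Fin 2) F) 1 1) / (x : Matrix (Fin 2) (Fin 2) F) 1 0)
        (-1) 1 0 (by ring) =
      uSL (((x : Matrix (Fin 2) (Fin 2) F) 0 0 + (x : Matrix (Fin 2) (Fin 2) F) 1 1 - 2) /
        (x : Matrix (Fin 2) (Fin 2) F) 1 0) *
      mkSL ((1 - (x : Matrix (Fin 2) (Fin 2) F) 1 1) / (x : Matrix (Fin 2) (Fin 2) F) 1 0)
        (-1) 1 0 (by ring) * uSL (-(x : Matrix (Fin 2) (Fin 2) F) 1 0) :=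
  key_fact' x _ _ _ _ rfl rfl rfl rfl hc

theorem uSL_pow (t : F) (n : ℕ) : uSL t ^ n = uSL (n • t) := by
  induction n with
  | zero => rw [pow_zero, zero_smul, uSL_zero]
  | succ n ih => rw [pow_succ, ih, succ_nsmul, uSL_add]

theorem uSL_pow_char (p : ℕ) [CharP F p] (t : F) : uSL t ^ p = 1 := by
  rw [uSL_pow, nsmul_eq_mul, CharP.cast_eq_zero, zero_mul, uSL_zero]

theorem uSL_ne_one {t : F} (ht : t ≠ 0) : uSL t ≠ 1 := by
  intro h
  apply ht
  rw [← uSL_zero] at h
  exact uSL_injective h

theorem not_mem_normalizer_of_lower {s : SpecialLinearGroup (Fin 2) F}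
    (hs : (s : Matrix (Fin 2) (Fin 2) F) 1 0 ≠ 0) :
    s ∉ Subgroup.normalizer ((U F : Subgroup (SpecialLinearGroup (Fin 2) F)) :
      Set (SpecialLinearGroup (Fin 2) F)) := by
  intro hcon
  apply hs
  by_contra hne
  have := eq_top_of_U_of_conj (U F) (fun t => uSL_mem t) s hne (fun t => by
    rw [Subgroup.mem_normalizer_iff] at hcon
    exact (hcon _).1 (uSL_mem t))
  have h1 : lSL (1 : F) ∈ U F := by rw [this]; trivial
  obtain ⟨t, ht⟩ := (mem_U_iff _).1 h1
  have := congrArg (fun g : SpecialLinearGroup (Fin 2) F => (g : Matrix (Fin 2) (Fin 2) F) 1 0) ht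
  simp [uSL_val, lSL_val] at this

/-- G1: nonzero lower left entry and trace different from `2` -/
theorem good_of_lower (x : SpecialLinearGroup (Fin 2) F)
    (hc : (x : Matrix (Fin 2) (Fin 2) F) 1 0 ≠ 0)
    (htr : (x : Matrix (Fin 2) (Fin 2) F) 0 0 + (x : Matrix (Fin 2) (Fin 2) F) 1 1 ≠ 2) :
    Good (U F) x := by
  have hk := key_fact x hc
  set s := mkSL ((1 - (x : Matrix (Fin 2) (Fin 2) F) 1 1) / (x : Matrix (Fin 2) (Fin 2) F) 1 0)
        (-1) 1 0 (by ring) with hs
  set y := ((x : Matrix (Fin 2) (Fin 2) F) 0 0 + (x : Matrix (Fin 2) (Fin 2) F) 1 1 - 2) /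
        (x : Matrix (Fin 2) (Fin 2) F) 1 0 with hy
  have hs10 : (s : Matrix (Fin 2) (Fin 2) F) 1 0 ≠ 0 := by
    simp [hs, mkSL_val]
  refine ⟨1, s, not_mem_normalizer_of_lower hs10, uSL y, uSL_mem y,
    s * uSL (-(x : Matrix (Fin 2) (Fin 2) F) 1 0) * s⁻¹, conj_mem_cjg (uSL_mem _), ?_, ?_, ?_⟩
  · apply uSL_ne_one
    rw [hy]
    apply div_ne_zero _ hc
    intro h0
    apply htr
    linear_combination h0
  · intro h0
    have h1 : uSL (-(x : Matrix (Fin 2) (Fin 2) F) 1 0) = 1 := by
      have : uSL (-(x : Matrix (Fin 2) (Fin 2) F) 1 0) =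
          s⁻¹ * (s * uSL (-(x : Matrix (Fin 2) (Fin 2) F) 1 0) * s⁻¹) * s := by group
      rw [this, h0]; group
    exact uSL_ne_one (neg_ne_zero.2 hc) h1
  · rw [one_mul, inv_one, mul_one]
    have hx : uSL y * s * uSL (-(x : Matrix (Fin 2) (Fin 2) F) 1 0) * s⁻¹ = x := by
      rw [← hk, mul_inv_cancel_right]
    rw [← mul_assoc, ← mul_assoc]
    exact hx.symm

/-- unipotent elements with nonzero lower left entry -/
theorem pow_eq_one_of_lower (p : ℕ) [CharP F p] (x : SpecialLinearGroup (Fin 2) F)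
    (hc : (x : Matrix (Fin 2) (Fin 2) F) 1 0 ≠ 0)
    (htr : (x : Matrix (Fin 2) (Fin 2) F) 0 0 + (x : Matrix (Fin 2) (Fin 2) F) 1 1 = 2) :
    x ^ p = 1 := by
  have hk := key_fact x hc
  set s := mkSL ((1 - (x : Matrix (Fin 2) (Fin 2) F) 1 1) / (x : Matrix (Fin 2) (Fin 2) F) 1 0)
        (-1) 1 0 (by ring) with hs
  have hy : ((x : Matrix (Fin 2) (Fin 2) F) 0 0 + (x : Matrix (Fin 2) (Fin 2) F) 1 1 - 2) /
        (x : Matrix (Fin 2) (Fin 2) F) 1 0 = 0 := by
    rw [htr, sub_self, zero_div]
  rw [hy, uSL_zero, one_mul] at hk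
  have hx : s * uSL (-(x : Matrix (Fin 2) (Fin 2) F) 1 0) * s⁻¹ = x := by
    rw [← hk, mul_inv_cancel_right]
  rw [← hx, conj_pow, uSL_pow_char p, mul_one, mul_inv_cancel]

/-- the Weyl element -/
def wSL : SpecialLinearGroup (Fin 2) F := mkSL 0 (-1) 1 0 (by ring)

theorem inv_val (g : SpecialLinearGroup (Fin 2) F) :
    ((g⁻¹ : SpecialLinearGroup (Fin 2) F) : Matrix (Fin 2) (Fin 2) F) =
      !![(g : Matrix (Fin 2) (Fin 2) F) 1 1, -(g : Matrix (Fin 2) (Fin 2) F) 0 1;
        -(g : Matrix (Fin 2) (Fin 2) F) 1 0, (g : Matrix (Fin 2) (Fin 2) F) 0 0] := by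
  have := Matrix.SpecialLinearGroup.coe_inv g
  rw [Matrix.adjugate_fin_two] at this
  exact this

/-- G2: nonzero upper right entry and trace different from `2` -/
theorem good_of_upper (x : SpecialLinearGroup (Fin 2) F)
    (hb : (x : Matrix (Fin 2) (Fin 2) F) 0 1 ≠ 0)
    (htr : (x : Matrix (Fin 2) (Fin 2) F) 0 0 + (x : Matrix (Fin 2) (Fin 2) F) 1 1 ≠ 2) :
    Good (U F) x := by
  apply Good.conj (wSL (F := F))
  apply good_of_lower
  · simp only [mul_val, inv_val, wSL, mkSL_val, Matrix.of_apply, Matrix.cons_val',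
      Matrix.cons_val_zero, Matrix.cons_val_one, Matrix.empty_val', Matrix.cons_val_fin_one]
    intro h0
    apply hb
    linear_combination -h0
  · simp only [mul_val, inv_val, wSL, mkSL_val, Matrix.of_apply, Matrix.cons_val',
      Matrix.cons_val_zero, Matrix.cons_val_one, Matrix.empty_val', Matrix.cons_val_fin_one]
    intro h0
    apply htr
    linear_combination h0

/-- G3: diagonal elements with `a² ≠ 1` -/
theorem good_of_diag (x : SpecialLinearGroup (Fin 2) F)
    (hb : (x : Matrix (Fin 2) (Fin 2) F) 0 1 = 0) (hc : (x : Matrix (Fin 2) (Fin 2) F) 1 0 = 0)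
    (ha : (x : Matrix (Fin 2) (Fin 2) F) 0 0 ^ 2 ≠ 1) : Good (U F) x := by
  have hdet := det_eq_one x
  rw [hb, zero_mul, sub_zero] at hdet
  apply Good.conj (uSL (1 : F))
  apply good_of_upper
  · simp only [mul_val, inv_val, uSL_val, Matrix.of_apply, Matrix.cons_val',
      Matrix.cons_val_zero, Matrix.cons_val_one, Matrix.empty_val', Matrix.cons_val_fin_one, hb, hc]
    intro h0
    apply ha
    have h1 : (x : Matrix (Fin 2) (Fin 2) F) 1 1 = (x : Matrix (Fin 2) (Fin 2) F) 0 0 := by
      linear_combination h0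
    rw [h1] at hdet
    rw [pow_two]; exact hdet
  · simp only [mul_val, inv_val, uSL_val, Matrix.of_apply, Matrix.cons_val',
      Matrix.cons_val_zero, Matrix.cons_val_one, Matrix.empty_val', Matrix.cons_val_fin_one, hb, hc]
    intro h0
    apply ha
    have h1 : (x : Matrix (Fin 2) (Fin 2) F) 1 1 = 2 - (x : Matrix (Fin 2) (Fin 2) F) 0 0 := by
      linear_combination h0
    rw [h1] at hdet
    have h2 : ((x : Matrix (Fin 2) (Fin 2) F) 0 0 - 1) ^ 2 = 0 := by linear_combination -hdet
    have h3 : (x : Matrix (Fin 2) (Fin 2) F) 0 0 = 1 := by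
      have := pow_eq_zero_iff (two_ne_zero) |>.1 h2
      linear_combination this
    rw [h3]; ring

theorem eq_uSL_of (x : SpecialLinearGroup (Fin 2) F)
    (ha : (x : Matrix (Fin 2) (Fin 2) F) 0 0 = 1) (hc : (x : Matrix (Fin 2) (Fin 2) F) 1 0 = 0)
    (hd : (x : Matrix (Fin 2) (Fin 2) F) 1 1 = 1) :
    x = uSL ((x : Matrix (Fin 2) (Fin 2) F) 0 1) := by
  apply ext_entries <;> simp [uSL_val, ha, hc, hd]

variable [Fintype F]

theorem sylow_ti_sl2 (p : ℕ) [Fact p.Prime] [CharP F p]
    (P Q : Sylow p (SpecialLinearGroup (Fin 2) F)) (x : SpecialLinearGroup (Fin 2) F)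
    (hx1 : x ≠ 1) (hxP : x ∈ (P : Subgroup (SpecialLinearGroup (Fin 2) F)))
    (hxQ : x ∈ (Q : Subgroup (SpecialLinearGroup (Fin 2) F))) : P = Q := by
  obtain ⟨g, hg⟩ := MulAction.exists_smul_eq (SpecialLinearGroup (Fin 2) F) (USylow (F := F) p) P
  obtain ⟨k, hk⟩ := MulAction.exists_smul_eq (SpecialLinearGroup (Fin 2) F) (USylow (F := F) p) Q
  rw [← hg, mem_sylow_smul_iff'] at hxP
  rw [← hk, mem_sylow_smul_iff'] at hxQ
  obtain ⟨t, ht⟩ := (mem_U_iff _).1 hxP
  obtain ⟨t', ht'⟩ := (mem_U_iff _).1 hxQ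
  have ht0 : t ≠ 0 := by
    rintro rfl
    rw [uSL_zero] at ht
    apply hx1
    have : x = g * (g⁻¹ * x * g) * g⁻¹ := by group
    rw [this, ← ht]; group
  have hm : (g⁻¹ * k) * uSL t' = uSL t * (g⁻¹ * k) := by
    rw [ht, ht']; group
  have h00 := congrArg (fun m : SpecialLinearGroup (Fin 2) F =>
    (m : Matrix (Fin 2) (Fin 2) F) 0 0) hm
  simp only [mul_val (g⁻¹ * k) (uSL t'), mul_val (uSL t) (g⁻¹ * k), uSL_val, Matrix.of_apply,
    Matrix.cons_val', Matrix.cons_val_zero, Matrix.cons_val_one, Matrix.empty_val',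
    Matrix.cons_val_fin_one] at h00
  have hlow : ((g⁻¹ * k : SpecialLinearGroup (Fin 2) F) : Matrix (Fin 2) (Fin 2) F) 1 0 = 0 := by
    have : t * ((g⁻¹ * k : SpecialLinearGroup (Fin 2) F) : Matrix (Fin 2) (Fin 2) F) 1 0 = 0 := by
      linear_combination -h00
    exact (mul_eq_zero.1 this).resolve_left ht0
  have hmem : g⁻¹ * k ∈ Subgroup.normalizer
      ((USylow (F := F) p : Sylow p (SpecialLinearGroup (Fin 2) F)) :
        Set (SpecialLinearGroup (Fin 2) F)) := mem_normalizer_U_of_upper hlow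
  rw [← Sylow.smul_eq_iff_mem_normalizer, mul_smul, hk] at hmem
  rw [← hg, ← hmem, smul_smul, mul_inv_cancel, one_smul]

theorem inp_U (p : ℕ) [Fact p.Prime] [CharP F p] : Inp p (U F) := by
  constructor
  · intro s _ u hu hu1
    apply swap_of_ti (U F) (USylow (F := F) p) le_rfl (sylow_ti_sl2 p) _ s u hu hu1
    intro d hd y hy
    have h1 : d * y * d⁻¹ ∈ ((d • USylow (F := F) p : Sylow p (SpecialLinearGroup (Fin 2) F)) :
        Subgroup (SpecialLinearGroup (Fin 2) F)) := by
      rw [mem_sylow_smul_iff']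
      have : d⁻¹ * (d * y * d⁻¹) * d = y := by group
      rw [this]
      exact hy
    rw [hd] at h1
    exact h1
  · intro x
    have hdet := det_eq_one x
    by_cases hc : (x : Matrix (Fin 2) (Fin 2) F) 1 0 = 0
    · rw [hc, mul_zero, sub_zero] at hdet
      by_cases htr : (x : Matrix (Fin 2) (Fin 2) F) 0 0 + (x : Matrix (Fin 2) (Fin 2) F) 1 1 = 2
      · left
        refine ⟨1, ?_⟩
        rw [pow_one]
        have h1 : ((x : Matrix (Fin 2) (Fin 2) F) 0 0 - 1) ^ 2 = 0 := by
          have : (x : Matrix (Fin 2) (Fin 2) F) 1 1 = 2 - (x : Matrix (Fin 2) (Fin 2) F) 0 0 := by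
            linear_combination htr
          rw [this] at hdet
          linear_combination -hdet
        have ha1 : (x : Matrix (Fin 2) (Fin 2) F) 0 0 = 1 := by
          have := pow_eq_zero_iff (two_ne_zero) |>.1 h1
          linear_combination this
        have hd1 : (x : Matrix (Fin 2) (Fin 2) F) 1 1 = 1 := by
          linear_combination htr - ha1
        rw [eq_uSL_of x ha1 hc hd1]
        exact uSL_pow_char p _
      · by_cases hb : (x : Matrix (Fin 2) (Fin 2) F) 0 1 = 0
        · by_cases ha : (x : Matrix (Fin 2) (Fin 2) F) 0 0 ^ 2 = 1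
          · right; right
            have hda : (x : Matrix (Fin 2) (Fin 2) F) 1 1 = (x : Matrix (Fin 2) (Fin 2) F) 0 0 := by
              have h0 : (x : Matrix (Fin 2) (Fin 2) F) 0 0 ≠ 0 := by
                intro h0; rw [h0] at ha; norm_num at ha
              apply mul_left_cancel₀ h0
              rw [hdet, ← pow_two, ha]
            have ha' : ((x : Matrix (Fin 2) (Fin 2) F) 0 0 - 1) *
                ((x : Matrix (Fin 2) (Fin 2) F) 0 0 + 1) = 0 := by linear_combination ha
            have ha1 : (x : Matrix (Fin 2) (Fin 2) F) 0 0 = -1 := by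
              rcases mul_eq_zero.1 ha' with h1 | h1
              · exfalso
                apply htr
                rw [hda]
                linear_combination 2 * h1
              · linear_combination h1
            have h2 : (2 : F) ≠ 0 := by
              intro h2
              apply htr
              rw [hda, ha1]
              linear_combination (-2) * h2
            refine ⟨?_, uSL 1, uSL_mem 1, uSL_ne_one one_ne_zero, ?_⟩
            · rw [Subgroup.mem_center_iff]
              intro g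
              apply ext_entries <;> simp only [mul_val, hb, hc, hda, ha1] <;> ring
            · apply good_of_upper
              · simp only [mul_val, uSL_val, Matrix.of_apply, Matrix.cons_val',
                  Matrix.cons_val_zero, Matrix.cons_val_one, Matrix.empty_val',
                  Matrix.cons_val_fin_one, hb, hc, hda, ha1]
                norm_num
              · simp only [mul_val, uSL_val, Matrix.of_apply, Matrix.cons_val',
                  Matrix.cons_val_zero, Matrix.cons_val_one, Matrix.empty_val',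
                  Matrix.cons_val_fin_one, hb, hc, hda, ha1]
                intro h0
                apply h2
                have h4 : (2 : F) * 2 = 0 := by linear_combination -h0
                exact (mul_self_eq_zero.1 h4)
          · right; left
            exact good_of_diag x hb hc ha
        · right; left
          exact good_of_upper x hb htr
    · by_cases htr : (x : Matrix (Fin 2) (Fin 2) F) 0 0 + (x : Matrix (Fin 2) (Fin 2) F) 1 1 = 2
      · left
        exact ⟨1, by rw [pow_one]; exact pow_eq_one_of_lower p x hc htr⟩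
      · right; left
        exact good_of_lower x hc htr

end sl2

theorem inp_sl2 {H : Type*} [Group H] (p : ℕ) [Fact p.Prime] {F : Type*} [Field F] [Fintype F]
    (e : H ≃* SpecialLinearGroup (Fin 2) F) {Y N : Subgroup H} (hc : Conf p Y N)
    (hcard : Fintype.card F = Nat.card Y) : Inp p Y := by
  classical
  have : Finite H := Finite.of_equiv _ e.symm.toEquiv
  obtain ⟨k, hk⟩ := (IsPGroup.iff_card (p := p)).1 (elemAb_isPGroup hc.hYea)
  have : CharP F p := charP_of_card_eq_prime_pow (hcard.trans hk)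
  have hYp : IsPGroup p ↥(Y.map e.toMonoidHom) := elemAb_isPGroup (elemAb_map' _ hc.hYea)
  obtain ⟨P, hP⟩ := hYp.exists_le_sylow
  have hcardY' : Nat.card ↥(Y.map e.toMonoidHom) = Nat.card Y :=
    Nat.card_congr (Y.equivMapOfInjective e.toMonoidHom e.injective).symm.toEquiv
  have hcardP : Nat.card ↥(P : Subgroup (SpecialLinearGroup (Fin 2) F)) = Nat.card Y := by
    rw [Sylow.card_eq_multiplicity, ← Sylow.card_eq_multiplicity (USylow (F := F) p), coe_USylow,
      card_U, Nat.card_eq_fintype_card, hcard]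
  have hYP : Y.map e.toMonoidHom = (P : Subgroup (SpecialLinearGroup (Fin 2) F)) :=
    Subgroup.eq_of_le_of_card_ge hP (by rw [hcardP, hcardY'])
  obtain ⟨g, hg⟩ := MulAction.exists_smul_eq (SpecialLinearGroup (Fin 2) F) (USylow (F := F) p) P
  let e' : H ≃* SpecialLinearGroup (Fin 2) F := e.trans (MulAut.conj g⁻¹)
  have he' : ∀ y : H, e' y = g⁻¹ * e y * g := by
    intro y
    simp [e']
  have hYU : Y.map e'.toMonoidHom = U F := by
    ext x
    constructor
    · rintro ⟨y, hy, rfl⟩
      have h1 : e y ∈ (P : Subgroup (SpecialLinearGroup (Fin 2) F)) := by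
        rw [← hYP]; exact ⟨y, hy, rfl⟩
      rw [← hg, mem_sylow_smul_iff'] at h1
      show e' y ∈ U F
      rw [he']
      exact h1
    · intro hx
      have h1 : g * x * g⁻¹ ∈ (P : Subgroup (SpecialLinearGroup (Fin 2) F)) := by
        rw [← hg, mem_sylow_smul_iff']
        have : g⁻¹ * (g * x * g⁻¹) * g = x := by group
        rw [this]
        exact hx
      rw [← hYP] at h1
      obtain ⟨y, hy, hyx⟩ := h1
      refine ⟨y, hy, ?_⟩
      show e' y = x
      have hyx' : e y = g * x * g⁻¹ := hyx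
      rw [he', hyx']
      group
  apply Inp.of_equiv e'
  rw [hYU]
  exact inp_U p

end Cfsg.Agent.Lib.H14.FM
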