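import Mathlib
import Cfsg.Agent.Lib.H14.FLTwo
import Cfsg.Agent.Lib.H14.FMInp

/-!
# S2863: the input `Inp` when `|Y| = 2` (dihedral quotients, `Sz(2)`)
-/

set_option autoImplicit false
set_option linter.unusedSectionVars false
open Cfsg

namespace Cfsg.Agent.Lib.H14.FM

open Cfsg.Agent.Lib.H14.FL

section two
variable {H : Type*} [Group H]

/-- the dihedral structure forced by `|Y| = 2` -/
theorem dihedral_struct {Y N : Subgroup H} (hc : Conf 2 Y N) (h2 : Nat.card Y = 2) :
    ∃ t w : H, t ∈ Y ∧ t ≠ 1 ∧ t * t = 1 ∧ (∀ y ∈ Y, y = 1 ∨ y = t) ∧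
      (∀ x : H, ∃ i : ℤ, x = w ^ i ∨ x = w ^ i * t) ∧
      (∀ j : ℤ, t * w ^ j = w ^ (-j) * t) ∧ ∃ i₀ : ℤ, w ^ (2 * i₀ + 1) = 1 := by
  obtain ⟨⟨t, htY⟩, ht1, htu⟩ := (Nat.card_eq_two_iff' (1 : Y)).1 h2
  have ht1' : t ≠ 1 := fun h => ht1 (Subtype.ext h)
  have hY : ∀ y ∈ Y, y = 1 ∨ y = t := by
    intro y hy
    by_cases h : y = 1
    · exact Or.inl h
    · right
      have := htu ⟨y, hy⟩ (fun h' => h (congrArg Subtype.val h'))
      exact congrArg Subtype.val this
  have htt : t * t = 1 := by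
    have := hc.hYea.2 t htY
    rwa [pow_two] at this
  have hti : t⁻¹ = t := inv_eq_of_mul_eq_one_right htt
  obtain ⟨g, hg⟩ : ∃ g : H, g * t * g⁻¹ ∉ N := by
    by_contra hcon
    have hcon' : ∀ g : H, g * t * g⁻¹ ∈ N := by
      intro g
      by_contra h
      exact hcon ⟨g, h⟩
    apply hc.hNtop
    rw [eq_top_iff, ← hc.hncl, Subgroup.normalClosure, Subgroup.closure_le]
    intro c hcc
    rw [Group.mem_conjugatesOfSet_iff] at hcc
    obtain ⟨y, hy, hyc⟩ := hcc
    rw [isConj_iff] at hyc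
    obtain ⟨g, rfl⟩ := hyc
    rcases hY y hy with rfl | rfl
    · rw [mul_one, mul_inv_cancel]
      exact N.one_mem
    · exact hcon' g
  set t' := g * t * g⁻¹ with ht'def
  have ht't' : t' * t' = 1 := by
    calc t' * t' = g * (t * t) * g⁻¹ := by rw [ht'def]; group
      _ = 1 := by rw [htt, mul_one, mul_inv_cancel]
  have hD : Subgroup.closure ({t, t'} : Set H) = ⊤ := by
    by_contra hne
    have hYD : Y ≤ Subgroup.closure ({t, t'} : Set H) := by
      intro y hy
      rcases hY y hy with rfl | rfl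
      · exact Subgroup.one_mem _
      · exact Subgroup.subset_closure (Set.mem_insert _ _)
    have := hc.hmax _ hYD hne
    exact hg (this (Subgroup.subset_closure (Set.mem_insert_of_mem _ rfl)))
  have hall : ∀ x : H, ∃ i : ℤ, x = (t * t') ^ i ∨ x = (t * t') ^ i * t := by
    intro x
    apply mem_closure_pair htt ht't'
    rw [hD]; trivial
  have hconj := inv_conj_of_invol htt ht't'
  refine ⟨t, t * t', htY, ht1', htt, hY, hall, hconj, ?_⟩
  set u := t * t' with hu
  have ht'u : t' = u ^ (-1 : ℤ) * t := by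
    have e1 : u⁻¹ = t' * t := by
      rw [inv_eq_iff_mul_eq_one, hu]
      calc t * t' * (t' * t) = t * (t' * t') * t := by group
        _ = 1 := by rw [ht't', mul_one, htt]
    rw [zpow_neg, zpow_one, e1, mul_assoc, htt, mul_one]
  have key : ∀ i : ℤ, u ^ i * t * (u ^ i)⁻¹ = u ^ (2 * i) * t := by
    intro i
    rw [← zpow_neg, mul_assoc, hconj, neg_neg, ← mul_assoc, ← zpow_add, two_mul]
  obtain ⟨i, hgi⟩ := hall g
  refine ⟨i, ?_⟩
  have e2 : t' = u ^ (2 * i) * t := by
    rcases hgi with hgi | hgi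
    · rw [ht'def, hgi, key]
    · rw [ht'def, hgi, mul_inv_rev, hti]
      calc u ^ i * t * t * (t * (u ^ i)⁻¹) = u ^ i * (t * t) * t * (u ^ i)⁻¹ := by group
        _ = u ^ (2 * i) * t := by rw [htt, mul_one, key]
  rw [ht'u] at e2
  have e3 : u ^ (-1 : ℤ) = u ^ (2 * i) := mul_right_cancel e2
  rw [zpow_add, ← e3, zpow_neg, zpow_one, inv_mul_cancel]

theorem inp_of_card_two {Y N : Subgroup H} (hc : Conf 2 Y N) (h2 : Nat.card Y = 2) :
    Inp 2 Y := by
  obtain ⟨t, w, htY, ht1, htt, hY, hall, hconj, i₀, hi₀⟩ := dihedral_struct hc h2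
  have hti : t⁻¹ = t := inv_eq_of_mul_eq_one_right htt
  -- conjugates of `t`
  have key : ∀ i : ℤ, w ^ i * t * (w ^ i)⁻¹ = w ^ (2 * i) * t := by
    intro i
    rw [← zpow_neg, mul_assoc, hconj, neg_neg, ← mul_assoc, ← zpow_add, two_mul]
  have hconjt : ∀ s : H, ∃ i : ℤ, s * t * s⁻¹ = w ^ (2 * i) * t := by
    intro s
    obtain ⟨i, hi | hi⟩ := hall s
    · exact ⟨i, by rw [hi, key]⟩
    · refine ⟨i, ?_⟩
      rw [hi, mul_inv_rev, hti]
      calc w ^ i * t * t * (t * (w ^ i)⁻¹) = w ^ i * (t * t) * t * (w ^ i)⁻¹ := by group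
        _ = w ^ (2 * i) * t := by rw [htt, mul_one, key]
  -- `w ^ j` is determined by `w ^ (2 j)`
  have hhalf : ∀ j : ℤ, w ^ (2 * j * (i₀ + 1)) = w ^ j := by
    intro j
    have e : 2 * j * (i₀ + 1) = (2 * i₀ + 1) * j + j := by ring
    rw [e, zpow_add, zpow_mul, hi₀, one_zpow, one_mul]
  have hw2 : ∀ j : ℤ, w ^ (2 * j) = 1 → w ^ j = 1 := by
    intro j hj
    rw [← hhalf j, zpow_mul, hj, one_zpow]
  have htw : ∀ j : ℤ, t = w ^ j → False := by
    intro j hj
    -- `t` commutes with `w`, so `w² = 1`, so `w = 1`, so `t = 1`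
    have h1 : t * w ^ (1 : ℤ) = w ^ (1 : ℤ) * t := by
      rw [hj, ← zpow_add, ← zpow_add, add_comm]
    rw [hconj] at h1
    have h3 : w ^ (-1 : ℤ) = w ^ (1 : ℤ) := mul_right_cancel h1
    have h4 : w ^ (2 * 1 : ℤ) = 1 := by
      rw [two_mul, zpow_add]
      nth_rewrite 1 [← h3]
      rw [← zpow_add]
      norm_num
    have h5 : w ^ (1 : ℤ) = 1 := hw2 1 h4
    rw [zpow_one] at h5
    apply ht1
    rw [hj, h5, one_zpow]
  constructor
  · -- swap
    intro s hs u hu hu1
    have hut : u = t := (hY u hu).resolve_left hu1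
    subst hut
    obtain ⟨i, hi⟩ := hconjt s
    have ht'' : w ^ (2 * i) * u ∈ cjg s Y := by
      rw [← hi]; exact conj_mem_cjg hu
    have hprod : u * (w ^ (2 * i) * u) = w ^ (-(2 * i)) := by
      rw [← mul_assoc, hconj, mul_assoc, htt, mul_one]
    refine ⟨w ^ (-(2 * i) * (i₀ + 1)), ?_, ?_⟩
    · rw [zpow_mul, ← hprod]
      apply Subgroup.zpow_mem
      exact Subgroup.mul_mem _ (Subgroup.subset_closure (Or.inl rfl))
        (Subgroup.subset_closure (Or.inr ht''))
    · intro y hy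
      rcases hY y hy with rfl | rfl
      · rw [mul_one, inv_mul_cancel]
        exact Subgroup.one_mem _
      · have e : (w ^ (-(2 * i) * (i₀ + 1)))⁻¹ * y * w ^ (-(2 * i) * (i₀ + 1)) =
            w ^ (2 * i) * y := by
          rw [← zpow_neg, mul_assoc, hconj, ← mul_assoc, ← zpow_add]
          have e1 : -(-(2 * i) * (i₀ + 1)) + -(-(2 * i) * (i₀ + 1)) = 2 * (2 * i) * (i₀ + 1) := by
            ring
          rw [e1, hhalf]
        rw [e]
        exact ht''
  · -- elements
    intro x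
    obtain ⟨j, hj | hj⟩ := hall x
    · by_cases hx1 : w ^ j = 1
      · left
        exact ⟨0, by rw [hj, hx1]; simp⟩
      · right; left
        have hs_conj : w ^ (-j * (i₀ + 1)) * t * (w ^ (-j * (i₀ + 1)))⁻¹ = w ^ (-j) * t := by
          rw [key]
          have e1 : 2 * (-j * (i₀ + 1)) = 2 * (-j) * (i₀ + 1) := by ring
          rw [e1, hhalf]
        have hv1 : w ^ (-j) * t ≠ 1 := by
          intro h0
          have : t = w ^ j := by
            have h1 : t = (w ^ (-j))⁻¹ := eq_inv_of_mul_eq_one_right h0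
            rw [h1, ← zpow_neg, neg_neg]
          exact htw j this
        refine ⟨1, w ^ (-j * (i₀ + 1)), ?_, t, htY, w ^ (-j) * t, ?_, ht1, hv1, ?_⟩
        · intro hcon
          have h1 := conj_mem_of_normalizer hcon htY
          rw [hs_conj] at h1
          rcases hY _ h1 with h3 | h3
          · exact hv1 h3
          · have h4 : w ^ (-j) = 1 := by
              have := mul_right_cancel (b := t) (a := w ^ (-j)) (c := 1) (by rw [h3, one_mul])
              exact this
            apply hx1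
            rw [← neg_neg j, zpow_neg, h4, inv_one]
        · rw [← hs_conj]
          exact conj_mem_cjg htY
        · rw [one_mul, inv_one, mul_one, hj, ← mul_assoc, hconj, neg_neg, mul_assoc, htt, mul_one]
    · left
      refine ⟨1, ?_⟩
      rw [pow_one, pow_two, hj]
      calc w ^ j * t * (w ^ j * t) = w ^ j * (t * w ^ j) * t := by group
        _ = 1 := by rw [hconj, ← mul_assoc, ← zpow_add, add_neg_cancel, zpow_zero, one_mul, htt]

end two

end Cfsg.Agent.Lib.H14.FM
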