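import Mathlib
import Cfsg.Prelude.Def_LieExceptional
import Cfsg.Prelude.Def_Sz
import Cfsg.Agent.Lib.H2.Sz23
import Cfsg.Agent.Lib.H14.FLSz
import Cfsg.Agent.Lib.H14.FMTwo
import Cfsg.Agent.Lib.H14.FMInp

/-!
# S2863: the input `Inp` for the Suzuki groups
-/

set_option autoImplicit false
set_option linter.unusedSimpArgs false
set_option linter.unusedSectionVars false
open Cfsg

namespace Cfsg.Agent.Lib.H14.FM

open Matrix Projectivization MulAction Cfsg.Agent.Lib.H2.Sz Cfsg.Agent.Lib.H14.FL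

section sz
variable {F : Type*} [Field F] {m : ℕ} [Fintype F] (h : Fld F m)

include h

/-- every involution is conjugate into the centre of the translation group -/
theorem exists_conj_mem_ZS (hm : 1 ≤ m) (hF : Fintype.card F = 2 ^ (2 * m + 1))
    {z : Cfsg.Sz F m} (hz : z * z = 1) : ∃ s : Cfsg.Sz F m, s * z * s⁻¹ ∈ ZS h := by
  have : Fact (Nat.Prime 2) := ⟨Nat.prime_two⟩
  have hp : IsPGroup 2 ↥(Subgroup.zpowers z) := by
    rintro ⟨g, hg⟩
    obtain ⟨i, rfl⟩ := Subgroup.mem_zpowers_iff.1 hg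
    refine ⟨1, ?_⟩
    apply Subtype.ext
    show (z ^ i) ^ (2 ^ 1) = 1
    rw [pow_one, ← zpow_natCast, ← _root_.zpow_mul, mul_comm, _root_.zpow_mul, zpow_natCast, pow_two, hz, _root_.one_zpow]
  obtain ⟨P, hP⟩ := hp.exists_le_sylow
  obtain ⟨s, hs⟩ := exists_conj_TS h hm hF P
  refine ⟨s, mem_ZS_of_sq h ((hs z).1 (hP (Subgroup.mem_zpowers z))) ?_⟩
  calc s * z * s⁻¹ * (s * z * s⁻¹) = s * (z * z) * s⁻¹ := by group
    _ = 1 := by rw [hz, mul_one, mul_inv_cancel]

/-- an involution has a unique fixed point on the ovoid -/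
theorem invol_fix_unique (hm : 1 ≤ m) (hF : Fintype.card F = 2 ^ (2 * m + 1))
    {z : Cfsg.Sz F m} (hz : z * z = 1) (hz1 : z ≠ 1) {p q : Projectivization F (Fin 4 → F)}
    (hp : p ∈ suzukiOvoid F m) (hq : q ∈ suzukiOvoid F m) (hzp : z • p = p) (hzq : z • q = q) :
    p = q := by
  obtain ⟨s, b, hb⟩ := exists_conj_mem_ZS h hm hF hz
  have hb0 : ¬ ((0 : F) = 0 ∧ b = 0) := by
    rintro ⟨-, rfl⟩
    rw [T_zero] at hb
    apply hz1
    have e : s * z * s⁻¹ = 1 := Subtype.ext hb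
    have : z = s⁻¹ * (s * z * s⁻¹) * s := by group
    rw [this, e]; group
  have key : ∀ r ∈ suzukiOvoid F m, z • r = r → s • r = pinf := by
    intro r hr hzr
    apply eq_pinf_of_T_smul h hb0 (smul_mem_of_mem_Sz s.2 hr)
    rw [← hb]
    show (s * z * s⁻¹) • (s • r) = s • r
    rw [← mul_smul, inv_mul_cancel_right, mul_smul, hzr]
  have := (key p hp hzp).trans (key q hq hzq).symm
  exact (MulAction.injective s) this

/-- products of two involutions that are not involutions are good -/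
theorem good_of_invol_prod (hm : 1 ≤ m) (hF : Fintype.card F = 2 ^ (2 * m + 1))
    {x z z' : Cfsg.Sz F m} (hz : z * z = 1) (hz1 : z ≠ 1) (hz' : z' * z' = 1) (hz'1 : z' ≠ 1)
    (hx : x = z * z') (hx2 : x * x ≠ 1) : Good (ZS h) x := by
  obtain ⟨s₁, hs₁⟩ := exists_conj_mem_ZS h hm hF hz
  have hv2 : (s₁ * z' * s₁⁻¹) * (s₁ * z' * s₁⁻¹) = 1 := by
    calc s₁ * z' * s₁⁻¹ * (s₁ * z' * s₁⁻¹) = s₁ * (z' * z') * s₁⁻¹ := by group
      _ = 1 := by rw [hz', mul_one, mul_inv_cancel]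
  obtain ⟨s₂, hs₂⟩ := exists_conj_mem_ZS h hm hF hv2
  refine ⟨s₁, s₂⁻¹, ?_, s₁ * z * s₁⁻¹, hs₁, s₁ * z' * s₁⁻¹, ?_, ?_, ?_, ?_⟩
  · intro hcon
    have hv : s₁ * z' * s₁⁻¹ ∈ ZS h := by
      have := conj_mem_of_normalizer hcon hs₂
      have e : s₂⁻¹ * (s₂ * (s₁ * z' * s₁⁻¹) * s₂⁻¹) * s₂⁻¹⁻¹ = s₁ * z' * s₁⁻¹ := by group
      rwa [e] at this
    have huv := sq_of_mem_ZS h ((ZS h).mul_mem hs₁ hv)
    apply hx2
    have e : x * x = s₁⁻¹ * ((s₁ * z * s₁⁻¹ * (s₁ * z' * s₁⁻¹)) *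
        (s₁ * z * s₁⁻¹ * (s₁ * z' * s₁⁻¹))) * s₁ := by rw [hx]; group
    rw [e, huv]; group
  · rw [mem_cjg, inv_inv]; exact hs₂
  · intro h0
    apply hz1
    have : z = s₁⁻¹ * (s₁ * z * s₁⁻¹) * s₁ := by group
    rw [this, h0]; group
  · intro h0
    apply hz'1
    have : z' = s₁⁻¹ * (s₁ * z' * s₁⁻¹) * s₁ := by group
    rw [this, h0]; group
  · rw [hx]; group

theorem ww_mul_dd_fm (c : Fˣ) : ww h * dd h c = dd h c⁻¹ * ww h := Subtype.ext (W_mul_D c)

theorem ww_ne_one : ww h ≠ 1 := by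
  intro h0
  have h1 := ww_smul_pinf h
  rw [h0, one_smul] at h1
  exact pt_ne_pinf (m := m) (0 : F) 0 h1.symm

theorem good_dd (hm : 1 ≤ m) (hF : Fintype.card F = 2 ^ (2 * m + 1)) {k : Fˣ} (hk : k ≠ 1) :
    Good (ZS h) (dd h k) := by
  have hwd : ww h * dd h k * (ww h * dd h k) = 1 := by
    rw [ww_mul_dd_fm]
    calc dd h k⁻¹ * ww h * (dd h k⁻¹ * ww h) = dd h k⁻¹ * (ww h * dd h k⁻¹) * ww h := by group
      _ = 1 := by
        rw [ww_mul_dd_fm, inv_inv, ← mul_assoc, ← dd_mul, inv_mul_cancel, dd_one, one_mul,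
          ww_mul_self]
  apply good_of_invol_prod h hm hF (ww_mul_self h) (ww_ne_one h) hwd
  · intro h0
    have h1 : (ww h * dd h k) • (pinf : Projectivization F (Fin 4 → F)) = pinf := by
      rw [h0, one_smul]
    rw [mul_smul, dd_smul_pinf, ww_smul_pinf] at h1
    exact pt_ne_pinf (m := m) (0 : F) 0 h1
  · rw [← mul_assoc, ww_mul_self, one_mul]
  · intro h0
    rw [← dd_mul, ← dd_one h] at h0
    exact hk (unit_eq_one_of_sq h (dd_injective h h0))

theorem good_fp (hm : 1 ≤ m) (hF : Fintype.card F = 2 ^ (2 * m + 1)) {x : Cfsg.Sz F m}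
    (hfp : Fpf m (x : SpecialLinearGroup (Fin 4) F)) : Good (ZS h) x := by
  classical
  have : Fact (Nat.Prime 2) := ⟨Nat.prime_two⟩
  have hn : nT x = 4 * cT x := ((tori_main h hm hF).1 x hfp).2
  have h2 : 2 ∣ Nat.card ↥(Subgroup.normalizer
      ((Subgroup.centralizer ({x} : Set (Cfsg.Sz F m)) : Subgroup (Cfsg.Sz F m)) :
        Set (Cfsg.Sz F m))) := by
    have : nT x = Nat.card ↥(Subgroup.normalizer
      ((Subgroup.centralizer ({x} : Set (Cfsg.Sz F m)) : Subgroup (Cfsg.Sz F m)) :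
        Set (Cfsg.Sz F m))) := rfl
    rw [← this, hn]
    exact ⟨2 * cT x, by ring⟩
  obtain ⟨⟨z, hzN⟩, hzo⟩ := exists_prime_orderOf_dvd_card' 2 h2
  have hzo' : orderOf z = 2 := by
    rw [← hzo]
    exact (Subgroup.orderOf_mk z hzN).symm
  have hzz : z * z = 1 := by
    rw [← pow_two, ← hzo']
    exact pow_orderOf_eq_one z
  have hz1 : z ≠ 1 := by
    intro h0
    rw [h0, orderOf_one] at hzo'
    norm_num at hzo'
  have hzi : z⁻¹ = z := inv_eq_of_mul_eq_one_right hzz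
  have hxC : x ∈ Subgroup.centralizer ({x} : Set (Cfsg.Sz F m)) := by
    rw [Subgroup.mem_centralizer_singleton_iff]
  have hcx : z * x * z⁻¹ ∈ Subgroup.centralizer ({x} : Set (Cfsg.Sz F m)) :=
    conj_mem_of_normalizer hzN hxC
  have hyC : x * (z * x * z⁻¹) ∈ Subgroup.centralizer ({x} : Set (Cfsg.Sz F m)) :=
    Subgroup.mul_mem _ hxC hcx
  have hzy : z * (x * (z * x * z⁻¹)) = (x * (z * x * z⁻¹)) * z := by
    have hcomm := comm_centralizer h hm hF hfp hxC hcx
    calc z * (x * (z * x * z⁻¹)) = (z * x * z⁻¹) * ((z * z) * x * (z * z)⁻¹) * z := by group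
      _ = (z * x * z⁻¹) * x * z := by rw [hzz]; group
      _ = (x * (z * x * z⁻¹)) * z := by rw [hcomm]
  have hy1 : x * (z * x * z⁻¹) = 1 := by
    by_contra hne
    have hyf := fpf_of_mem_centralizer h hm hF hfp hyC hne
    have hznf := not_fpf_of_sq h hF z.2 (by
      have := congrArg Subtype.val hzz
      simpa using this)
    obtain ⟨q, hq, hzq⟩ : ∃ q ∈ suzukiOvoid F m, z • q = q := by
      by_contra hcon
      apply hznf
      intro q hq hzq
      exact hcon ⟨q, hq, hzq⟩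
    have h3 : z • ((x * (z * x * z⁻¹)) • q) = (x * (z * x * z⁻¹)) • q := by
      rw [← mul_smul, hzy, mul_smul, hzq]
    have h4 := invol_fix_unique h hm hF hzz hz1 (smul_mem_of_mem_Sz (x * (z * x * z⁻¹)).2 hq) hq h3 hzq
    exact hyf q hq h4
  have hinv : z * x * z⁻¹ = x⁻¹ := eq_inv_of_mul_eq_one_right hy1
  have hx1 : x ≠ 1 := by
    rintro rfl
    exact hfp _ pinf_mem (one_smul _ _)
  apply good_of_invol_prod h hm hF hzz hz1 (z' := z * x)
  · calc z * x * (z * x) = (z * x * z⁻¹) * x := by rw [hzi]; group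
      _ = 1 := by rw [hinv, inv_mul_cancel]
  · intro h0
    have hxz : x = z := by
      have : x = z⁻¹ * (z * x) := by group
      rw [this, h0, mul_one, hzi]
    rw [hxz] at hfp
    exact not_fpf_of_sq h hF z.2 (by
      have := congrArg Subtype.val hzz
      simpa using this) hfp
  · rw [← mul_assoc, hzz, one_mul]
  · intro h0
    exact not_fpf_of_sq h hF x.2 (by
      have := congrArg Subtype.val h0
      simpa using this) hfp

theorem inp_ZS (hm : 1 ≤ m) (hF : Fintype.card F = 2 ^ (2 * m + 1)) : Inp 2 (ZS h) := by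
  have : Fact (Nat.Prime 2) := ⟨Nat.prime_two⟩
  constructor
  · intro s _ u hu hu1
    apply swap_of_ti (ZS h) (sylowTS h hm hF) (ZS_le_TS h)
      (fun P Q x hx1 hP hQ => sylow_ti h hm hF hx1 hP hQ) _ s u hu hu1
    intro d hd y hy
    have hdn := Sylow.smul_eq_iff_mem_normalizer.1 hd
    have hdn' : d ∈ Subgroup.normalizer ((TS h : Subgroup _) : Set _) := hdn
    rw [normalizer_TS h hm hF, mem_stabilizer_iff] at hdn'
    exact conj_mem_ZS_of_fix h hm hF hdn' hy
  · intro x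
    by_cases hf : Fpf m (x : SpecialLinearGroup (Fin 4) F)
    · right; left
      exact good_fp h hm hF hf
    · by_cases h4 : x ^ 4 = 1
      · left
        exact ⟨2, by norm_num; exact h4⟩
      · right; left
        obtain ⟨q, hq, hfix⟩ : ∃ q ∈ suzukiOvoid F m,
            (x : SpecialLinearGroup (Fin 4) F) • q = q := by
          by_contra hcon
          apply hf
          intro q hq hxq
          exact hcon ⟨q, hq, hxq⟩
        have h4' : (x : SpecialLinearGroup (Fin 4) F) ^ 4 ≠ 1 := by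
          intro h0
          apply h4
          apply Subtype.ext
          rw [Subgroup.coe_pow, h0]
          rfl
        obtain ⟨u, hu, k, hk, huk⟩ := exists_conj_D h hm hF x.2 h4' hq hfix
        apply Good.conj (⟨u, hu⟩ : Cfsg.Sz F m)
        have e : (⟨u, hu⟩ : Cfsg.Sz F m) * x * (⟨u, hu⟩ : Cfsg.Sz F m)⁻¹ = dd h k :=
          Subtype.ext huk
        rw [e]
        exact good_dd h hm hF hk

/-- the Suzuki case in the ovoid model -/
theorem inp_sz_model (hm : 1 ≤ m) (hF : Fintype.card F = 2 ^ (2 * m + 1))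
    {H : Type*} [Group H] (e : H ≃* Cfsg.Sz F m) {Y N : Subgroup H} (hc : Conf 2 Y N)
    (hcard : Fintype.card F = Nat.card Y) : Inp 2 Y := by
  classical
  have : Fact (Nat.Prime 2) := ⟨Nat.prime_two⟩
  have hYp : IsPGroup 2 ↥(Y.map e.toMonoidHom) := elemAb_isPGroup (elemAb_map' _ hc.hYea)
  obtain ⟨P, hP⟩ := hYp.exists_le_sylow
  obtain ⟨s, hs⟩ := exists_conj_TS h hm hF P
  let e' : H ≃* Cfsg.Sz F m := e.trans (MulAut.conj s)
  have he' : ∀ y : H, e' y = s * e y * s⁻¹ := by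
    intro y
    simp [e']
  have hYea' : Cfsg.IsElementaryAbelian 2 (Y.map e'.toMonoidHom) := elemAb_map' _ hc.hYea
  have hle : Y.map e'.toMonoidHom ≤ ZS h := by
    rintro x ⟨y, hy, rfl⟩
    apply mem_ZS_of_sq h
    · show e' y ∈ TS h
      rw [he']
      exact (hs _).1 (hP ⟨y, hy, rfl⟩)
    · have := hYea'.2 (e' y) ⟨y, hy, rfl⟩
      rwa [pow_two] at this
  have hcardY' : Nat.card ↥(Y.map e'.toMonoidHom) = Nat.card Y :=
    Nat.card_congr (Y.equivMapOfInjective e'.toMonoidHom e'.injective).symm.toEquiv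
  have : Finite (Cfsg.Sz F m) := inferInstance
  have hYZ : Y.map e'.toMonoidHom = ZS h :=
    Subgroup.eq_of_le_of_card_ge hle (by rw [card_ZS h, hcardY', hcard])
  apply Inp.of_equiv e'
  rw [hYZ]
  exact inp_ZS h hm hF

end sz

/-- the Suzuki case, for the group of `Def_Sz` -/
theorem inp_sz {H : Type*} [Group H] {F : Type*} [Field F] [Fintype F] (m : ℕ)
    (hF : Fintype.card F = 2 ^ (2 * m + 1)) (e : H ≃* ↥(Cfsg.Lie.Sz F (2 ^ (m + 1))))
    {Y N : Subgroup H} (hc : Conf 2 Y N) (hcard : Fintype.card F = Nat.card Y) : Inp 2 Y := by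
  rcases Nat.eq_zero_or_pos m with rfl | hm
  · apply inp_of_card_two hc
    rw [← hcard, hF]
    norm_num
  · have h := fld_of_card hF
    exact inp_sz_model h hm hF (e.trans (Cfsg.Agent.Lib.H2.SzB.bridge h hm hF).symm) hc hcard

end Cfsg.Agent.Lib.H14.FM
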