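import Cfsg.Agent.Lib.H3.FrattiniFitting
import Cfsg.Agent.Lib.H1.Gaschutz
import Cfsg.Agent.Lib.H14.PIrr
import Cfsg.Agent.Lib.H14.Amalgam2

/-! Frattini subgroups and `O^p(H)` when `O_p(H) = 1` (via Gaschütz). -/

set_option autoImplicit false

namespace Cfsg.Agent.Lib.H14

open Cfsg.Agent.Lib.H3 in
/-- If `f : A →* B` is surjective with kernel `Φ(A)`, then `Φ(B) = 1`. -/
theorem frattini_eq_bot_of_ker_eq {A B : Type*} [Group A] [Group B] (f : A →* B)
    (hf : Function.Surjective f) (hker : f.ker = frattini A) : frattini B = ⊥ := by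
  rw [eq_bot_iff]
  intro b hb
  obtain ⟨a, rfl⟩ := hf b
  have ha : a ∈ frattini A := by
    have : Subgroup.zpowers a ≤ frattini A := by
      rw [le_frattini_iff]
      intro M hM
      have hkM : f.ker ≤ M := hker ▸ frattini_le_coatom hM
      have hcm : (M.map f).comap f = M := by
        rw [Subgroup.comap_map_eq, sup_eq_left.mpr hkM]
      have hco : IsCoatom (M.map f) := by
        constructor
        · intro htop
          apply hM.1
          rw [← hcm, htop, Subgroup.comap_top]
        · intro X hX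
          have h1 : M ≤ X.comap f := by
            rw [← hcm]; exact Subgroup.comap_mono hX.le
          have h2 : M ≠ X.comap f := by
            intro h
            apply hX.ne
            rw [h, Subgroup.map_comap_eq_self_of_surjective hf]
          have h3 := hM.2 _ (lt_of_le_of_ne h1 h2)
          rw [← Subgroup.map_comap_eq_self_of_surjective hf X, h3,
            ← MonoidHom.range_eq_map, MonoidHom.range_eq_top.mpr hf]
      have h4 : f a ∈ M.map f := frattini_le_coatom hco hb
      rw [Subgroup.zpowers_le, ← hcm]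
      exact h4
    exact this (Subgroup.mem_zpowers a)
  rw [← hker, MonoidHom.mem_ker] at ha
  rw [ha]; exact Subgroup.one_mem _

open Cfsg.Agent.Lib.H3 in
open scoped commutatorElement in
/-- A nilpotent normal subgroup `F` of `G` lying in `Φ(G)` and in a subgroup `K` with `Φ(K) = 1`
whose index is prime to `|F|` is trivial (Gaschütz). -/
theorem eq_bot_of_le_frattini_of_frattini_eq_bot {G : Type*} [Group G] [Finite G]
    (F K : Subgroup G) [hFn : F.Normal] (hFK : F ≤ K) [hnil : Group.IsNilpotent ↥F]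
    (hcop : (Nat.card F).Coprime K.index)
    (hΦK : frattini ↥K = ⊥) (hFΦ : F ≤ frattini G) : F = ⊥ := by
  -- `F` is abelian
  have hSn : (F.subgroupOf K).Normal := Subgroup.Normal.subgroupOf hFn K
  have hSnil : Group.IsNilpotent ↥(F.subgroupOf K) :=
    Group.nilpotent_of_mulEquiv (Subgroup.subgroupOfEquivOfLe hFK).symm
  have h1 : commutator ↥(F.subgroupOf K) ≤ frattini ↥(F.subgroupOf K) :=
    commutator_le_frattini_of_isNilpotent _
  have h2 : (frattini ↥(F.subgroupOf K)).map (F.subgroupOf K).subtype ≤ ⊥ :=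
    hΦK ▸ frattini_map_subtype_le_frattini (F.subgroupOf K)
  have h3 : frattini ↥(F.subgroupOf K) = ⊥ := by
    rw [le_bot_iff, Subgroup.map_eq_bot_iff_of_injective _
      (Subgroup.subtype_injective (F.subgroupOf K))] at h2
    exact h2
  rw [h3, le_bot_iff] at h1
  have hcomm : ∀ x ∈ F, ∀ y ∈ F, x * y = y * x := by
    intro x hx y hy
    have hxK : x ∈ K := hFK hx
    have hyK : y ∈ K := hFK hy
    have hx' : (⟨x, hxK⟩ : ↥K) ∈ F.subgroupOf K := Subgroup.mem_subgroupOf.mpr hx
    have hy' : (⟨y, hyK⟩ : ↥K) ∈ F.subgroupOf K := Subgroup.mem_subgroupOf.mpr hy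
    have h4 : ⁅(⟨⟨x, hxK⟩, hx'⟩ : ↥(F.subgroupOf K)), ⟨⟨y, hyK⟩, hy'⟩⁆ ∈
        commutator ↥(F.subgroupOf K) :=
      Subgroup.commutator_mem_commutator (Subgroup.mem_top _) (Subgroup.mem_top _)
    rw [h1, Subgroup.mem_bot, commutatorElement_eq_one_iff_mul_comm] at h4
    exact congrArg (fun z : ↥(F.subgroupOf K) => ((z : ↥K) : G)) h4
  have hcomm' : ∀ x ∈ F.subgroupOf K, ∀ y ∈ F.subgroupOf K, x * y = y * x := by
    intro x hx y hy
    exact Subtype.ext (hcomm _ (Subgroup.mem_subgroupOf.mp hx) _ (Subgroup.mem_subgroupOf.mp hy))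
  obtain ⟨A', hA1, hA2⟩ := exists_complement_of_comm_normal hΦK (F.subgroupOf K) hcomm'
  have hmc : IsMulCommutative ↥F := ⟨⟨fun a b => Subtype.ext (hcomm _ a.2 _ b.2)⟩⟩
  have hAK : A'.map K.subtype ⊓ F = ⊥ := by
    rw [eq_bot_iff]
    rintro x ⟨hxA, hxF⟩
    obtain ⟨a, ha, rfl⟩ := hxA
    have : a ∈ F.subgroupOf K ⊓ A' := ⟨Subgroup.mem_subgroupOf.mpr hxF, ha⟩
    rw [hA2, Subgroup.mem_bot] at this
    rw [this]; exact Subgroup.one_mem _
  have hKA : F ⊔ A'.map K.subtype = K := by
    have := congrArg (Subgroup.map K.subtype) hA1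
    rw [Subgroup.map_sup, Subgroup.map_subgroupOf_eq_of_le hFK, ← MonoidHom.range_eq_map,
      Subgroup.range_subtype] at this
    exact this
  obtain ⟨C, hC⟩ := Cfsg.Agent.Lib.H1.gaschutz_exists F K hFK hcop (A'.map K.subtype) hAK hKA
  have hCtop : C = ⊤ := by
    apply frattini_nongenerating
    rw [eq_top_iff, ← hC.sup_eq_top, sup_comm]
    exact sup_le_sup_left hFΦ C
  have := hC.disjoint
  rw [hCtop, disjoint_top] at this
  exact this

/-- If `O_p(H) = 1` then `Φ(H)` has order prime to `p`. -/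
theorem not_dvd_card_frattini {H : Type*} [Group H] [Finite H] {p : ℕ} [Fact p.Prime]
    (hO : Cfsg.pCore p H = ⊥) : ¬ p ∣ Nat.card (frattini H) := by
  have P : Sylow p (frattini H) := default
  have h1 := Sylow.normalizer_sup_eq_top P
  have h2 := frattini_nongenerating h1
  have h3 : ((P : Subgroup (frattini H)).map (frattini H).subtype).Normal :=
    Subgroup.normalizer_eq_top_iff.mp h2
  have h4 : (P : Subgroup (frattini H)).map (frattini H).subtype ≤ Cfsg.pCore p H :=
    le_sSup ⟨h3, P.2.map _⟩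
  rw [hO, le_bot_iff, Subgroup.map_eq_bot_iff_of_injective _
    (Subgroup.subtype_injective _)] at h4
  have h5 := P.not_dvd_index
  have h6 := Subgroup.card_mul_index (P : Subgroup (frattini H))
  rw [h4, Subgroup.card_bot, one_mul] at h6
  rw [h4] at h5
  rw [← h6]
  exact h5

theorem frattini_le_pResidual {H : Type*} [Group H] [Finite H] {p : ℕ} [Fact p.Prime]
    (hO : Cfsg.pCore p H = ⊥) : frattini H ≤ Cfsg.pResidual p H := by
  intro x hx
  apply Subgroup.subset_closure
  show Nat.Coprime (orderOf x) p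
  have h1 : orderOf x ∣ Nat.card (frattini H) := by
    have := orderOf_dvd_natCard (⟨x, hx⟩ : frattini H)
    rwa [← Subgroup.orderOf_coe] at this
  have h2 : (Nat.card (frattini H)).Coprime p :=
    ((Nat.Prime.coprime_iff_not_dvd Fact.out).mpr (not_dvd_card_frattini hO)).symm
  exact Nat.Coprime.coprime_dvd_left h1 h2

open Cfsg.Agent.Lib.H3 in
theorem frattini_eq_frattini_pResidual {H : Type*} [Group H] [Finite H] {p : ℕ} [Fact p.Prime]
    (hO : Cfsg.pCore p H = ⊥) :
    frattini H = (frattini ↥(Cfsg.pResidual p H)).map (Cfsg.pResidual p H).subtype := by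
  have hKn : (Cfsg.pResidual p H).Normal := pResidual_normal'
  have hidx : ∃ n : ℕ, (Cfsg.pResidual p H).index = p ^ n := by
    have hq : IsPGroup p (H ⧸ Cfsg.pResidual p H) := pResidual_quotient_isPGroup
    obtain ⟨n, hn⟩ := IsPGroup.iff_card.mp hq
    exact ⟨n, by rw [Subgroup.index_eq_card, hn]⟩
  obtain ⟨K, hK⟩ : ∃ K, K = Cfsg.pResidual p H := ⟨_, rfl⟩
  rw [← hK]
  rw [← hK] at hKn
  have hFK : frattini H ≤ K := hK ▸ frattini_le_pResidual hO
  apply le_antisymm _ (frattini_map_subtype_le_frattini K)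
  have hNn : ((frattini ↥K).map K.subtype).Normal := normal_map_subtype_of_char K (frattini K)
  obtain ⟨N, hN⟩ : ∃ N, N = (frattini ↥K).map K.subtype := ⟨_, rfl⟩
  rw [← hN]
  rw [← hN] at hNn
  have hNK : N ≤ K := hN ▸ Subgroup.map_subtype_le _
  have hsurj : Function.Surjective (QuotientGroup.mk' N) := QuotientGroup.mk'_surjective N
  have hker : (QuotientGroup.mk' N).ker = N := QuotientGroup.ker_mk' N
  have hFn : ((frattini H).map (QuotientGroup.mk' N)).Normal :=
    Subgroup.Normal.map inferInstance _ hsurj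
  have hnil : Group.IsNilpotent ↥((frattini H).map (QuotientGroup.mk' N)) := by
    have : Group.IsNilpotent ↥(frattini H) := frattini_nilpotent
    exact Group.nilpotent_of_surjective ((QuotientGroup.mk' N).subgroupMap (frattini H))
      (MonoidHom.subgroupMap_surjective _ _)
  have hcop : (Nat.card ((frattini H).map (QuotientGroup.mk' N))).Coprime
      (K.map (QuotientGroup.mk' N)).index := by
    rw [Subgroup.index_map_eq K hsurj (hker.symm ▸ hNK)]
    obtain ⟨n, hn⟩ := hidx
    rw [hK, hn]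
    apply Nat.Coprime.pow_right
    apply Nat.Coprime.coprime_dvd_left (Subgroup.card_map_dvd _ _)
    exact ((Nat.Prime.coprime_iff_not_dvd Fact.out).mpr (not_dvd_card_frattini hO)).symm
  have hΦK : frattini ↥(K.map (QuotientGroup.mk' N)) = ⊥ := by
    apply frattini_eq_bot_of_ker_eq ((QuotientGroup.mk' N).subgroupMap K)
      (MonoidHom.subgroupMap_surjective _ _)
    rw [Subgroup.ker_subgroupMap, hker, hN]
    exact Subgroup.comap_map_eq_self_of_injective (Subgroup.subtype_injective K) _
  have hFΦ : (frattini H).map (QuotientGroup.mk' N) ≤ frattini (H ⧸ N) :=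
    Subgroup.map_le_iff_le_comap.mpr (frattini_le_comap_frattini_of_surjective hsurj)
  have := eq_bot_of_le_frattini_of_frattini_eq_bot _ _ (Subgroup.map_mono hFK) hcop hΦK hFΦ
  rw [Subgroup.map_eq_bot_iff, hker] at this
  exact this

theorem mem_of_pow_eq_one_of_coprime_index {H : Type*} [Group H] [Finite H] (M : Subgroup H)
    [M.Normal] (x : H) (a : ℕ) (hx : x ^ a = 1) (hcop : Nat.Coprime a M.index) : x ∈ M := by
  rw [← QuotientGroup.eq_one_iff]
  have h1 : ((x : H ⧸ M)) ^ a = 1 := by rw [← QuotientGroup.mk_pow, hx]; rfl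
  have h2 : ((x : H ⧸ M)) ^ M.index = 1 := by
    rw [Subgroup.index_eq_card]; exact pow_card_eq_one'
  have h3 : orderOf (x : H ⧸ M) ∣ Nat.gcd a M.index :=
    Nat.dvd_gcd (orderOf_dvd_of_pow_eq_one h1) (orderOf_dvd_of_pow_eq_one h2)
  rw [hcop.gcd_eq_one, Nat.dvd_one, orderOf_eq_one_iff] at h3
  exact h3

theorem coprime_orderOf_of_mem_center {H : Type*} [Group H] [Finite H] {p : ℕ} [hp : Fact p.Prime]
    (hO : Cfsg.pCore p H = ⊥) (z : H) (hz : z ∈ Subgroup.center H) :
    Nat.Coprime (orderOf z) p := by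
  by_contra hnc
  have hdvd : p ∣ orderOf z := by
    by_contra h
    exact hnc ((Nat.Prime.coprime_iff_not_dvd hp.out).mpr h).symm
  have hord : orderOf (z ^ (orderOf z / p)) = p :=
    orderOf_pow_orderOf_div (orderOf_pos z).ne' hdvd
  have hzc : z ^ (orderOf z / p) ∈ Subgroup.center H := Subgroup.pow_mem _ hz _
  have hn : (Subgroup.zpowers (z ^ (orderOf z / p))).Normal := by
    constructor
    intro n hn g
    have hnc : n ∈ Subgroup.center H :=
      (Subgroup.zpowers_le.mpr hzc) hn
    have : g * n * g⁻¹ = n := by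
      rw [Subgroup.mem_center_iff] at hnc
      rw [hnc g, mul_inv_cancel_right]
    rw [this]; exact hn
  have hpg : IsPGroup p (Subgroup.zpowers (z ^ (orderOf z / p))) := by
    apply IsPGroup.of_card (n := 1)
    rw [Nat.card_zpowers, hord, pow_one]
  have hle : Subgroup.zpowers (z ^ (orderOf z / p)) ≤ Cfsg.pCore p H := le_sSup ⟨hn, hpg⟩
  rw [hO, le_bot_iff, Subgroup.zpowers_eq_bot] at hle
  rw [hle, orderOf_one] at hord
  exact hp.out.one_lt.ne hord

open Cfsg.Agent.Lib.H3 in
theorem center_le_frattini_of_pElementClosure {H : Type*} [Group H] [Finite H] {p : ℕ}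
    [hp : Fact p.Prime] (hO : Cfsg.pCore p H = ⊥)
    (hgen : Cfsg.pElementClosure p (⊤ : Subgroup H) = ⊤) :
    Subgroup.center H ≤ frattini H := by
  rw [le_frattini_iff]
  intro M hM
  by_contra hZM
  have hsup : M ⊔ Subgroup.center H = ⊤ := sup_eq_top_of_isCoatom_of_not_le hM hZM
  have hMn : M.Normal := by
    rw [← Subgroup.normalizer_eq_top_iff, eq_top_iff, ← hsup]
    exact sup_le Subgroup.le_normalizer (Subgroup.center_le_normalizer _)
  have hr : M.index.Prime := index_prime_of_normal_isCoatom hM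
  by_cases hrp : M.index = p
  · obtain ⟨z, hz, hzM⟩ := SetLike.not_le_iff_exists.mp hZM
    apply hzM
    apply mem_of_pow_eq_one_of_coprime_index M z (orderOf z) (pow_orderOf_eq_one z)
    rw [hrp]
    exact coprime_orderOf_of_mem_center hO z hz
  · apply hM.1
    rw [eq_top_iff, ← hgen]
    unfold Cfsg.pElementClosure
    rw [Subgroup.closure_le]
    rintro x ⟨-, k, hk⟩
    apply mem_of_pow_eq_one_of_coprime_index M x (p ^ k) (hk ▸ pow_orderOf_eq_one x)
    apply Nat.Coprime.pow_left
    rw [Nat.coprime_primes hp.out hr]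
    exact fun h => hrp h.symm

end Cfsg.Agent.Lib.H14
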