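import Cfsg.Agent.Lib.H14.FStarComm
import Cfsg.Agent.Lib.H14.FratRes

/-! More on the action of a `p`-group on `F*(H)` when `O_p(H) = 1` (towards S2817). -/

set_option autoImplicit false

namespace Cfsg.Agent.Lib.H14
open scoped commutatorElement
open Cfsg.Agent.Lib.H7

universe u

theorem fstar_commutator_struct {Γ : Type u} [Group Γ] [Finite Γ] {p : ℕ} [hp : Fact p.Prime]
    (L Y : Subgroup Γ) [hLn : L.Normal] (hY : IsPGroup p Y)
    (hF : Cfsg.generalizedFittingSubgroup ↥L = ⊤) (hO : Cfsg.pCore p ↥L = ⊥) :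
    ∃ (C' : Set (Subgroup Γ)) (FL : Subgroup Γ),
      (∀ K ∈ C', Cfsg.IsComponent K ∧ K ≤ L) ∧ FL ≤ L ∧ FL.Normal ∧ ¬ p ∣ Nat.card FL ∧
      ⁅L, Y⁆ = sSup C' ⊔ ⁅FL, Y⁆ := by
  classical
  -- the components of `L` and the Fitting subgroup of `L`
  obtain ⟨C, hC⟩ : ∃ C : Set (Subgroup Γ), C = {K | Cfsg.IsComponent K ∧ K ≤ L} := ⟨_, rfl⟩
  obtain ⟨FL, hFL⟩ : ∃ FL : Subgroup Γ, FL = (Cfsg.fittingSubgroup ↥L).map L.subtype := ⟨_, rfl⟩
  have hCmem : ∀ K, K ∈ C ↔ Cfsg.IsComponent K ∧ K ≤ L := by intro K; rw [hC]; rfl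
  have hFLL : FL ≤ L := hFL ▸ Subgroup.map_subtype_le _
  have hEL : sSup C ≤ L := sSup_le (fun K hK => ((hCmem K).mp hK).2)
  have hLeq : L = sSup C ⊔ FL := by
    apply le_antisymm _ (sup_le hEL hFLL)
    have h1 : L = (⊤ : Subgroup ↥L).map L.subtype := by
      rw [← MonoidHom.range_eq_map, Subgroup.range_subtype]
    conv_lhs => rw [h1, ← hF]
    unfold Cfsg.generalizedFittingSubgroup
    rw [Subgroup.map_sup, ← hFL]
    apply sup_le_sup_right
    rw [Subgroup.map_le_iff_le_comap]
    apply sSup_le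
    intro K' hK'
    rw [← Subgroup.map_le_iff_le_comap]
    apply le_sSup
    rw [hCmem]
    exact ⟨isComponent_map_subtype hLn.isSubnormal hK', Subgroup.map_subtype_le _⟩
  -- `FL` is a normal nilpotent `p'`-subgroup
  have hFLn : FL.Normal := by rw [hFL]; infer_instance
  have hFLnil : Group.IsNilpotent ↥FL := by
    rw [hFL]
    have : Group.IsNilpotent ↥(Cfsg.fittingSubgroup ↥L) := fittingSubgroup_isNilpotent
    exact Group.nilpotent_of_mulEquiv
      ((Cfsg.fittingSubgroup ↥L).equivMapOfInjective L.subtype (Subgroup.subtype_injective L))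
  have hFLcard : ¬ p ∣ Nat.card FL := by
    have : Group.IsNilpotent ↥(Cfsg.fittingSubgroup ↥L) := fittingSubgroup_isNilpotent
    have h1 := not_dvd_card_of_normal_nilpotent hO (Cfsg.fittingSubgroup ↥L)
    rw [hFL, ← Nat.card_congr ((Cfsg.fittingSubgroup ↥L).equivMapOfInjective L.subtype
      (Subgroup.subtype_injective L)).toEquiv]
    exact h1
  have hcop : Cfsg.Agent.Lib.H1.CoprimeAction Y FL :=
    { normalizes := Subgroup.le_normalizer_of_normal
      coprime := by
        obtain ⟨n, hn⟩ := IsPGroup.iff_card.mp hY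
        rw [hn]
        exact Nat.Coprime.pow_left n ((Nat.Prime.coprime_iff_not_dvd hp.out).mpr hFLcard)
      solvable := Or.inr inferInstance }
  have hFc1 := Cfsg.Agent.Lib.H1.coprime_commutator_sup_centralizer hcop
  have hFc2 := Cfsg.Agent.Lib.H1.coprime_commutator_commutator hcop
  have hcomL : ⁅L, Y⁆ ≤ L := Subgroup.commutator_le_left L Y
  -- components centralize `FL`
  have hKF : ∀ K ∈ C, ⁅K, FL⁆ = ⊥ := by
    intro K hK
    exact component_commutator_solvable ((hCmem K).mp hK).1 inferInstance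
      Subgroup.le_normalizer_of_normal
  -- dichotomy for components
  have hdich : ∀ K ∈ C, ⁅K, Y⁆ = ⊥ ∨ K ≤ ⁅K, Y⁆ := fun K hK =>
    component_commutator_dichotomy K Y ((hCmem K).mp hK).1
  obtain ⟨C', hC'⟩ : ∃ C' : Set (Subgroup Γ), C' = {K | K ∈ C ∧ ⁅K, Y⁆ ≠ ⊥} := ⟨_, rfl⟩
  have hC'mem : ∀ K, K ∈ C' ↔ K ∈ C ∧ ⁅K, Y⁆ ≠ ⊥ := by intro K; rw [hC']; rfl
  -- `L` normalizes every component in `C`
  have hLK : ∀ K ∈ C, L ≤ Subgroup.normalizer (K : Set Γ) := by
    intro K hK
    conv_lhs => rw [hLeq]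
    apply sup_le
    · apply sSup_le
      intro K' hK'
      by_cases hKK : K' = K
      · rw [hKK]; exact Subgroup.le_normalizer
      · have := components_commute ((hCmem K').mp hK').1 ((hCmem K).mp hK).1 hKK
        rw [Subgroup.commutator_eq_bot_iff_le_centralizer] at this
        exact this.trans (Subgroup.centralizer_le_normalizer _)
    · have := hKF K hK
      rw [Subgroup.commutator_eq_bot_iff_le_centralizer, Subgroup.le_centralizer_iff] at this
      exact this.trans (Subgroup.centralizer_le_normalizer _)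
  -- `L` and `Y` normalize `sSup C'`
  have hLT' : L ≤ Subgroup.normalizer ((sSup C' : Subgroup Γ) : Set Γ) := by
    apply le_normalizer_sSup_of_map_mem
    intro x hx K hK
    rw [map_cj_eq_of_mem_nzr K x (hLK K ((hC'mem K).mp hK).1 hx)]
    exact hK
  have hYT' : Y ≤ Subgroup.normalizer ((sSup C' : Subgroup Γ) : Set Γ) := by
    apply le_normalizer_sSup_of_map_mem
    intro y hy K hK
    obtain ⟨hKC, hKY⟩ := (hC'mem K).mp hK
    rw [hC'mem, hCmem]
    refine ⟨⟨isComponent_map_conj y ((hCmem K).mp hKC).1, ?_⟩, ?_⟩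
    · rw [Subgroup.map_le_iff_le_comap]
      intro k hk
      exact hLn.conj_mem k (((hCmem K).mp hKC).2 hk) y
    · intro hbot
      apply hKY
      have h1 : (⁅K, Y⁆).map (cj y) = ⁅K.map (cj y), Y.map (cj y)⁆ := Subgroup.map_commutator _ _ _
      rw [map_cj_eq_of_mem_nzr Y y (Subgroup.le_normalizer hy), hbot] at h1
      exact (Subgroup.map_eq_bot_iff_of_injective _ (MulAut.conj y).injective).mp h1
  -- the target subgroup
  have hFYL : L ≤ Subgroup.normalizer ((⁅FL, Y⁆ : Subgroup Γ) : Set Γ) := by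
    conv_lhs => rw [hLeq]
    apply sup_le
    · apply sSup_le
      intro K hK
      have h1 := hKF K hK
      rw [Subgroup.commutator_eq_bot_iff_le_centralizer] at h1
      have h2 : ⁅FL, Y⁆ ≤ FL := Subgroup.commutator_le_left FL Y
      exact (h1.trans (Subgroup.centralizer_le h2)).trans (Subgroup.centralizer_le_normalizer _)
    · exact Subgroup.normalizer_commutator_ge_left FL Y
  have hLT : L ≤ Subgroup.normalizer ((sSup C' ⊔ ⁅FL, Y⁆ : Subgroup Γ) : Set Γ) := by
    intro x hx
    have h1 := hLT' hx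
    have h2 := hFYL hx
    rw [Subgroup.mem_normalizer_iff] at h1 h2 ⊢
    intro g
    have e1 := map_cj_eq_of_mem_nzr _ x (hLT' hx)
    have e2 := map_cj_eq_of_mem_nzr _ x (hFYL hx)
    have e3 : (sSup C' ⊔ ⁅FL, Y⁆).map (cj x) = sSup C' ⊔ ⁅FL, Y⁆ := by
      rw [Subgroup.map_sup, e1, e2]
    have := mem_nzr_of_map_cj_eq _ x e3
    exact (Subgroup.mem_normalizer_iff.mp this) g
  have hle1 : ⁅L, Y⁆ ≤ sSup C' ⊔ ⁅FL, Y⁆ := by
    have hLcl : L = Subgroup.closure {s | (∃ K ∈ C, s ∈ K) ∨ s ∈ FL} := by
      apply le_antisymm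
      · conv_lhs => rw [hLeq]
        apply sup_le
        · apply sSup_le
          intro K hK k hk
          exact Subgroup.subset_closure (Or.inl ⟨K, hK, hk⟩)
        · intro f hf
          exact Subgroup.subset_closure (Or.inr hf)
      · rw [Subgroup.closure_le]
        rintro s (⟨K, hK, hs⟩ | hs)
        · exact ((hCmem K).mp hK).2 hs
        · exact hFLL hs
    conv_lhs => rw [hLcl]
    apply commutator_closure_le
    · rw [← hLcl]; exact hLT
    · rintro s (⟨K, hK, hs⟩ | hs) y hy
      · by_cases hKY : ⁅K, Y⁆ = ⊥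
        · have : ⁅s, y⁆ ∈ ⁅K, Y⁆ := Subgroup.commutator_mem_commutator hs hy
          rw [hKY, Subgroup.mem_bot] at this
          rw [this]; exact Subgroup.one_mem _
        · have hKC' : K ∈ C' := (hC'mem K).mpr ⟨hK, hKY⟩
          have h1 : ⁅sSup C', Y⁆ ≤ sSup C' :=
            Subgroup.le_normalizer_iff_commutator_le_left.mp hYT'
          apply Subgroup.mem_sup_left
          exact h1 (Subgroup.commutator_mem_commutator (le_sSup hKC' hs) hy)
      · apply Subgroup.mem_sup_right
        exact Subgroup.commutator_mem_commutator hs hy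
  have hle2 : sSup C' ⊔ ⁅FL, Y⁆ ≤ ⁅⁅L, Y⁆, Y⁆ := by
    apply sup_le
    · apply sSup_le
      intro K hK
      obtain ⟨hKC, hKY⟩ := (hC'mem K).mp hK
      have h1 : K ≤ ⁅K, Y⁆ := (hdich K hKC).resolve_left hKY
      have h2 : K ≤ ⁅L, Y⁆ := h1.trans (Subgroup.commutator_mono ((hCmem K).mp hKC).2 le_rfl)
      exact h1.trans (Subgroup.commutator_mono h2 le_rfl)
    · rw [← hFc2]
      exact Subgroup.commutator_mono (Subgroup.commutator_mono hFLL le_rfl) le_rfl
  have hle3 : ⁅⁅L, Y⁆, Y⁆ ≤ ⁅L, Y⁆ := Subgroup.commutator_mono hcomL le_rfl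
  refine ⟨C', FL, ?_, hFLL, hFLn, hFLcard, le_antisymm hle1 (hle2.trans hle3)⟩
  intro K hK
  exact (hCmem K).mp ((hC'mem K).mp hK).1

/-- Normalizer of an intersection. -/
theorem mem_normalizer_inf {G : Type*} [Group G] {A B : Subgroup G} {x : G}
    (hA : x ∈ Subgroup.normalizer (A : Set G)) (hB : x ∈ Subgroup.normalizer (B : Set G)) :
    x ∈ Subgroup.normalizer ((A ⊓ B : Subgroup G) : Set G) := by
  rw [Subgroup.mem_normalizer_iff] at hA hB ⊢
  intro g
  rw [Subgroup.mem_inf, Subgroup.mem_inf, ← hA g, ← hB g]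

theorem mem_normalizer_sup {G : Type*} [Group G] {A B : Subgroup G} {x : G}
    (hA : x ∈ Subgroup.normalizer (A : Set G)) (hB : x ∈ Subgroup.normalizer (B : Set G)) :
    x ∈ Subgroup.normalizer ((A ⊔ B : Subgroup G) : Set G) := by
  apply mem_nzr_of_map_cj_eq
  rw [Subgroup.map_sup, map_cj_eq_of_mem_nzr A x hA, map_cj_eq_of_mem_nzr B x hB]

section S2817
set_option linter.unusedSectionVars false
variable {H : Type u} [Group H] [Finite H] {p : ℕ} [hp : Fact p.Prime]

/-- The set-up of S2817. -/
structure FQ (p : ℕ) (Q L F : Subgroup H) : Prop where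
  hO : Cfsg.pCore p H = ⊥
  hQ : IsPGroup p ↥Q
  hL : L = ⁅Cfsg.generalizedFittingSubgroup H, Q⁆
  hF1 : F ≤ Cfsg.generalizedFittingSubgroup H
  hF2 : Cfsg.generalizedFittingSubgroup H ≤ Subgroup.normalizer (F : Set H)
  hF3 : Q ≤ Subgroup.centralizer (F : Set H)
  hF4 : ∀ N : Subgroup H, N ≤ Cfsg.generalizedFittingSubgroup H →
    Cfsg.generalizedFittingSubgroup H ≤ Subgroup.normalizer (N : Set H) →
    Q ≤ Subgroup.centralizer (N : Set H) → N ≤ F

namespace FQ
variable {Q L F : Subgroup H}

theorem fs_normal : (Cfsg.generalizedFittingSubgroup H).Normal := generalizedFittingSubgroup_normal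

theorem decomp (h : FQ p Q L F) :
    L ⊔ (Cfsg.generalizedFittingSubgroup H ⊓ Subgroup.centralizer (Q : Set H)) =
      Cfsg.generalizedFittingSubgroup H ∧ L = ⁅L, Q⁆ := by
  have hFn : (Cfsg.generalizedFittingSubgroup H).Normal := generalizedFittingSubgroup_normal
  have := fstar_commutator_pgroup_ambient (Cfsg.generalizedFittingSubgroup H) Q h.hQ
    Subgroup.le_normalizer_of_normal
    (fstar_top_of_isSubnormal_le _ hFn.isSubnormal le_rfl)
    (pCore_eq_bot_of_isSubnormal _ hFn.isSubnormal h.hO)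
  rw [← h.hL] at this
  exact this

theorem L_le (h : FQ p Q L F) : L ≤ Cfsg.generalizedFittingSubgroup H := by
  have hFn : (Cfsg.generalizedFittingSubgroup H).Normal := generalizedFittingSubgroup_normal
  rw [h.hL]; exact Subgroup.commutator_le_left _ _

theorem fs_le_nzr_L (h : FQ p Q L F) :
    Cfsg.generalizedFittingSubgroup H ≤ Subgroup.normalizer (L : Set H) := by
  rw [h.hL]; exact Subgroup.normalizer_commutator_ge_left _ _

theorem Q_le_nzr_L (h : FQ p Q L F) : Q ≤ Subgroup.normalizer (L : Set H) := by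
  rw [h.hL]; exact Subgroup.normalizer_commutator_ge_right _ _

theorem F_le_centralizer_L (h : FQ p Q L F) : F ≤ Subgroup.centralizer (L : Set H) := by
  rw [← Subgroup.commutator_eq_bot_iff_le_centralizer, Subgroup.commutator_comm, h.hL]
  have hFQ : ⁅Q, F⁆ = ⊥ := by
    rw [Subgroup.commutator_eq_bot_iff_le_centralizer]; exact h.hF3
  apply Subgroup.commutator_commutator_eq_bot_of_rotate
  · rw [hFQ, Subgroup.commutator_eq_bot_iff_le_centralizer]; exact bot_le
  · have h1 : ⁅F, Cfsg.generalizedFittingSubgroup H⁆ ≤ F :=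
      Subgroup.le_normalizer_iff_commutator_le_left.mp h.hF2
    rw [eq_bot_iff]
    refine (Subgroup.commutator_mono h1 le_rfl).trans ?_
    rw [Subgroup.commutator_comm, hFQ]

theorem F_eq (h : FQ p Q L F) :
    F = Cfsg.generalizedFittingSubgroup H ⊓ Subgroup.centralizer ((L ⊔ Q : Subgroup H) : Set H) := by
  apply le_antisymm
  · refine le_inf h.hF1 ?_
    rw [Subgroup.le_centralizer_iff]
    exact sup_le (Subgroup.le_centralizer_iff.mp h.F_le_centralizer_L) h.hF3
  · apply h.hF4 _ inf_le_left
    · -- normalized by F*(H) = L * C_{F*}(Q)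
      conv_lhs => rw [← h.decomp.1]
      apply sup_le
      · have h1 : L ≤ Subgroup.centralizer
            ((Cfsg.generalizedFittingSubgroup H ⊓
              Subgroup.centralizer ((L ⊔ Q : Subgroup H) : Set H) : Subgroup H) : Set H) := by
          rw [Subgroup.le_centralizer_iff]
          exact inf_le_right.trans (Subgroup.centralizer_le (SetLike.coe_subset_coe.mpr le_sup_left))
        exact h1.trans (Subgroup.centralizer_le_normalizer _)
      · intro x hx
        have hFn : (Cfsg.generalizedFittingSubgroup H).Normal := generalizedFittingSubgroup_normal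
        apply mem_normalizer_inf (Subgroup.le_normalizer_of_normal hx.1)
        apply nzr_le_nzr_centralizer
        apply mem_normalizer_sup (h.fs_le_nzr_L hx.1)
        exact Subgroup.centralizer_le_normalizer _ hx.2
    · rw [Subgroup.le_centralizer_iff]
      exact inf_le_right.trans (Subgroup.centralizer_le (SetLike.coe_subset_coe.mpr le_sup_right))

end FQ
end S2817

/-- `F*(H)` normalizes every component. -/
theorem fs_le_normalizer_component {H : Type u} [Group H] [Finite H] {K : Subgroup H}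
    (hK : Cfsg.IsComponent K) :
    Cfsg.generalizedFittingSubgroup H ≤ Subgroup.normalizer (K : Set H) := by
  unfold Cfsg.generalizedFittingSubgroup
  apply sup_le
  · apply sSup_le
    intro K' hK'
    by_cases hKK : K' = K
    · rw [hKK]; exact Subgroup.le_normalizer
    · have := components_commute hK' hK hKK
      rw [Subgroup.commutator_eq_bot_iff_le_centralizer] at this
      exact this.trans (Subgroup.centralizer_le_normalizer _)
  · have hFn : (Cfsg.fittingSubgroup H).Normal := inferInstance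
    have hnil : Group.IsNilpotent ↥(Cfsg.fittingSubgroup H) := fittingSubgroup_isNilpotent
    have := component_commutator_solvable hK (H := Cfsg.fittingSubgroup H) inferInstance
      Subgroup.le_normalizer_of_normal
    rw [Subgroup.commutator_eq_bot_iff_le_centralizer, Subgroup.le_centralizer_iff] at this
    exact this.trans (Subgroup.centralizer_le_normalizer _)

/-- `C_H(F*(H))` has order prime to `p` when `O_p(H) = 1`. -/
theorem not_dvd_card_centralizer_fstar {H : Type u} [Group H] [Finite H] {p : ℕ}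
    [hp : Fact p.Prime] (hO : Cfsg.pCore p H = ⊥) :
    ¬ p ∣ Nat.card (Subgroup.centralizer ((Cfsg.generalizedFittingSubgroup H : Subgroup H) : Set H)) := by
  have hFn : (Cfsg.generalizedFittingSubgroup H).Normal := generalizedFittingSubgroup_normal
  have hDn : (Subgroup.centralizer ((Cfsg.generalizedFittingSubgroup H : Subgroup H) : Set H)).Normal :=
    inferInstance
  have hDle := centralizer_generalizedFittingSubgroup_le (G := H)
  have hDnil : Group.IsNilpotent
      ↥(Subgroup.centralizer ((Cfsg.generalizedFittingSubgroup H : Subgroup H) : Set H)) := by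
    apply Subgroup.isNilpotent_of_lowerCentralSeries_eq_bot (n := 1)
    rw [Subgroup.lowerCentralSeries_succ, Subgroup.lowerCentralSeries_zero,
      Subgroup.commutator_eq_bot_iff_le_centralizer]
    intro x hx
    rw [Subgroup.mem_centralizer_iff]
    intro y hy
    exact Subgroup.mem_centralizer_iff.mp hx y (hDle hy)
  exact not_dvd_card_of_normal_nilpotent hO _

theorem eq_bot_of_isPGroup_of_le_centralizer_fstar {H : Type u} [Group H] [Finite H] {p : ℕ}
    [hp : Fact p.Prime] (hO : Cfsg.pCore p H = ⊥) (P : Subgroup H) (hP : IsPGroup p ↥P)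
    (hPC : P ≤ Subgroup.centralizer ((Cfsg.generalizedFittingSubgroup H : Subgroup H) : Set H)) :
    P = ⊥ := by
  by_contra hne
  obtain ⟨n, hn⟩ := IsPGroup.iff_card.mp hP
  have hn0 : n ≠ 0 := by
    rintro rfl
    rw [pow_zero] at hn
    exact hne (Subgroup.card_eq_one.mp hn)
  apply not_dvd_card_centralizer_fstar hO
  refine dvd_trans ?_ (Subgroup.card_dvd_of_le hPC)
  rw [hn]; exact dvd_pow_self p hn0

section S2817
set_option linter.unusedSectionVars false
variable {H : Type u} [Group H] [Finite H] {p : ℕ} [hp : Fact p.Prime]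
namespace FQ
variable {Q L F : Subgroup H}

theorem comp_le (h : FQ p Q L F) {K : Subgroup H} (hK : Cfsg.IsComponent K) : K ≤ L ∨ K ≤ F := by
  have hKFs : K ≤ Cfsg.generalizedFittingSubgroup H :=
    (component_le_layer hK).trans layer_le_generalizedFittingSubgroup
  rcases component_commutator_dichotomy K Q hK with h0 | h0
  · right
    have hE : sSup {K : Subgroup H | Cfsg.IsComponent K ∧ ⁅K, Q⁆ = ⊥} ≤ F := by
      apply h.hF4
      · apply sSup_le
        intro K' hK'
        exact (component_le_layer hK'.1).trans layer_le_generalizedFittingSubgroup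
      · apply le_normalizer_sSup_of_map_mem
        intro x hx K' hK'
        rw [map_cj_eq_of_mem_nzr K' x (fs_le_normalizer_component hK'.1 hx)]
        exact hK'
      · rw [Subgroup.le_centralizer_iff]
        apply sSup_le
        intro K' hK'
        have := hK'.2
        rwa [Subgroup.commutator_eq_bot_iff_le_centralizer] at this
    exact (le_sSup (show K ∈ {K : Subgroup H | Cfsg.IsComponent K ∧ ⁅K, Q⁆ = ⊥} from ⟨hK, h0⟩)).trans hE
  · left
    rw [h.hL]
    exact h0.trans (Subgroup.commutator_mono hKFs le_rfl)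

end FQ
end S2817

section S2817
set_option linter.unusedSectionVars false
variable {H : Type u} [Group H] [Finite H] {p : ℕ} [hp : Fact p.Prime]
namespace FQ
variable {Q L F : Subgroup H}

theorem coprimeAction_fitting (hO : Cfsg.pCore p H = ⊥) (P : Subgroup H) (hP : IsPGroup p ↥P) :
    Cfsg.Agent.Lib.H1.CoprimeAction P (Cfsg.fittingSubgroup H) := by
  have hnil : Group.IsNilpotent ↥(Cfsg.fittingSubgroup H) := fittingSubgroup_isNilpotent
  exact
  { normalizes := Subgroup.le_normalizer_of_normal
    coprime := by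
      obtain ⟨n, hn⟩ := IsPGroup.iff_card.mp hP
      rw [hn]
      exact Nat.Coprime.pow_left n ((Nat.Prime.coprime_iff_not_dvd hp.out).mpr
        (not_dvd_card_of_normal_nilpotent hO _))
    solvable := Or.inr inferInstance }

/-- A `p`-subgroup centralizing `F` and `L` centralizes the Fitting subgroup. -/
theorem fitting_le_centralizer (h : FQ p Q L F) (P : Subgroup H) (hP : IsPGroup p ↥P)
    (hPF : F ≤ Subgroup.centralizer (P : Set H)) (hPL : L ≤ Subgroup.centralizer (P : Set H)) :
    Cfsg.fittingSubgroup H ≤ Subgroup.centralizer (P : Set H) := by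
  obtain ⟨R, hR⟩ : ∃ R, R = Cfsg.fittingSubgroup H := ⟨_, rfl⟩
  have hRn : R.Normal := by rw [hR]; infer_instance
  have hRFs : R ≤ Cfsg.generalizedFittingSubgroup H := hR ▸ fittingSubgroup_le_generalizedFittingSubgroup
  have hQR : Cfsg.Agent.Lib.H1.CoprimeAction Q R := hR ▸ coprimeAction_fitting h.hO Q h.hQ
  have hPR : Cfsg.Agent.Lib.H1.CoprimeAction P R := hR ▸ coprimeAction_fitting h.hO P hP
  rw [← hR]
  -- `R₁ = [R, Q] ≤ L`
  have hR1L : ⁅R, Q⁆ ≤ L := by rw [h.hL]; exact Subgroup.commutator_mono hRFs le_rfl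
  have hR1P : ⁅R, Q⁆ ≤ Subgroup.centralizer (P : Set H) := hR1L.trans hPL
  have hRdec := Cfsg.Agent.Lib.H1.coprime_commutator_sup_centralizer hQR
  -- `C₁ = C_R([R,Q])`
  obtain ⟨C₁, hC₁⟩ : ∃ C₁, C₁ = R ⊓ Subgroup.centralizer ((⁅R, Q⁆ : Subgroup H) : Set H) :=
    ⟨_, rfl⟩
  have hQC₁ : Q ≤ Subgroup.normalizer (C₁ : Set H) := by
    intro q hq
    rw [hC₁]
    apply mem_normalizer_inf (Subgroup.le_normalizer_of_normal hq)
    exact nzr_le_nzr_centralizer _ (Subgroup.normalizer_commutator_ge_right R Q hq)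
  have hC₁R : C₁ ≤ R := hC₁ ▸ inf_le_left
  have hQC₁' : Cfsg.Agent.Lib.H1.CoprimeAction Q C₁ := hQR.mono hC₁R hQC₁
  have hC₁dec := Cfsg.Agent.Lib.H1.coprime_commutator_sup_centralizer hQC₁'
  -- `C₂ = C_{C₁}(Q) ≤ F`
  have hC₂F : C₁ ⊓ Subgroup.centralizer (Q : Set H) ≤ F := by
    apply h.hF4
    · exact inf_le_left.trans (hC₁R.trans hRFs)
    · unfold Cfsg.generalizedFittingSubgroup
      apply sup_le
      · have h1 : Cfsg.layer H ≤ Subgroup.centralizer (R : Set H) := by
          rw [← Subgroup.commutator_eq_bot_iff_le_centralizer, hR]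
          exact layer_commutator_fitting
        refine (h1.trans (Subgroup.centralizer_le ?_)).trans (Subgroup.centralizer_le_normalizer _)
        exact SetLike.coe_subset_coe.mpr (inf_le_left.trans hC₁R)
      · rw [← hR]
        conv_lhs => rw [← hRdec]
        apply sup_le
        · have h1 : ⁅R, Q⁆ ≤ Subgroup.centralizer
              ((C₁ ⊓ Subgroup.centralizer (Q : Set H) : Subgroup H) : Set H) := by
            rw [Subgroup.le_centralizer_iff]
            refine inf_le_left.trans ?_
            rw [hC₁]; exact inf_le_right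
          exact h1.trans (Subgroup.centralizer_le_normalizer _)
        · intro x hx
          apply mem_normalizer_inf
          · rw [hC₁]
            apply mem_normalizer_inf (Subgroup.le_normalizer hx.1)
            exact nzr_le_nzr_centralizer _ (Subgroup.normalizer_commutator_ge_left R Q hx.1)
          · exact nzr_le_nzr_centralizer _ (Subgroup.centralizer_le_normalizer _ hx.2)
    · rw [Subgroup.le_centralizer_iff]; exact inf_le_right
  -- `P` centralizes `C₁`
  have hC₁P : C₁ ≤ Subgroup.centralizer (P : Set H) := by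
    conv_lhs => rw [← hC₁dec]
    apply sup_le
    · exact (Subgroup.commutator_mono hC₁R le_rfl).trans hR1P
    · exact hC₂F.trans hPF
  -- `[R, P] ≤ C₁`
  have hRPC₁ : ⁅R, P⁆ ≤ C₁ := by
    rw [hC₁]
    refine le_inf (Subgroup.commutator_le_left R P) ?_
    rw [← Subgroup.commutator_eq_bot_iff_le_centralizer]
    apply Subgroup.commutator_commutator_eq_bot_of_rotate
    · have : ⁅P, ⁅R, Q⁆⁆ = ⊥ := by
        rw [Subgroup.commutator_comm, Subgroup.commutator_eq_bot_iff_le_centralizer]
        exact hR1P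
      rw [this, Subgroup.commutator_eq_bot_iff_le_centralizer]; exact bot_le
    · have h1 : ⁅⁅R, Q⁆, R⁆ ≤ ⁅R, Q⁆ :=
        Subgroup.le_normalizer_iff_commutator_le_left.mp
          (Subgroup.normalizer_commutator_ge_left R Q)
      rw [eq_bot_iff]
      refine (Subgroup.commutator_mono h1 le_rfl).trans ?_
      rw [le_bot_iff, Subgroup.commutator_eq_bot_iff_le_centralizer]
      exact hR1P
  have h2 : ⁅⁅R, P⁆, P⁆ = ⊥ := by
    rw [eq_bot_iff]
    refine (Subgroup.commutator_mono hRPC₁ le_rfl).trans ?_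
    rw [le_bot_iff, Subgroup.commutator_eq_bot_iff_le_centralizer]
    exact hC₁P
  rw [Cfsg.Agent.Lib.H1.coprime_commutator_commutator hPR] at h2
  rwa [Subgroup.commutator_eq_bot_iff_le_centralizer] at h2

/-- (e): `C_H(FL)` has order prime to `p`. -/
theorem card_centralizer_coprime (h : FQ p Q L F) :
    (Nat.card ↥(Subgroup.centralizer ((F ⊔ L : Subgroup H) : Set H))).Coprime p := by
  have key : ∀ P : Subgroup H, IsPGroup p ↥P →
      P ≤ Subgroup.centralizer ((F ⊔ L : Subgroup H) : Set H) → P = ⊥ := by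
    intro P hP hPD
    have hFL : F ⊔ L ≤ Subgroup.centralizer (P : Set H) := Subgroup.le_centralizer_iff.mp hPD
    have hPF : F ≤ Subgroup.centralizer (P : Set H) := le_sup_left.trans hFL
    have hPL : L ≤ Subgroup.centralizer (P : Set H) := le_sup_right.trans hFL
    apply eq_bot_of_isPGroup_of_le_centralizer_fstar h.hO P hP
    rw [Subgroup.le_centralizer_iff]
    unfold Cfsg.generalizedFittingSubgroup
    apply sup_le
    · apply sSup_le
      intro K hK
      rcases h.comp_le hK with h1 | h1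
      · exact h1.trans hPL
      · exact h1.trans hPF
    · exact h.fitting_le_centralizer P hP hPF hPL
  obtain ⟨D, hD⟩ : ∃ D, D = Subgroup.centralizer ((F ⊔ L : Subgroup H) : Set H) := ⟨_, rfl⟩
  rw [← hD]
  have P : Sylow p ↥D := default
  have h1 : (P : Subgroup ↥D).map D.subtype = ⊥ :=
    key _ (P.2.map _) (hD ▸ Subgroup.map_subtype_le _)
  rw [Subgroup.map_eq_bot_iff_of_injective _ (Subgroup.subtype_injective _)] at h1
  have h5 := P.not_dvd_index
  have h6 := Subgroup.card_mul_index (P : Subgroup ↥D)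
  rw [h1, Subgroup.card_bot, one_mul] at h6
  rw [h1, h6] at h5
  exact ((Nat.Prime.coprime_iff_not_dvd hp.out).mpr h5).symm

end FQ
end S2817

open Cfsg.Agent.Lib.H3 in
/-- A central element fixed by a `p`-group of automorphisms `A` lies in the Frattini subgroup,
provided the group is generated by `p'`-elements and by the "commutators" `l * (a l)⁻¹`. -/
theorem mem_frattini_of_central_fixed {Γ : Type*} [Group Γ] [Finite Γ] {A : Type*} [Group A]
    [Finite A] {p : ℕ} [hp : Fact p.Prime] (hA : IsPGroup p A) (ρ : A →* MulAut Γ)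
    (hgen : Subgroup.closure {g : Γ | ∃ (l : Γ) (a : A), g = l * (ρ a l)⁻¹} = ⊤)
    (hres : Cfsg.pResidual p Γ = ⊤) (x : Γ) (hxc : x ∈ Subgroup.center Γ)
    (hxf : ∀ a : A, ρ a x = x) : x ∈ frattini Γ := by
  classical
  have hfr : Subgroup.zpowers x ≤ frattini Γ := by
    rw [le_frattini_iff]
    intro M hM
    by_contra hZM
    have hxM : x ∉ M := fun h => hZM (Subgroup.zpowers_le.mpr h)
    have hZM' : ¬ Subgroup.center Γ ≤ M := fun h => hxM (h hxc)
    have hsup : M ⊔ Subgroup.center Γ = ⊤ := sup_eq_top_of_isCoatom_of_not_le hM hZM'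
    have hMn : M.Normal := by
      rw [← Subgroup.normalizer_eq_top_iff, eq_top_iff, ← hsup]
      exact sup_le Subgroup.le_normalizer (Subgroup.center_le_normalizer _)
    have hr : M.index.Prime := index_prime_of_normal_isCoatom hM
    by_cases hrp : M.index = p
    · apply hM.1
      rw [eq_top_iff, ← hres]
      unfold Cfsg.pResidual
      rw [Subgroup.closure_le]
      intro g hg
      apply mem_of_pow_eq_one_of_coprime_index M g (orderOf g) (pow_orderOf_eq_one g)
      rw [hrp]; exact hg
    · -- the quotient is cyclic of prime order `r ≠ p`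
      haveI : Fact M.index.Prime := ⟨hr⟩
      have hcard : Nat.card (Γ ⧸ M) = M.index := (Subgroup.index_eq_card M).symm
      haveI : IsCyclic (Γ ⧸ M) := isCyclic_of_prime_card hcard
      letI : CommGroup (Γ ⧸ M) := IsCyclic.commGroup
      letI : Fintype A := Fintype.ofFinite A
      let ψ : Γ →* Γ ⧸ M := ∏ a : A, (QuotientGroup.mk' M).comp (ρ a).toMonoidHom
      have hψ : ∀ g, ψ g = ∏ a : A, ((ρ a g : Γ) : Γ ⧸ M) := by
        intro g
        simp only [ψ, MonoidHom.finset_prod_apply]
        rfl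
      have hinv : ∀ (b : A) (g : Γ), ψ (ρ b g) = ψ g := by
        intro b g
        rw [hψ, hψ]
        apply Fintype.prod_equiv (Equiv.mulRight b)
        intro a
        simp [map_mul]
      have hker : ∀ g, ψ g = 1 := by
        intro g
        have : g ∈ Subgroup.closure {g : Γ | ∃ (l : Γ) (a : A), g = l * (ρ a l)⁻¹} := by
          rw [hgen]; trivial
        have hle : Subgroup.closure {g : Γ | ∃ (l : Γ) (a : A), g = l * (ρ a l)⁻¹} ≤ ψ.ker := by
          rw [Subgroup.closure_le]
          rintro g ⟨l, a, rfl⟩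
          show ψ _ = 1
          rw [map_mul, map_inv, hinv, mul_inv_cancel]
        exact hle this
      have hψx : ψ x = ((x : Γ) : Γ ⧸ M) ^ Nat.card A := by
        rw [hψ]
        simp only [hxf, Finset.prod_const, Finset.card_univ, Nat.card_eq_fintype_card]
      have hx1 : ((x : Γ) : Γ ⧸ M) ≠ 1 := by
        rw [Ne, QuotientGroup.eq_one_iff]; exact hxM
      have hord : orderOf ((x : Γ) : Γ ⧸ M) = M.index := by
        have := orderOf_dvd_natCard ((x : Γ) : Γ ⧸ M)
        rw [hcard] at this
        rcases (Nat.dvd_prime hr).mp this with h | h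
        · exact absurd (orderOf_eq_one_iff.mp h) hx1
        · exact h
      obtain ⟨n, hn⟩ := IsPGroup.iff_card.mp hA
      have : M.index ∣ p ^ n := by
        rw [← hord, ← hn]
        apply orderOf_dvd_of_pow_eq_one
        rw [← hψx, hker]
      have := (Nat.prime_dvd_prime_iff_eq hr hp.out).mp (hr.dvd_of_dvd_pow this)
      exact hrp this
  exact hfr (Subgroup.mem_zpowers x)

/-- Conjugation action of a subgroup `Q ≤ N(L)` on `L`. -/
noncomputable def conjHom {G : Type*} [Group G] (Q L : Subgroup G)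
    (hQL : Q ≤ Subgroup.normalizer (L : Set G)) : ↥Q →* MulAut ↥L :=
  (Subgroup.normalizerMonoidHom L).comp (Subgroup.inclusion hQL)

theorem conjHom_apply_coe {G : Type*} [Group G] (Q L : Subgroup G)
    (hQL : Q ≤ Subgroup.normalizer (L : Set G)) (q : ↥Q) (l : ↥L) :
    ((conjHom Q L hQL q l : ↥L) : G) = (q : G) * l * (q : G)⁻¹ := by
  unfold conjHom
  simp

/-- `L = [L, Q]` translated to generators inside `↥L`. -/
theorem closure_conjHom_eq_top {G : Type*} [Group G] (Q L : Subgroup G)
    (hQL : Q ≤ Subgroup.normalizer (L : Set G)) (hL : ⁅L, Q⁆ = L) :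
    Subgroup.closure {g : ↥L | ∃ (l : ↥L) (a : ↥Q), g = l * (conjHom Q L hQL a l)⁻¹} = ⊤ := by
  apply Subgroup.map_injective L.subtype_injective
  rw [MonoidHom.map_closure, ← MonoidHom.range_eq_map, Subgroup.range_subtype]
  conv_rhs => rw [← hL]
  rw [Subgroup.commutator_def]
  congr 1
  ext x
  constructor
  · rintro ⟨g, ⟨l, a, rfl⟩, rfl⟩
    refine ⟨l, l.2, a, a.2, ?_⟩
    rw [Subgroup.coe_subtype, Subgroup.coe_mul, Subgroup.coe_inv, conjHom_apply_coe,
      commutatorElement_def]
    group
  · rintro ⟨l, hl, a, ha, rfl⟩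
    refine ⟨⟨l, hl⟩ * (conjHom Q L hQL ⟨a, ha⟩ ⟨l, hl⟩)⁻¹, ⟨⟨l, hl⟩, ⟨a, ha⟩, rfl⟩, ?_⟩
    rw [Subgroup.coe_subtype, Subgroup.coe_mul, Subgroup.coe_inv, conjHom_apply_coe,
      commutatorElement_def]
    group

section S2817
set_option linter.unusedSectionVars false
variable {H : Type u} [Group H] [Finite H] {p : ℕ} [hp : Fact p.Prime]
namespace FQ
variable {Q L F : Subgroup H}

theorem pResidual_L (h : FQ p Q L F) : Cfsg.pResidual p ↥L = ⊤ := by
  have hFn : (Cfsg.generalizedFittingSubgroup H).Normal := generalizedFittingSubgroup_normal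
  obtain ⟨C', FL, hC', hFLle, hFLn, hFLcard, hLeq⟩ :=
    fstar_commutator_struct (Cfsg.generalizedFittingSubgroup H) Q h.hQ
      (fstar_top_of_isSubnormal_le _ hFn.isSubnormal le_rfl)
      (pCore_eq_bot_of_isSubnormal _ hFn.isSubnormal h.hO)
  rw [← h.hL] at hLeq
  have hle : L ≤ presOf p L := by
    conv_lhs => rw [hLeq]
    apply sup_le
    · apply sSup_le
      intro K hK
      have hKL : K ≤ L := by rw [hLeq]; exact (le_sSup hK).trans le_sup_left
      have : Group.IsPerfect ↥K := (hC' K hK).1.2.1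
      apply le_of_isPerfect_of_coprime_mem p
      intro y hy hyc
      exact Subgroup.subset_closure ⟨hKL hy, hyc⟩
    · intro x hx
      have hxL : x ∈ L := by rw [hLeq]; exact Subgroup.mem_sup_right hx
      have hxF : x ∈ FL := Subgroup.commutator_le_left FL Q hx
      apply Subgroup.subset_closure
      refine ⟨hxL, ?_⟩
      have h1 : orderOf x ∣ Nat.card FL := by
        have := orderOf_dvd_natCard (⟨x, hxF⟩ : ↥FL)
        rwa [← Subgroup.orderOf_coe] at this
      exact Nat.Coprime.coprime_dvd_left h1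
        ((Nat.Prime.coprime_iff_not_dvd hp.out).mpr hFLcard).symm
  apply Subgroup.map_injective L.subtype_injective
  rw [pResidual_map_eq, ← MonoidHom.range_eq_map, Subgroup.range_subtype]
  exact le_antisymm (presOf_le p L) hle

theorem inf_le_frattini (h : FQ p Q L F) : L ⊓ F ≤ (frattini ↥L).map L.subtype := by
  intro x hx
  have hQpg : IsPGroup p ↥Q := h.hQ
  have key := mem_frattini_of_central_fixed hQpg (conjHom Q L h.Q_le_nzr_L)
    (closure_conjHom_eq_top Q L h.Q_le_nzr_L h.decomp.2.symm) h.pResidual_L ⟨x, hx.1⟩ ?_ ?_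
  · exact ⟨⟨x, hx.1⟩, key, rfl⟩
  · rw [Subgroup.mem_center_iff]
    intro l
    apply Subtype.ext
    rw [Subgroup.coe_mul, Subgroup.coe_mul]
    exact Subgroup.mem_centralizer_iff.mp (h.F_le_centralizer_L hx.2) l l.2
  · intro a
    apply Subtype.ext
    rw [conjHom_apply_coe]
    have := Subgroup.mem_centralizer_iff.mp (h.hF3 a.2) x hx.2
    show (a : H) * x * (a : H)⁻¹ = x
    rw [← this, mul_inv_cancel_right]

end FQ
end S2817

theorem map_cj_centralizer_le {G : Type*} [Group G] (Q : Subgroup G) (g : G) :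
    (Subgroup.centralizer (Q : Set G)).map (cj g) ≤
      Subgroup.centralizer ((Q.map (cj g) : Subgroup G) : Set G) := by
  rw [Subgroup.coe_map]
  exact Subgroup.map_centralizer_le_centralizer_image _ _

section S2817
set_option linter.unusedSectionVars false
variable {H : Type u} [Group H] [Finite H] {p : ℕ} [hp : Fact p.Prime]
namespace FQ
variable {Q L F : Subgroup H}

/-- `N_H(Q)` normalizes `F`. -/
theorem nzr_Q_le_nzr_F (h : FQ p Q L F) :
    Subgroup.normalizer (Q : Set H) ≤ Subgroup.normalizer (F : Set H) := by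
  have hFn : (Cfsg.generalizedFittingSubgroup H).Normal := generalizedFittingSubgroup_normal
  have key : ∀ b ∈ Subgroup.normalizer (Q : Set H), F.map (cj b) ≤ F := by
    intro b hb
    have hFs : (Cfsg.generalizedFittingSubgroup H).map (cj b) = Cfsg.generalizedFittingSubgroup H :=
      map_cj_eq_of_mem_nzr _ b (Subgroup.le_normalizer_of_normal (Subgroup.mem_top b))
    have hQb : Q.map (cj b) = Q := map_cj_eq_of_mem_nzr _ b hb
    apply h.hF4
    · rw [← hFs]; exact Subgroup.map_mono h.hF1
    · rw [nzr_map_cj]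
      conv_lhs => rw [← hFs]
      exact Subgroup.map_mono h.hF2
    · conv_lhs => rw [← hQb]
      exact (Subgroup.map_mono h.hF3).trans (map_cj_centralizer_le F b)
  intro b hb
  apply mem_nzr_of_map_cj_eq
  apply le_antisymm (key b hb)
  have := key b⁻¹ (Subgroup.inv_mem _ hb)
  rw [map_cj_le_iff] at this
  simpa using this


theorem inf_card_coprime (h : FQ p Q L F) (B : Subgroup H) (hB : IsPGroup p ↥B)
    (hBZ : B ≤ Subgroup.normalizer ((L ⊓ F : Subgroup H) : Set H)) :
    Cfsg.Agent.Lib.H1.CoprimeAction B (L ⊓ F) := by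
  have hFn : (Cfsg.generalizedFittingSubgroup H).Normal := generalizedFittingSubgroup_normal
  have hZle : L ⊓ F ≤ Cfsg.generalizedFittingSubgroup H := inf_le_right.trans h.hF1
  have hsub : (L ⊓ F).IsSubnormal := by
    apply Subgroup.IsSubnormal.trans hZle _ hFn.isSubnormal
    apply Subgroup.Normal.isSubnormal
    apply Subgroup.normal_subgroupOf_of_le_normalizer
    intro x hx
    exact mem_normalizer_inf (h.fs_le_nzr_L hx) (h.hF2 hx)
  have hnil : Group.IsNilpotent ↥(L ⊓ F : Subgroup H) := by
    apply Subgroup.isNilpotent_of_lowerCentralSeries_eq_bot (n := 1)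
    rw [Subgroup.lowerCentralSeries_succ, Subgroup.lowerCentralSeries_zero,
      Subgroup.commutator_eq_bot_iff_le_centralizer]
    intro x hx
    rw [Subgroup.mem_centralizer_iff]
    intro y hy
    exact Subgroup.mem_centralizer_iff.mp (h.F_le_centralizer_L hx.2) y hy.1
  have hle : L ⊓ F ≤ Cfsg.fittingSubgroup H := subnormal_nilpotent_le_fittingSubgroup hsub hnil
  exact (coprimeAction_fitting h.hO B hB).mono hle hBZ

theorem commutator_eq_bot_of_le (h : FQ p Q L F) (B : Subgroup H) (hB : IsPGroup p ↥B)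
    (hBQ : B ≤ Subgroup.normalizer (Q : Set H)) (hLB : ⁅L, B⁆ ≤ F) : ⁅L, B⁆ = ⊥ := by
  have hFn : (Cfsg.generalizedFittingSubgroup H).Normal := generalizedFittingSubgroup_normal
  have hBL : B ≤ Subgroup.normalizer (L : Set H) := by
    intro b hb
    rw [h.hL]
    apply mem_nzr_of_map_cj_eq
    rw [Subgroup.map_commutator, map_cj_eq_of_mem_nzr _ b (hBQ hb),
      map_cj_eq_of_mem_nzr _ b (Subgroup.le_normalizer_of_normal (Subgroup.mem_top b))]
  have hBF : B ≤ Subgroup.normalizer (F : Set H) := hBQ.trans h.nzr_Q_le_nzr_F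
  have hBZ : B ≤ Subgroup.normalizer ((L ⊓ F : Subgroup H) : Set H) := fun b hb =>
    mem_normalizer_inf (hBL hb) (hBF hb)
  have hcop := h.inf_card_coprime B hB hBZ
  have hLBL : ⁅L, B⁆ ≤ L := Subgroup.le_normalizer_iff_commutator_le_left.mp hBL
  have hLBZ : ⁅L, B⁆ ≤ L ⊓ F := le_inf hLBL hLB
  -- `L = C_L(B) (L ⊓ F)`
  have hdec : L ≤ (L ⊓ Subgroup.centralizer (B : Set H)) ⊔ (L ⊓ F) := by
    intro l hl
    obtain ⟨d, hd, hld⟩ := Cfsg.Agent.Lib.H1.coprime_coset_fixed hcop l (by
      intro b hb
      apply hLBZ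
      have : l⁻¹ * b * l * b⁻¹ = ⁅l⁻¹, b⁆ := by rw [commutatorElement_def]; group
      rw [this]
      exact Subgroup.commutator_mem_commutator (L.inv_mem hl) hb)
    have : l = (l * d) * d⁻¹ := by group
    rw [this]
    exact Subgroup.mul_mem_sup ⟨L.mul_mem hl hd.1, hld⟩ (Subgroup.inv_mem _ hd)
  -- Frattini argument
  have hfr := h.inf_le_frattini
  have htop : (L ⊓ Subgroup.centralizer (B : Set H)).subgroupOf L = ⊤ := by
    apply frattini_nongenerating
    rw [eq_top_iff]
    intro l _
    have hle : (L ⊓ Subgroup.centralizer (B : Set H)) ⊔ (L ⊓ F) ≤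
        ((L ⊓ Subgroup.centralizer (B : Set H)).subgroupOf L ⊔ frattini ↥L).map L.subtype := by
      rw [Subgroup.map_sup, Subgroup.subgroupOf_map_subtype]
      apply sup_le_sup _ hfr
      exact le_inf le_rfl inf_le_left
    obtain ⟨l', hl', hll⟩ := hle (hdec l.2)
    have : l' = l := Subtype.ext hll
    rwa [this] at hl'
  rw [Subgroup.commutator_eq_bot_iff_le_centralizer]
  intro l hl
  have : (⟨l, hl⟩ : ↥L) ∈ (L ⊓ Subgroup.centralizer (B : Set H)).subgroupOf L := by
    rw [htop]; trivial
  exact (Subgroup.mem_subgroupOf.mp this).2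

end FQ
end S2817

end Cfsg.Agent.Lib.H14
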