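import Mathlib
import Cfsg.Prelude.Def_Blocks
import Cfsg.Agent.Lib.H22.MaxClass2
import Cfsg.Agent.Lib.H8.FVNC

/-!
# S4923 piece GTF (architect helper27): forward group theory (Taussky + NC)

`gt_forward_of` is parametric in the conclusion of piece NC; `gt_forward` instantiates it with helper8's
landed `Cfsg.Agent.Lib.H8.FV.nc`.
-/

set_option autoImplicit false

namespace Cfsg.Agent.Lib.H14.FV

/-- **GTF**, parametric in NC (the hypothesis `hnc` is the statement of piece NC for this `P`, `n`). -/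
theorem gt_forward_of {G : Type*} [Group G] [Finite G] (P : Sylow 2 G) (n : ℕ) (hn : 3 ≤ n)
    (hP : Nat.card P = 2 ^ n) (h4 : (commutator ↥P).index = 4)
    (hnc : ∀ g t : G, orderOf g = 2 ^ (n - 1) → t * g * t⁻¹ ∈ Subgroup.zpowers g →
      t * g * t⁻¹ ≠ g →
      (∀ x : G, x * g * x⁻¹ ∈ Subgroup.zpowers g →
          x * g * x⁻¹ = g ∨ x * g * x⁻¹ = t * g * t⁻¹) ∧
        2 ∣ (Subgroup.centralizer ({g} : Set G)).index) :
    ∃ g : G, g ∈ (P : Subgroup G) ∧ orderOf g = 2 ^ (n - 1) ∧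
      2 ∣ (Subgroup.centralizer ({g} : Set G)).index ∧
      ∃ E : ℕ, (E = 2 ^ (n - 1) - 1 ∨ (4 ≤ n ∧ E = 2 ^ (n - 2) - 1)) ∧
        ∀ k : ℕ, IsConj (g ^ k) g ↔ (g ^ k = g ∨ g ^ k = g ^ E) := by
  have hcard : Nat.card ↥P = 2 ^ (n - 3 + 3) := by
    rw [Nat.sub_add_cancel hn]
    exact hP
  obtain ⟨a, y, hD, -⟩ := Cfsg.Agent.Lib.H22.exists_maxClassData (n - 3) ↥P hcard h4
  have hog : orderOf (a : G) = 2 ^ (n - 1) := by
    rw [Subgroup.orderOf_coe, hD.orderOf_a]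
    congr 1
    omega
  -- `m = 2 ^ (n - 1)`, `h = 2 ^ (n - 2)`
  obtain ⟨m, hm⟩ : ∃ m : ℕ, m = 2 ^ (n - 1) := ⟨_, rfl⟩
  obtain ⟨h, hh⟩ : ∃ h : ℕ, h = 2 ^ (n - 2) := ⟨_, rfl⟩
  have hmh : m = 2 * h := by
    rw [hm, hh, ← pow_succ']
    congr 1
    omega
  have hh2 : 2 ≤ h := by
    rw [hh]
    calc 2 = 2 ^ 1 := by norm_num
      _ ≤ 2 ^ (n - 2) := Nat.pow_le_pow_right two_pos (by omega)
  have hh4 : 4 ≤ n → 4 ≤ h := by
    intro h4n
    rw [hh]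
    calc 4 = 2 ^ 2 := by norm_num
      _ ≤ 2 ^ (n - 2) := Nat.pow_le_pow_right two_pos (by omega)
  have hgm : (a : G) ^ m = 1 := by rw [hm, ← hog, pow_orderOf_eq_one]
  -- the conjugate `t g t⁻¹ = g ^ E`
  obtain ⟨E, hE, hconj, hE1, hEm⟩ : ∃ E : ℕ, (E = 2 ^ (n - 1) - 1 ∨ (4 ≤ n ∧ E = 2 ^ (n - 2) - 1)) ∧
      (y : G) * (a : G) * (y : G)⁻¹ = (a : G) ^ E ∧ E ≠ 1 ∧ E < m := by
    rcases hD.conj with hc | ⟨h1, hc⟩
    · refine ⟨2 ^ (n - 1) - 1, Or.inl rfl, ?_, ?_, ?_⟩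
      · have hc' : (y : G) * (a : G) * (y : G)⁻¹ = (a : G)⁻¹ := congrArg Subtype.val hc
        rw [hc']
        symm
        apply eq_inv_of_mul_eq_one_left
        rw [← pow_succ, ← hm, Nat.sub_add_cancel (by omega), hgm]
      · rw [← hm]; omega
      · rw [← hm]; omega
    · have h4n : 4 ≤ n := by omega
      refine ⟨2 ^ (n - 2) - 1, Or.inr ⟨h4n, rfl⟩, ?_, ?_, ?_⟩
      · have hc' : (y : G) * (a : G) * (y : G)⁻¹ = (a : G)⁻¹ * (a : G) ^ (2 ^ (n - 3 + 1)) :=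
          congrArg Subtype.val hc
        rw [hc']
        have e1 : n - 3 + 1 = n - 2 := by omega
        rw [e1, ← hh]
        have e2 : (a : G) ^ h = (a : G) * (a : G) ^ (h - 1) := by
          rw [← pow_succ', Nat.sub_add_cancel (by omega)]
        rw [e2, inv_mul_cancel_left]
      · rw [← hh]; have := hh4 h4n; omega
      · rw [← hh]; omega
  have hne : (y : G) * (a : G) * (y : G)⁻¹ ≠ (a : G) := by
    rw [hconj]
    intro heq
    have h1 : (a : G) ^ E = (a : G) ^ 1 := by rw [heq, pow_one]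
    rw [pow_eq_pow_iff_modEq, hog, ← hm] at h1
    unfold Nat.ModEq at h1
    rw [Nat.mod_eq_of_lt hEm, Nat.mod_eq_of_lt (by omega)] at h1
    exact hE1 h1
  have hmem : (y : G) * (a : G) * (y : G)⁻¹ ∈ Subgroup.zpowers (a : G) := by
    rw [hconj]
    exact Subgroup.npow_mem_zpowers _ _
  obtain ⟨hall, hidx⟩ := hnc (a : G) (y : G) hog hmem hne
  refine ⟨(a : G), a.2, hog, hidx, E, hE, ?_⟩
  intro k
  constructor
  · intro hk
    obtain ⟨c, hc⟩ := isConj_iff.mp hk.symm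
    -- `c * a * c⁻¹ = a ^ k`
    have hmemk : c * (a : G) * c⁻¹ ∈ Subgroup.zpowers (a : G) := by
      rw [hc]
      exact Subgroup.npow_mem_zpowers _ _
    rcases hall c hmemk with h1 | h1
    · left
      rw [← hc, h1]
    · right
      rw [← hc, h1, hconj]
  · rintro (hk | hk)
    · rw [hk]
    · rw [hk, ← hconj]
      exact isConj_iff.mpr ⟨(y : G)⁻¹, by group⟩

/-- **GTF** -/
theorem gt_forward {G : Type*} [Group G] [Finite G] (P : Sylow 2 G) (n : ℕ) (hn : 3 ≤ n)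
    (hP : Nat.card P = 2 ^ n) (h4 : (commutator ↥P).index = 4) :
    ∃ g : G, g ∈ (P : Subgroup G) ∧ orderOf g = 2 ^ (n - 1) ∧
      2 ∣ (Subgroup.centralizer ({g} : Set G)).index ∧
      ∃ E : ℕ, (E = 2 ^ (n - 1) - 1 ∨ (4 ≤ n ∧ E = 2 ^ (n - 2) - 1)) ∧
        ∀ k : ℕ, IsConj (g ^ k) g ↔ (g ^ k = g ∨ g ^ k = g ^ E) :=
  gt_forward_of P n hn hP h4 (fun g t hg ht hne =>
    Cfsg.Agent.Lib.H8.FV.nc P n (by omega) hP g t hg ht hne)

end Cfsg.Agent.Lib.H14.FV
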