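import Cfsg.Agent.Lib.H14.BasicProp3
import Cfsg.Agent.Lib.H14.WCCharP
import Cfsg.Agent.Lib.H9.FrattiniAction

/-! Members of `𝔐_G(S)`: the dagger subgroup contains normalizers of normal `p`-subgroups;
`p`-closed groups; a lemma of MSS on `Y ≤ O_p(M†)`. -/

set_option autoImplicit false

namespace Cfsg.Agent.Lib.H14

universe u

open scoped commutatorElement

/-- every member of `𝓛_H` lies in a maximal one. -/
theorem exists_le_maxCharPSubgroups {H : Type*} [Group H] [Finite H] (p : ℕ)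
    (L : Subgroup H) (hL : L ∈ Cfsg.charPSubgroups p H) :
    ∃ X ∈ Cfsg.maxCharPSubgroups p H, L ≤ X := by
  obtain ⟨X, ⟨hX1, hX2⟩, hmax⟩ := Set.exists_max_image
    {X : Subgroup H | X ∈ Cfsg.charPSubgroups p H ∧ L ≤ X} (fun X => Nat.card X)
    (Set.toFinite _) ⟨L, hL, le_rfl⟩
  refine ⟨X, ⟨hX1, fun Z hZ hXZ => ?_⟩, hX2⟩
  have h1 := hmax Z ⟨hZ, hX2.trans hXZ⟩
  have h2 : Nat.card X ≤ Nat.card Z := Subgroup.card_le_of_le hXZ
  exact (Subgroup.eq_of_le_of_card_ge hXZ h1).symm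

/-- for `M ∈ 𝔐`, every member of `𝓛_H` containing `M` lies in `M†`. -/
theorem le_dagger_of_mem_charPSubgroups {H : Type*} [Group H] [Finite H] {p : ℕ}
    (M : Subgroup H) (hM : Cfsg.IsInFrakM p M) (X : Subgroup H)
    (hX : X ∈ Cfsg.charPSubgroups p H) (hMX : M ≤ X) :
    X ≤ M ⊔ Subgroup.centralizer (Cfsg.largestPReducedOf p M : Set H) := by
  obtain ⟨Z, hZ, hXZ⟩ := exists_le_maxCharPSubgroups p X hX
  have := hM.2.2.1 Z hZ (hMX.trans hXZ)
  rw [← this]; exact hXZ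

/-- for `M ∈ 𝔐_G(S)` (with a large `Q ≤ S`), normalizers of nontrivial `p`-subgroups normalized
by `M` lie in `M†`. -/
theorem nzr_le_dagger {H : Type*} [Group H] [Finite H] {p : ℕ} [Fact p.Prime]
    (S : Sylow p H) (Q : Subgroup H) (hQp : IsPGroup p ↥Q) (hQS : Q ≤ (S : Subgroup H))
    (hQ : Cfsg.IsLarge Q) (M : Subgroup H) (hSM : (S : Subgroup H) ≤ M)
    (hM : Cfsg.IsInFrakM p M) (I : Subgroup H) (hIp : IsPGroup p ↥I) (hI1 : I ≠ ⊥)
    (hMI : M ≤ Subgroup.normalizer (I : Set H)) :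
    Subgroup.normalizer (I : Set H) ≤
      M ⊔ Subgroup.centralizer (Cfsg.largestPReducedOf p M : Set H) :=
  le_dagger_of_mem_charPSubgroups M hM _
    (nzrHyp_of_large Q hQp hQ S hQS I hIp hI1 (hSM.trans hMI)) hMI


/-- a Sylow `p`-subgroup normalized by all `p'`-elements is normal. -/
theorem sylow_normal_of_coprime_mem_normalizer {G : Type*} [Group G] [Finite G] {p : ℕ}
    [hp : Fact p.Prime] (P : Sylow p G)
    (h : ∀ k : G, (orderOf k).Coprime p → k ∈ Subgroup.normalizer ((P : Subgroup G) : Set G)) :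
    (P : Subgroup G).Normal := by
  rw [← Subgroup.normalizer_eq_top_iff, ← Subgroup.index_eq_one,
    Nat.eq_one_iff_not_exists_prime_dvd]
  intro r hr hdvd
  have : Fact r.Prime := ⟨hr⟩
  by_cases hrp : r = p
  · subst hrp
    exact P.not_dvd_index (hdvd.trans (Subgroup.index_dvd_of_le Subgroup.le_normalizer))
  · have R : Sylow r G := Classical.arbitrary _
    have hRN : (R : Subgroup G) ≤ Subgroup.normalizer ((P : Subgroup G) : Set G) := by
      intro x hx
      apply h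
      obtain ⟨n, hn⟩ := (IsPGroup.iff_orderOf.mp R.2) ⟨x, hx⟩
      rw [Subgroup.orderOf_mk] at hn
      rw [hn]
      apply Nat.Coprime.pow_left
      exact (Nat.coprime_primes hr hp.out).mpr hrp
    exact R.not_dvd_index (hdvd.trans (Subgroup.index_dvd_of_le hRN))


theorem commutator_self_le_frattini_map {G : Type*} [Group G] [Finite G] {p : ℕ} [Fact p.Prime]
    (A : Subgroup G) (hA : IsPGroup p ↥A) : ⁅A, A⁆ ≤ (frattini ↥A).map A.subtype := by
  have h1 : commutator ↥A ≤ frattini ↥A := Cfsg.Agent.Lib.H1.isPGroup_commutator_le_frattini hA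
  have h2 := Subgroup.map_mono (f := A.subtype) h1
  have h3 : (commutator ↥A).map A.subtype = ⁅A, A⁆ := by
    rw [commutator_def, Subgroup.map_commutator, ← MonoidHom.range_eq_map, Subgroup.range_subtype]
  rwa [h3] at h2

theorem le_nzr_commStab {G : Type*} [Group G] (X R N : Subgroup G)
    (hR : X ≤ Subgroup.normalizer (R : Set G)) (hN : X ≤ Subgroup.normalizer (N : Set G)) :
    X ≤ Subgroup.normalizer ((commStab R N : Subgroup G) : Set G) := by
  apply le_nzr_of_conj_mem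
  intro x hx g hg
  exact conj_mem_commStab R N x g (hR hx) (hN hx) hg

/-- a `p'`-element of `N(A)` acting trivially on `A/[A,A]` centralizes the `p`-group `A`. -/
theorem mem_centralizer_of_mem_commStab {G : Type*} [Group G] [Finite G] {p : ℕ} [Fact p.Prime]
    (A : Subgroup G) (hA : IsPGroup p ↥A) (k : G) (hkA : k ∈ Subgroup.normalizer (A : Set G))
    (hk : k ∈ commStab A ⁅A, A⁆) (hkc : (orderOf k).Coprime p) :
    k ∈ Subgroup.centralizer (A : Set G) := by
  have h := Cfsg.Agent.Lib.H9.commute_of_commutator_mem_frattini hA hkA hkc (by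
    intro a ha q hq
    apply commutator_self_le_frattini_map A hA
    have h1 : a ∈ commStab A ⁅A, A⁆ := (Subgroup.zpowers_le.mpr hk) ha
    have h2 := h1.2 q hq
    have e : a * q * a⁻¹ * q⁻¹ = (⁅q, a⁆)⁻¹ := by
      simp only [commutatorElement_def]; group
    rw [e]
    exact Subgroup.inv_mem _ h2)
  rw [Subgroup.mem_centralizer_iff]
  intro q hq
  exact (h q hq).symm


/-- Abstract form of an MSS lemma: if `Y ≤ L` acts trivially on `A/[A,A]` for a normal `p`-subgroup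
`A` of `L`, `C_L(A) ≤ D` and `Y ≤ O_p(D)`, then `Y ≤ O_p(L)`. -/
theorem le_pCoreOf_of_commutator_le {G : Type*} [Group G] [Finite G] {p : ℕ} [Fact p.Prime]
    (L A Dg Y : Subgroup G) (hAp : IsPGroup p ↥A)
    (hLA : L ≤ Subgroup.normalizer (A : Set G))
    (hCD : L ⊓ Subgroup.centralizer (A : Set G) ≤ Dg)
    (hY : Y ≤ Cfsg.pCoreOf p Dg) (hYL : Y ≤ L) (hc : ⁅Y, A⁆ ≤ ⁅A, A⁆) :
    Y ≤ Cfsg.pCoreOf p L := by
  have hLA' : L ≤ Subgroup.normalizer ((⁅A, A⁆ : Subgroup G) : Set G) :=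
    le_nzr_commutator L A A hLA hLA
  have hLC : L ≤ Subgroup.normalizer ((L ⊓ Subgroup.centralizer (A : Set G) : Subgroup G) : Set G) :=
    le_nzr_inf L L _ Subgroup.le_normalizer (hLA.trans (nzr_le_nzr_centralizer A))
  have hLK : L ≤ Subgroup.normalizer ((commStab A ⁅A, A⁆ ⊓ L : Subgroup G) : Set G) :=
    le_nzr_inf _ _ _ (le_nzr_commStab L A _ hLA hLA') Subgroup.le_normalizer
  have hDB : Dg ≤ Subgroup.normalizer (Cfsg.pCoreOf p Dg : Set G) := pCoreOf_normalized p Dg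
  have hBp : IsPGroup p ↥(Cfsg.pCoreOf p Dg) := pCoreOf_isPGroup p Dg
  have hYp : IsPGroup p ↥Y := hBp.to_le hY
  set C := L ⊓ Subgroup.centralizer (A : Set G) with hCdef
  have hCE : C ≤ Subgroup.normalizer (Cfsg.pCoreOf p C : Set G) := pCoreOf_normalized p C
  have hLE : L ≤ Subgroup.normalizer (Cfsg.pCoreOf p C : Set G) :=
    hLC.trans (nzr_le_nzr_pCoreOf p C)
  have hEC : Cfsg.pCoreOf p C ≤ C := pCoreOf_le p C
  -- [Y, C] ≤ E
  have hYCE : ⁅Y, C⁆ ≤ Cfsg.pCoreOf p C := by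
    have h1 : ⁅Y, C⁆ ≤ C :=
      Subgroup.le_normalizer_iff_commutator_le_right.mp (hYL.trans hLC)
    have h2 : ⁅Y, C⁆ ≤ Cfsg.pCoreOf p Dg :=
      (Subgroup.commutator_mono hY le_rfl).trans
        (Subgroup.le_normalizer_iff_commutator_le_left.mp (hCD.trans hDB))
    have h3 : Cfsg.pCoreOf p Dg ⊓ C ≤ Cfsg.pCoreOf p C :=
      le_pCoreOf p C _ inf_le_right
        (le_nzr_inf _ _ _ (hCD.trans hDB) Subgroup.le_normalizer) (hBp.to_le inf_le_left)
    exact (le_inf h2 h1).trans h3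
  -- C ≤ K
  have hCK : C ≤ commStab A ⁅A, A⁆ ⊓ L := by
    intro c hc
    refine Subgroup.mem_inf.mpr ⟨⟨hLA' hc.1, fun a ha => ?_⟩, hc.1⟩
    have h1 : c * a = a * c := (Subgroup.mem_centralizer_iff.mp hc.2 a ha).symm
    have e : ⁅a, c⁆ = 1 := by
      rw [commutatorElement_def, ← h1]; group
    rw [e]; exact Subgroup.one_mem _
  set N1 := commStab C (Cfsg.pCoreOf p C) ⊓ (commStab A ⁅A, A⁆ ⊓ L) with hN1
  have hN1L : N1 ≤ L := inf_le_right.trans inf_le_right
  have hLN1 : L ≤ Subgroup.normalizer (N1 : Set G) :=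
    le_nzr_inf _ _ _ (le_nzr_commStab L C _ hLC hLE) hLK
  have hYN1 : Y ≤ N1 := by
    intro y hy
    refine Subgroup.mem_inf.mpr ⟨⟨hLE (hYL hy), fun c hc => ?_⟩,
      Subgroup.mem_inf.mpr ⟨⟨hLA' (hYL hy), fun a ha => ?_⟩, hYL hy⟩⟩
    · apply hYCE
      rw [Subgroup.commutator_comm]
      exact Subgroup.commutator_mem_commutator hc hy
    · apply hc
      rw [Subgroup.commutator_comm]
      exact Subgroup.commutator_mem_commutator ha hy
  have hN1E : N1 ≤ Subgroup.normalizer (Cfsg.pCoreOf p C : Set G) := fun x hx => hx.1.1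
  have hEN1 : Cfsg.pCoreOf p C ≤ N1 := by
    intro e he
    refine Subgroup.mem_inf.mpr ⟨⟨hCE (hEC he), fun c hc => ?_⟩, hCK (hEC he)⟩
    have h1 : c * e * c⁻¹ ∈ Cfsg.pCoreOf p C := (Subgroup.mem_normalizer_iff.mp (hCE hc) e).mp he
    rw [commutatorElement_def]
    exact Subgroup.mul_mem _ h1 (Subgroup.inv_mem _ he)
  -- the Sylow subgroup of N1 is normal
  have P : Sylow p ↥N1 := Classical.arbitrary _
  have hEn : ((Cfsg.pCoreOf p C).subgroupOf N1).Normal :=
    Subgroup.normal_subgroupOf_of_le_normalizer hN1E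
  have hEP : (Cfsg.pCoreOf p C).subgroupOf N1 ≤ (P : Subgroup ↥N1) :=
    (Cfsg.Agent.Lib.H1.le_pCore hEn ((pCoreOf_isPGroup p C).comap_subtype)).trans
      (Cfsg.Agent.Lib.H1.pCore_le_sylow P)
  have hconj : ∀ k : ↥N1, (orderOf k).Coprime p → ∀ x ∈ (P : Subgroup ↥N1),
      k * x * k⁻¹ ∈ (P : Subgroup ↥N1) := by
    intro k hk x hx
    have hkc : (k : G) ∈ C := by
      refine Subgroup.mem_inf.mpr ⟨hN1L k.2, ?_⟩
      apply mem_centralizer_of_mem_commStab A hAp (k : G) (hLA (hN1L k.2)) k.2.2.1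
      rwa [Subgroup.orderOf_coe]
    have h1 : ⁅(k : G), (x : G)⁆ ∈ Cfsg.pCoreOf p C := x.2.1.2 (k : G) hkc
    have h2 : ⁅k, x⁆ ∈ (P : Subgroup ↥N1) := by
      apply hEP
      rw [Subgroup.mem_subgroupOf]
      exact h1
    have e : k * x * k⁻¹ = ⁅k, x⁆ * x := by
      rw [commutatorElement_def]; group
    rw [e]
    exact Subgroup.mul_mem _ h2 hx
  have hPn : (P : Subgroup ↥N1).Normal := by
    apply sylow_normal_of_coprime_mem_normalizer P
    intro k hk
    rw [Subgroup.mem_normalizer_iff]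
    intro x
    refine ⟨hconj k hk x, fun hx => ?_⟩
    have h1 := hconj k⁻¹ (by rwa [orderOf_inv]) _ hx
    have e : k⁻¹ * (k * x * k⁻¹) * k⁻¹⁻¹ = x := by group
    rwa [e] at h1
  have hYP : Y.subgroupOf N1 ≤ (P : Subgroup ↥N1) := by
    obtain ⟨P', hP'⟩ := (hYp.comap_subtype (K := N1)).exists_le_sylow
    have := Sylow.unique_of_normal P hPn
    have : P' = P := Subsingleton.elim _ _
    rw [← this]; exact hP'
  have hYO : Y ≤ Cfsg.pCoreOf p N1 := by
    intro y hy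
    have h1 : (⟨y, hYN1 hy⟩ : ↥N1) ∈ Cfsg.pCore p ↥N1 :=
      Cfsg.Agent.Lib.H1.le_pCore hPn P.2 (hYP (Subgroup.mem_subgroupOf.mpr hy))
    unfold Cfsg.pCoreOf
    exact ⟨_, h1, rfl⟩
  refine hYO.trans ?_
  exact le_pCoreOf p L _ ((pCoreOf_le p N1).trans hN1L)
    (hLN1.trans (nzr_le_nzr_pCoreOf p N1)) (pCoreOf_isPGroup p N1)

end Cfsg.Agent.Lib.H14
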