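import Cfsg.Agent.Lib.H14.Comm
set_option autoImplicit false
open Cfsg

namespace Cfsg.Agent.Lib.H14

/-- A finite abelian group of exponent `p` has trivial Frattini subgroup. -/
theorem frattini_eq_bot_of_exponent {V : Type*} [Group V] [Finite V] (p : ℕ) [Fact p.Prime]
    (hcomm : ∀ a b : V, a * b = b * a) (hexp : ∀ v : V, v ^ p = 1) : frattini V = ⊥ := by
  rw [Subgroup.eq_bot_iff_forall]
  intro v hv
  by_contra hv1
  -- a subgroup maximal among those avoiding v
  let S : Set (Subgroup V) := {M | v ∉ M}
  have hne : S.Nonempty := ⟨⊥, by simpa [S, Subgroup.mem_bot] using hv1⟩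
  obtain ⟨M, hMS, hMmax⟩ := wellFounded_gt.has_min S hne
  have hvM : v ∉ M := hMS
  have hcoatom : IsCoatom M := by
    constructor
    · intro h; rw [h] at hvM; exact hvM (Subgroup.mem_top v)
    · intro N hMN
      by_contra hN
      have hvN : v ∈ N := by
        by_contra hvN
        exact hMmax N hvN hMN
      obtain ⟨y, hy⟩ : ∃ y : V, y ∉ N := by
        by_contra hall
        push Not at hall
        exact hN (eq_top_iff.mpr fun y _ => hall y)
      have hyM : y ∉ M := fun h => hy (hMN.le h)
      have hlt : M < M ⊔ Subgroup.zpowers y := by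
        refine lt_of_le_of_ne le_sup_left ?_
        intro h
        apply hyM
        rw [h]
        exact (le_sup_right : Subgroup.zpowers y ≤ M ⊔ Subgroup.zpowers y) (Subgroup.mem_zpowers y)
      have hvM' : v ∈ M ⊔ Subgroup.zpowers y := by
        by_contra hvM'
        exact hMmax _ hvM' hlt
      have : (Subgroup.zpowers y).Normal := ⟨fun n hn g => by
        rw [hcomm g n, mul_assoc, mul_inv_cancel, mul_one]; exact hn⟩
      rw [Subgroup.mem_sup_of_normal_right] at hvM'
      obtain ⟨m, hm, z, hz, rfl⟩ := hvM'
      obtain ⟨k, rfl⟩ := Subgroup.mem_zpowers_iff.mp hz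
      -- reduce exponent mod p
      have hyp : y ^ (p : ℤ) = 1 := by rw [zpow_natCast]; exact hexp y
      by_cases hpk : (p : ℤ) ∣ k
      · obtain ⟨c, rfl⟩ := hpk
        rw [zpow_mul, hyp, one_zpow, mul_one] at hvM
        exact hvM hm
      · have hp : Prime (p : ℤ) := Nat.prime_iff_prime_int.mp Fact.out
        have hcop : IsCoprime (p : ℤ) k := (Prime.coprime_iff_not_dvd hp).mpr hpk
        obtain ⟨a, b, hab⟩ := hcop
        have : y = (y ^ k) ^ b := by
          rw [← zpow_mul]
          have : k * b = 1 - a * p := by linarith
          rw [this, zpow_sub, zpow_one, mul_comm a, zpow_mul, hyp, one_zpow, inv_one, mul_one]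
        apply hy
        rw [this]
        apply N.zpow_mem
        have : y ^ k = m⁻¹ * (m * y ^ k) := by group
        rw [this]
        exact N.mul_mem (N.inv_mem (hMN.le hm)) hvN
  exact hvM (frattini_le_coatom hcoatom hv)

/-- In a finite `p`-group (indeed any finite group), a subgroup containing the derived subgroup and all
`p`-th powers contains the Frattini subgroup. -/
theorem frattini_le_of_comm_pow {P : Type*} [Group P] [Finite P] (p : ℕ) [Fact p.Prime]
    (K : Subgroup P) (hK' : commutator P ≤ K) (hpow : ∀ x : P, x ^ p ∈ K) : frattini P ≤ K := by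
  have hKn : K.Normal := Subgroup.Normal.of_commutator_le _ hK'
  have hcomm : ∀ a b : P ⧸ K, a * b = b * a := by
    intro a b
    induction a using QuotientGroup.induction_on with
    | H a =>
      induction b using QuotientGroup.induction_on with
      | H b =>
        rw [← QuotientGroup.mk_mul, ← QuotientGroup.mk_mul, QuotientGroup.eq]
        apply hK'
        rw [commutator_eq_closure]
        apply Subgroup.subset_closure
        refine ⟨b⁻¹, a⁻¹, ?_⟩
        rw [commutatorElement_def]; group
  have hexp : ∀ v : P ⧸ K, v ^ p = 1 := by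
    intro v
    induction v using QuotientGroup.induction_on with
    | H x =>
      rw [← QuotientGroup.mk_pow, QuotientGroup.eq_one_iff]
      exact hpow x
  have h1 := frattini_le_comap_frattini_of_surjective (QuotientGroup.mk'_surjective K)
  rw [frattini_eq_bot_of_exponent p hcomm hexp] at h1
  intro x hx
  have := h1 hx
  rw [Subgroup.mem_comap, Subgroup.mem_bot, QuotientGroup.mk'_apply, QuotientGroup.eq_one_iff] at this
  exact this

end Cfsg.Agent.Lib.H14
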