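import Mathlib
import Cfsg.Agent.Lib.H14.FumDefs
import Cfsg.Agent.Lib.H29.FumP1
import Cfsg.Agent.Lib.H29.FumP2
import Cfsg.Agent.Lib.H13.FumP3
import Cfsg.Agent.Lib.H13.FumP4
import Cfsg.Agent.Lib.H23.FumP5

/-!
# S4330: the avoiding-vector theorem `exists_avoiding` (helper14)

Piece P7 of tools/blueprints/S4330.md: for a finite abelian group `V` of order prime to the odd prime
`p`, a group `Γ` of automorphisms of `V`, a normal `p`-subgroup `T` of `Γ` and `a ∈ T` of order `p`,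
some vector of `V` is fixed by no `Γ`-conjugate of `a`.  Induction on `|V|`; assembled from the
pieces P1 (H29), P2 (H29), P3 (H13), P4 (H13), P5 (H23).
-/

set_option autoImplicit false

namespace Cfsg.Agent.Lib.H14.Fum

open Cfsg.Agent.Lib.H29.Fum (exists_set_stabilizer_trivial fixedPts_inf_commPts
  fixedPts_sup_commPts)
open Cfsg.Agent.Lib.H13.Fum (iSup_fixedPts_hyperplane fixedPts_hyperplane_indep
  exists_regular_vector)
open Cfsg.Agent.Lib.H23.Fum (structure_of_small_char_abelian)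

universe u

variable {V : Type u} [CommGroup V]

/-- conjugate of a subgroup of `MulAut V` -/
def cj (γ : MulAut V) (D : Subgroup (MulAut V)) : Subgroup (MulAut V) :=
  D.map (MulAut.conj γ).toMonoidHom

theorem mem_cj {γ x : MulAut V} {D : Subgroup (MulAut V)} : x ∈ cj γ D ↔ γ⁻¹ * x * γ ∈ D := by
  constructor
  · rintro ⟨d, hd, rfl⟩
    show γ⁻¹ * (γ * d * γ⁻¹) * γ ∈ D
    have : γ⁻¹ * (γ * d * γ⁻¹) * γ = d := by group
    rw [this]; exact hd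
  · intro h
    refine ⟨γ⁻¹ * x * γ, h, ?_⟩
    show γ * (γ⁻¹ * x * γ) * γ⁻¹ = x
    group

theorem conj_mem_cj {γ d : MulAut V} {D : Subgroup (MulAut V)} (hd : d ∈ D) :
    γ * d * γ⁻¹ ∈ cj γ D := ⟨d, hd, rfl⟩

theorem cj_one (D : Subgroup (MulAut V)) : cj 1 D = D := by
  ext x; rw [mem_cj]; simp

theorem cj_mul (γ δ : MulAut V) (D : Subgroup (MulAut V)) : cj (γ * δ) D = cj γ (cj δ D) := by
  ext x
  rw [mem_cj, mem_cj, mem_cj]
  have : (γ * δ)⁻¹ * x * (γ * δ) = δ⁻¹ * (γ⁻¹ * x * γ) * δ := by group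
  rw [this]

theorem cj_inv_cj (γ : MulAut V) (D : Subgroup (MulAut V)) : cj γ⁻¹ (cj γ D) = D := by
  rw [← cj_mul, inv_mul_cancel, cj_one]

theorem cj_cj_inv (γ : MulAut V) (D : Subgroup (MulAut V)) : cj γ (cj γ⁻¹ D) = D := by
  rw [← cj_mul, mul_inv_cancel, cj_one]

theorem cj_injective (γ : MulAut V) : Function.Injective (cj γ) := by
  intro D E h
  rw [← cj_inv_cj γ D, h, cj_inv_cj]

theorem cj_eq_self_of_normalizes {γ : MulAut V} {B : Subgroup (MulAut V)}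
    (h1 : ∀ b ∈ B, γ * b * γ⁻¹ ∈ B) (h2 : ∀ b ∈ B, γ⁻¹ * b * γ ∈ B) : cj γ B = B := by
  ext x
  rw [mem_cj]
  constructor
  · intro h
    have := h1 _ h
    have e : γ * (γ⁻¹ * x * γ) * γ⁻¹ = x := by group
    rwa [e] at this
  · exact h2 x

theorem cj_le_cj {γ : MulAut V} {D B : Subgroup (MulAut V)} (h : D ≤ B) : cj γ D ≤ cj γ B :=
  Subgroup.map_mono h

theorem relIndex_cj (γ : MulAut V) (D B : Subgroup (MulAut V)) :
    (cj γ D).relIndex (cj γ B) = D.relIndex B :=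
  Subgroup.relIndex_map_map_of_injective D B (MulAut.conj γ).injective

theorem apply_mem_fixedPts_cj {D : Subgroup (MulAut V)} (γ : MulAut V) {v : V}
    (hv : v ∈ fixedPts D) : γ v ∈ fixedPts (cj γ D) :=
  apply_mem_fixedPts_conj γ hv

theorem inv_apply_self' (γ : MulAut V) (v : V) : γ⁻¹ (γ v) = v := by
  show (γ⁻¹ * γ) v = v
  rw [inv_mul_cancel]; rfl

theorem apply_inv_self' (γ : MulAut V) (v : V) : γ (γ⁻¹ v) = v := by
  show (γ * γ⁻¹) v = v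
  rw [mul_inv_cancel]; rfl

theorem fixedPts_cj_ne_bot {D : Subgroup (MulAut V)} (γ : MulAut V) (h : fixedPts D ≠ ⊥) :
    fixedPts (cj γ D) ≠ ⊥ := by
  obtain ⟨⟨v, hv⟩, hv1'⟩ := (Subgroup.ne_bot_iff_exists_ne_one).1 h
  have hv1 : v ≠ 1 := fun e => hv1' (Subtype.ext e)
  intro hbot
  have h1 : γ v ∈ fixedPts (cj γ D) := apply_mem_fixedPts_cj γ hv
  rw [hbot, Subgroup.mem_bot] at h1
  apply hv1
  have := congrArg (fun x => (γ⁻¹ : MulAut V) x) h1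
  simp only [inv_apply_self', map_one] at this
  exact this

/-- automorphisms are determined by their values -/
theorem eq_one_of_forall_apply {a : MulAut V} (h : ∀ v, a v = v) : a = 1 := by
  ext v; exact h v

/-- the inductive statement -/
def Star (p n : ℕ) : Prop :=
  ∀ (V : Type u) [CommGroup V] [Finite V], Nat.card V = n → (Nat.card V).Coprime p →
    ∀ (Γ T : Subgroup (MulAut V)), T ≤ Γ → (∀ γ ∈ Γ, ∀ t ∈ T, γ * t * γ⁻¹ ∈ T) → IsPGroup p T →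
    ∀ a ∈ T, a ^ p = 1 → a ≠ 1 → ∃ v : V, ∀ γ ∈ Γ, (γ * a * γ⁻¹) v ≠ v

/-- the restricted induction hypothesis -/
theorem rih {p n : ℕ} (IH : ∀ m < n, Star.{u} p m) [Finite V] (hn : Nat.card V = n)
    (hcop : (Nat.card V).Coprime p) (Δ : Subgroup (MulAut V)) (W : Subgroup V)
    (hW : ∀ δ ∈ Δ, ∀ w ∈ W, δ w ∈ W) (hWlt : W ≠ ⊤) (T₀ : Subgroup (MulAut V)) (hT₀Δ : T₀ ≤ Δ)
    (hT₀n : ∀ δ ∈ Δ, ∀ t ∈ T₀, δ * t * δ⁻¹ ∈ T₀) (hT₀ : IsPGroup p T₀) (c : MulAut V)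
    (hc : c ∈ T₀) (hcp : c ^ p = 1) (hcW : ∃ w ∈ W, c w ≠ w) :
    ∃ w ∈ W, ∀ δ ∈ Δ, (δ * c * δ⁻¹) w ≠ w := by
  classical
  set r := resAut W Δ hW with hr
  have hlt : Nat.card W < n := by
    rw [← hn]
    refine lt_of_le_of_ne (Subgroup.card_le_card_group W) ?_
    intro e
    exact hWlt ((Subgroup.card_eq_iff_eq_top W).1 e)
  have hcopW : (Nat.card W).Coprime p :=
    Nat.Coprime.coprime_dvd_left (Subgroup.card_subgroup_dvd_card W) hcop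
  have hcΔ : c ∈ Δ := hT₀Δ hc
  have key := IH (Nat.card W) hlt ↥W rfl hcopW r.range ((T₀.subgroupOf Δ).map r)
    (by rintro _ ⟨x, _, rfl⟩; exact ⟨x, rfl⟩)
    (by
      rintro _ ⟨δ, rfl⟩ _ ⟨t, ht, rfl⟩
      refine ⟨δ * t * δ⁻¹, ?_, by simp⟩
      have ht' : (t : MulAut V) ∈ T₀ := Subgroup.mem_subgroupOf.1 ht
      exact Subgroup.mem_subgroupOf.2 (hT₀n δ δ.2 t ht'))
    ((hT₀.comap_of_injective Δ.subtype Δ.subtype_injective).map r)
    (r ⟨c, hcΔ⟩) ⟨⟨c, hcΔ⟩, Subgroup.mem_subgroupOf.2 hc, rfl⟩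
    (by
      rw [← map_pow]
      have : (⟨c, hcΔ⟩ : ↥Δ) ^ p = 1 := Subtype.ext (by simpa using hcp)
      rw [this, map_one])
    (by
      obtain ⟨w, hw, hcw⟩ := hcW
      intro e
      apply hcw
      have := congrArg (fun φ : MulAut ↥W => ((φ ⟨w, hw⟩ : ↥W) : V)) e
      simp only [MulAut.one_apply] at this
      rw [hr, resAut_apply_coe] at this
      exact this)
  obtain ⟨w', hw'⟩ := key
  refine ⟨w', w'.2, ?_⟩
  intro δ hδ e
  apply hw' (r ⟨δ, hδ⟩) ⟨⟨δ, hδ⟩, rfl⟩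
  apply Subtype.ext
  rw [← map_inv, ← map_mul, ← map_mul]
  exact e


/-- invariance of `C_V(B)` under a group normalising `B` -/
theorem apply_mem_fixedPts_of_normalizes {B : Subgroup (MulAut V)} {γ : MulAut V}
    (h2 : ∀ b ∈ B, γ⁻¹ * b * γ ∈ B) {v : V} (hv : v ∈ fixedPts B) : γ v ∈ fixedPts B := by
  intro b hb
  have h := hv _ (h2 b hb)
  have e : (γ⁻¹ * b * γ) v = γ⁻¹ (b (γ v)) := rfl
  rw [e] at h
  have := congrArg (fun x => γ x) h
  simp only [apply_inv_self'] at this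
  exact this

/-- invariance of `[V,B]` under a group normalising `B` -/
theorem apply_mem_commPts_of_normalizes {B : Subgroup (MulAut V)} {γ : MulAut V}
    (h1 : ∀ b ∈ B, γ * b * γ⁻¹ ∈ B) {v : V} (hv : v ∈ commPts B) : γ v ∈ commPts B := by
  unfold commPts at hv ⊢
  induction hv using Subgroup.closure_induction with
  | mem x hx =>
    obtain ⟨b, hb, w, rfl⟩ := hx
    apply Subgroup.subset_closure
    refine ⟨γ * b * γ⁻¹, h1 b hb, γ w, ?_⟩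
    rw [map_mul, map_inv]
    congr 1
    show γ (b w) = γ (b (γ⁻¹ (γ w)))
    rw [inv_apply_self']
  | one => rw [map_one]; exact Subgroup.one_mem _
  | mul x y _ _ hx hy => rw [map_mul]; exact Subgroup.mul_mem _ hx hy
  | inv x _ hx => rw [map_inv]; exact Subgroup.inv_mem _ hx

/-- the hyperplanes of `B` with non-trivial fixed points -/
def Om (p : ℕ) (B : Subgroup (MulAut V)) : Set (Subgroup (MulAut V)) :=
  {D | (D ≤ B ∧ D.relIndex B = p) ∧ fixedPts D ≠ ⊥}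

theorem cj_mem_Om {p : ℕ} {B : Subgroup (MulAut V)} {γ : MulAut V}
    (h1 : ∀ b ∈ B, γ * b * γ⁻¹ ∈ B) (h2 : ∀ b ∈ B, γ⁻¹ * b * γ ∈ B) {D : Subgroup (MulAut V)}
    (hD : D ∈ Om p B) : cj γ D ∈ Om p B := by
  have hB : cj γ B = B := cj_eq_self_of_normalizes h1 h2
  refine ⟨⟨?_, ?_⟩, fixedPts_cj_ne_bot γ hD.2⟩
  · rw [← hB]; exact cj_le_cj hD.1.1
  · rw [← hB, relIndex_cj]; exact hD.1.2


theorem mem_fixedPts_zpowers {a : MulAut V} {v : V} :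
    v ∈ fixedPts (Subgroup.zpowers a) ↔ a v = v := by
  constructor
  · intro h; exact h a (Subgroup.mem_zpowers a)
  · intro h b hb
    have hle : Subgroup.zpowers a ≤ MulAction.stabilizer (MulAut V) v := by
      rw [Subgroup.zpowers_le]
      exact h
    exact hle hb

/-- the kernel of the action of `T` on `Om p B` -/
def T0 (p : ℕ) (T B : Subgroup (MulAut V)) : Subgroup (MulAut V) where
  carrier := {t | t ∈ T ∧ ∀ D ∈ Om p B, cj t D = D}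
  one_mem' := ⟨T.one_mem, fun D _ => cj_one D⟩
  mul_mem' := fun {x y} hx hy =>
    ⟨T.mul_mem hx.1 hy.1, fun D hD => by rw [cj_mul, hy.2 D hD, hx.2 D hD]⟩
  inv_mem' := fun {x} hx => ⟨T.inv_mem hx.1, fun D hD => by
    conv_lhs => rw [← hx.2 D hD]
    exact cj_inv_cj _ _⟩

theorem mem_T0 {p : ℕ} {T B : Subgroup (MulAut V)} {t : MulAut V} :
    t ∈ T0 p T B ↔ t ∈ T ∧ ∀ D ∈ Om p B, cj t D = D := Iff.rfl

theorem T0_le {p : ℕ} {T B : Subgroup (MulAut V)} : T0 p T B ≤ T := fun _ h => h.1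

theorem T0_normal {p : ℕ} {Γ T B : Subgroup (MulAut V)}
    (hTn : ∀ γ ∈ Γ, ∀ t ∈ T, γ * t * γ⁻¹ ∈ T) (hBn : ∀ γ ∈ Γ, ∀ b ∈ B, γ * b * γ⁻¹ ∈ B) :
    ∀ γ ∈ Γ, ∀ t ∈ T0 p T B, γ * t * γ⁻¹ ∈ T0 p T B := by
  intro γ hγ t ht
  refine ⟨hTn γ hγ t ht.1, ?_⟩
  intro D hD
  have hγi : γ⁻¹ ∈ Γ := Γ.inv_mem hγ
  have hD' : cj γ⁻¹ D ∈ Om p B := by
    apply cj_mem_Om (hBn γ⁻¹ hγi) _ hD
    intro b hb
    have := hBn γ hγ b hb
    simpa using this
  rw [cj_mul, cj_mul, ht.2 _ hD', cj_cj_inv]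


theorem case1b {p n : ℕ} [hpp : Fact p.Prime] (IH : ∀ m < n, Star.{u} p m) [Finite V]
    (hn : Nat.card V = n) (hcop : (Nat.card V).Coprime p) (Γ T : Subgroup (MulAut V))
    (hTΓ : T ≤ Γ) (hTn : ∀ γ ∈ Γ, ∀ t ∈ T, γ * t * γ⁻¹ ∈ T) (hT : IsPGroup p T)
    (a : MulAut V) (_haT : a ∈ T) (hap : a ^ p = 1) (ha1 : a ≠ 1)
    (B : Subgroup (MulAut V)) (hBn : ∀ γ ∈ Γ, ∀ b ∈ B, γ * b * γ⁻¹ ∈ B)
    (hBab : ∀ x ∈ B, ∀ y ∈ B, x * y = y * x) (hBexp : ∀ x ∈ B, x ^ p = 1)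
    (hBcard : p ^ 2 ≤ Nat.card B) (hfix : fixedPts B = ⊥) (haT₀ : a ∈ T0 p T B) :
    ∃ v : V, ∀ γ ∈ Γ, (γ * a * γ⁻¹) v ≠ v := by
  classical
  have : Fintype (Subgroup (MulAut V)) := Fintype.ofFinite _
  have hBn' : ∀ γ ∈ Γ, ∀ b ∈ B, γ⁻¹ * b * γ ∈ B := by
    intro γ hγ b hb
    have := hBn γ⁻¹ (Γ.inv_mem hγ) b hb
    simpa using this
  -- a component on which `a` acts non-trivially
  have hex : ∃ D₀ : Subgroup (MulAut V), (D₀ ≤ B ∧ D₀.relIndex B = p) ∧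
      ∃ w ∈ fixedPts D₀, a w ≠ w := by
    by_contra hcon
    push Not at hcon
    have hsup := iSup_fixedPts_hyperplane hcop B hBab hBexp hfix
    have hle : (⨆ D : {D : Subgroup (MulAut V) // D ≤ B ∧ D.relIndex B = p}, fixedPts D.1) ≤
        fixedPts (Subgroup.zpowers a) := by
      apply iSup_le
      intro D w hw
      exact mem_fixedPts_zpowers.2 (hcon D.1 D.2 w hw)
    rw [hsup] at hle
    apply ha1
    apply eq_one_of_forall_apply
    intro v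
    exact mem_fixedPts_zpowers.1 (hle (Subgroup.mem_top v))
  obtain ⟨D₀, hD₀hyp, w₁, hw₁, haw₁⟩ := hex
  have hD₀Om : D₀ ∈ Om p B := by
    refine ⟨hD₀hyp, ?_⟩
    intro hbot
    rw [hbot, Subgroup.mem_bot] at hw₁
    apply haw₁
    rw [hw₁, map_one]
  -- the stabiliser of `D₀`
  let Δ : Subgroup (MulAut V) :=
    { carrier := {γ | γ ∈ Γ ∧ cj γ D₀ = D₀}
      one_mem' := ⟨Γ.one_mem, cj_one D₀⟩
      mul_mem' := fun {x y} hx hy => ⟨Γ.mul_mem hx.1 hy.1, by rw [cj_mul, hy.2, hx.2]⟩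
      inv_mem' := fun {x} hx => ⟨Γ.inv_mem hx.1, by
        conv_lhs => rw [← hx.2]
        exact cj_inv_cj _ _⟩ }
  have hΔ : ∀ γ, γ ∈ Δ ↔ γ ∈ Γ ∧ cj γ D₀ = D₀ := fun _ => Iff.rfl
  have hW : ∀ δ ∈ Δ, ∀ w ∈ fixedPts D₀, δ w ∈ fixedPts D₀ := by
    intro δ hδ w hw
    have := apply_mem_fixedPts_cj δ hw
    rwa [((hΔ δ).1 hδ).2] at this
  have hWtop : fixedPts D₀ ≠ ⊤ := by
    intro htop
    have hD₀bot : D₀ = ⊥ := by
      rw [eq_bot_iff]
      intro d hd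
      rw [Subgroup.mem_bot]
      apply eq_one_of_forall_apply
      intro v
      have : v ∈ fixedPts D₀ := by rw [htop]; exact Subgroup.mem_top v
      exact this d hd
    have h1 := hD₀hyp.2
    rw [hD₀bot, Subgroup.relIndex_bot_left] at h1
    rw [h1] at hBcard
    have h2 := hpp.out.two_le
    nlinarith
  have hT₀Δ : T0 p T B ≤ Δ := by
    intro t ht
    exact (hΔ t).2 ⟨hTΓ ht.1, ht.2 D₀ hD₀Om⟩
  have hT₀n : ∀ δ ∈ Δ, ∀ t ∈ T0 p T B, δ * t * δ⁻¹ ∈ T0 p T B := by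
    intro δ hδ
    exact T0_normal hTn hBn δ ((hΔ δ).1 hδ).1
  obtain ⟨w₀, hw₀, hw₀'⟩ := rih IH hn hcop Δ (fixedPts D₀) hW hWtop (T0 p T B) hT₀Δ hT₀n
    (hT.to_le T0_le) a haT₀ hap ⟨w₁, hw₁, haw₁⟩
  -- the orbit of `D₀`
  let O : Finset (Subgroup (MulAut V)) :=
    (Finset.univ : Finset (Subgroup (MulAut V))).filter (fun D => ∃ γ ∈ Γ, cj γ D₀ = D)
  have hO : ∀ D, D ∈ O ↔ ∃ γ ∈ Γ, cj γ D₀ = D := by
    intro D
    simp [O]
  let u : Subgroup (MulAut V) → V := fun D =>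
    if h : ∃ γ ∈ Γ, cj γ D₀ = D then (Classical.choose h) w₀ else 1
  have hu : ∀ D ∈ O, ∃ γ ∈ Γ, cj γ D₀ = D ∧ u D = γ w₀ := by
    intro D hD
    have h := (hO D).1 hD
    refine ⟨Classical.choose h, (Classical.choose_spec h).1, (Classical.choose_spec h).2, ?_⟩
    simp only [u, dif_pos h]
  have hOOm : ∀ D ∈ O, D ∈ Om p B := by
    intro D hD
    obtain ⟨γ, hγ, rfl⟩ := (hO D).1 hD
    exact cj_mem_Om (hBn γ hγ) (hBn' γ hγ) hD₀Om
  have huD : ∀ D ∈ O, u D ∈ fixedPts D := by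
    intro D hD
    obtain ⟨γ, hγ, hγD, huD⟩ := hu D hD
    rw [huD, ← hγD]
    exact apply_mem_fixedPts_cj γ hw₀
  refine ⟨∏ D ∈ O, u D, ?_⟩
  intro γ hγ hfixv
  set c := γ * a * γ⁻¹ with hc
  have hcT₀ : c ∈ T0 p T B := T0_normal hTn hBn γ hγ a haT₀
  have hprod : ∏ D ∈ O, (c (u D) * (u D)⁻¹) = 1 := by
    rw [Finset.prod_mul_distrib, Finset.prod_inv_distrib, ← map_prod, hfixv, mul_inv_cancel]
  have hkey := fixedPts_hyperplane_indep hcop B hBab hBexp hfix O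
    (fun D hD => (hOOm D hD).1) (fun D => c (u D) * (u D)⁻¹)
    (by
      intro D hD
      apply Subgroup.mul_mem _ _ (Subgroup.inv_mem _ (huD D hD))
      have := apply_mem_fixedPts_cj c (huD D hD)
      rwa [hcT₀.2 D (hOOm D hD)] at this) hprod
  have hDγ : cj γ D₀ ∈ O := (hO _).2 ⟨γ, hγ, rfl⟩
  obtain ⟨γ', hγ', hγ'D, huD'⟩ := hu _ hDγ
  have h1 := hkey _ hDγ
  rw [huD', mul_inv_eq_one] at h1
  -- δ = γ'⁻¹ γ
  have hδ : γ'⁻¹ * γ ∈ Δ := by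
    refine (hΔ _).2 ⟨Γ.mul_mem (Γ.inv_mem hγ') hγ, ?_⟩
    rw [cj_mul, ← hγ'D, cj_inv_cj]
  apply hw₀' _ hδ
  have e : (γ'⁻¹ * γ) * a * (γ'⁻¹ * γ)⁻¹ = γ'⁻¹ * c * γ' := by
    rw [hc]; group
  rw [e]
  show γ'⁻¹ (c (γ' w₀)) = w₀
  rw [h1, inv_apply_self']


/-- the permutation action of `T` on `Om p B` -/
noncomputable def permOm (p : ℕ) (T B : Subgroup (MulAut V))
    (hBT : ∀ t ∈ T, ∀ b ∈ B, t * b * t⁻¹ ∈ B) : ↥T →* Equiv.Perm {D // D ∈ Om p B} where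
  toFun t :=
    { toFun := fun D => ⟨cj (t : MulAut V) D.1, cj_mem_Om (hBT t t.2) (by
        intro b hb
        have := hBT _ (T.inv_mem t.2) b hb
        simpa using this) D.2⟩
      invFun := fun D => ⟨cj (t : MulAut V)⁻¹ D.1, cj_mem_Om (hBT _ (T.inv_mem t.2)) (by
        intro b hb
        have := hBT t t.2 b hb
        simpa using this) D.2⟩
      left_inv := fun D => Subtype.ext (cj_inv_cj _ _)
      right_inv := fun D => Subtype.ext (cj_cj_inv _ _) }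
  map_one' := by
    ext D
    exact congrArg (fun E : Subgroup (MulAut V) => (· ∈ E)) (cj_one D.1) |> fun h => by
      show _ ∈ cj ((1 : ↥T) : MulAut V) D.1 ↔ _
      rw [Subgroup.coe_one, cj_one]; rfl
  map_mul' := fun x y => by
    ext D
    show _ ∈ cj ((x * y : ↥T) : MulAut V) D.1 ↔ _
    rw [Subgroup.coe_mul, cj_mul]; rfl

theorem permOm_apply_coe (p : ℕ) (T B : Subgroup (MulAut V))
    (hBT : ∀ t ∈ T, ∀ b ∈ B, t * b * t⁻¹ ∈ B) (t : ↥T) (D : {D // D ∈ Om p B}) :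
    ((permOm p T B hBT t D : {D // D ∈ Om p B}) : Subgroup (MulAut V)) = cj (t : MulAut V) D.1 :=
  rfl


theorem case1a {p : ℕ} [hpp : Fact p.Prime] (hp : p ≠ 2) [Finite V]
    (hcop : (Nat.card V).Coprime p) (Γ T : Subgroup (MulAut V))
    (hTΓ : T ≤ Γ) (hTn : ∀ γ ∈ Γ, ∀ t ∈ T, γ * t * γ⁻¹ ∈ T) (hT : IsPGroup p T)
    (a : MulAut V) (haT : a ∈ T)
    (B : Subgroup (MulAut V)) (hBn : ∀ γ ∈ Γ, ∀ b ∈ B, γ * b * γ⁻¹ ∈ B)
    (hBab : ∀ x ∈ B, ∀ y ∈ B, x * y = y * x) (hBexp : ∀ x ∈ B, x ^ p = 1)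
    (hfix : fixedPts B = ⊥) (haT₀ : a ∉ T0 p T B) :
    ∃ v : V, ∀ γ ∈ Γ, (γ * a * γ⁻¹) v ≠ v := by
  classical
  have : Fintype (Subgroup (MulAut V)) := Fintype.ofFinite _
  have hBT : ∀ t ∈ T, ∀ b ∈ B, t * b * t⁻¹ ∈ B := fun t ht => hBn t (hTΓ ht)
  obtain ⟨S, hS⟩ := exists_set_stabilizer_trivial hp (hT.to_le le_rfl |> fun _ => hT)
    (permOm p T B hBT)
  -- non-trivial fixed vectors
  have hw : ∀ D : Subgroup (MulAut V), D ∈ Om p B → ∃ w ∈ fixedPts D, w ≠ 1 := by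
    intro D hD
    obtain ⟨⟨w, hw⟩, hw1⟩ := (Subgroup.ne_bot_iff_exists_ne_one).1 hD.2
    exact ⟨w, hw, fun e => hw1 (Subtype.ext e)⟩
  let wf : Subgroup (MulAut V) → V := fun D =>
    if h : D ∈ Om p B then Classical.choose (hw D h) else 1
  have hwf : ∀ D ∈ Om p B, wf D ∈ fixedPts D ∧ wf D ≠ 1 := by
    intro D hD
    simp only [wf, dif_pos hD]
    exact ⟨(Classical.choose_spec (hw D hD)).1, (Classical.choose_spec (hw D hD)).2⟩
  let s : Finset (Subgroup (MulAut V)) :=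
    (Finset.univ : Finset (Subgroup (MulAut V))).filter
      (fun D => ∃ h : D ∈ Om p B, (⟨D, h⟩ : {D // D ∈ Om p B}) ∈ S)
  have hs : ∀ D, D ∈ s ↔ ∃ h : D ∈ Om p B, (⟨D, h⟩ : {D // D ∈ Om p B}) ∈ S := by
    intro D; simp [s]
  have hsOm : ∀ D ∈ s, D ∈ Om p B := fun D hD => ((hs D).1 hD).1
  refine ⟨∏ D ∈ s, wf D, ?_⟩
  intro γ hγ hfixv
  set c := γ * a * γ⁻¹ with hc
  have hcT : c ∈ T := hTn γ hγ a haT
  have hcT₀ : c ∉ T0 p T B := by
    intro h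
    apply haT₀
    have := T0_normal hTn hBn γ⁻¹ (Γ.inv_mem hγ) c h
    have e : γ⁻¹ * c * γ⁻¹⁻¹ = a := by rw [hc]; group
    rwa [e] at this
  have hcB1 : ∀ b ∈ B, c * b * c⁻¹ ∈ B := hBT c hcT
  have hcB2 : ∀ b ∈ B, c⁻¹ * b * c ∈ B := by
    intro b hb
    have := hBT _ (T.inv_mem hcT) b hb
    simpa using this
  let s' : Finset (Subgroup (MulAut V)) := s.image (cj c)
  have hs' : ∀ D', D' ∈ s' ↔ cj c⁻¹ D' ∈ s := by
    intro D'
    simp only [s', Finset.mem_image]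
    constructor
    · rintro ⟨D, hD, rfl⟩
      rwa [cj_inv_cj]
    · intro h
      exact ⟨_, h, cj_cj_inv c D'⟩
  let u' : Subgroup (MulAut V) → V := fun D' =>
    (if D' ∈ s' then c (wf (cj c⁻¹ D')) else 1) * (if D' ∈ s then (wf D')⁻¹ else 1)
  have hprod : ∏ D' ∈ s ∪ s', u' D' = 1 := by
    simp only [u']
    rw [Finset.prod_mul_distrib, Finset.prod_ite_mem, Finset.prod_ite_mem,
      Finset.union_inter_cancel_right, Finset.union_inter_cancel_left, Finset.prod_inv_distrib]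
    have e1 : ∏ D' ∈ s', c (wf (cj c⁻¹ D')) = ∏ D ∈ s, c (wf D) := by
      simp only [s']
      rw [Finset.prod_image (fun x _ y _ h => cj_injective c h)]
      apply Finset.prod_congr rfl
      intro D _
      rw [cj_inv_cj]
    rw [e1, ← map_prod, hfixv, mul_inv_cancel]
  have hkey := fixedPts_hyperplane_indep hcop B hBab hBexp hfix (s ∪ s')
    (by
      intro D' hD'
      rcases Finset.mem_union.1 hD' with h | h
      · exact (hsOm D' h).1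
      · have h1 := hsOm _ ((hs' D').1 h)
        have h2 := cj_mem_Om hcB1 hcB2 h1
        rw [cj_cj_inv] at h2
        exact h2.1)
    u'
    (by
      intro D' _
      simp only [u']
      apply Subgroup.mul_mem
      · split_ifs with h
        · have h1 := hsOm _ ((hs' D').1 h)
          have h2 := apply_mem_fixedPts_cj c (hwf _ h1).1
          rwa [cj_cj_inv] at h2
        · exact Subgroup.one_mem _
      · split_ifs with h
        · exact Subgroup.inv_mem _ (hwf _ (hsOm D' h)).1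
        · exact Subgroup.one_mem _)
    hprod
  have hss : s' = s := by
    ext D'
    constructor
    · intro h
      by_contra hn
      have h1 := hkey D' (Finset.mem_union_right _ h)
      simp only [u', if_pos h, if_neg hn, mul_one] at h1
      have h2 := (hwf _ (hsOm _ ((hs' D').1 h))).2
      apply h2
      have := congrArg (fun x => (c⁻¹ : MulAut V) x) h1
      simp only [inv_apply_self', map_one] at this
      exact this
    · intro h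
      by_contra hn
      have h1 := hkey D' (Finset.mem_union_left _ h)
      simp only [u', if_pos h, if_neg hn, one_mul, inv_eq_one] at h1
      exact (hwf _ (hsOm D' h)).2 h1
  -- hence `c` stabilises `S`
  have hstab : (permOm p T B hBT ⟨c, hcT⟩) '' S = S := by
    ext y
    constructor
    · rintro ⟨x, hx, rfl⟩
      have h1 : x.1 ∈ s := (hs x.1).2 ⟨x.2, hx⟩
      have h2 : cj c x.1 ∈ s := by
        rw [← hss, hs', cj_inv_cj]; exact h1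
      obtain ⟨h3, h4⟩ := (hs _).1 h2
      exact h4
    · intro hy
      have h1 : y.1 ∈ s' := by rw [hss]; exact (hs y.1).2 ⟨y.2, hy⟩
      have h2 := (hs' y.1).1 h1
      obtain ⟨h3, h4⟩ := (hs _).1 h2
      refine ⟨⟨_, h3⟩, h4, ?_⟩
      apply Subtype.ext
      rw [permOm_apply_coe]
      exact cj_cj_inv c y.1
  have h1 := hS ⟨c, hcT⟩ hstab
  apply hcT₀
  refine ⟨hcT, ?_⟩
  intro D hD
  have := congrArg (fun e : Equiv.Perm {D // D ∈ Om p B} => ((e ⟨D, hD⟩ : {D // D ∈ Om p B}) : Subgroup (MulAut V))) h1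
  simpa [permOm_apply_coe] using this


/-! ### the second case: no large normal elementary abelian subgroup -/

/-- the normal closure of `a` under `Γ` -/
def T1 (Γ : Subgroup (MulAut V)) (a : MulAut V) : Subgroup (MulAut V) :=
  Subgroup.closure {c | ∃ γ ∈ Γ, c = γ * a * γ⁻¹}

theorem conj_mem_T1 {Γ : Subgroup (MulAut V)} {a γ : MulAut V} (hγ : γ ∈ Γ) :
    γ * a * γ⁻¹ ∈ T1 Γ a := Subgroup.subset_closure ⟨γ, hγ, rfl⟩

theorem self_mem_T1 (Γ : Subgroup (MulAut V)) (a : MulAut V) : a ∈ T1 Γ a := by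
  have := conj_mem_T1 (a := a) Γ.one_mem
  simpa using this

theorem T1_le {Γ T : Subgroup (MulAut V)} {a : MulAut V}
    (hTn : ∀ γ ∈ Γ, ∀ t ∈ T, γ * t * γ⁻¹ ∈ T) (haT : a ∈ T) : T1 Γ a ≤ T := by
  unfold T1
  rw [Subgroup.closure_le]
  rintro _ ⟨γ, hγ, rfl⟩
  exact hTn γ hγ a haT

theorem T1_normal {Γ : Subgroup (MulAut V)} {a : MulAut V} :
    ∀ δ ∈ Γ, ∀ t ∈ T1 Γ a, δ * t * δ⁻¹ ∈ T1 Γ a := by
  intro δ hδ t ht
  unfold T1 at ht
  induction ht using Subgroup.closure_induction with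
  | mem x hx =>
    obtain ⟨γ, hγ, rfl⟩ := hx
    have e : δ * (γ * a * γ⁻¹) * δ⁻¹ = (δ * γ) * a * (δ * γ)⁻¹ := by group
    rw [e]
    exact conj_mem_T1 (Γ.mul_mem hδ hγ)
  | one => simp only [mul_one, mul_inv_cancel]; exact Subgroup.one_mem _
  | mul x y _ _ hx hy =>
    have e : δ * (x * y) * δ⁻¹ = (δ * x * δ⁻¹) * (δ * y * δ⁻¹) := by group
    rw [e]; exact Subgroup.mul_mem _ hx hy
  | inv x _ hx =>
    have e : δ * x⁻¹ * δ⁻¹ = (δ * x * δ⁻¹)⁻¹ := by group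
    rw [e]; exact Subgroup.inv_mem _ hx

/-- conjugation by a normalising element, as an automorphism of the subgroup -/
def conjAut (N : Subgroup (MulAut V)) (g : MulAut V) (h1 : ∀ n ∈ N, g * n * g⁻¹ ∈ N)
    (h2 : ∀ n ∈ N, g⁻¹ * n * g ∈ N) : ↥N ≃* ↥N where
  toFun n := ⟨g * n * g⁻¹, h1 n n.2⟩
  invFun n := ⟨g⁻¹ * n * g, h2 n n.2⟩
  left_inv n := Subtype.ext (by show g⁻¹ * (g * n * g⁻¹) * g = n; group)
  right_inv n := Subtype.ext (by show g * (g⁻¹ * n * g) * g⁻¹ = n; group)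
  map_mul' x y := Subtype.ext (by
    show g * (x * y : MulAut V) * g⁻¹ = (g * x * g⁻¹) * (g * y * g⁻¹); group)

theorem conjAut_apply_coe (N : Subgroup (MulAut V)) (g : MulAut V) (h1 : ∀ n ∈ N, g * n * g⁻¹ ∈ N)
    (h2 : ∀ n ∈ N, g⁻¹ * n * g ∈ N) (n : ↥N) :
    ((conjAut N g h1 h2 n : ↥N) : MulAut V) = g * n * g⁻¹ := rfl


theorem case2_hchar {p : ℕ} [hpp : Fact p.Prime] [Finite V]
    (Γ T : Subgroup (MulAut V))
    (hTn : ∀ γ ∈ Γ, ∀ t ∈ T, γ * t * γ⁻¹ ∈ T) (hT : IsPGroup p T)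
    (a : MulAut V) (haT : a ∈ T)
    (hno : ¬ ∃ B : Subgroup (MulAut V), B ≤ T ∧ (∀ γ ∈ Γ, ∀ b ∈ B, γ * b * γ⁻¹ ∈ B) ∧
      (∀ x ∈ B, ∀ y ∈ B, x * y = y * x) ∧ (∀ x ∈ B, x ^ p = 1) ∧ p ^ 2 ≤ Nat.card B)
    (A : Subgroup ↥(T1 Γ a)) (hAc : A.Characteristic)
    (hAab : ∀ x ∈ A, ∀ y ∈ A, x * y = y * x) (hAexp : ∀ x ∈ A, x ^ p = 1) : Nat.card A ≤ p := by
  classical
  have hT₁T : T1 Γ a ≤ T := T1_le hTn haT
  have hT₁p : IsPGroup p (T1 Γ a) := hT.to_le hT₁T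
  have hn1 : ∀ δ ∈ Γ, ∀ t ∈ T1 Γ a, δ * t * δ⁻¹ ∈ T1 Γ a := T1_normal
  have hn2 : ∀ δ ∈ Γ, ∀ t ∈ T1 Γ a, δ⁻¹ * t * δ ∈ T1 Γ a := by
    intro δ hδ t ht
    have := hn1 δ⁻¹ (Γ.inv_mem hδ) t ht
    simpa using this
  have hB : ¬ p ^ 2 ≤ Nat.card (A.map (T1 Γ a).subtype) := by
    intro hcard
    apply hno
    refine ⟨A.map (T1 Γ a).subtype, ?_, ?_, ?_, ?_, hcard⟩
    · rintro _ ⟨x, _, rfl⟩
      exact hT₁T x.2
    · rintro γ hγ _ ⟨x, hx, rfl⟩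
      refine ⟨conjAut (T1 Γ a) γ (hn1 γ hγ) (hn2 γ hγ) x, ?_, rfl⟩
      exact Subgroup.characteristic_iff_le_comap.1 hAc
        (conjAut (T1 Γ a) γ (hn1 γ hγ) (hn2 γ hγ)) hx
    · rintro _ ⟨x, hx, rfl⟩ _ ⟨y, hy, rfl⟩
      exact congrArg Subtype.val (hAab x hx y hy)
    · rintro _ ⟨x, hx, rfl⟩
      have := congrArg Subtype.val (hAexp x hx)
      simpa using this
  rw [Subgroup.card_map_of_injective (T1 Γ a).subtype_injective] at hB
  obtain ⟨k, hk⟩ := (hT₁p.to_subgroup A).exists_card_eq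
  rw [hk] at hB ⊢
  have hk2 : k < 2 := by
    by_contra h
    apply hB
    exact Nat.pow_le_pow_right hpp.out.pos (not_lt.1 h)
  calc p ^ k ≤ p ^ 1 := Nat.pow_le_pow_right hpp.out.pos (by omega)
    _ = p := pow_one p

theorem case2 {p : ℕ} [hpp : Fact p.Prime] (hp : p ≠ 2) [Finite V]
    (hcop : (Nat.card V).Coprime p) (Γ T : Subgroup (MulAut V))
    (hTn : ∀ γ ∈ Γ, ∀ t ∈ T, γ * t * γ⁻¹ ∈ T) (hT : IsPGroup p T)
    (a : MulAut V) (haT : a ∈ T) (hap : a ^ p = 1) (ha1 : a ≠ 1)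
    (hno : ¬ ∃ B : Subgroup (MulAut V), B ≤ T ∧ (∀ γ ∈ Γ, ∀ b ∈ B, γ * b * γ⁻¹ ∈ B) ∧
      (∀ x ∈ B, ∀ y ∈ B, x * y = y * x) ∧ (∀ x ∈ B, x ^ p = 1) ∧ p ^ 2 ≤ Nat.card B) :
    ∃ v : V, ∀ γ ∈ Γ, (γ * a * γ⁻¹) v ≠ v := by
  classical
  have hT₁T : T1 Γ a ≤ T := T1_le hTn haT
  have hT₁p : IsPGroup p (T1 Γ a) := hT.to_le hT₁T
  have hcp : ∀ γ ∈ Γ, (γ * a * γ⁻¹) ^ p = 1 := by
    intro γ _
    rw [conj_pow, hap, mul_one, mul_inv_cancel]
  have hc1 : ∀ γ ∈ Γ, γ * a * γ⁻¹ ≠ 1 := by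
    intro γ _ h
    exact ha1 (conj_eq_one_iff.1 h)
  have hS : Subgroup.closure
      ((↑) ⁻¹' {c | ∃ γ ∈ Γ, c = γ * a * γ⁻¹} : Set ↥(T1 Γ a)) = ⊤ :=
    Subgroup.closure_closure_coe_preimage
  have hSp : ∀ s ∈ ((↑) ⁻¹' {c | ∃ γ ∈ Γ, c = γ * a * γ⁻¹} : Set ↥(T1 Γ a)), s ^ p = 1 := by
    rintro ⟨s, hs⟩ ⟨γ, hγ, h⟩
    apply Subtype.ext
    rw [Subgroup.coe_pow, Subgroup.coe_one]
    show s ^ p = 1
    have h' : s = γ * a * γ⁻¹ := h
    rw [h']; exact hcp γ hγ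
  obtain ⟨hexp, habel, hnonab⟩ := structure_of_small_char_abelian hp hT₁p _ hS hSp
    (case2_hchar Γ T hTn hT a haT hno)
  by_cases hab : ∀ x y : ↥(T1 Γ a), x * y = y * x
  · -- cyclic of order `p`
    have hcard := habel hab
    obtain ⟨v, hv⟩ : ∃ v, a v ≠ v := by
      by_contra h
      push Not at h
      exact ha1 (eq_one_of_forall_apply h)
    refine ⟨v, ?_⟩
    intro γ hγ hfix
    have hcT₁ : γ * a * γ⁻¹ ∈ T1 Γ a := conj_mem_T1 hγ
    have hord : orderOf (γ * a * γ⁻¹) = p := orderOf_eq_prime (hcp γ hγ) (hc1 γ hγ)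
    have heq : Subgroup.zpowers (γ * a * γ⁻¹) = T1 Γ a := by
      apply Subgroup.eq_of_le_of_card_ge
      · rw [Subgroup.zpowers_le]; exact hcT₁
      · rw [Nat.card_zpowers, hord]; exact hcard
    have ha' : a ∈ Subgroup.zpowers (γ * a * γ⁻¹) := by
      rw [heq]; exact self_mem_T1 Γ a
    exact hv ((mem_fixedPts_zpowers.2 hfix) a ha')
  · -- extraspecial of exponent `p`
    have hab' : ∃ x y : ↥(T1 Γ a), x * y ≠ y * x := by
      by_contra h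
      push Not at h
      exact hab h
    obtain ⟨z, hz1, hzc, hcomm, hcen⟩ := hnonab hab'
    have hzmap : ∀ x : ↥(T1 Γ a), x ∈ Subgroup.zpowers z →
        (x : MulAut V) ∈ Subgroup.zpowers (z : MulAut V) := by
      intro x hx
      obtain ⟨k, rfl⟩ := Subgroup.mem_zpowers_iff.1 hx
      exact Subgroup.mem_zpowers_iff.2 ⟨k, by simp⟩
    obtain ⟨v, hv⟩ := exists_regular_vector hp hcop (T1 Γ a) hT₁p
      (fun g hg => by
        have := congrArg Subtype.val (hexp ⟨g, hg⟩)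
        simpa using this)
      (z : MulAut V) z.2 (fun h => hz1 (Subtype.ext h))
      (fun g hg => congrArg Subtype.val (hzc ⟨g, hg⟩))
      (fun g hg h hh => hzmap _ (hcomm ⟨g, hg⟩ ⟨h, hh⟩))
      (fun g hg hgc => hzmap ⟨g, hg⟩ (hcen ⟨g, hg⟩ (fun h => Subtype.ext (hgc h h.2))))
    refine ⟨v, ?_⟩
    intro γ hγ hfix
    exact hc1 γ hγ (hv _ (conj_mem_T1 hγ) hfix)

theorem case1 {p n : ℕ} [hpp : Fact p.Prime] (hp : p ≠ 2) (IH : ∀ m < n, Star.{u} p m)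
    [Finite V] (hn : Nat.card V = n) (hcop : (Nat.card V).Coprime p) (Γ T : Subgroup (MulAut V))
    (hTΓ : T ≤ Γ) (hTn : ∀ γ ∈ Γ, ∀ t ∈ T, γ * t * γ⁻¹ ∈ T) (hT : IsPGroup p T)
    (a : MulAut V) (haT : a ∈ T) (hap : a ^ p = 1) (ha1 : a ≠ 1)
    (B : Subgroup (MulAut V)) (hBT : B ≤ T) (hBn : ∀ γ ∈ Γ, ∀ b ∈ B, γ * b * γ⁻¹ ∈ B)
    (hBab : ∀ x ∈ B, ∀ y ∈ B, x * y = y * x) (hBexp : ∀ x ∈ B, x ^ p = 1)
    (hBcard : p ^ 2 ≤ Nat.card B) :
    ∃ v : V, ∀ γ ∈ Γ, (γ * a * γ⁻¹) v ≠ v := by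
  classical
  by_cases hfix : fixedPts B = ⊥
  · by_cases haT₀ : a ∈ T0 p T B
    · exact case1b IH hn hcop Γ T hTΓ hTn hT a haT hap ha1 B hBn hBab hBexp hBcard hfix haT₀
    · exact case1a hp hcop Γ T hTΓ hTn hT a haT B hBn hBab hBexp hfix haT₀
  · have hBp : IsPGroup p B := hT.to_le hBT
    have hBn' : ∀ γ ∈ Γ, ∀ b ∈ B, γ⁻¹ * b * γ ∈ B := by
      intro γ hγ b hb
      have := hBn γ⁻¹ (Γ.inv_mem hγ) b hb
      simpa using this
    have hinf := fixedPts_inf_commPts hcop B hBp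
    have hsup := fixedPts_sup_commPts hcop B hBp
    have hW1top : fixedPts B ≠ ⊤ := by
      intro htop
      have hBbot : B = ⊥ := by
        rw [eq_bot_iff]
        intro d hd
        rw [Subgroup.mem_bot]
        apply eq_one_of_forall_apply
        intro v
        have : v ∈ fixedPts B := by rw [htop]; exact Subgroup.mem_top v
        exact this d hd
      rw [hBbot, Subgroup.card_bot] at hBcard
      have h2 := hpp.out.two_le
      nlinarith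
    have hW2top : commPts B ≠ ⊤ := by
      intro htop
      apply hfix
      rw [htop, inf_top_eq] at hinf
      exact hinf
    have hmove : (∃ w ∈ fixedPts B, a w ≠ w) ∨ (∃ w ∈ commPts B, a w ≠ w) := by
      by_contra hcon
      push Not at hcon
      have hle : fixedPts B ⊔ commPts B ≤ fixedPts (Subgroup.zpowers a) := by
        apply sup_le
        · intro w hw; exact mem_fixedPts_zpowers.2 (hcon.1 w hw)
        · intro w hw; exact mem_fixedPts_zpowers.2 (hcon.2 w hw)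
      rw [hsup] at hle
      apply ha1
      apply eq_one_of_forall_apply
      intro v
      exact mem_fixedPts_zpowers.1 (hle (Subgroup.mem_top v))
    rcases hmove with hm | hm
    · obtain ⟨w, _, hw⟩ := rih IH hn hcop Γ (fixedPts B)
        (fun δ hδ w hw => apply_mem_fixedPts_of_normalizes (hBn' δ hδ) hw) hW1top T hTΓ hTn hT
        a haT hap hm
      exact ⟨w, hw⟩
    · obtain ⟨w, _, hw⟩ := rih IH hn hcop Γ (commPts B)
        (fun δ hδ w hw => apply_mem_commPts_of_normalizes (hBn δ hδ) hw) hW2top T hTΓ hTn hT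
        a haT hap hm
      exact ⟨w, hw⟩

theorem star {p : ℕ} [hpp : Fact p.Prime] (hp : p ≠ 2) (n : ℕ) : Star.{u} p n := by
  induction n using Nat.strong_induction_on with
  | _ n IH =>
    intro V _ _ hn hcop Γ T hTΓ hTn hT a haT hap ha1
    by_cases hB : ∃ B : Subgroup (MulAut V), B ≤ T ∧ (∀ γ ∈ Γ, ∀ b ∈ B, γ * b * γ⁻¹ ∈ B) ∧
      (∀ x ∈ B, ∀ y ∈ B, x * y = y * x) ∧ (∀ x ∈ B, x ^ p = 1) ∧ p ^ 2 ≤ Nat.card B
    · obtain ⟨B, hBT, hBn, hBab, hBexp, hBcard⟩ := hB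
      exact case1 hp IH hn hcop Γ T hTΓ hTn hT a haT hap ha1 B hBT hBn hBab hBexp hBcard
    · exact case2 hp hcop Γ T hTn hT a haT hap ha1 hB

/-- **P7**: the avoiding-vector theorem. -/
theorem exists_avoiding {V : Type u} [CommGroup V] [Finite V] {p : ℕ} [Fact p.Prime] (hp : p ≠ 2)
    (hcop : (Nat.card V).Coprime p) (Γ T : Subgroup (MulAut V)) (hTΓ : T ≤ Γ)
    (hTn : ∀ γ ∈ Γ, ∀ t ∈ T, γ * t * γ⁻¹ ∈ T) (hT : IsPGroup p T) (a : MulAut V) (haT : a ∈ T)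
    (hap : a ^ p = 1) (ha1 : a ≠ 1) : ∃ v : V, ∀ γ ∈ Γ, (γ * a * γ⁻¹) v ≠ v :=
  star hp (Nat.card V) V rfl hcop Γ T hTΓ hTn hT a haT hap ha1

end Cfsg.Agent.Lib.H14.Fum
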