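import Cfsg.Agent.Lib.H14.SylCert

set_option autoImplicit false

/-!
Data for a Sylow 2-subgroup (m12): generating words forming a fusion chain, the elements and their tables, the
octad fixed by the central involution and an invariant flag on it (helper14; generated).
-/

namespace Cfsg.Agent.Lib.H14.FusData12

open Cfsg Cfsg.Agent.Lib.H28 Cfsg.Agent.Lib.H14.SylCert

def D : Data where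
  tws := [
    [3, 1, 1, 1, 2, 1, 4, 0, 2, 1, 4, 4, 1, 3, 3, 0, 4, 1, 2, 3, 1, 3, 0, 2, 0, 0, 0, 4, 2, 0, 3, 1, 4, 4, 0, 3, 3, 0, 2, 3, 1, 1, 1, 2, 1, 4, 0, 2, 0, 3, 1, 4, 4, 0, 3, 3, 0, 2],
    [3, 1, 1, 1, 2, 1, 4, 0, 2, 1, 4, 4, 1, 3, 3, 0, 4, 1, 2, 3, 1, 1, 1, 2, 1, 4, 0, 3, 1, 3, 0, 2, 0, 0, 0, 4, 3],
    [2, 1, 4, 4, 1, 3, 3, 0, 4, 1, 2, 2, 1, 4, 4, 1, 3, 3, 0, 4, 1, 2, 3, 1, 1, 1, 2, 1, 4, 0, 2, 0, 3, 1, 4, 4, 0, 3, 3, 0, 2, 3, 1, 1, 1, 2, 1, 4, 0, 2, 0, 3, 1, 4, 4, 0, 3, 3, 0, 2, 3, 1, 1, 1, 2, 1, 4, 0, 3],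
    [2, 1, 4, 4, 1, 3, 3, 0, 4, 1, 2, 4, 2, 0, 3, 1, 4, 4, 0, 3, 3, 0, 2, 2, 0, 3, 1, 4, 4, 0, 3, 3, 0, 2, 4, 4, 2, 1, 4, 4, 1, 3, 3, 0, 4, 1, 2, 3, 3],
    [3, 2, 1, 4, 4, 1, 3, 3, 0, 4, 1, 2, 4, 3, 1, 1, 1, 2, 1, 4, 0, 4, 1, 3, 0, 2, 0, 0, 0, 4, 2, 1, 4, 4, 1, 3, 3, 0, 4, 1, 2],
    [3, 1, 1, 1, 2, 1, 4, 0, 2, 1, 4, 4, 1, 3, 3, 0, 4, 1, 2, 3, 1, 1, 1, 2, 1, 4, 0, 3, 1, 3, 0, 2, 0, 0, 0, 4, 2, 1, 4, 4, 1, 3, 3, 0, 4, 1, 2]]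
  elts := [
    [],
    [0],
    [1],
    [2],
    [3],
    [4],
    [5],
    [1, 0],
    [2, 0],
    [3, 0],
    [4, 0],
    [5, 0],
    [2, 1],
    [3, 1],
    [4, 1],
    [5, 1],
    [1, 2],
    [3, 2],
    [4, 2],
    [5, 2],
    [1, 3],
    [4, 3],
    [5, 3],
    [1, 4],
    [5, 4],
    [3, 5],
    [4, 5],
    [4, 1, 0],
    [5, 1, 0],
    [3, 2, 0],
    [4, 2, 0],
    [5, 2, 0],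
    [4, 3, 0],
    [5, 3, 0],
    [1, 4, 0],
    [3, 5, 0],
    [3, 2, 1],
    [4, 2, 1],
    [5, 2, 1],
    [4, 3, 1],
    [5, 3, 1],
    [1, 4, 1],
    [5, 4, 1],
    [3, 5, 1],
    [4, 5, 1],
    [3, 1, 2],
    [4, 1, 2],
    [5, 1, 2],
    [4, 3, 2],
    [5, 3, 2],
    [5, 4, 2],
    [4, 5, 2],
    [4, 1, 3],
    [5, 1, 3],
    [5, 4, 3],
    [4, 5, 3],
    [5, 1, 4],
    [4, 3, 5],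
    [5, 4, 2, 1],
    [4, 5, 2, 1],
    [5, 4, 3, 1],
    [4, 5, 3, 1],
    [5, 1, 4, 1],
    [4, 3, 5, 1]]
  tabs := [
    [0, 1, 2, 3, 4, 5, 6, 7, 8, 9, 10, 11, 12, 13, 14, 15, 16, 17, 18, 19, 20, 21, 22, 23],
    [0, 4, 9, 16, 1, 5, 6, 11, 12, 2, 10, 7, 8, 13, 23, 22, 3, 20, 18, 19, 17, 21, 15, 14],
    [6, 3, 9, 1, 16, 21, 0, 15, 8, 2, 10, 22, 12, 13, 14, 7, 4, 20, 18, 19, 17, 5, 11, 23],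
    [6, 4, 8, 3, 1, 5, 0, 7, 2, 12, 19, 11, 9, 13, 20, 22, 16, 23, 18, 10, 14, 21, 15, 17],
    [0, 4, 12, 3, 1, 21, 6, 7, 9, 8, 10, 11, 2, 18, 17, 22, 16, 14, 13, 19, 23, 5, 15, 20],
    [13, 1, 9, 16, 4, 10, 18, 7, 8, 2, 5, 11, 12, 0, 23, 22, 3, 17, 6, 21, 20, 19, 15, 14],
    [6, 2, 1, 8, 9, 10, 0, 23, 3, 4, 5, 14, 16, 18, 11, 17, 12, 15, 13, 21, 22, 19, 20, 7],
    [6, 16, 2, 4, 3, 21, 0, 22, 12, 9, 10, 15, 8, 13, 23, 11, 1, 17, 18, 19, 20, 5, 7, 14],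
    [6, 1, 12, 16, 4, 5, 0, 11, 9, 8, 19, 7, 2, 13, 17, 15, 3, 14, 18, 10, 23, 21, 22, 20],
    [0, 1, 8, 16, 4, 21, 6, 11, 2, 12, 10, 7, 9, 18, 20, 15, 3, 23, 13, 19, 14, 5, 22, 17],
    [13, 4, 2, 3, 1, 10, 18, 11, 12, 9, 5, 7, 8, 0, 14, 15, 16, 20, 6, 21, 17, 19, 22, 23],
    [6, 9, 4, 12, 2, 10, 0, 14, 16, 1, 5, 23, 3, 18, 7, 20, 8, 22, 13, 21, 15, 19, 17, 11],
    [0, 3, 12, 4, 16, 21, 6, 22, 2, 8, 19, 15, 9, 13, 20, 7, 1, 14, 18, 10, 23, 5, 11, 17],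
    [6, 3, 8, 4, 16, 5, 0, 22, 9, 12, 10, 15, 2, 18, 17, 7, 1, 23, 13, 19, 14, 21, 11, 20],
    [18, 16, 2, 1, 3, 19, 13, 22, 8, 9, 5, 15, 12, 0, 23, 7, 4, 20, 6, 21, 17, 10, 11, 14],
    [0, 8, 4, 2, 12, 19, 6, 17, 3, 1, 5, 20, 16, 18, 11, 23, 9, 22, 13, 21, 15, 10, 14, 7],
    [0, 16, 8, 1, 3, 21, 6, 15, 9, 12, 19, 22, 2, 13, 17, 11, 4, 23, 18, 10, 14, 5, 7, 20],
    [6, 1, 9, 3, 4, 21, 0, 7, 12, 2, 19, 11, 8, 18, 23, 15, 16, 20, 13, 10, 17, 5, 22, 14],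
    [18, 4, 8, 16, 1, 10, 13, 7, 9, 12, 21, 11, 2, 0, 20, 15, 3, 14, 6, 5, 23, 19, 22, 17],
    [0, 9, 3, 8, 2, 10, 6, 23, 1, 16, 21, 14, 4, 18, 22, 20, 12, 7, 13, 5, 11, 19, 17, 15],
    [6, 16, 12, 1, 3, 5, 0, 15, 2, 8, 10, 22, 9, 18, 20, 11, 4, 14, 13, 19, 23, 21, 7, 17],
    [13, 4, 12, 16, 1, 19, 18, 7, 2, 8, 5, 11, 9, 6, 17, 15, 3, 23, 0, 21, 14, 10, 22, 20],
    [6, 9, 16, 8, 2, 19, 0, 23, 4, 3, 5, 14, 1, 13, 15, 20, 12, 11, 18, 21, 7, 10, 17, 22],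
    [13, 3, 2, 4, 16, 10, 18, 15, 8, 9, 21, 22, 12, 6, 23, 11, 1, 20, 0, 5, 17, 19, 7, 14],
    [18, 2, 4, 12, 9, 5, 13, 23, 3, 1, 10, 14, 16, 6, 7, 20, 8, 15, 0, 19, 22, 21, 17, 11],
    [6, 12, 4, 9, 8, 10, 0, 20, 3, 1, 21, 17, 16, 13, 11, 14, 2, 22, 18, 5, 15, 19, 23, 7],
    [18, 9, 1, 8, 2, 5, 13, 14, 16, 4, 10, 23, 3, 6, 11, 17, 12, 22, 0, 19, 15, 21, 20, 7],
    [18, 3, 9, 4, 16, 19, 13, 15, 12, 2, 5, 22, 8, 0, 14, 11, 1, 17, 6, 21, 20, 10, 7, 23],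
    [0, 12, 1, 9, 8, 19, 6, 20, 16, 4, 5, 17, 3, 18, 7, 14, 2, 15, 13, 21, 22, 10, 23, 11],
    [6, 4, 2, 16, 1, 21, 0, 11, 8, 9, 19, 7, 12, 18, 14, 22, 3, 17, 13, 10, 20, 5, 15, 23],
    [18, 1, 12, 3, 4, 10, 13, 11, 2, 8, 21, 7, 9, 0, 17, 22, 16, 23, 6, 5, 14, 19, 15, 20],
    [0, 2, 16, 12, 9, 10, 6, 14, 4, 3, 21, 23, 1, 18, 15, 17, 8, 11, 13, 5, 7, 19, 20, 22],
    [13, 1, 8, 3, 4, 19, 18, 11, 9, 12, 5, 7, 2, 6, 20, 22, 16, 14, 0, 21, 23, 10, 15, 17],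
    [6, 2, 3, 12, 9, 19, 0, 14, 1, 16, 5, 23, 4, 13, 22, 17, 8, 7, 18, 21, 11, 10, 20, 15],
    [13, 16, 9, 1, 3, 10, 18, 22, 12, 2, 21, 15, 8, 6, 14, 7, 4, 17, 0, 5, 20, 19, 11, 23],
    [6, 8, 1, 2, 12, 10, 0, 17, 16, 4, 21, 20, 3, 13, 7, 23, 9, 15, 18, 5, 22, 19, 14, 11],
    [0, 3, 2, 1, 16, 5, 6, 15, 12, 9, 19, 22, 8, 18, 23, 7, 4, 17, 13, 10, 20, 21, 11, 14],
    [13, 16, 12, 4, 3, 19, 18, 15, 9, 8, 21, 22, 2, 0, 20, 7, 1, 23, 6, 5, 14, 10, 11, 17],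
    [6, 8, 16, 9, 12, 19, 0, 20, 1, 3, 21, 17, 4, 18, 22, 23, 2, 11, 13, 5, 7, 10, 14, 15],
    [18, 16, 8, 4, 3, 10, 13, 15, 2, 12, 5, 22, 9, 6, 17, 7, 1, 14, 0, 21, 23, 19, 11, 20],
    [0, 8, 3, 9, 12, 10, 6, 20, 4, 16, 5, 17, 1, 13, 15, 23, 2, 7, 18, 21, 11, 19, 14, 22],
    [18, 4, 9, 3, 1, 19, 13, 11, 8, 2, 21, 7, 12, 6, 23, 15, 16, 17, 0, 5, 20, 10, 22, 14],
    [13, 12, 1, 2, 8, 21, 18, 20, 3, 4, 10, 17, 16, 6, 7, 23, 9, 22, 0, 19, 15, 5, 14, 11],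
    [0, 9, 1, 12, 2, 19, 6, 14, 3, 4, 21, 23, 16, 13, 11, 20, 8, 15, 18, 5, 22, 10, 17, 7],
    [13, 8, 4, 9, 12, 21, 18, 17, 16, 1, 10, 20, 3, 6, 11, 14, 2, 15, 0, 19, 22, 5, 23, 7],
    [0, 16, 9, 4, 3, 5, 6, 22, 8, 2, 19, 15, 12, 18, 14, 11, 1, 20, 13, 10, 17, 21, 7, 23],
    [13, 3, 8, 1, 16, 19, 18, 22, 2, 12, 21, 15, 9, 0, 17, 11, 4, 14, 6, 5, 23, 10, 7, 20],
    [6, 12, 3, 2, 8, 19, 0, 17, 4, 16, 21, 20, 1, 18, 15, 14, 9, 7, 13, 5, 11, 10, 23, 22],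
    [18, 1, 2, 16, 4, 19, 13, 7, 12, 9, 21, 11, 8, 6, 14, 22, 3, 20, 0, 5, 17, 10, 15, 23],
    [0, 2, 4, 8, 9, 19, 6, 23, 16, 1, 21, 14, 3, 13, 7, 17, 12, 22, 18, 5, 15, 10, 20, 11],
    [13, 9, 3, 12, 2, 5, 18, 23, 4, 16, 19, 14, 1, 6, 22, 17, 8, 11, 0, 10, 7, 21, 20, 15],
    [13, 2, 16, 8, 9, 5, 18, 14, 1, 3, 19, 23, 4, 6, 15, 20, 12, 7, 0, 10, 11, 21, 17, 22],
    [18, 3, 12, 1, 16, 10, 13, 22, 9, 8, 5, 15, 2, 6, 20, 11, 4, 23, 0, 21, 14, 19, 7, 17],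
    [0, 12, 16, 2, 8, 10, 6, 17, 1, 3, 5, 20, 4, 13, 22, 14, 9, 11, 18, 21, 7, 19, 23, 15],
    [18, 9, 16, 12, 2, 21, 13, 23, 1, 3, 10, 14, 4, 0, 15, 17, 8, 7, 6, 19, 11, 5, 20, 22],
    [18, 2, 3, 8, 9, 21, 13, 14, 4, 16, 10, 23, 1, 0, 22, 20, 12, 11, 6, 19, 7, 5, 17, 15],
    [18, 8, 1, 9, 12, 5, 13, 17, 3, 4, 19, 20, 16, 0, 7, 14, 2, 22, 6, 10, 15, 21, 23, 11],
    [18, 12, 4, 2, 8, 5, 13, 20, 16, 1, 19, 17, 3, 0, 11, 23, 9, 15, 6, 10, 22, 21, 14, 7],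
    [18, 12, 16, 9, 8, 21, 13, 17, 4, 3, 19, 20, 1, 6, 22, 23, 2, 7, 0, 10, 11, 5, 14, 15],
    [18, 8, 3, 2, 12, 21, 13, 20, 1, 16, 19, 17, 4, 6, 15, 14, 9, 11, 0, 10, 7, 5, 23, 22],
    [13, 12, 3, 9, 8, 5, 18, 17, 1, 16, 10, 20, 4, 0, 15, 23, 2, 11, 6, 19, 7, 21, 14, 22],
    [13, 8, 16, 2, 12, 5, 18, 20, 4, 3, 10, 17, 1, 0, 22, 14, 9, 7, 6, 19, 11, 21, 23, 15],
    [13, 9, 4, 8, 2, 21, 18, 14, 3, 1, 19, 23, 16, 0, 7, 17, 12, 15, 6, 10, 22, 5, 20, 11],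
    [13, 2, 1, 12, 9, 21, 18, 23, 16, 4, 19, 14, 3, 0, 11, 20, 8, 22, 6, 10, 15, 5, 17, 7]]

/-- the fusion chain: conjugating words and the products of earlier generators -/
def steps : List (List ℕ × List ℕ) := [
    ([3, 1, 1, 1, 2, 1, 4, 0, 3, 1, 1, 1, 2, 1, 4, 0, 2, 0, 3, 1, 4, 4, 0, 3, 3, 0, 2], [0]),
    ([2, 0, 3, 1, 4, 4, 0, 3, 3, 0, 2, 3], [1]),
    ([4, 3, 1, 1, 1, 2, 1, 4, 0, 3, 1, 1, 1, 2, 1, 4, 0], [1]),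
    ([3, 1, 1, 1, 2, 1, 4, 0, 2, 0, 3, 1, 4, 4, 0, 3, 3, 0, 2, 2, 0, 3, 1, 4, 4, 0, 3, 3, 0, 2], [3, 2, 1]),
    ([3, 1, 1, 1, 2, 1, 4, 0, 3, 1, 1, 1, 2, 1, 4, 0], [4, 1, 3])]

def om : ℕ := 2892897
def A1 : List ℕ := [270401, 2622496]
def A2 : List ℕ := [65, 270336, 525312, 2097184]
def A3 : List ℕ := [1, 32, 64, 1024, 8192, 262144, 524288, 2097152]

theorem basic_ok : D.basicB = true := by decide +kernel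

theorem distinct_ok : D.distinctB = true := by decide +kernel

theorem len_ok : D.tabs.length = 64 := by decide +kernel

theorem center_ok : D.centerB = true := by decide +kernel

theorem flag_ok : D.flagB om A1 A2 A3 = true := by decide +kernel

end Cfsg.Agent.Lib.H14.FusData12
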