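import Cfsg.Agent.Lib.H14.FusSimple
import Cfsg.Agent.Lib.H26.GroupSaturated
import Cfsg.Agent.Lib.H1.NilpotentBasic

set_option autoImplicit false

/-!
Simplicity of the fusion system of a finite group on its Sylow subgroups from properties of one Sylow subgroup
(helper14).
-/

namespace Cfsg.Agent.Lib.H14.FusSylow

open Cfsg

theorem mem_smul_sylow_iff {G : Type*} [Group G] {p : ℕ} (P : Sylow p G) (g x : G) :
    x ∈ ((g • P : Sylow p G) : Subgroup G) ↔ g⁻¹ * x * g ∈ (P : Subgroup G) := by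
  rw [Sylow.coe_subgroup_smul, Subgroup.mem_pointwise_smul_iff_inv_smul_mem, MulAut.smul_def,
    ← map_inv, MulAut.conj_apply, inv_inv]

/-- simplicity for all Sylow subgroups, from a self-normalizing Sylow subgroup in which every nontrivial
subgroup closed under fusion is everything -/
theorem isSimple_of_sylow {G : Type*} [Group G] [Finite G] {p : ℕ} [Fact p.Prime] (P0 : Sylow p G)
    (hne : (P0 : Subgroup G) ≠ ⊥)
    (hnorm : Subgroup.normalizer ((P0 : Subgroup G) : Set G) ≤ P0)
    (hclosed : ∀ T : Subgroup G, T ≤ P0 → T ≠ ⊥ →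
      (∀ t ∈ T, ∀ g : G, g * t * g⁻¹ ∈ (P0 : Subgroup G) → g * t * g⁻¹ ∈ T) → (P0 : Subgroup G) ≤ T)
    (S : Sylow p G) : (groupFusionSystem (S : Subgroup G)).IsSimple p := by
  obtain ⟨g, hg⟩ := MulAction.exists_smul_eq G P0 S
  have hS : ∀ x, x ∈ (S : Subgroup G) ↔ g⁻¹ * x * g ∈ (P0 : Subgroup G) := by
    intro x
    rw [← hg]
    exact mem_smul_sylow_iff P0 g x
  apply Cfsg.Agent.Lib.H14.FusSimple.isSimple_of
  · exact Cfsg.Agent.Lib.H26.groupFusionSystem_isSaturated S
  · intro h
    apply hne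
    rw [Subgroup.eq_bot_iff_forall] at h ⊢
    intro x hx
    have h1 : g * x * g⁻¹ ∈ (S : Subgroup G) := by
      rw [hS]
      have : g⁻¹ * (g * x * g⁻¹) * g = x := by group
      rw [this]; exact hx
    have h2 := h _ h1
    have : x = g⁻¹ * (g * x * g⁻¹) * g := by group
    rw [this, h2]; group
  · intro T hTS hT hcl
    apply le_antisymm hTS
    set T' : Subgroup G := T.comap (MulAut.conj g).toMonoidHom with hT'
    have hmem : ∀ x, x ∈ T' ↔ g * x * g⁻¹ ∈ T := fun x => Iff.rfl
    have h1 : T' ≤ (P0 : Subgroup G) := by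
      intro x hx
      have := (hS _).1 (hTS ((hmem x).1 hx))
      have e : g⁻¹ * (g * x * g⁻¹) * g = x := by group
      rwa [e] at this
    have h2 : T' ≠ ⊥ := by
      intro h
      apply hT
      rw [Subgroup.eq_bot_iff_forall] at h ⊢
      intro x hx
      have hx' : g⁻¹ * x * g ∈ T' := by
        rw [hmem]
        have e : g * (g⁻¹ * x * g) * g⁻¹ = x := by group
        rw [e]; exact hx
      have := h _ hx'
      have e : x = g * (g⁻¹ * x * g) * g⁻¹ := by group
      rw [e, this]; group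
    have h3 := hclosed T' h1 h2 (by
      intro t ht k hk
      rw [hmem] at ht ⊢
      have e : g * (k * t * k⁻¹) * g⁻¹ = (g * k * g⁻¹) * (g * t * g⁻¹) * (g * k * g⁻¹)⁻¹ := by group
      rw [e]
      apply hcl _ ht
      rw [← e, hS]
      have e2 : g⁻¹ * (g * (k * t * k⁻¹) * g⁻¹) * g = k * t * k⁻¹ := by group
      rw [e2]; exact hk)
    intro s hs
    have := h3 ((hS s).1 hs)
    rw [hmem] at this
    have e : g * (g⁻¹ * s * g) * g⁻¹ = s := by group
    rwa [e] at this
  · intro n hn
    refine ⟨n, ?_, fun x _ => rfl⟩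
    -- n normalizes S
    have hnN : n ∈ Subgroup.normalizer ((S : Subgroup G) : Set G) := by
      rw [Subgroup.mem_normalizer_iff]
      intro x
      refine ⟨hn x, fun hx => ?_⟩
      let f : ↥(S : Subgroup G) → ↥(S : Subgroup G) := fun y => ⟨n * y.1 * n⁻¹, hn y.1 y.2⟩
      have hf : Function.Injective f := by
        intro a b hab
        have := congrArg Subtype.val hab
        simp only [f] at this
        exact Subtype.ext (mul_left_cancel (mul_right_cancel this))
      obtain ⟨y, hy⟩ := (Finite.injective_iff_surjective.1 hf) ⟨n * x * n⁻¹, hx⟩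
      have := congrArg Subtype.val hy
      simp only [f] at this
      have e : y.1 = x := mul_left_cancel (mul_right_cancel this)
      rw [← e]; exact y.2
    have h1 : g⁻¹ * n * g ∈ Subgroup.normalizer ((P0 : Subgroup G) : Set G) := by
      rw [Subgroup.mem_normalizer_iff]
      intro x
      have h2 := (Subgroup.mem_normalizer_iff.1 hnN) (g * x * g⁻¹)
      rw [hS, hS] at h2
      have e1 : g⁻¹ * (g * x * g⁻¹) * g = x := by group
      have e2 : g⁻¹ * (n * (g * x * g⁻¹) * n⁻¹) * g = g⁻¹ * n * g * x * (g⁻¹ * n * g)⁻¹ := by group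
      rw [e1, e2] at h2
      exact h2
    rw [hS]
    exact hnorm h1

/-- the criterion in terms of a subgroup `S0 ≤ G` of an ambient group: the centre of `S0` has order two, fusion
in `G` generates `S0` from the centre, and the elements of `G` normalizing `S0` have order dividing 16 -/
theorem isSimple_of_cert {H : Type*} [Group H] (G S0 : Subgroup H) [Finite ↥G] (hS0G : S0 ≤ G) (z : H)
    (hz : z ∈ S0) (hz1 : z ≠ 1)
    (hcenter : ∀ c ∈ S0, (∀ s ∈ S0, s * c = c * s) → c = 1 ∨ c = z)
    (hchain : ∀ T : Subgroup H, z ∈ T → (∀ t ∈ T, ∀ g ∈ G, g * t * g⁻¹ ∈ S0 → g * t * g⁻¹ ∈ T) → S0 ≤ T)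
    (hpow : ∀ n ∈ G, n ∈ Subgroup.normalizer (S0 : Set H) → n ^ 16 = 1)
    (P0 : Sylow 2 ↥G) (hP0 : (P0 : Subgroup ↥G) = S0.subgroupOf G) (S : Sylow 2 ↥G) :
    (groupFusionSystem (S : Subgroup ↥G)).IsSimple 2 := by
  have hmemP : ∀ x : ↥G, x ∈ (P0 : Subgroup ↥G) ↔ (x : H) ∈ S0 := by
    intro x
    rw [hP0, Subgroup.mem_subgroupOf]
  apply isSimple_of_sylow P0
  · intro h
    have h1 : (⟨z, hS0G hz⟩ : ↥G) ∈ (P0 : Subgroup ↥G) := (hmemP _).2 hz
    rw [h, Subgroup.mem_bot] at h1
    exact hz1 (congrArg Subtype.val h1)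
  · -- the normalizer is a 2-group
    have hN : IsPGroup 2 ↥(Subgroup.normalizer ((P0 : Subgroup ↥G) : Set ↥G)) := by
      intro n
      refine ⟨4, ?_⟩
      have hn := n.2
      rw [Subgroup.mem_normalizer_iff] at hn
      have h1 : (n.1 : H) ∈ Subgroup.normalizer (S0 : Set H) := by
        rw [Subgroup.mem_normalizer_iff]
        intro s
        constructor
        · intro hs
          have := (hn ⟨s, hS0G hs⟩).1 ((hmemP _).2 hs)
          rw [hmemP] at this
          exact this
        · intro hs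
          have hsG : s ∈ G := by
            have h2 := hS0G hs
            have e : s = (n.1 : H)⁻¹ * ((n.1 : H) * s * (n.1 : H)⁻¹) * (n.1 : H) := by group
            rw [e]
            exact G.mul_mem (G.mul_mem (G.inv_mem n.1.2) h2) n.1.2
          have := (hn ⟨s, hsG⟩).2 ((hmemP _).2 hs)
          rw [hmemP] at this
          exact this
      have h2 := hpow _ n.1.2 h1
      apply Subtype.ext
      apply Subtype.ext
      simp only [Subgroup.coe_pow, Subgroup.coe_one]
      exact h2
    have := P0.is_maximal' hN Subgroup.le_normalizer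
    rw [this]
  · intro T hTP hT hcl
    -- a central element of `P0` inside `T`
    have hnormal : (T.subgroupOf (P0 : Subgroup ↥G)).Normal := by
      constructor
      intro n hn s
      rw [Subgroup.mem_subgroupOf] at hn ⊢
      have := hcl _ hn s.1 (by
        exact (P0 : Subgroup ↥G).mul_mem ((P0 : Subgroup ↥G).mul_mem s.2 n.2) ((P0 : Subgroup ↥G).inv_mem s.2))
      simpa using this
    have hnil : Group.IsNilpotent ↥(P0 : Subgroup ↥G) := P0.isPGroup'.isNilpotent
    have hne : T.subgroupOf (P0 : Subgroup ↥G) ≠ ⊥ := by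
      intro h
      apply hT
      rw [Subgroup.eq_bot_iff_forall]
      intro t ht
      have : (⟨t, hTP ht⟩ : ↥(P0 : Subgroup ↥G)) ∈ T.subgroupOf (P0 : Subgroup ↥G) := by
        rw [Subgroup.mem_subgroupOf]; exact ht
      rw [h, Subgroup.mem_bot] at this
      exact congrArg Subtype.val this
    have hzz := Cfsg.Agent.Lib.H1.normal_inf_center_ne_bot (T.subgroupOf (P0 : Subgroup ↥G)) hne
    rw [Ne, Subgroup.eq_bot_iff_forall] at hzz
    push Not at hzz
    obtain ⟨c', hc', hc'1⟩ := hzz
    rw [Subgroup.mem_inf, Subgroup.mem_subgroupOf, Subgroup.mem_center_iff] at hc'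
    obtain ⟨hcT, hcc⟩ := hc'
    have hcS0 : ((c'.1 : ↥G) : H) ∈ S0 := (hmemP _).1 c'.2
    have hcz : ((c'.1 : ↥G) : H) = z := by
      rcases hcenter _ hcS0 (by
        intro s hs
        have := hcc ⟨⟨s, hS0G hs⟩, (hmemP _).2 hs⟩
        exact congrArg (fun x : ↥(P0 : Subgroup ↥G) => ((x.1 : ↥G) : H)) this) with h | h
      · exfalso
        apply hc'1
        apply Subtype.ext
        apply Subtype.ext
        exact h
      · exact h
    have hzT : z ∈ T.map G.subtype := ⟨c'.1, hcT, hcz⟩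
    have hle := hchain (T.map G.subtype) hzT (by
      rintro _ ⟨t0, ht0, rfl⟩ k hk hkS
      refine ⟨⟨k, hk⟩ * t0 * ⟨k, hk⟩⁻¹, ?_, rfl⟩
      apply hcl _ ht0
      rw [hmemP]
      exact hkS)
    intro x hx
    obtain ⟨y, hy, hyx⟩ := hle ((hmemP x).1 hx)
    have : y = x := Subtype.ext hyx
    rw [← this]; exact hy

/-- a 2-subgroup of the right order is a Sylow 2-subgroup -/
theorem exists_sylow_eq {H : Type*} [Group H] (G S0 : Subgroup H) [Finite ↥G] (hS0G : S0 ≤ G) (k m : ℕ)
    (hcard : Nat.card ↥G = 2 ^ k * m) (hm : ¬ 2 ∣ m) (hge : 2 ^ k ≤ Nat.card ↥S0)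
    (hp : ∀ s ∈ S0, s ^ 16 = 1) : ∃ P0 : Sylow 2 ↥G, (P0 : Subgroup ↥G) = S0.subgroupOf G := by
  have hP : IsPGroup 2 ↥(S0.subgroupOf G) := by
    intro x
    refine ⟨4, ?_⟩
    apply Subtype.ext
    apply Subtype.ext
    simp only [Subgroup.coe_pow, Subgroup.coe_one]
    exact hp _ (Subgroup.mem_subgroupOf.1 x.2)
  obtain ⟨P, hle⟩ := hP.exists_le_sylow
  refine ⟨P, ?_⟩
  symm
  apply Subgroup.eq_of_le_of_card_ge hle
  have hm0 : m ≠ 0 := by
    intro h; apply hm; rw [h]; exact dvd_zero 2
  have hfac : (Nat.card ↥G).factorization 2 = k := by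
    rw [hcard, Nat.factorization_mul (pow_ne_zero _ (by norm_num)) hm0,
      Nat.Prime.factorization_pow Nat.prime_two]
    simp [Nat.factorization_eq_zero_of_not_dvd hm]
  rw [Sylow.card_eq_multiplicity, hfac]
  have : Nat.card ↥(S0.subgroupOf G) = Nat.card ↥S0 :=
    Nat.card_congr (Subgroup.subgroupOfEquivOfLe hS0G).toEquiv
  rw [this]
  exact hge

end Cfsg.Agent.Lib.H14.FusSylow
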