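import Cfsg.Agent.Lib.H14.FusData12
import Cfsg.Agent.Lib.H14.FusSylow
import Cfsg.Agent.Lib.H28.M12
import Cfsg.Agent.Lib.H27.M11Fix
import Cfsg.Prelude.Def_Spor_Mathieu

set_option autoImplicit false

/-!
The 2-fusion system of `M12` is simple (helper14).
-/

namespace Cfsg.Agent.Lib.H14.FusM12

open Cfsg Cfsg.Agent.Lib.H28 Cfsg.Agent.Lib.H14.SylCert Cfsg.Agent.Lib.H14.FusData12

theorem M12_eq : Spor.M12 = stabMask dod0 := by
  unfold Spor.M12 stabMask
  rw [Cfsg.Agent.Lib.H27.M11Fix.squareDodecad_eq]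

theorem M12_le_M24 : Spor.M12 ≤ M24 := inf_le_left

def inG (w : List ℕ) : Bool := presCheck w dod0

theorem inG_spec (w : List ℕ) (h : inG w = true) : wordPerm w ∈ Spor.M12 := by
  rw [M12_eq]
  exact wordPerm_mem_stabMask h

theorem card_M12 : Nat.card ↥Spor.M12 = 95040 := by
  rw [M12_eq]
  exact card_stabMask_dod0

theorem fus_ok : D.fusB inG steps = true := by decide +kernel

theorem gens_ok : D.tws.all inG = true := by decide +kernel

theorem S0_le_M12 : D.S0 ≤ Spor.M12 :=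
  wordsClosure_le (fun w hw => inG_spec w (List.all_eq_true.1 gens_ok w hw))

theorem card_S0_ge : 2 ^ 6 ≤ Nat.card ↥D.S0 := by
  have := D.card_ge basic_ok distinct_ok
  rwa [len_ok] at this

theorem pow_S0 (n : Equiv.Perm GolayPt) (hn : n ∈ Spor.M12)
    (hN : n ∈ Subgroup.normalizer (D.S0 : Set (Equiv.Perm GolayPt))) : n ^ 16 = 1 :=
  D.pow_sixteen basic_ok center_ok flag_ok (M12_le_M24 hn) hN

theorem isSimple_M12 (S : Sylow 2 ↥Spor.M12) : (groupFusionSystem (S : Subgroup ↥Spor.M12)).IsSimple 2 := by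
  obtain ⟨P0, hP0⟩ := Cfsg.Agent.Lib.H14.FusSylow.exists_sylow_eq Spor.M12 D.S0 S0_le_M12 6 1485
    (by rw [card_M12]; norm_num) (by norm_num) card_S0_ge
    (fun s hs => pow_S0 s (S0_le_M12 hs) (Subgroup.le_normalizer hs))
  exact Cfsg.Agent.Lib.H14.FusSylow.isSimple_of_cert Spor.M12 D.S0 S0_le_M12 (wordPerm D.zw) D.zw_mem
    (D.z_ne_one center_ok)
    (fun c hc hcomm => D.center basic_ok center_ok hc hcomm)
    (fun T hz hcl => D.le_of_fus inG steps Spor.M12 inG_spec fus_ok T hz hcl)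
    pow_S0 P0 hP0 S

end Cfsg.Agent.Lib.H14.FusM12
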