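import Cfsg.Agent.Lib.H14.FusData22
import Cfsg.Agent.Lib.H14.FusSylow
import Cfsg.Agent.Lib.H28.M23M22Simple
import Cfsg.Prelude.Def_Spor_Mathieu

set_option autoImplicit false

/-!
The 2-fusion systems of `M22` and `M23` are simple (helper14).
-/

namespace Cfsg.Agent.Lib.H14.FusM22

open Cfsg Cfsg.Agent.Lib.H28 Cfsg.Agent.Lib.H14.SylCert Cfsg.Agent.Lib.H14.FusData22

theorem gPt_23 : gPt 23 = (none : GolayPt) := by
  unfold gPt; simp

theorem gPt_0 : gPt 0 = (some 0 : GolayPt) := by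
  unfold gPt; simp

theorem M23_eq : Spor.M23 = fixSub M24 [23] := by
  unfold Spor.M23
  rw [fixSub_cons, fixSub_nil, gPt_23]

theorem M22_eq : Spor.M22 = fixSub M24 [0, 23] := by
  unfold Spor.M22
  rw [fixSub_cons, ← M23_eq, gPt_0]

theorem M22_le_M23 : Spor.M22 ≤ Spor.M23 := inf_le_left

theorem M23_le_M24 : Spor.M23 ≤ M24 := inf_le_left

def inG (w : List ℕ) : Bool := evalPt w 23 == 23 && evalPt w 0 == 0

theorem inG_spec (w : List ℕ) (h : inG w = true) : wordPerm w ∈ Spor.M22 := by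
  unfold inG at h
  rw [Bool.and_eq_true, beq_iff_eq, beq_iff_eq] at h
  rw [M22_eq, mem_fixSub]
  refine ⟨wordPerm_mem_M24 w, ?_⟩
  intro k hk
  simp only [List.mem_cons, List.not_mem_nil, or_false] at hk
  rcases hk with rfl | rfl
  · exact wordPerm_gPt (by norm_num) h.2
  · exact wordPerm_gPt (by norm_num) h.1

theorem chain_mem (K : Subgroup (Equiv.Perm GolayPt)) (ws : List (List ℕ)) (chain : List (ℕ × List (List ℕ)))
    (hws : ∀ w ∈ ws, wordPerm w ∈ K) : ∀ c ∈ metaChain ws chain, ∀ w ∈ c.2, wordPerm w ∈ K := by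
  intro c hc w hw
  unfold metaChain at hc
  rw [List.mem_map] at hc
  obtain ⟨c0, _, rfl⟩ := hc
  rw [List.mem_map] at hw
  obtain ⟨m, _, rfl⟩ := hw
  exact wordsClosure_le hws (wordPerm_metaFlat_mem ws m)

theorem card_M23 : Nat.card ↥Spor.M23 = 10200960 := by
  rw [M23_eq]
  apply le_antisymm card_fixSub_chain.1
  have h := card_ge_of_chainCheck (fixSub M24 [23]) (metaChain m23Cert.ws m23Cert.chain) []
    (chain_mem _ _ _ (fun w hw => wordPerm_mem_fixSub inOct_23 (m23Cert_ok.1 w hw))) m23Cert_ok.2.1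
  rw [fixSub_nil] at h
  refine le_trans ?_ h
  decide +kernel

theorem card_M22 : Nat.card ↥Spor.M22 = 443520 := by
  rw [M22_eq]
  apply le_antisymm card_fixSub_chain.2
  have h := card_ge_of_chainCheck (fixSub M24 [0, 23]) (metaChain m22Cert.ws m22Cert.chain) []
    (chain_mem _ _ _ (fun w hw => wordPerm_mem_fixSub inOct_0_23 (m22Cert_ok.1 w hw))) m22Cert_ok.2.1
  rw [fixSub_nil] at h
  refine le_trans ?_ h
  decide +kernel

theorem fus_ok : D.fusB inG steps = true := by decide +kernel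

theorem gens_ok : D.tws.all inG = true := by decide +kernel

theorem S0_le_M22 : D.S0 ≤ Spor.M22 :=
  wordsClosure_le (fun w hw => inG_spec w (List.all_eq_true.1 gens_ok w hw))

theorem card_S0_ge : 2 ^ 7 ≤ Nat.card ↥D.S0 := by
  have := D.card_ge basic_ok distinct_ok
  rwa [len_ok] at this

theorem pow_S0 (G : Subgroup (Equiv.Perm GolayPt)) (hG : G ≤ M24) (n : Equiv.Perm GolayPt) (hn : n ∈ G)
    (hN : n ∈ Subgroup.normalizer (D.S0 : Set (Equiv.Perm GolayPt))) : n ^ 16 = 1 :=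
  D.pow_sixteen basic_ok center_ok flag_ok (hG hn) hN

theorem isSimple_of (G : Subgroup (Equiv.Perm GolayPt)) (hG : G ≤ M24) (hGS : Spor.M22 ≤ G) (m : ℕ)
    (hcard : Nat.card ↥G = 2 ^ 7 * m) (hm : ¬ 2 ∣ m) (S : Sylow 2 ↥G) :
    (groupFusionSystem (S : Subgroup ↥G)).IsSimple 2 := by
  have hS0G : D.S0 ≤ G := S0_le_M22.trans hGS
  obtain ⟨P0, hP0⟩ := Cfsg.Agent.Lib.H14.FusSylow.exists_sylow_eq G D.S0 hS0G 7 m hcard hm card_S0_ge
    (fun s hs => pow_S0 G hG s (hS0G hs) (Subgroup.le_normalizer hs))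
  exact Cfsg.Agent.Lib.H14.FusSylow.isSimple_of_cert G D.S0 hS0G (wordPerm D.zw) D.zw_mem (D.z_ne_one center_ok)
    (fun c hc hcomm => D.center basic_ok center_ok hc hcomm)
    (fun T hz hcl => D.le_of_fus inG steps G (fun w hw => hGS (inG_spec w hw)) fus_ok T hz hcl)
    (pow_S0 G hG) P0 hP0 S

theorem isSimple_M22 (S : Sylow 2 ↥Spor.M22) : (groupFusionSystem (S : Subgroup ↥Spor.M22)).IsSimple 2 :=
  isSimple_of Spor.M22 (M22_le_M23.trans M23_le_M24) le_rfl 3465 (by rw [card_M22]; norm_num) (by norm_num) S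

theorem isSimple_M23 (S : Sylow 2 ↥Spor.M23) : (groupFusionSystem (S : Subgroup ↥Spor.M23)).IsSimple 2 :=
  isSimple_of Spor.M23 M23_le_M24 M22_le_M23 79695 (by rw [card_M23]; norm_num) (by norm_num) S

end Cfsg.Agent.Lib.H14.FusM22
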