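import Mathlib
import Cfsg.Prelude.Def_FusionSystem
import Cfsg.Agent.Lib.H25.Fusion

set_option autoImplicit false

/-!
A criterion for the fusion system of a group on a subgroup to be simple (helper14).
-/

namespace Cfsg.Agent.Lib.H14.FusSimple

open Cfsg Cfsg.FusionSystem

variable {G : Type*} [Group G]

/-- If the only nontrivial subgroup of `S` closed under `G`-fusion inside `S` is `S`, and every element of `G`
mapping `S` into itself acts on `S` as an element of `S`, then the fusion system of `G` on `S` is simple as soon as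
it is saturated and `S` is nontrivial. -/
theorem isSimple_of {p : ℕ} (S : Subgroup G)
    (hsat : (groupFusionSystem S).IsSaturated p) (hS : S ≠ ⊥)
    (hclosed : ∀ T : Subgroup G, T ≤ S → T ≠ ⊥ →
      (∀ t ∈ T, ∀ g : G, g * t * g⁻¹ ∈ S → g * t * g⁻¹ ∈ T) → T = S)
    (hnorm : ∀ n : G, (∀ x ∈ S, n * x * n⁻¹ ∈ S) → ∃ s ∈ S, ∀ x ∈ S, n * x * n⁻¹ = s * x * s⁻¹) :
    (groupFusionSystem S).IsSimple p := by
  refine ⟨hsat, hS, ?_⟩
  intro T E hE
  obtain ⟨⟨-, -, hsub, hsc, -, hfrat⟩, -⟩ := hE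
  by_cases hT : T = ⊥
  · left; exact hT
  right
  have hTS : T = S := by
    apply hclosed T hsc.1 hT
    intro t ht g hg
    have hR : Subgroup.zpowers t ≤ T := by rw [Subgroup.zpowers_le]; exact ht
    have hmem : conjHom (Subgroup.zpowers t) g ∈ (groupFusionSystem S).Hom (Subgroup.zpowers t) := by
      refine ⟨hR.trans hsc.1, ?_, g, fun x => rfl⟩
      rintro ⟨x, hx⟩
      obtain ⟨k, rfl⟩ := Subgroup.mem_zpowers_iff.1 hx
      show g * t ^ k * g⁻¹ ∈ S
      have : g * t ^ k * g⁻¹ = (g * t * g⁻¹) ^ k := by rw [conj_zpow]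
      rw [this]; exact S.zpow_mem hg k
    exact hsc.2 (Subgroup.zpowers t) hR (conjHom _ g) hmem ⟨t, Subgroup.mem_zpowers t⟩
  subst hTS
  refine ⟨rfl, fun P => ?_⟩
  apply Set.Subset.antisymm (hsub P)
  intro φ hφ
  have hPT : P ≤ T := hφ.1
  obtain ⟨α, hα, φ₀, hφ₀, h⟩ := hfrat P hPT φ hφ
  rw [Cfsg.Agent.Lib.H25.mem_autGroup_iff _ le_rfl] at hα
  obtain ⟨-, -, g, hg⟩ := hα
  obtain ⟨s, hs, hsx⟩ := hnorm g (fun x hx => by
    have := hg ⟨x, hx⟩
    rw [← this]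
    exact (α ⟨x, hx⟩).2)
  have hφ₀T : ∀ x, φ₀ x ∈ T := (E.le_of_mem hφ₀).2
  have hc := E.comp_mem hφ₀ (E.conj_mem (le_refl T) hs) hφ₀T
  have e : φ = (conjHom T s).comp (φ₀.codRestrict T hφ₀T) := by
    ext x
    rw [h x (hφ₀T x)]
    have := hg ⟨φ₀ x, hφ₀T x⟩
    simp only [MonoidHom.coe_comp, Function.comp_apply] at this
    show ((α ⟨φ₀ x, hφ₀T x⟩ : T) : G) = s * (φ₀ x) * s⁻¹
    rw [← hsx _ (hφ₀T x)]
    exact this
  rw [e]
  exact hc

end Cfsg.Agent.Lib.H14.FusSimple
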