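import Mathlib
import Cfsg.Prelude.Def_KGroupFacts
import Cfsg.Agent.Lib.H28.G23M.Words

set_option autoImplicit false

/-!
# S2101 piece AB (helper14): the abstract Schur-multiplier argument for `G₂(3)`

Mathlib + `Lib/H28/G23M/Words.lean` only.
-/

namespace Cfsg.Agent.Lib.H14.G23M

open Cfsg.Agent.Lib.H28.G23M

open scoped commutatorElement

section aux

variable {G : Type*} [Group G]

/-- `lv` only looks at the first twelve values. -/
theorem ab_lv_congr {x y : ℕ → G} (h : ∀ i < 12, x i = y i) (l : ℕ) : lv x l = lv y l := by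
  unfold lv
  have h12 : l % 12 < 12 := Nat.mod_lt _ (by norm_num)
  rw [h _ h12]

/-- `ev` only looks at the first twelve values. -/
theorem ab_ev_congr {x y : ℕ → G} (h : ∀ i < 12, x i = y i) (w : List ℕ) : ev x w = ev y w := by
  induction w with
  | nil => rfl
  | cons l w ih => rw [ev_cons, ev_cons, ih, ab_lv_congr h]

/-- the first central word is a commutator -/
theorem ab_ev_c0 (x : ℕ → G) : ev x [0, 4, 12, 16] = x 0 * x 4 * (x 0)⁻¹ * (x 4)⁻¹ := by
  rw [ev_cons, ev_cons, ev_cons, ev_single]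
  have h0 : lv x 0 = x 0 := lv_of_lt x (by norm_num)
  have h4 : lv x 4 = x 4 := lv_of_lt x (by norm_num)
  have h12 : lv x 12 = (x 0)⁻¹ := by
    unfold lv
    norm_num
  have h16 : lv x 16 = (x 4)⁻¹ := by
    unfold lv
    norm_num
  rw [h0, h4, h12, h16]
  group

theorem ab_c0_mem : [0, 4, 12, 16] ∈ cenL := by
  unfold cenL
  exact List.mem_cons_self

/-- `a b a⁻¹ b⁻¹ = c` central and `b ^ 3 = 1` give `c ^ 3 = 1`. -/
theorem ab_cube_of_central {a b c : G} (hc : a * b * a⁻¹ * b⁻¹ = c) (hcen : ∀ g : G, c * g = g * c)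
    (hb : b ^ 3 = 1) : c ^ 3 = 1 := by
  have h1 : a * b * a⁻¹ = c * b := by
    rw [← hc]
    group
  have h2 : (a * b * a⁻¹) ^ 3 = a * b ^ 3 * a⁻¹ := conj_pow
  have h3 : (c * b) ^ 3 = c ^ 3 * b ^ 3 := by
    have hcb : Commute c b := hcen b
    exact hcb.mul_pow 3
  rw [h1, hb, h3, hb] at h2
  simpa using h2

/-- central factors do not change a commutator -/
theorem ab_comm_central {a b k l : G} (hk : ∀ g : G, g * k = k * g) (hl : ∀ g : G, g * l = l * g) :
    (a * k) * (b * l) * (a * k)⁻¹ * (b * l)⁻¹ = a * b * a⁻¹ * b⁻¹ := by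
  have h1 : ∀ g : G, (a * k) * g * (a * k)⁻¹ = a * g * a⁻¹ := by
    intro g
    calc (a * k) * g * (a * k)⁻¹ = a * (k * g) * k⁻¹ * a⁻¹ := by group
      _ = a * (g * k) * k⁻¹ * a⁻¹ := by rw [hk g]
      _ = a * g * a⁻¹ := by group
  calc (a * k) * (b * l) * (a * k)⁻¹ * (b * l)⁻¹ = a * (b * l) * a⁻¹ * (b * l)⁻¹ := by rw [h1]
    _ = a * b * (l * a⁻¹) * (l⁻¹ * b⁻¹) := by group
    _ = a * b * (a⁻¹ * l) * (l⁻¹ * b⁻¹) := by rw [← hl a⁻¹]
    _ = a * b * a⁻¹ * b⁻¹ := by group

end aux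

/-- the free generators, as a function on `ℕ` -/
noncomputable def abXF (i : ℕ) : FreeGroup (Fin 12) :=
  if h : i < 12 then FreeGroup.of ⟨i, h⟩ else 1

/-- the relators -/
def abRels : Set (FreeGroup (Fin 12)) := {r | ∃ w ∈ relL, r = ev abXF w}

/-- the presented group -/
abbrev abP : Type := PresentedGroup abRels

/-- its generators -/
noncomputable def abX (i : ℕ) : abP := PresentedGroup.mk abRels (abXF i)

theorem abX_of (i : Fin 12) : abX i.1 = PresentedGroup.of i := by
  unfold abX abXF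
  rw [dif_pos i.2]
  rfl

theorem abX_rels : Rels abX := by
  apply rels_of_ev_eq_one
  intro w hw
  have h1 : ev abX w = PresentedGroup.mk abRels (ev abXF w) := by
    rw [map_ev]
    rfl
  rw [h1]
  exact PresentedGroup.one_of_mem ⟨w, hw, rfl⟩

theorem abX_closure : Subgroup.closure {g : abP | ∃ i < 12, g = abX i} = ⊤ := by
  rw [eq_top_iff, ← PresentedGroup.closure_range_of]
  apply Subgroup.closure_mono
  rintro _ ⟨i, rfl⟩
  exact ⟨i.1, i.2, (abX_of i).symm⟩

/-- the universal property -/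
theorem abP_lift {Γ : Type*} [Group Γ] (y : ℕ → Γ) (hy : Rels y) :
    ∃ φ : abP →* Γ, ∀ i < 12, φ (abX i) = y i := by
  have h : ∀ r ∈ abRels, FreeGroup.lift (fun i : Fin 12 => y i.1) r = 1 := by
    rintro _ ⟨w, hw, rfl⟩
    rw [map_ev]
    have hc : ∀ i < 12, (FreeGroup.lift (fun i : Fin 12 => y i.1)) (abXF i) = y i := by
      intro i hi
      unfold abXF
      rw [dif_pos hi, FreeGroup.lift_apply_of]
    rw [ab_ev_congr hc]
    exact hy.ev_eq_one w hw
  refine ⟨PresentedGroup.toGroup h, ?_⟩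
  intro i hi
  have := abX_of ⟨i, hi⟩
  simp only at this
  rw [this, PresentedGroup.toGroup.of]

theorem main_abstract {G : Type} [Group G] [Finite G] (hcard : Nat.card G = 4245696)
    (X : ℕ → G) (hgen : Subgroup.closure {g : G | ∃ i < 12, g = X i} = ⊤) (hX : Rels X)
    (hXc : ∀ c ∈ cenL, ev X c = 1)
    (hbound : ∀ (Γ : Type) [Group Γ] (x : ℕ → Γ), Subgroup.closure {g : Γ | ∃ i < 12, g = x i} = ⊤ → Rels x →
      Finite Γ ∧ Nat.card Γ ≤ 12737088)
    (hmodel : ∃ (M : Type) (_ : Group M) (y : ℕ → M), Rels y ∧ ev y [0, 4, 12, 16] ≠ 1)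
    (hlift : ∀ (Γ : Type) [Group Γ] [Finite Γ] (σ : Γ →* G), Cfsg.IsStemExtension σ →
      ∃ x : ℕ → Γ, (∀ i < 12, σ (x i) = X i) ∧ Rels x) :
    Cfsg.HasCyclicSchurMultiplier G 3 := by
  classical
  -- the projection
  obtain ⟨π, hπ⟩ := abP_lift X hX
  obtain ⟨hfin, hle⟩ := hbound abP abX abX_closure abX_rels
  have : Finite abP := hfin
  have hπsurj : Function.Surjective π := by
    rw [← MonoidHom.range_eq_top, eq_top_iff, ← hgen, Subgroup.closure_le]
    rintro _ ⟨i, hi, rfl⟩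
    exact ⟨abX i, hπ i hi⟩
  -- the order of the kernel
  have hker_le : Nat.card π.ker ≤ 3 := by
    have h1 : Nat.card abP = Nat.card (abP ⧸ π.ker) * Nat.card π.ker :=
      Subgroup.card_eq_card_quotient_mul_card_subgroup π.ker
    have h2 : Nat.card (abP ⧸ π.ker) = Nat.card G :=
      Nat.card_congr (QuotientGroup.quotientKerEquivOfSurjective π hπsurj).toEquiv
    rw [h2, hcard] at h1
    rw [h1] at hle
    by_contra hcon
    have hcon' : 4 ≤ Nat.card π.ker := by omega
    have : 4245696 * 4 ≤ 4245696 * Nat.card π.ker := Nat.mul_le_mul_left _ hcon'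
    omega
  -- the central element
  set c₀ : abP := ev abX [0, 4, 12, 16] with hc₀
  have hc₀ker : c₀ ∈ π.ker := by
    rw [MonoidHom.mem_ker, hc₀, map_ev, ab_ev_congr hπ]
    exact hXc _ ab_c0_mem
  have hc₀cen : ∀ g : abP, c₀ * g = g * c₀ := by
    intro g
    have hg : g ∈ Subgroup.closure {g : abP | ∃ i < 12, g = abX i} := by
      rw [abX_closure]; trivial
    have hcz : {g : abP | ∃ i < 12, g = abX i} ⊆ (Subgroup.centralizer ({c₀} : Set abP) : Set abP) := by
      rintro _ ⟨i, hi, rfl⟩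
      rw [SetLike.mem_coe, Subgroup.mem_centralizer_iff]
      intro h hh
      rw [Set.mem_singleton_iff] at hh
      subst hh
      exact abX_rels.cen _ ab_c0_mem i hi
    have := (Subgroup.closure_le _).mpr hcz hg
    rw [Subgroup.mem_centralizer_iff] at this
    exact this c₀ rfl
  have hc₀ne : c₀ ≠ 1 := by
    obtain ⟨M, _, y, hy, hne⟩ := hmodel
    obtain ⟨φ, hφ⟩ := abP_lift y hy
    intro h1
    apply hne
    have : φ c₀ = ev y [0, 4, 12, 16] := by
      rw [hc₀, map_ev, ab_ev_congr hφ]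
    rw [← this, h1, map_one]
  have hc₀cube : c₀ ^ 3 = 1 :=
    ab_cube_of_central (ab_ev_c0 abX).symm hc₀cen (abX_rels.cube 4 (by norm_num))
  have hc₀ord : orderOf c₀ = 3 := orderOf_eq_prime hc₀cube hc₀ne
  have hzp_le : Subgroup.zpowers c₀ ≤ π.ker := by
    rw [Subgroup.zpowers_le]; exact hc₀ker
  have hzp_card : Nat.card (Subgroup.zpowers c₀) = 3 := by
    rw [Nat.card_zpowers, hc₀ord]
  have hker_eq : π.ker = Subgroup.zpowers c₀ := by
    symm
    apply Subgroup.eq_of_le_of_card_ge hzp_le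
    rw [hzp_card]; exact hker_le
  have hker_card : Nat.card π.ker = 3 := by rw [hker_eq, hzp_card]
  have hker_cen : π.ker ≤ Subgroup.center abP := by
    rw [hker_eq, Subgroup.zpowers_le, Subgroup.mem_center_iff]
    intro g
    exact (hc₀cen g).symm
  have hker_comm : π.ker ≤ commutator abP := by
    rw [hker_eq, Subgroup.zpowers_le, commutator_def]
    have : c₀ = ⁅abX 0, abX 4⁆ := by
      rw [hc₀, ab_ev_c0, commutatorElement_def]
    rw [this]
    exact Subgroup.commutator_mem_commutator (Subgroup.mem_top _) (Subgroup.mem_top _)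
  have hstem : Cfsg.IsStemExtension π := ⟨hπsurj, hker_cen, hker_comm⟩
  have : Fact (Nat.Prime 3) := ⟨Nat.prime_three⟩
  have hZ3 : Nat.card (Multiplicative (ZMod 3)) = 3 := by
    rw [Nat.card_eq_fintype_card]
    exact ZMod.card 3
  have e : π.ker ≃* Multiplicative (ZMod 3) :=
    mulEquivOfPrimeCardEq (p := 3) hker_card hZ3
  refine ⟨⟨abP, inferInstance, inferInstance, π, hstem, ⟨e⟩⟩, ?_⟩
  -- universality
  intro Γ _ _ σ hσ
  obtain ⟨x', hx'σ, hx'⟩ := hlift Γ σ hσ
  obtain ⟨φ, hφ⟩ := abP_lift x' hx'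
  obtain ⟨hσsurj, hσcen, hσcomm⟩ := hσ
  have hcomp : σ.comp φ = π := by
    apply PresentedGroup.ext
    intro i
    rw [← abX_of i, MonoidHom.comp_apply, hφ i.1 i.2, hx'σ i.1 i.2, hπ i.1 i.2]
  have hcomp' : ∀ p : abP, σ (φ p) = π p := fun p => by
    rw [← hcomp]; rfl
  -- every element is (range φ) * (ker σ)
  have hdecomp : ∀ γ : Γ, ∃ p : abP, ∃ k ∈ σ.ker, γ = φ p * k := by
    intro γ
    obtain ⟨p, hp⟩ := hπsurj (σ γ)
    refine ⟨p, (φ p)⁻¹ * γ, ?_, by group⟩
    rw [MonoidHom.mem_ker, map_mul, map_inv, hcomp', hp, inv_mul_cancel]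
  have hcomm_le : commutator Γ ≤ φ.range := by
    rw [commutator_def, Subgroup.commutator_le]
    intro a _ b _
    obtain ⟨p, k, hk, rfl⟩ := hdecomp a
    obtain ⟨q, l, hl, rfl⟩ := hdecomp b
    have hkc : ∀ g : Γ, g * k = k * g := fun g => (Subgroup.mem_center_iff.mp (hσcen hk)) g
    have hlc : ∀ g : Γ, g * l = l * g := fun g => (Subgroup.mem_center_iff.mp (hσcen hl)) g
    have : ⁅φ p * k, φ q * l⁆ = φ ⁅p, q⁆ := by
      rw [map_commutatorElement, commutatorElement_def, commutatorElement_def]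
      exact ab_comm_central hkc hlc
    rw [this]
    exact ⟨_, rfl⟩
  have hker_range : σ.ker ≤ φ.range := hσcomm.trans hcomm_le
  -- the induced map on kernels
  let ψ : π.ker →* σ.ker :=
    { toFun := fun p => ⟨φ p.1, by
        rw [MonoidHom.mem_ker, hcomp']; exact p.2⟩
      map_one' := by
        apply Subtype.ext
        simp
      map_mul' := fun a b => by
        apply Subtype.ext
        simp }
  have hψsurj : Function.Surjective ψ := by
    rintro ⟨k, hk⟩
    obtain ⟨p, rfl⟩ := hker_range hk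
    have hp : p ∈ π.ker := by
      rw [MonoidHom.mem_ker, ← hcomp']; exact hk
    exact ⟨⟨p, hp⟩, rfl⟩
  exact ⟨ψ.comp e.symm.toMonoidHom, hψsurj.comp e.symm.surjective⟩

end Cfsg.Agent.Lib.H14.G23M
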