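import Mathlib
import Cfsg.Prelude.Def_ChevG2

set_option autoImplicit false
set_option maxRecDepth 100000

/-! # `G₂(2)` acting on the 63 long root vectors: tables -/

namespace Cfsg.Agent.Lib.H14.G2Tab

open Cfsg.Lie Matrix

/-- the field with two elements -/
abbrev K2 : Type := ZMod 2
/-- the index type -/
abbrev I14 : Type := chevG2.Idx
/-- the vectors -/
abbrev V2 : Type := I14 → K2

/-- a vector from its coordinates -/
def mkv (a : Fin 2 → K2) (b : Fin 12 → K2) : V2 := Sum.elim a b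

def O : Fin 63 → V2 :=
  ![mkv ![0, 0] ![0, 0, 0, 0, 0, 0, 0, 0, 0, 0, 0, 1],
    mkv ![0, 0] ![0, 0, 0, 0, 0, 0, 0, 0, 0, 0, 1, 0],
    mkv ![0, 0] ![0, 0, 0, 0, 0, 0, 0, 0, 0, 0, 1, 1],
    mkv ![0, 0] ![0, 0, 0, 0, 0, 0, 1, 0, 0, 0, 0, 0],
    mkv ![0, 0] ![0, 0, 0, 0, 0, 0, 1, 0, 0, 0, 0, 1],
    mkv ![0, 0] ![0, 0, 0, 0, 0, 0, 1, 0, 1, 1, 1, 0],
    mkv ![0, 0] ![0, 0, 0, 0, 0, 0, 1, 0, 1, 1, 1, 1],
    mkv ![0, 0] ![0, 0, 0, 0, 0, 1, 0, 0, 0, 0, 0, 0],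
    mkv ![0, 0] ![0, 0, 0, 0, 0, 1, 0, 0, 0, 0, 1, 0],
    mkv ![0, 0] ![0, 0, 0, 0, 0, 1, 0, 1, 0, 1, 0, 1],
    mkv ![0, 0] ![0, 0, 0, 0, 0, 1, 0, 1, 0, 1, 1, 1],
    mkv ![0, 0] ![0, 1, 0, 0, 0, 0, 0, 0, 0, 0, 0, 0],
    mkv ![0, 0] ![0, 1, 0, 0, 0, 0, 1, 0, 0, 0, 0, 0],
    mkv ![0, 0] ![0, 1, 0, 0, 1, 0, 0, 0, 1, 0, 0, 1],
    mkv ![0, 0] ![0, 1, 0, 0, 1, 0, 1, 0, 1, 0, 0, 1],
    mkv ![0, 0] ![0, 1, 1, 1, 0, 1, 0, 0, 0, 0, 0, 0],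
    mkv ![0, 0] ![0, 1, 1, 1, 0, 1, 1, 0, 1, 1, 1, 0],
    mkv ![0, 0] ![1, 0, 0, 0, 0, 0, 0, 0, 0, 0, 0, 0],
    mkv ![0, 0] ![1, 0, 0, 0, 0, 1, 0, 0, 0, 0, 0, 0],
    mkv ![0, 0] ![1, 0, 0, 1, 0, 0, 0, 1, 0, 0, 1, 0],
    mkv ![0, 0] ![1, 0, 0, 1, 0, 1, 0, 1, 0, 0, 1, 0],
    mkv ![0, 0] ![1, 0, 1, 0, 1, 0, 1, 0, 0, 0, 0, 0],
    mkv ![0, 0] ![1, 0, 1, 0, 1, 1, 1, 1, 0, 1, 0, 1],
    mkv ![0, 0] ![1, 1, 0, 0, 0, 0, 0, 0, 0, 0, 0, 0],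
    mkv ![0, 0] ![1, 1, 0, 1, 1, 0, 0, 1, 1, 0, 1, 1],
    mkv ![0, 0] ![1, 1, 1, 0, 1, 0, 1, 0, 0, 0, 0, 0],
    mkv ![0, 0] ![1, 1, 1, 1, 0, 1, 0, 0, 0, 0, 0, 0],
    mkv ![0, 1] ![0, 0, 0, 0, 0, 1, 1, 0, 0, 0, 0, 0],
    mkv ![0, 1] ![0, 0, 0, 0, 0, 1, 1, 0, 0, 0, 1, 1],
    mkv ![0, 1] ![0, 0, 0, 0, 0, 1, 1, 1, 1, 1, 0, 1],
    mkv ![0, 1] ![0, 0, 0, 0, 0, 1, 1, 1, 1, 1, 1, 0],
    mkv ![0, 1] ![0, 1, 1, 1, 1, 1, 0, 0, 1, 1, 1, 1],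
    mkv ![0, 1] ![0, 1, 1, 1, 1, 1, 1, 0, 0, 0, 0, 0],
    mkv ![0, 1] ![1, 0, 1, 1, 1, 0, 1, 1, 0, 1, 1, 1],
    mkv ![0, 1] ![1, 0, 1, 1, 1, 1, 1, 0, 0, 0, 0, 0],
    mkv ![0, 1] ![1, 1, 0, 0, 0, 1, 1, 0, 0, 0, 0, 0],
    mkv ![0, 1] ![1, 1, 0, 1, 1, 1, 1, 1, 1, 0, 1, 1],
    mkv ![0, 1] ![1, 1, 1, 0, 1, 1, 0, 1, 1, 1, 0, 1],
    mkv ![0, 1] ![1, 1, 1, 1, 0, 0, 1, 1, 1, 1, 1, 0],
    mkv ![1, 0] ![0, 1, 1, 1, 1, 1, 0, 1, 1, 0, 1, 1],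
    mkv ![1, 0] ![0, 1, 1, 1, 1, 1, 1, 1, 0, 1, 0, 1],
    mkv ![1, 0] ![1, 0, 0, 0, 0, 0, 0, 0, 0, 0, 0, 1],
    mkv ![1, 0] ![1, 0, 0, 0, 0, 1, 0, 0, 0, 0, 1, 1],
    mkv ![1, 0] ![1, 0, 0, 1, 0, 0, 0, 1, 0, 1, 1, 1],
    mkv ![1, 0] ![1, 0, 0, 1, 0, 1, 0, 1, 0, 1, 0, 1],
    mkv ![1, 0] ![1, 0, 1, 0, 1, 0, 1, 0, 1, 0, 0, 1],
    mkv ![1, 0] ![1, 0, 1, 0, 1, 1, 1, 1, 1, 1, 1, 0],
    mkv ![1, 0] ![1, 1, 0, 0, 0, 0, 1, 0, 0, 0, 0, 1],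
    mkv ![1, 0] ![1, 1, 0, 1, 1, 0, 1, 1, 1, 1, 1, 0],
    mkv ![1, 0] ![1, 1, 1, 0, 1, 0, 0, 0, 1, 0, 0, 1],
    mkv ![1, 0] ![1, 1, 1, 1, 0, 1, 1, 0, 1, 1, 1, 1],
    mkv ![1, 1] ![0, 1, 0, 0, 0, 0, 0, 0, 0, 0, 1, 0],
    mkv ![1, 1] ![0, 1, 0, 0, 0, 0, 1, 0, 0, 0, 1, 1],
    mkv ![1, 1] ![0, 1, 0, 0, 1, 0, 0, 0, 1, 1, 1, 1],
    mkv ![1, 1] ![0, 1, 0, 0, 1, 0, 1, 0, 1, 1, 1, 0],
    mkv ![1, 1] ![0, 1, 1, 1, 0, 1, 0, 1, 0, 0, 1, 0],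
    mkv ![1, 1] ![0, 1, 1, 1, 0, 1, 1, 1, 1, 1, 0, 1],
    mkv ![1, 1] ![1, 0, 1, 1, 1, 0, 1, 1, 1, 0, 1, 1],
    mkv ![1, 1] ![1, 0, 1, 1, 1, 1, 1, 0, 1, 1, 1, 0],
    mkv ![1, 1] ![1, 1, 0, 0, 0, 1, 0, 0, 0, 0, 1, 0],
    mkv ![1, 1] ![1, 1, 0, 1, 1, 1, 0, 1, 1, 1, 0, 1],
    mkv ![1, 1] ![1, 1, 1, 0, 1, 1, 1, 1, 0, 1, 1, 1],
    mkv ![1, 1] ![1, 1, 1, 1, 0, 0, 0, 1, 0, 0, 1, 0]]

/-- the generator permutations, coded with six bits per point -/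
def gpC : Fin 12 → ℕ :=
  ![534128593841492469704930138809048207437785673249691212503844314427172020390135541402323329562389014323462394782249,
    184407866564677152889878975531443049388292032184968854957828142932024993607961432586243277217831418169429811219652,
    498221868635254116018120635888181791199646243421161265722914959910496996235790700818896235230261811014218850075853,
    536928321801753111159319207901561104840522712269197263586676250681381856829367809052754446626976707980850936193097,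
    371046056605448594497955475808481850385202222094141247570973808836681304371574364544004853122212871698249352503616,
    535218313096472445921650388791538391284277965091595531081644007496136889196535844314838305489704762642835572523074,
    555337949583646451549761742727591555573324427477132479153673458616608985422677994870402596191552071162827109044352,
    573058427858132611658008000772923113766878581872698195637473806408910669055164548751014320768665500781639212736576,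
    239802539051204499533365082161517680290342213900424275612424862993811790193405316851036759797861278791196495061056,
    479018019353045304072855708704807320525856470369414606081107070703608326854697511346552243272120987567986454569024,
    253925301261246629997237063472535354532874341709738265435732547510286564906815214896728424568794518593609883721792,
    371193156450002834834529884145969458190521748083365943767517294142723236096343456015367398351452132890440635260992]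

/-- the generator permutations -/
def gp (r : Fin 12) (i : Fin 63) : Fin 63 := Fin.ofNat 63 ((gpC r >>> (6 * i.val)) % 64)

def spanCert : I14 → List (Fin 63) :=
  Sum.elim ![[3, 6, 11, 13, 15, 27, 29, 39], [3, 7, 27]]
    ![[17],
      [11],
      [3, 6, 7, 11, 15, 17, 19, 27, 29],
      [3, 6, 17, 19, 27, 29],
      [3, 4, 7, 9, 11, 13, 27, 29],
      [7],
      [3],
      [3, 6, 9, 10, 27, 29],
      [7, 9, 27, 29],
      [4, 6, 7, 10, 27, 29],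
      [9, 10],
      [3, 4]]

/-- the permutation of a word in the generators -/
def wp (w : List (Fin 12)) (i : Fin 63) : Fin 63 := w.foldr (fun r j => gp r j) i

set_option maxHeartbeats 4000000 in
theorem xMat_zero : ∀ r : Fin 12, chevG2.xMat K2 r 0 = 1 := by decide +kernel

set_option maxHeartbeats 4000000 in
theorem xMat_sq : ∀ r : Fin 12, chevG2.xMat K2 r 1 * chevG2.xMat K2 r 1 = 1 := by decide +kernel

set_option maxHeartbeats 4000000 in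
theorem xMat_O : ∀ (r : Fin 12) (i : Fin 63), chevG2.xMat K2 r 1 *ᵥ O i = O (gp r i) := by
  decide +kernel

theorem O_inj : ∀ i j : Fin 63, O i = O j → i = j := by decide +kernel

theorem span_ok : ∀ a : I14, (Pi.single a 1 : V2) = ((spanCert a).map O).sum := by decide +kernel

theorem gp_gp : ∀ (r : Fin 12) (i : Fin 63), gp r (gp r i) = i := by decide +kernel

end Cfsg.Agent.Lib.H14.G2Tab
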