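import Mathlib

set_option autoImplicit false

/-! # A group permuting a finite family of "lines"

`G` acts on `V` by `app`, compatibly with an equivalence relation `rel` ("spanning the same line");
a family `P : ι → V` of pairwise inequivalent vectors whose set of lines is `G`-stable gives a
permutation representation of `G` on `ι`. -/

namespace Cfsg.Agent.Lib.H14.U4LineSys

universe u v w

/-- the data -/
structure Sys (G : Type u) [Group G] (V : Type v) (ι : Type w) where
  app : G → V → V
  app_one : ∀ x, app 1 x = x
  app_mul : ∀ g h x, app (g * h) x = app g (app h x)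
  rel : V → V → Prop
  rel_symm : ∀ {x y}, rel x y → rel y x
  rel_trans : ∀ {x y z}, rel x y → rel y z → rel x z
  rel_app : ∀ g {x y}, rel x y → rel (app g x) (app g y)
  P : ι → V
  rel_P : ∀ i, rel (P i) (P i)
  inj : ∀ i j, rel (P i) (P j) → i = j
  closed : ∀ g i, ∃ j, rel (app g (P i)) (P j)

variable {G : Type u} [Group G] {V : Type v} {ι : Type w} (S : Sys G V ι)

/-- the action on indices -/
noncomputable def act (g : G) (i : ι) : ι := Classical.choose (S.closed g i)

theorem act_spec (g : G) (i : ι) : S.rel (S.app g (S.P i)) (S.P (act S g i)) :=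
  Classical.choose_spec (S.closed g i)

theorem act_eq_iff (g : G) (i j : ι) : act S g i = j ↔ S.rel (S.app g (S.P i)) (S.P j) := by
  constructor
  · rintro rfl
    exact act_spec S g i
  · intro h
    exact S.inj _ _ (S.rel_trans (S.rel_symm (act_spec S g i)) h)

theorem act_one (i : ι) : act S 1 i = i := by
  rw [act_eq_iff, S.app_one]
  exact S.rel_P i

theorem act_mul (g h : G) (i : ι) : act S (g * h) i = act S g (act S h i) := by
  rw [act_eq_iff, S.app_mul]
  exact S.rel_trans (S.rel_app g (act_spec S h i)) (act_spec S g (act S h i))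

/-- the permutation representation -/
noncomputable def rho : G →* Equiv.Perm ι where
  toFun g :=
    { toFun := act S g
      invFun := act S g⁻¹
      left_inv := fun i => by rw [← act_mul, inv_mul_cancel, act_one]
      right_inv := fun i => by rw [← act_mul, mul_inv_cancel, act_one] }
  map_one' := by
    ext i
    exact act_one S i
  map_mul' g h := by
    ext i
    exact act_mul S g h i

theorem rho_apply (g : G) (i : ι) : rho S g i = act S g i := rfl

theorem rho_eq_iff (g : G) (i j : ι) : rho S g i = j ↔ S.rel (S.app g (S.P i)) (S.P j) :=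
  act_eq_iff S g i j

theorem mem_ker_iff (g : G) : g ∈ (rho S).ker ↔ ∀ i, S.rel (S.app g (S.P i)) (S.P i) := by
  rw [MonoidHom.mem_ker]
  constructor
  · intro h i
    rw [← rho_eq_iff, h]
    rfl
  · intro h
    ext i
    rw [rho_eq_iff]
    exact h i

/-- two systems on the same index set: matching elements have the same permutation -/
theorem rho_eq_of_match {G' : Type*} [Group G'] {V' : Type*} (S' : Sys G' V' ι) (g : G) (g' : G')
    (h : ∀ i, ∃ j, S.rel (S.app g (S.P i)) (S.P j) ∧ S'.rel (S'.app g' (S'.P i)) (S'.P j)) :
    rho S g = rho S' g' := by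
  ext i
  obtain ⟨j, h1, h2⟩ := h i
  rw [(rho_eq_iff S g i j).2 h1, (rho_eq_iff S' g' i j).2 h2]

/-- a permutation commuting with enough permutations `t k` whose fixed point sets separate points is
trivial -/
theorem eq_one_of_commute {κ : Type*} (t : κ → Equiv.Perm ι)
    (hsep : ∀ p q : ι, (∀ k, t k p = p → t k q = q) → q = p)
    (z : Equiv.Perm ι) (hz : ∀ k, z * t k = t k * z) : z = 1 := by
  ext p
  refine hsep p (z p) ?_
  intro k hk
  have := congrArg (fun f : Equiv.Perm ι => f p) (hz k)
  simp only [Equiv.Perm.mul_apply] at this
  rw [hk] at this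
  exact this.symm

end Cfsg.Agent.Lib.H14.U4LineSys
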