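import Mathlib
import Cfsg.Prelude.Def_ChevG2
import Cfsg.Agent.Lib.H14.U4LineSys
import Cfsg.Agent.Lib.H14.G2Tab

set_option autoImplicit false
set_option linter.unusedSimpArgs false

/-! # `G₂(2)` acting faithfully on the 63 long root vectors -/

namespace Cfsg.Agent.Lib.H14.G2A

open Cfsg.Lie Matrix Cfsg.Agent.Lib.H14.U4LineSys Cfsg.Agent.Lib.H14.G2Tab

/-- the group `G₂(2)` -/
abbrev G22 : Type := ↥(chevG2.group K2)

/-- invertible matrices permuting the 63 vectors -/
def Perm63 : Subgroup (GL I14 K2) where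
  carrier := {g | ∀ i, ∃ j, (g : Matrix I14 I14 K2) *ᵥ O i = O j}
  one_mem' := by
    intro i
    exact ⟨i, by simp⟩
  mul_mem' := by
    intro g h hg hh i
    obtain ⟨j, hj⟩ := hh i
    obtain ⟨k, hk⟩ := hg j
    refine ⟨k, ?_⟩
    rw [Units.val_mul, ← Matrix.mulVec_mulVec, hj, hk]
  inv_mem' := by
    intro g hg i
    choose f hf using hg
    have hinj : Function.Injective f := by
      intro a b hab
      apply O_inj
      have h1 := hf a
      have h2 := hf b
      rw [hab] at h1
      have h3 : (g : Matrix I14 I14 K2) *ᵥ O a = (g : Matrix I14 I14 K2) *ᵥ O b := h1.trans h2.symm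
      have h4 := congrArg (fun v => ((g⁻¹ : GL I14 K2) : Matrix I14 I14 K2) *ᵥ v) h3
      simp only [Matrix.mulVec_mulVec, ← Units.val_mul, inv_mul_cancel, Units.val_one,
        Matrix.one_mulVec] at h4
      exact h4
    have hsurj : Function.Surjective f := Finite.injective_iff_surjective.1 hinj
    obtain ⟨j, hj⟩ := hsurj i
    refine ⟨j, ?_⟩
    rw [← hj, ← hf j, Matrix.mulVec_mulVec, ← Units.val_mul, inv_mul_cancel, Units.val_one,
      Matrix.one_mulVec]

theorem K2_cases : ∀ t : K2, t = 0 ∨ t = 1 := by decide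

theorem group_le : chevG2.group K2 ≤ Perm63 := by
  unfold ChevalleyDatum.group
  rw [Subgroup.closure_le]
  rintro g ⟨r, t, hg⟩ i
  show ∃ j, (g : Matrix I14 I14 K2) *ᵥ O i = O j
  rw [hg]
  rcases K2_cases t with rfl | rfl
  · exact ⟨i, by rw [show chevG2.xMat K2 r 0 = 1 from xMat_zero r, Matrix.one_mulVec]⟩
  · exact ⟨gp r i, xMat_O r i⟩

/-- the matrix of an element -/
abbrev mat (g : G22) : Matrix I14 I14 K2 := ((g : GL I14 K2) : Matrix I14 I14 K2)

/-- the system of the 63 vectors -/
noncomputable def SG : Sys G22 V2 (Fin 63) where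
  app g x := mat g *ᵥ x
  app_one x := by
    show ((1 : GL I14 K2) : Matrix I14 I14 K2) *ᵥ x = x
    rw [Units.val_one, Matrix.one_mulVec]
  app_mul g h x := by
    show (((g : GL I14 K2) * (h : GL I14 K2) : GL I14 K2) : Matrix I14 I14 K2) *ᵥ x = _
    rw [Units.val_mul, ← Matrix.mulVec_mulVec]
  rel := Eq
  rel_symm := Eq.symm
  rel_trans := Eq.trans
  rel_app g := by
    intro x y h
    rw [h]
  P := O
  rel_P i := rfl
  inj := O_inj
  closed g i := group_le g.2 i

theorem SG_app (g : G22) (x : V2) : SG.app g x = mat g *ᵥ x := rfl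

theorem SG_rel (x y : V2) : SG.rel x y ↔ x = y := Iff.rfl

theorem SG_P (i : Fin 63) : SG.P i = O i := rfl

/-- the representation on the 63 vectors -/
noncomputable def rhoG : G22 →* Equiv.Perm (Fin 63) := rho SG

theorem rhoG_injective : Function.Injective rhoG := by
  rw [injective_iff_map_eq_one]
  intro g hg
  have hfix : ∀ i, mat g *ᵥ O i = O i := by
    intro i
    have := (mem_ker_iff SG g).1 hg i
    exact this
  have hsum : ∀ l : List (Fin 63), mat g *ᵥ (l.map O).sum = (l.map O).sum := by
    intro l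
    induction l with
    | nil => simp
    | cons a l ih =>
      rw [List.map_cons, List.sum_cons, Matrix.mulVec_add, hfix, ih]
  have hbasis : ∀ a : I14, mat g *ᵥ (Pi.single a 1) = Pi.single a 1 := by
    intro a
    rw [span_ok a]
    exact hsum _
  apply Subtype.ext
  apply Units.ext
  show mat g = 1
  ext i j
  have := congrFun (hbasis j) i
  rw [Matrix.mulVec_single_one] at this
  rw [Matrix.one_apply]
  simpa [Pi.single_apply, eq_comm] using this

/-- the generators as invertible matrices -/
noncomputable def xgl (r : Fin 12) : GL I14 K2 :=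
  ⟨chevG2.xMat K2 r 1, chevG2.xMat K2 r 1, xMat_sq r, xMat_sq r⟩

/-- the generators -/
noncomputable def xg (r : Fin 12) : G22 :=
  ⟨xgl r, Subgroup.subset_closure ⟨r, 1, rfl⟩⟩

theorem mat_xg (r : Fin 12) : mat (xg r) = chevG2.xMat K2 r 1 := rfl

theorem rhoG_xg (r : Fin 12) (i : Fin 63) : rhoG (xg r) i = gp r i := by
  unfold rhoG
  rw [rho_eq_iff, SG_rel, SG_app, SG_P, SG_P, mat_xg]
  exact xMat_O r i

/-- the element of a word -/
noncomputable def wel (w : List (Fin 12)) : G22 := (w.map xg).prod

theorem rhoG_wel (w : List (Fin 12)) (i : Fin 63) : rhoG (wel w) i = wp w i := by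
  induction w generalizing i with
  | nil => simp [wel, wp]
  | cons r w ih =>
    have : wel (r :: w) = xg r * wel w := by simp [wel]
    rw [this, map_mul, Equiv.Perm.mul_apply, ih, rhoG_xg]
    rfl

theorem gen_cases (x : GL I14 K2) (r : Fin 12) (t : K2)
    (hx : (x : Matrix I14 I14 K2) = chevG2.xMat K2 r t) : x = 1 ∨ x = xgl r := by
  rcases K2_cases t with rfl | rfl
  · left
    apply Units.ext
    rw [hx, xMat_zero r]
    rfl
  · right
    apply Units.ext
    rw [hx]
    rfl

/-- the group is generated by the twelve involutions -/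
theorem closure_xg : Subgroup.closure (Set.range xg) = ⊤ := by
  have h1 : chevG2.group K2 ≤
      (Subgroup.closure (Set.range xg)).map (chevG2.group K2).subtype := by
    unfold ChevalleyDatum.group
    rw [Subgroup.closure_le]
    rintro x ⟨r, t, hx⟩
    rcases gen_cases x r t hx with h | h
    · rw [h]
      exact one_mem _
    · rw [h]
      exact ⟨xg r, Subgroup.subset_closure ⟨r, rfl⟩, rfl⟩
  rw [eq_top_iff]
  intro g _
  obtain ⟨y, hy, hyg⟩ := h1 g.2
  have : y = g := Subtype.ext hyg
  rw [← this]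
  exact hy

end Cfsg.Agent.Lib.H14.G2A
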