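import Mathlib
import Cfsg.Agent.Lib.H14.F9
import Cfsg.Agent.Lib.H14.G2Tab

set_option autoImplicit false
set_option maxRecDepth 100000

/-! # `SU(3,3)` acting on the 63 non-isotropic points, matched with `G₂(2)`: tables -/

namespace Cfsg.Agent.Lib.H14.U3Tab

open Matrix Cfsg.Agent.Lib.H14 Cfsg.Agent.Lib.H14.F9 Cfsg.Agent.Lib.H14.G2Tab

/-- unitary vectors -/
abbrev V9 : Type := Fin 3 → F9

/-- same line -/
def rel9 (x y : V9) : Prop := ∃ a : F9, a ≠ 0 ∧ x = a • y

instance (x y : V9) : Decidable (rel9 x y) := by unfold rel9; infer_instance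

/-- the Hermitian form -/
def herm (u v : V9) : F9 := u 0 * v 0 ^ 3 + u 1 * v 1 ^ 3 + u 2 * v 2 ^ 3

/-- the map `x ↦ x + c h(x, v) v` -/
def tv9 (c : F9) (v x : V9) : V9 := x + (c * herm x v) • v

/-- basis vectors -/
def eb (a : Fin 3) : V9 := Pi.single a 1

def Q9 : Fin 63 → V9 :=
  ![![e00, e00, e10],
    ![e00, e10, e00],
    ![e10, e00, e00],
    ![e11, e21, e00],
    ![e11, e12, e00],
    ![e11, e11, e00],
    ![e11, e22, e00],
    ![e11, e00, e21],
    ![e11, e00, e12],
    ![e11, e00, e11],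
    ![e11, e00, e22],
    ![e10, e02, e22],
    ![e10, e02, e11],
    ![e10, e02, e12],
    ![e10, e02, e21],
    ![e10, e20, e12],
    ![e10, e20, e21],
    ![e10, e22, e02],
    ![e10, e11, e02],
    ![e10, e12, e02],
    ![e10, e21, e02],
    ![e10, e12, e20],
    ![e10, e21, e20],
    ![e11, e10, e10],
    ![e11, e02, e02],
    ![e11, e02, e20],
    ![e11, e20, e02],
    ![e00, e11, e22],
    ![e00, e11, e11],
    ![e00, e11, e21],
    ![e00, e11, e12],
    ![e10, e10, e22],
    ![e10, e10, e11],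
    ![e10, e22, e10],
    ![e10, e11, e10],
    ![e11, e20, e20],
    ![e11, e01, e01],
    ![e11, e01, e10],
    ![e11, e10, e01],
    ![e10, e20, e22],
    ![e10, e20, e11],
    ![e10, e22, e01],
    ![e10, e11, e01],
    ![e10, e12, e01],
    ![e10, e21, e01],
    ![e10, e12, e10],
    ![e10, e21, e10],
    ![e11, e10, e20],
    ![e11, e02, e01],
    ![e11, e02, e10],
    ![e11, e20, e01],
    ![e10, e01, e22],
    ![e10, e01, e11],
    ![e10, e01, e12],
    ![e10, e01, e21],
    ![e10, e10, e12],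
    ![e10, e10, e21],
    ![e10, e22, e20],
    ![e10, e11, e20],
    ![e11, e20, e10],
    ![e11, e01, e02],
    ![e11, e01, e20],
    ![e11, e10, e02]]

def I9 : Fin 28 → V9 :=
  ![![e00, e10, e11],
    ![e00, e10, e12],
    ![e00, e10, e21],
    ![e00, e10, e22],
    ![e10, e00, e11],
    ![e10, e00, e12],
    ![e10, e00, e21],
    ![e10, e00, e22],
    ![e10, e01, e01],
    ![e10, e01, e02],
    ![e10, e01, e10],
    ![e10, e01, e20],
    ![e10, e02, e01],
    ![e10, e02, e02],
    ![e10, e02, e10],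
    ![e10, e02, e20],
    ![e10, e10, e01],
    ![e10, e10, e02],
    ![e10, e10, e10],
    ![e10, e10, e20],
    ![e10, e11, e00],
    ![e10, e12, e00],
    ![e10, e20, e01],
    ![e10, e20, e02],
    ![e10, e20, e10],
    ![e10, e20, e20],
    ![e10, e21, e00],
    ![e10, e22, e00]]

def wdA : Fin 28 → List (Fin 12) :=
  ![[1, 0, 9, 1, 7, 0],
    [6, 0, 8, 3],
    [8, 1, 0, 9, 1, 0],
    [4, 7, 1, 5],
    [8, 0, 9, 0],
    [7, 3, 8, 7],
    [5, 3, 8, 5],
    [8, 3],
    [9, 5, 0, 8, 5, 0],
    [9, 1, 7, 1],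
    [1, 7, 4, 1],
    [5, 0, 8, 5, 4, 0],
    [9, 0, 8, 0],
    [9, 2],
    [2, 1, 9, 1],
    [4, 2, 9, 4],
    [0, 8, 3, 0],
    [2, 0, 9, 0],
    [7, 0, 6, 10, 4, 0],
    [2, 7, 4, 2],
    [7, 1, 9, 1],
    [4, 10, 6, 7],
    [5, 0, 8, 5, 3, 0],
    [3, 2, 9, 3],
    [2, 8, 3, 2],
    [2, 1, 0, 9, 1, 0],
    [4, 5, 8, 5],
    [7, 4]]

def wdB : Fin 28 → List (Fin 12) :=
  ![[7, 1, 0, 9, 1, 0],
    [3, 8, 0, 6],
    [2, 8, 0, 9, 2, 0],
    [5, 1, 7, 4],
    [0, 9, 0, 8],
    [8, 5, 11, 3],
    [5, 8, 5, 3],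
    [3, 8],
    [3, 9, 0, 8, 3, 0],
    [1, 7, 1, 9],
    [4, 1, 7, 1],
    [4, 5, 0, 8, 5, 0],
    [0, 8, 0, 9],
    [2, 9],
    [1, 9, 2, 1],
    [9, 1, 11, 2],
    [3, 0, 8, 0],
    [0, 9, 2, 0],
    [4, 0, 10, 6, 7, 0],
    [2, 4, 7, 2],
    [1, 9, 1, 7],
    [7, 6, 10, 4],
    [5, 3, 0, 8, 5, 0],
    [9, 0, 10, 2],
    [2, 3, 8, 2],
    [1, 0, 9, 2, 1, 0],
    [5, 8, 5, 4],
    [4, 7]]

def cjA : Fin 12 → Fin 28 → Fin 28 × F9 :=
  ![![(20, e02), (24, e01), (15, e01), (3, e01), (12, e02), (8, e01), (22, e02), (16, e01), (5, e01), (23, e02), (10, e01), (26, e02), (4, e02), (17, e02), (25, e01), (2, e01), (7, e01), (13, e02), (21, e02), (19, e01), (0, e02), (18, e02), (6, e02), (9, e02), (1, e01), (14, e01), (11, e02), (27, e01)],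
    ![(23, e02), (1, e01), (4, e01), (19, e02), (2, e01), (18, e02), (22, e02), (7, e01), (21, e01), (20, e02), (27, e01), (26, e02), (15, e02), (14, e02), (13, e02), (12, e02), (16, e01), (25, e01), (5, e02), (3, e02), (9, e02), (8, e01), (6, e02), (0, e02), (24, e01), (17, e01), (11, e02), (10, e01)],
    ![(20, e01), (16, e01), (4, e02), (10, e02), (2, e02), (21, e02), (11, e02), (24, e01), (18, e01), (23, e01), (3, e02), (6, e02), (15, e01), (13, e02), (14, e02), (12, e01), (1, e01), (17, e02), (8, e01), (27, e01), (0, e01), (5, e02), (26, e02), (9, e01), (7, e01), (25, e02), (22, e02), (19, e01)],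
    ![(14, e02), (24, e02), (18, e02), (10, e02), (5, e01), (4, e01), (6, e02), (7, e02), (12, e02), (17, e02), (3, e02), (26, e01), (8, e02), (23, e02), (0, e02), (21, e01), (16, e02), (9, e02), (2, e02), (27, e01), (25, e01), (15, e01), (22, e02), (13, e02), (1, e02), (20, e01), (11, e01), (19, e01)],
    ![(18, e01), (16, e01), (17, e01), (19, e01), (25, e01), (23, e01), (22, e01), (24, e01), (9, e02), (8, e02), (10, e02), (11, e02), (14, e02), (15, e02), (12, e02), (13, e02), (1, e01), (2, e01), (0, e01), (3, e01), (21, e01), (20, e01), (6, e01), (5, e01), (7, e01), (4, e01), (26, e02), (27, e02)],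
    ![(20, e02), (26, e02), (21, e02), (27, e02), (5, e02), (4, e02), (7, e02), (6, e02), (12, e01), (9, e01), (19, e01), (24, e01), (8, e01), (13, e01), (25, e01), (18, e01), (22, e01), (17, e01), (15, e01), (10, e01), (0, e02), (2, e02), (16, e01), (23, e01), (11, e01), (14, e01), (1, e02), (3, e02)],
    ![(5, e01), (7, e01), (4, e01), (6, e01), (2, e01), (0, e01), (3, e01), (1, e01), (9, e01), (8, e01), (11, e01), (10, e01), (12, e01), (13, e01), (14, e01), (15, e01), (24, e01), (25, e01), (23, e01), (22, e01), (21, e02), (20, e02), (19, e01), (18, e01), (16, e01), (17, e01), (27, e02), (26, e02)],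
    ![(0, e02), (2, e02), (1, e02), (3, e02), (6, e02), (7, e02), (4, e02), (5, e02), (16, e02), (17, e02), (19, e02), (18, e02), (22, e02), (23, e02), (25, e02), (24, e02), (8, e02), (9, e02), (11, e02), (10, e02), (20, e02), (26, e02), (12, e02), (13, e02), (15, e02), (14, e02), (21, e02), (27, e02)],
    ![(3, e02), (1, e02), (2, e02), (0, e02), (4, e02), (6, e02), (5, e02), (7, e02), (10, e02), (11, e02), (8, e02), (9, e02), (14, e02), (15, e02), (12, e02), (13, e02), (24, e02), (25, e02), (22, e02), (23, e02), (26, e02), (27, e02), (18, e02), (19, e02), (16, e02), (17, e02), (20, e02), (21, e02)],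
    ![(1, e02), (0, e02), (3, e02), (2, e02), (6, e02), (7, e02), (4, e02), (5, e02), (8, e02), (9, e02), (11, e02), (10, e02), (12, e02), (13, e02), (15, e02), (14, e02), (22, e02), (23, e02), (25, e02), (24, e02), (26, e02), (27, e02), (16, e02), (17, e02), (19, e02), (18, e02), (20, e02), (21, e02)],
    ![(3, e01), (2, e01), (1, e01), (0, e01), (4, e01), (5, e01), (6, e01), (7, e01), (12, e01), (13, e01), (14, e01), (15, e01), (8, e01), (9, e01), (10, e01), (11, e01), (22, e01), (23, e01), (24, e01), (25, e01), (27, e01), (26, e01), (16, e01), (17, e01), (18, e01), (19, e01), (21, e01), (20, e01)],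
    ![(3, e01), (2, e01), (1, e01), (0, e01), (7, e01), (6, e01), (5, e01), (4, e01), (9, e01), (8, e01), (11, e01), (10, e01), (13, e01), (12, e01), (15, e01), (14, e01), (17, e01), (16, e01), (19, e01), (18, e01), (20, e01), (21, e01), (23, e01), (22, e01), (25, e01), (24, e01), (26, e01), (27, e01)]]

def cjB : Fin 12 → Fin 28 → Fin 28 × F9 :=
  ![![(20, e01), (24, e02), (15, e02), (3, e02), (12, e01), (8, e02), (22, e01), (16, e02), (5, e02), (23, e01), (10, e02), (26, e01), (4, e01), (17, e01), (25, e02), (2, e02), (7, e02), (13, e01), (21, e01), (19, e02), (0, e01), (18, e01), (6, e01), (9, e01), (1, e02), (14, e02), (11, e01), (27, e02)],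
    ![(23, e01), (1, e02), (4, e02), (19, e01), (2, e02), (18, e01), (22, e01), (7, e02), (21, e02), (20, e01), (27, e02), (26, e01), (15, e01), (14, e01), (13, e01), (12, e01), (16, e02), (25, e02), (5, e01), (3, e01), (9, e01), (8, e02), (6, e01), (0, e01), (24, e02), (17, e02), (11, e01), (10, e02)],
    ![(20, e02), (16, e02), (4, e01), (10, e01), (2, e01), (21, e01), (11, e01), (24, e02), (18, e02), (23, e02), (3, e01), (6, e01), (15, e02), (13, e01), (14, e01), (12, e02), (1, e02), (17, e01), (8, e02), (27, e02), (0, e02), (5, e01), (26, e01), (9, e02), (7, e02), (25, e01), (22, e01), (19, e02)],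
    ![(14, e01), (24, e01), (18, e01), (10, e01), (5, e02), (4, e02), (6, e01), (7, e01), (12, e01), (17, e01), (3, e01), (26, e02), (8, e01), (23, e01), (0, e01), (21, e02), (16, e01), (9, e01), (2, e01), (27, e02), (25, e02), (15, e02), (22, e01), (13, e01), (1, e01), (20, e02), (11, e02), (19, e02)],
    ![(18, e02), (16, e02), (17, e02), (19, e02), (25, e02), (23, e02), (22, e02), (24, e02), (9, e01), (8, e01), (10, e01), (11, e01), (14, e01), (15, e01), (12, e01), (13, e01), (1, e02), (2, e02), (0, e02), (3, e02), (21, e02), (20, e02), (6, e02), (5, e02), (7, e02), (4, e02), (26, e01), (27, e01)],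
    ![(20, e01), (26, e01), (21, e01), (27, e01), (5, e01), (4, e01), (7, e01), (6, e01), (12, e02), (9, e02), (19, e02), (24, e02), (8, e02), (13, e02), (25, e02), (18, e02), (22, e02), (17, e02), (15, e02), (10, e02), (0, e01), (2, e01), (16, e02), (23, e02), (11, e02), (14, e02), (1, e01), (3, e01)],
    ![(5, e02), (7, e02), (4, e02), (6, e02), (2, e02), (0, e02), (3, e02), (1, e02), (9, e02), (8, e02), (11, e02), (10, e02), (12, e02), (13, e02), (14, e02), (15, e02), (24, e02), (25, e02), (23, e02), (22, e02), (21, e01), (20, e01), (19, e02), (18, e02), (16, e02), (17, e02), (27, e01), (26, e01)],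
    ![(0, e01), (2, e01), (1, e01), (3, e01), (6, e01), (7, e01), (4, e01), (5, e01), (16, e01), (17, e01), (19, e01), (18, e01), (22, e01), (23, e01), (25, e01), (24, e01), (8, e01), (9, e01), (11, e01), (10, e01), (20, e01), (26, e01), (12, e01), (13, e01), (15, e01), (14, e01), (21, e01), (27, e01)],
    ![(3, e01), (1, e01), (2, e01), (0, e01), (4, e01), (6, e01), (5, e01), (7, e01), (10, e01), (11, e01), (8, e01), (9, e01), (14, e01), (15, e01), (12, e01), (13, e01), (24, e01), (25, e01), (22, e01), (23, e01), (26, e01), (27, e01), (18, e01), (19, e01), (16, e01), (17, e01), (20, e01), (21, e01)],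
    ![(1, e01), (0, e01), (3, e01), (2, e01), (6, e01), (7, e01), (4, e01), (5, e01), (8, e01), (9, e01), (11, e01), (10, e01), (12, e01), (13, e01), (15, e01), (14, e01), (22, e01), (23, e01), (25, e01), (24, e01), (26, e01), (27, e01), (16, e01), (17, e01), (19, e01), (18, e01), (20, e01), (21, e01)],
    ![(3, e02), (2, e02), (1, e02), (0, e02), (4, e02), (5, e02), (6, e02), (7, e02), (12, e02), (13, e02), (14, e02), (15, e02), (8, e02), (9, e02), (10, e02), (11, e02), (22, e02), (23, e02), (24, e02), (25, e02), (27, e02), (26, e02), (16, e02), (17, e02), (18, e02), (19, e02), (21, e02), (20, e02)],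
    ![(3, e02), (2, e02), (1, e02), (0, e02), (7, e02), (6, e02), (5, e02), (4, e02), (9, e02), (8, e02), (11, e02), (10, e02), (13, e02), (12, e02), (15, e02), (14, e02), (17, e02), (16, e02), (19, e02), (18, e02), (20, e02), (21, e02), (23, e02), (22, e02), (25, e02), (24, e02), (26, e02), (27, e02)]]

def cw : Fin 12 → Fin 12 → List (Fin 28 × F9) :=
  ![![[], [], [], [], [], [], [(24, e01), (7, e01), (1, e01)], [], [(24, e01), (1, e02)], [(23, e02), (9, e02)], [(23, e02), (13, e01), (9, e01)], [(23, e02), (5, e02), (3, e02), (0, e01)]],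
    ![[], [], [], [], [], [(19, e02), (10, e02), (3, e01)], [], [(19, e01), (3, e01)], [], [(15, e02), (12, e02)], [(21, e02), (6, e01), (2, e02), (0, e02)], [(15, e02), (13, e01), (12, e01)]],
    ![[], [], [], [(19, e02), (10, e02), (3, e01)], [(24, e01), (7, e01), (1, e01)], [], [], [(25, e02), (14, e02), (0, e01)], [(25, e01), (4, e01), (2, e01)], [(13, e01)], [(13, e02), (9, e01)], [(13, e02), (12, e01)]],
    ![[], [], [(19, e02), (10, e02), (3, e01)], [], [(22, e02), (11, e02), (6, e01)], [], [(7, e02), (1, e01)], [(23, e02), (13, e01), (9, e01)], [(7, e01)], [(22, e02), (12, e01), (8, e01)], [], [(7, e02), (4, e01)]],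
    ![[], [], [(24, e01), (7, e01), (1, e01)], [(22, e02), (11, e02), (6, e01)], [], [(27, e02), (3, e02)], [], [(27, e01)], [(15, e02), (13, e01), (12, e01)], [(11, e02), (9, e01), (8, e01)], [(27, e02), (20, e01)], []],
    ![[], [(19, e02), (10, e02), (3, e01)], [], [], [(10, e01), (3, e01)], [], [(7, e01), (4, e02), (3, e02), (0, e01)], [], [(5, e02), (4, e02)], [], [], [(6, e02), (5, e02), (4, e01)]],
    ![[(24, e01), (7, e01), (1, e01)], [], [], [(16, e01), (1, e02)], [], [(27, e01), (20, e02), (2, e02), (0, e02)], [], [(21, e02), (20, e02)], [], [], [(26, e02), (21, e02), (20, e01)], []],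
    ![[], [(10, e02), (3, e02)], [(25, e02), (14, e02), (0, e01)], [(23, e02), (13, e01), (9, e01)], [(27, e02)], [], [(26, e01), (20, e01)], [], [(2, e02), (1, e02), (0, e01)], [(6, e02), (5, e02), (4, e01)], [], []],
    ![[(16, e02), (1, e01)], [], [(25, e01), (4, e01), (2, e01)], [(7, e02)], [(15, e02), (13, e01), (12, e01)], [(6, e01), (4, e01)], [], [(2, e02), (1, e02), (0, e01)], [], [(26, e02), (21, e02), (20, e01)], [], []],
    ![[(17, e01), (9, e01)], [(14, e01), (12, e01)], [(13, e02)], [(22, e02), (12, e01), (8, e01)], [(11, e02), (9, e01), (8, e01)], [], [], [(6, e02), (5, e02), (4, e01)], [(26, e02), (21, e02), (20, e01)], [], [], []],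
    ![[(23, e02), (13, e01), (9, e01)], [(20, e01), (5, e02), (1, e01), (0, e01)], [(17, e02), (9, e02)], [], [(26, e02), (20, e02)], [], [(26, e02), (21, e02), (20, e01)], [], [], [], [], []],
    ![[(12, e01), (4, e01), (1, e01), (0, e01)], [(15, e02), (13, e01), (12, e01)], [(14, e02), (12, e02)], [(6, e02), (4, e02)], [], [(6, e02), (5, e02), (4, e01)], [], [], [], [], [], []]]

/-- the word of the transvection with centre `I9 k` and parameter `c` -/
def wd (k : Fin 28) (c : F9) : List (Fin 12) :=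
  if c = e01 then wdA k else if c = e02 then wdB k else []

/-- the conjugate of a transvection by a generator -/
def cj (r : Fin 12) (k : Fin 28) (c : F9) : Fin 28 × F9 :=
  if c = e01 then cjA r k else if c = e02 then cjB r k else (k, 0)

/-- the permutation of a word in the transvections -/
def tpw (w : List (Fin 28 × F9)) (i : Fin 63) : Fin 63 := w.foldr (fun p j => wp (wd p.1 p.2) j) i

set_option maxHeartbeats 8000000 in
theorem E1 : ∀ v : V9, herm v v = 1 → ∃ i, rel9 v (Q9 i) := by decide +kernel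

set_option maxHeartbeats 8000000 in
theorem E2 : ∀ i j, rel9 (Q9 i) (Q9 j) → i = j := by decide +kernel

set_option maxHeartbeats 8000000 in
theorem E3 : ∀ i, herm (Q9 i) (Q9 i) = 1 := by decide +kernel

set_option maxHeartbeats 8000000 in
theorem E4 : ∀ v : V9, herm v v = 0 → v = 0 ∨ ∃ k, ∃ a : F9, a ≠ 0 ∧ v = a • I9 k := by
  decide +kernel

set_option maxHeartbeats 8000000 in
theorem E5 : ∀ (k : Fin 28) (c : F9),
    (∀ a b : Fin 3, herm (tv9 c (I9 k) (eb a)) (tv9 c (I9 k) (eb b)) = herm (eb a) (eb b)) →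
      c + c ^ 3 = 0 := by decide +kernel

set_option maxHeartbeats 8000000 in
theorem E6 : ∀ (k : Fin 28) (c : F9), c + c ^ 3 = 0 →
    ∀ i, rel9 (tv9 c (I9 k) (Q9 i)) (Q9 (wp (wd k c) i)) := by decide +kernel

set_option maxHeartbeats 8000000 in
theorem E7 : ∀ (r : Fin 12) (k : Fin 28) (c : F9), c + c ^ 3 = 0 →
    (cj r k c).2 + (cj r k c).2 ^ 3 = 0 ∧
      ∀ i, gp r (wp (wd k c) (gp r i)) = wp (wd (cj r k c).1 (cj r k c).2) i := by decide +kernel

set_option maxHeartbeats 8000000 in
theorem E8 : ∀ (r s : Fin 12),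
    (∀ p ∈ cw r s, p.2 + p.2 ^ 3 = 0) ∧ ∀ i, gp r (gp s (gp r (gp s i))) = tpw (cw r s) i := by
  decide +kernel

set_option maxHeartbeats 8000000 in
theorem E9 : ∀ (k : Fin 28) (q : Fin 63),
    rel9 (tv9 e01 (I9 k) (Q9 q)) (Q9 q) → herm (Q9 q) (I9 k) = 0 := by decide +kernel

set_option maxHeartbeats 8000000 in
theorem E10 : ∀ p q : Fin 63,
    (∀ k : Fin 28, herm (Q9 p) (I9 k) = 0 → herm (Q9 q) (I9 k) = 0) → q = p := by decide +kernel

set_option maxHeartbeats 8000000 in
theorem E11 : ∀ s : F9, s ^ 3 = 1 → s * s ^ 3 = 1 → s = 1 := by decide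

end Cfsg.Agent.Lib.H14.U3Tab
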