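import Mathlib
import Cfsg.Prelude.Def_Classical
import Cfsg.Prelude.Def_ClassicalGeometry
import Cfsg.Agent.Lib.H2.Spec5
import Cfsg.Agent.Lib.H14.U4LineSys
import Cfsg.Agent.Lib.H14.U3Tab

set_option autoImplicit false
set_option linter.unusedSimpArgs false
set_option maxRecDepth 100000

/-! # `SU(3,3)` acting faithfully on the 63 non-isotropic points -/

namespace Cfsg.Agent.Lib.H14.U3A

open Matrix hiding SpecialLinearGroup
open Matrix (SpecialLinearGroup)
open Cfsg.Agent.Lib.H14 Cfsg.Agent.Lib.H14.U4LineSys Cfsg.Agent.Lib.H14.U3Tab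
  Cfsg.Agent.Lib.H14.G2Tab

/-- the special unitary group -/
abbrev SU3 : Type := ↥(Cfsg.SU 3 F9 3)

/-- the matrix of an element -/
abbrev mat (g : SU3) : Matrix (Fin 3) (Fin 3) F9 :=
  ((g : SpecialLinearGroup (Fin 3) F9) : Matrix (Fin 3) (Fin 3) F9)

theorem mat_one : mat 1 = 1 := rfl

theorem mat_mul (g h : SU3) : mat (g * h) = mat g * mat h := rfl

theorem herm_eq (u v : V9) : Cfsg.hermForm 3 F9 3 u v = herm u v := by
  simp only [Cfsg.hermForm, Fin.sum_univ_three, herm]

theorem herm_mat (g : SU3) (u v : V9) : herm (mat g *ᵥ u) (mat g *ᵥ v) = herm u v := by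
  have := g.2 u v
  rw [herm_eq, herm_eq] at this
  exact this

theorem rel9_symm {x y : V9} (h : rel9 x y) : rel9 y x := by
  obtain ⟨a, ha, rfl⟩ := h
  exact ⟨a⁻¹, inv_ne_zero ha, by rw [smul_smul, inv_mul_cancel₀ ha, one_smul]⟩

theorem rel9_trans {x y z : V9} (h1 : rel9 x y) (h2 : rel9 y z) : rel9 x z := by
  obtain ⟨a, ha, rfl⟩ := h1
  obtain ⟨b, hb, rfl⟩ := h2
  exact ⟨a * b, mul_ne_zero ha hb, by rw [smul_smul]⟩

/-- the system of the 63 non-isotropic points -/
noncomputable def SU : Sys SU3 V9 (Fin 63) where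
  app g x := mat g *ᵥ x
  app_one x := by
    rw [mat_one, Matrix.one_mulVec]
  app_mul g h x := by
    rw [mat_mul, ← Matrix.mulVec_mulVec]
  rel := rel9
  rel_symm := rel9_symm
  rel_trans := rel9_trans
  rel_app g := by
    intro x y h
    obtain ⟨a, ha, rfl⟩ := h
    exact ⟨a, ha, by rw [Matrix.mulVec_smul]⟩
  P := Q9
  rel_P i := ⟨1, one_ne_zero, by rw [one_smul]⟩
  inj := E2
  closed g i := by
    have h1 := herm_mat g (Q9 i) (Q9 i)
    rw [E3] at h1
    exact E1 _ h1

theorem SU_app (g : SU3) (x : V9) : SU.app g x = mat g *ᵥ x := rfl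

theorem SU_rel (x y : V9) : SU.rel x y ↔ rel9 x y := Iff.rfl

theorem SU_P (i : Fin 63) : SU.P i = Q9 i := rfl

/-- the representation on the 63 points -/
noncomputable def rhoU : SU3 →* Equiv.Perm (Fin 63) := rho SU

/-- the action of a transvection matrix -/
theorem unitaryTransvection_mulVec (c : F9) (v x : V9) :
    Cfsg.unitaryTransvection 3 3 v c *ᵥ x = tv9 c v x := by
  unfold Cfsg.unitaryTransvection tv9
  rw [Matrix.add_mulVec, Matrix.one_mulVec, Matrix.smul_mulVec]
  congr 1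
  funext i
  simp only [Matrix.mulVec, dotProduct, Matrix.vecMulVec_apply, Pi.smul_apply, smul_eq_mul,
    Fin.sum_univ_three, herm]
  ring

theorem tv9_smul (c a : F9) (v x : V9) : tv9 c (a • v) x = tv9 (c * (a * a ^ 3)) v x := by
  unfold tv9 herm
  funext i
  simp only [Pi.add_apply, Pi.smul_apply, smul_eq_mul]
  ring

theorem tv9_zero (c : F9) (x : V9) : tv9 c 0 x = x := by
  unfold tv9
  simp

/-- an element of `SU(3,3)` acting as `tv9 c (I9 k)` acts on the points as a word of `G₂(2)` -/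
theorem match_tv (A : SU3) (k : Fin 28) (c : F9) (hA : ∀ x, mat A *ᵥ x = tv9 c (I9 k) x) :
    c + c ^ 3 = 0 ∧ ∀ i, SU.rel (SU.app A (SU.P i)) (SU.P (wp (wd k c) i)) := by
  have hc : c + c ^ 3 = 0 := by
    apply E5 k c
    intro a b
    rw [← hA, ← hA]
    exact herm_mat A _ _
  refine ⟨hc, ?_⟩
  intro i
  rw [SU_rel, SU_app, SU_P, SU_P, hA]
  exact E6 k c hc i

/-- every generator of `S0780` acts on the points as a word of `G₂(2)` -/
theorem gen_match (A : SU3) (v : V9) (c : F9) (hv : herm v v = 0)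
    (hA : mat A = Cfsg.unitaryTransvection 3 3 v c) :
    ∃ (k : Fin 28) (c' : F9), c' + c' ^ 3 = 0 ∧
      ∀ i, SU.rel (SU.app A (SU.P i)) (SU.P (wp (wd k c') i)) := by
  have hA' : ∀ x, mat A *ᵥ x = tv9 c v x := by
    intro x
    rw [hA, unitaryTransvection_mulVec]
  rcases E4 v hv with rfl | ⟨k, a, ha, rfl⟩
  · refine ⟨0, 0, by decide, ?_⟩
    intro i
    rw [SU_rel, SU_app, SU_P, SU_P, hA', tv9_zero]
    have : wp (wd 0 (0 : F9)) i = i := rfl
    rw [this]
    exact ⟨1, one_ne_zero, by rw [one_smul]⟩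
  · have h2 : ∀ x, mat A *ᵥ x = tv9 (c * (a * a ^ 3)) (I9 k) x := by
      intro x
      rw [hA', tv9_smul]
    obtain ⟨h3, h4⟩ := match_tv A k _ h2
    exact ⟨k, _, h3, h4⟩

theorem scalar_of_eigen {K : Type*} [Field K] {n : ℕ} (M : Matrix (Fin n) (Fin n) K)
    (h1 : ∀ a, ∃ c : K, M *ᵥ Pi.single a 1 = c • Pi.single a 1)
    (h2 : ∀ a b, a ≠ b → ∃ c : K, M *ᵥ (Pi.single a 1 + Pi.single b 1)
      = c • (Pi.single a (1 : K) + Pi.single b 1)) : ∃ c : K, M = c • 1 := by
  choose ca hca using h1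
  have heq : ∀ a b, ca a = ca b := by
    intro a b
    by_cases hab : a = b
    · rw [hab]
    obtain ⟨c, hc⟩ := h2 a b hab
    rw [Matrix.mulVec_add, hca, hca] at hc
    have ha := congrFun hc a
    have hb := congrFun hc b
    have hba : b ≠ a := fun h => hab h.symm
    simp [Pi.single_apply, hab, hba] at ha hb
    rw [ha, hb]
  rcases n with _ | n
  · exact ⟨0, Subsingleton.elim _ _⟩
  · refine ⟨ca 0, ?_⟩
    ext i j
    have := congrFun (hca j) i
    rw [Matrix.mulVec_single_one] at this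
    rw [show M i j = M.col j i from rfl, this, heq j 0]
    simp [Matrix.one_apply, Pi.single_apply]

theorem herm_eb : ∀ a : Fin 3, herm (eb a) (eb a) = 1 := by decide

theorem herm_eb2 : ∀ a b : Fin 3, a ≠ b →
    herm (F9.e11 • (eb a + eb b)) (F9.e11 • (eb a + eb b)) = 1 := by decide

theorem rel_of_mem_ker (g : SU3) (hg : g ∈ rhoU.ker) (v : V9) (hv : herm v v = 1) :
    rel9 (mat g *ᵥ v) v := by
  obtain ⟨i, hi⟩ := E1 v hv
  have h1 := (mem_ker_iff SU g).1 hg i
  have h2 : SU.rel (SU.app g v) (SU.app g (SU.P i)) := SU.rel_app g hi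
  exact SU.rel_trans (SU.rel_trans h2 h1) (SU.rel_symm hi)

theorem rhoU_injective : Function.Injective rhoU := by
  rw [injective_iff_map_eq_one]
  intro g hg
  have hg' : g ∈ rhoU.ker := hg
  obtain ⟨c, hc⟩ := scalar_of_eigen (mat g)
    (by
      intro a
      obtain ⟨c, _, hc⟩ := rel_of_mem_ker g hg' (eb a) (herm_eb a)
      exact ⟨c, hc⟩)
    (by
      intro a b hab
      obtain ⟨c, _, hc⟩ := rel_of_mem_ker g hg' _ (herm_eb2 a b hab)
      refine ⟨c, ?_⟩
      rw [Matrix.mulVec_smul, smul_comm] at hc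
      have h11 : (F9.e11 : F9) ≠ 0 := by decide
      have := congrArg (fun v => (F9.e11 : F9)⁻¹ • v) hc
      simp only [smul_smul, inv_mul_cancel₀ h11, one_smul] at this
      rw [← mul_assoc, inv_mul_cancel₀ h11, one_mul] at this
      exact this)
  have hdet : (mat g).det = 1 := g.1.2
  have h1 : c ^ 3 = 1 := by
    rw [hc, Matrix.det_smul, Matrix.det_one, mul_one] at hdet
    simpa using hdet
  have h2 : c * c ^ 3 = 1 := by
    have := herm_mat g (eb 0) (eb 0)
    rw [hc, Matrix.smul_mulVec, Matrix.one_mulVec, herm_eb] at this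
    have h3 : herm (c • eb 0) (c • eb 0) = c * c ^ 3 * herm (eb 0) (eb 0) := by
      unfold herm
      simp only [Pi.smul_apply, smul_eq_mul]
      ring
    rw [h3, herm_eb, mul_one] at this
    exact this
  have hc1 : c = 1 := E11 c h1 h2
  apply Subtype.ext
  apply Subtype.ext
  show mat g = 1
  rw [hc, hc1, one_smul]

end Cfsg.Agent.Lib.H14.U3A
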