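import Mathlib
import Cfsg.Agent.Lib.H14.U3A

set_option autoImplicit false
set_option linter.unusedSimpArgs false
set_option maxRecDepth 100000

/-! # The transvections of `SU(3,3)` as elements, and the centre -/

namespace Cfsg.Agent.Lib.H14.U3B

open Matrix hiding SpecialLinearGroup
open Matrix (SpecialLinearGroup)
open Cfsg.Agent.Lib.H14 Cfsg.Agent.Lib.H14.U4LineSys Cfsg.Agent.Lib.H14.U3Tab
  Cfsg.Agent.Lib.H14.G2Tab Cfsg.Agent.Lib.H14.U3A

/-- the Frobenius map -/
def frob9 : F9 →+* F9 where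
  toFun x := x ^ 3
  map_one' := by decide
  map_mul' := by decide
  map_zero' := by decide
  map_add' := by decide

theorem frob9_apply (x : F9) : frob9 x = x ^ 3 := rfl

/-- the matrix of a transvection -/
def Tm (k : Fin 28) (c : F9) : Matrix (Fin 3) (Fin 3) F9 := Cfsg.unitaryTransvection 3 3 (I9 k) c

theorem Tm_unitary : ∀ (k : Fin 28) (c : F9), c + c ^ 3 = 0 →
    (Tm k c)ᵀ * (Tm k c).map frob9 = 1 := by
  unfold Tm Cfsg.unitaryTransvection
  decide +kernel

theorem I9_iso : ∀ k : Fin 28, herm (I9 k) (I9 k) = 0 := by decide +kernel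

theorem Tm_det (k : Fin 28) (c : F9) : (Tm k c).det = 1 := by
  unfold Tm Cfsg.unitaryTransvection
  rw [← Matrix.smul_vecMulVec, Matrix.vecMulVec_eq (Fin 1),
    Matrix.det_one_add_replicateCol_mul_replicateRow]
  have h1 : (fun j => I9 k j ^ 3) ⬝ᵥ (c • I9 k) = c * herm (I9 k) (I9 k) := by
    simp only [dotProduct, Fin.sum_univ_three, herm, Pi.smul_apply, smul_eq_mul]
    ring
  rw [h1, I9_iso, mul_zero, add_zero]

/-- the transvections as elements of `SU(3,3)` -/
noncomputable def Tel (k : Fin 28) (c : F9) (hc : c + c ^ 3 = 0) : SU3 :=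
  ⟨⟨Tm k c, Tm_det k c⟩,
    (Cfsg.Agent.Lib.H2.Spec.mem_SU_iff_mul frob9 frob9_apply _).2 (Tm_unitary k c hc)⟩

theorem mat_Tel (k : Fin 28) (c : F9) (hc : c + c ^ 3 = 0) : mat (Tel k c hc) = Tm k c := rfl

theorem Tel_mulVec (k : Fin 28) (c : F9) (hc : c + c ^ 3 = 0) (x : V9) :
    mat (Tel k c hc) *ᵥ x = tv9 c (I9 k) x := by
  rw [mat_Tel]
  exact unitaryTransvection_mulVec c (I9 k) x

theorem rhoU_Tel (k : Fin 28) (c : F9) (hc : c + c ^ 3 = 0) (i : Fin 63) :
    rhoU (Tel k c hc) i = wp (wd k c) i := by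
  unfold rhoU
  rw [rho_eq_iff]
  exact (match_tv _ k c (Tel_mulVec k c hc)).2 i

theorem e01_tr : (F9.e01 : F9) + F9.e01 ^ 3 = 0 := by decide

/-- the 28 transvection permutations used to detect the centre -/
noncomputable def tp (k : Fin 28) : Equiv.Perm (Fin 63) := rhoU (Tel k F9.e01 e01_tr)

theorem tp_fix_of (k : Fin 28) (p : Fin 63) (h : herm (Q9 p) (I9 k) = 0) : tp k p = p := by
  unfold tp rhoU
  rw [rho_eq_iff, SU_rel, SU_app, SU_P, Tel_mulVec]
  unfold tv9
  rw [h, mul_zero, zero_smul, add_zero]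
  exact ⟨1, one_ne_zero, by rw [one_smul]⟩

theorem of_tp_fix (k : Fin 28) (q : Fin 63) (h : tp k q = q) : herm (Q9 q) (I9 k) = 0 := by
  unfold tp rhoU at h
  rw [rho_eq_iff, SU_rel, SU_app, SU_P, Tel_mulVec] at h
  exact E9 k q h

theorem tp_sep (p q : Fin 63) (h : ∀ k, tp k p = p → tp k q = q) : q = p := by
  refine E10 p q ?_
  intro k hk
  exact of_tp_fix k q (h k (tp_fix_of k p hk))

theorem center_SU3 : Subgroup.center SU3 = ⊥ := by
  rw [eq_bot_iff]
  intro g hg
  rw [Subgroup.mem_bot]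
  apply rhoU_injective
  rw [map_one]
  refine eq_one_of_commute tp tp_sep _ ?_
  intro k
  unfold tp
  rw [← map_mul, ← map_mul, (Subgroup.mem_center_iff.1 hg _)]

end Cfsg.Agent.Lib.H14.U3B
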