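import Mathlib
import Cfsg.Agent.Lib.H14.U3Tab

set_option autoImplicit false
set_option maxRecDepth 100000

/-! # More table checks for `G₂(2)′ ≅ PSU(3,3)` -/

namespace Cfsg.Agent.Lib.H14.U3Tab

open Matrix Cfsg.Agent.Lib.H14 Cfsg.Agent.Lib.H14.F9 Cfsg.Agent.Lib.H14.G2Tab

set_option maxHeartbeats 8000000 in
theorem E12 : ∀ (k : Fin 28) (c : F9), c + c ^ 3 = 0 →
    ∀ i, wp (wd k c) (wp (wd k c) (wp (wd k c) i)) = i := by decide +kernel

end Cfsg.Agent.Lib.H14.U3Tab
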