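import Mathlib
import Cfsg.Agent.Lib.H14.G2A
import Cfsg.Agent.Lib.H14.U3B
import Cfsg.Agent.Lib.H14.U3Tab2
import Cfsg.Agent.Lib.H14.CommClosure
import Cfsg.Agent.S0780

set_option autoImplicit false
set_option linter.unusedSimpArgs false

/-! # `G₂(2)′ ≅ PSU(3,3)` over the concrete fields -/

namespace Cfsg.Agent.Lib.H14.G2U3Main

open scoped commutatorElement
open Matrix hiding SpecialLinearGroup
open Matrix (SpecialLinearGroup)
open Cfsg.Lie Cfsg.Agent.Lib.H14 Cfsg.Agent.Lib.H14.U4LineSys Cfsg.Agent.Lib.H14.U3Tab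
  Cfsg.Agent.Lib.H14.G2Tab Cfsg.Agent.Lib.H14.U3A Cfsg.Agent.Lib.H14.U3B Cfsg.Agent.Lib.H14.G2A
  Cfsg.Agent.Lib.H14.CommClosure

/-- the generator permutations -/
noncomputable def gperm (r : Fin 12) : Equiv.Perm (Fin 63) := rhoG (xg r)

theorem gperm_apply (r : Fin 12) (i : Fin 63) : gperm r i = gp r i := rhoG_xg r i

theorem gperm_sq (r : Fin 12) : gperm r ^ 2 = 1 := by
  refine Equiv.Perm.ext fun i => ?_
  rw [pow_two, Equiv.Perm.mul_apply, gperm_apply, gperm_apply, gp_gp]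
  rfl

theorem gperm_inv (r : Fin 12) : (gperm r)⁻¹ = gperm r := by
  rw [inv_eq_iff_mul_eq_one, ← pow_two, gperm_sq]

/-- the transvection permutations -/
noncomputable def tau (k : Fin 28) (c : F9) : Equiv.Perm (Fin 63) := rhoG (wel (wd k c))

theorem tau_apply (k : Fin 28) (c : F9) (i : Fin 63) : tau k c i = wp (wd k c) i :=
  rhoG_wel _ i

theorem tau_eq_rhoU (k : Fin 28) (c : F9) (hc : c + c ^ 3 = 0) : tau k c = rhoU (Tel k c hc) := by
  refine Equiv.Perm.ext fun i => ?_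
  rw [tau_apply, rhoU_Tel]

theorem tau_cube (k : Fin 28) (c : F9) (hc : c + c ^ 3 = 0) : tau k c ^ 3 = 1 := by
  refine Equiv.Perm.ext fun i => ?_
  simp only [pow_succ, pow_zero, one_mul, Equiv.Perm.mul_apply, tau_apply, Equiv.Perm.one_apply]
  rw [E12 k c hc i]

/-- the generating set of `T` -/
def TauSet : Set (Equiv.Perm (Fin 63)) := {x | ∃ k c, c + c ^ 3 = 0 ∧ x = tau k c}

/-- the generating set of `R` -/
def GSet : Set (Equiv.Perm (Fin 63)) := Set.range gperm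

theorem range_rhoG : rhoG.range = Subgroup.closure GSet := by
  rw [MonoidHom.range_eq_map, ← closure_xg, MonoidHom.map_closure]
  congr 1
  ext x
  constructor
  · rintro ⟨_, ⟨r, rfl⟩, rfl⟩
    exact ⟨r, rfl⟩
  · rintro ⟨r, rfl⟩
    exact ⟨_, ⟨r, rfl⟩, rfl⟩

theorem card_F9 : Fintype.card F9 = 3 ^ 2 := by rw [F9.card_eq]; norm_num

theorem rhoU_gen (A : SU3) (hA : ∃ (v : V9) (c : F9), Cfsg.hermForm 3 F9 3 v v = 0 ∧
    ((A : SpecialLinearGroup (Fin 3) F9) : Matrix (Fin 3) (Fin 3) F9)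
      = Cfsg.unitaryTransvection 3 3 v c) : rhoU A ∈ TauSet := by
  obtain ⟨v, c, hv, hA⟩ := hA
  rw [herm_eq] at hv
  obtain ⟨k, c', hc', h⟩ := gen_match A v c hv hA
  refine ⟨k, c', hc', ?_⟩
  refine Equiv.Perm.ext fun i => ?_
  rw [tau_apply]
  unfold rhoU
  rw [rho_eq_iff]
  exact h i

theorem range_rhoU : rhoU.range = Subgroup.closure TauSet := by
  apply le_antisymm
  · rw [MonoidHom.range_eq_map,
      ← Cfsg.Agent.S0780.result (F := F9) (q := 3) card_F9 3 (le_refl 3) (by omega),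
      MonoidHom.map_closure, Subgroup.closure_le]
    rintro _ ⟨A, hA, rfl⟩
    exact Subgroup.subset_closure (rhoU_gen A hA)
  · rw [Subgroup.closure_le]
    rintro _ ⟨k, c, hc, rfl⟩
    rw [tau_eq_rhoU k c hc]
    exact ⟨_, rfl⟩

theorem tau_mem_R (k : Fin 28) (c : F9) : tau k c ∈ Subgroup.closure GSet := by
  rw [← range_rhoG]
  exact ⟨_, rfl⟩

/-- `T ≤ R'` -/
theorem T_le : Subgroup.closure TauSet ≤ ⁅Subgroup.closure GSet, Subgroup.closure GSet⁆ := by
  rw [Subgroup.closure_le]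
  rintro _ ⟨k, c, hc, rfl⟩
  have h1 : tau k c = ((tau k c) ^ 2) ^ 2 := by
    rw [← pow_mul]
    have : (2 * 2 : ℕ) = 3 + 1 := by norm_num
    rw [this, pow_succ, tau_cube k c hc, one_mul]
  rw [SetLike.mem_coe, h1]
  refine sq_mem_commutator GSet ?_ _ (pow_mem (tau_mem_R k c) 2)
  rintro _ ⟨r, rfl⟩
  exact gperm_sq r

theorem conj_tau (r : Fin 12) (k : Fin 28) (c : F9) (hc : c + c ^ 3 = 0) :
    gperm r * tau k c * (gperm r)⁻¹ ∈ Subgroup.closure TauSet := by
  obtain ⟨h1, h2⟩ := E7 r k c hc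
  apply Subgroup.subset_closure
  refine ⟨(cj r k c).1, (cj r k c).2, h1, ?_⟩
  refine Equiv.Perm.ext fun i => ?_
  rw [gperm_inv]
  simp only [Equiv.Perm.mul_apply, gperm_apply, tau_apply]
  rw [h2 i]

theorem tpw_mem (w : List (Fin 28 × F9)) (hw : ∀ p ∈ w, p.2 + p.2 ^ 3 = 0) :
    ∃ x ∈ Subgroup.closure TauSet, ∀ i, x i = tpw w i := by
  induction w with
  | nil => exact ⟨1, one_mem _, fun i => rfl⟩
  | cons p w ih =>
    obtain ⟨x, hx, hxi⟩ := ih (fun q hq => hw q (List.mem_cons_of_mem _ hq))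
    refine ⟨tau p.1 p.2 * x, mul_mem (Subgroup.subset_closure
      ⟨p.1, p.2, hw p List.mem_cons_self, rfl⟩) hx, ?_⟩
    intro i
    rw [Equiv.Perm.mul_apply, tau_apply, hxi]
    rfl

theorem comm_gperm (r s : Fin 12) : ⁅gperm r, gperm s⁆ ∈ Subgroup.closure TauSet := by
  obtain ⟨h1, h2⟩ := E8 r s
  obtain ⟨x, hx, hxi⟩ := tpw_mem (cw r s) h1
  have : ⁅gperm r, gperm s⁆ = x := by
    refine Equiv.Perm.ext fun i => ?_
    rw [commutatorElement_def, gperm_inv, gperm_inv]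
    simp only [Equiv.Perm.mul_apply, gperm_apply]
    rw [h2 i, hxi]
  rw [this]
  exact hx

/-- `R' ≤ T` -/
theorem le_T : ⁅Subgroup.closure GSet, Subgroup.closure GSet⁆ ≤ Subgroup.closure TauSet := by
  apply commutator_closure_le
  · rintro _ ⟨r, rfl⟩
    refine conj_mem_of_involution (gperm r) (gperm_sq r) TauSet ?_
    rintro _ ⟨k, c, hc, rfl⟩
    exact conj_tau r k c hc
  · rintro _ ⟨r, rfl⟩ _ ⟨s, rfl⟩
    exact comm_gperm r s

theorem comm_range : ⁅rhoG.range, rhoG.range⁆ = rhoU.range := by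
  rw [range_rhoG, range_rhoU]
  exact le_antisymm le_T T_le

/-- the isomorphism over the concrete fields -/
theorem main : Nonempty (↥(commutator G22) ≃* Cfsg.PSU 3 F9 3) := by
  have h1 : (commutator G22).map rhoG = rhoU.range := by
    rw [commutator_def, Subgroup.map_commutator, ← MonoidHom.range_eq_map]
    exact comm_range
  have e1 : ↥(commutator G22) ≃* ↥((commutator G22).map rhoG) :=
    (commutator G22).equivMapOfInjective rhoG rhoG_injective
  have e2 : ↥((commutator G22).map rhoG) ≃* ↥rhoU.range := MulEquiv.subgroupCongr h1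
  have e3 : SU3 ≃* ↥rhoU.range := MonoidHom.ofInjective rhoU_injective
  have e4 : SU3 ≃* Cfsg.PSU 3 F9 3 := by
    have := QuotientGroup.quotientBot (G := SU3)
    exact this.symm.trans (QuotientGroup.quotientMulEquivOfEq center_SU3.symm)
  exact ⟨(e1.trans e2).trans (e3.symm.trans e4)⟩

end Cfsg.Agent.Lib.H14.G2U3Main
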