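import Cfsg.Agent.Lib.H1.G85.Defs
import Cfsg.Agent.Lib.H5.Glaub.OddCore
import Cfsg.Agent.Lib.H5.S4Recog
import Cfsg.Agent.Lib.H14.GlaubT6
import Cfsg.Agent.Lib.H16.GlaubTQ
import Cfsg.Agent.Lib.H19.G85ABS

/-!
S4385 piece (C23): the case `(q,t) = (2,3)`, `H_0 / O(H_0) ≅ S_4`.
Blueprint: tools/blueprints/S4385.md.
-/

set_option autoImplicit false

open scoped Pointwise
open Cfsg.Agent.Lib.H5.Glaub Cfsg.Agent.Lib.H5.Glaub.Setup Cfsg.Agent.Lib.H1.G85

namespace Cfsg.Agent.Lib.H14.G85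

section abstract

variable {K : Type*} [Group K] [Finite K]

/-- the statement of the piece (ABS) `quot_facts`, for a fixed pair `Q ≤ P` -/
def QuotFacts (Q P : Subgroup K) : Prop :=
  Nat.card (K ⧸ Cfsg.oddCore K) = (Subgroup.centralizer (Q : Set K)).index * Nat.card Q ∧
    Subgroup.centralizer ((Q.map (QuotientGroup.mk' (Cfsg.oddCore K)) : Subgroup (K ⧸ Cfsg.oddCore K)) :
      Set (K ⧸ Cfsg.oddCore K)) ≤ Q.map (QuotientGroup.mk' (Cfsg.oddCore K)) ∧
    (∀ g ∈ P, (QuotientGroup.mk' (Cfsg.oddCore K)) g = 1 → g = 1)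

/-- a normal four-group on which `a`, `b` act as two different transvections has a centraliser of
index `6`, provided some subgroup `P ≥ Q` of order `8` has odd index -/
theorem index_centralizer_six (Q P : Subgroup K) [Q.Normal] (hQP : Q ≤ P)
    (hQ4 : Nat.card Q = 4) (hP8 : Nat.card P = 8) (hPs : ¬ 2 ∣ P.index)
    (a b u1 u2 : K) (ha2 : a * a = 1) (hu1 : u1 ∈ Q) (hu2 : u2 ∈ Q)
    (hQc : ∀ v ∈ Q, ∀ w ∈ Q, v * w = w * v)
    (hau1 : a * u1 = u1 * a) (hau2 : a * u2 ≠ u2 * a) (hbu1 : b * u1 ≠ u1 * b) :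
    (Subgroup.centralizer (Q : Set K)).index = 6 := by
  set f : K →* Equiv.Perm Q := (MulAut.toPerm Q).comp (MulAut.conjNormal (H := Q)) with hf
  have hfapp : ∀ (g : K) (q : Q), ((f g q : Q) : K) = g * q * g⁻¹ := fun g q => rfl
  have hker : f.ker = Subgroup.centralizer (Q : Set K) := by
    ext g
    rw [MonoidHom.mem_ker, Subgroup.mem_centralizer_iff]
    constructor
    · intro hg q hq
      have h1 : ((f g ⟨q, hq⟩ : Q) : K) = q := by rw [hg]; rfl
      rw [hfapp] at h1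
      have h2 : g * q = q * g := mul_inv_eq_iff_eq_mul.1 h1
      exact h2.symm
    · intro hg
      ext q
      rw [hfapp]
      have h2 : g * q = q * g := (hg q q.2).symm
      rw [h2, mul_inv_cancel_right]
      rfl
  set C : Subgroup K := Subgroup.centralizer (Q : Set K) with hC
  have hd24 : C.index ∣ 24 := by
    rw [← hker, Subgroup.index_ker]
    have h1 := Subgroup.card_subgroup_dvd_card f.range
    have h2 : Nat.card (Equiv.Perm Q) = 24 := by rw [Nat.card_perm, hQ4]; rfl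
    rwa [h2] at h1
  have hQC : Q ≤ C := by
    intro q hq
    rw [hC, Subgroup.mem_centralizer_iff]
    intro w hw
    exact hQc w hw q hq
  have hrel : Q.relIndex P = 2 := by
    have h := Subgroup.relIndex_mul_relIndex ⊥ Q P bot_le hQP
    rw [Subgroup.relIndex_bot_left, Subgroup.relIndex_bot_left, hQ4, hP8] at h
    omega
  have hQidx : Q.index = 2 * P.index := by
    rw [← Subgroup.relIndex_mul_index hQP, hrel]
  have hd2m : C.index ∣ 2 * P.index := by
    rw [← hQidx]; exact Subgroup.index_dvd_of_le hQC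
  have h4 : ¬ 4 ∣ C.index := by
    intro h
    have h1 : 4 ∣ 2 * P.index := h.trans hd2m
    apply hPs
    omega
  have hpos : 0 < C.index := Nat.pos_of_ne_zero Subgroup.index_ne_zero_of_finite
  -- elements of the range
  have haC : a ∉ C := by
    intro h
    rw [hC, Subgroup.mem_centralizer_iff] at h
    exact hau2 (h u2 hu2).symm
  have hbC : b ∉ C := by
    intro h
    rw [hC, Subgroup.mem_centralizer_iff] at h
    exact hbu1 (h u1 hu1).symm
  have habC : a⁻¹ * b ∉ C := by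
    intro h
    rw [hC, Subgroup.mem_centralizer_iff] at h
    have h1 := h u1 hu1
    apply hbu1
    have h2 : a * (u1 * (a⁻¹ * b)) = a * (a⁻¹ * b * u1) := by rw [h1]
    have h3 : a * (u1 * (a⁻¹ * b)) = u1 * b := by
      rw [← mul_assoc, hau1, mul_assoc, mul_inv_cancel_left]
    have h4' : a * (a⁻¹ * b * u1) = b * u1 := by
      rw [mul_assoc, mul_inv_cancel_left]
    rw [h3, h4'] at h2
    exact h2.symm
  have hfa : f a ≠ 1 := fun h => haC (hker ▸ (MonoidHom.mem_ker.2 h))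
  have hfab : f a ≠ f b := by
    intro h
    apply habC
    rw [← hker, MonoidHom.mem_ker, map_mul, map_inv, h, inv_mul_cancel]
  have hfb : f b ≠ 1 := fun h => hbC (hker ▸ (MonoidHom.mem_ker.2 h))
  have hfa2 : f a * f a = 1 := by rw [← map_mul, ha2, map_one]
  have hcardR : Nat.card f.range = C.index := by rw [← hker, Subgroup.index_ker]
  set α : f.range := ⟨f a, MonoidHom.mem_range.2 ⟨a, rfl⟩⟩ with hα
  set β : f.range := ⟨f b, MonoidHom.mem_range.2 ⟨b, rfl⟩⟩ with hβ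
  have hα1 : α ≠ 1 := fun h => hfa (congrArg Subtype.val h)
  have hβ1 : β ≠ 1 := fun h => hfb (congrArg Subtype.val h)
  have hαβ : α ≠ β := fun h => hfab (congrArg Subtype.val h)
  have hα2 : α * α = 1 := Subtype.ext hfa2
  have hle : C.index ≤ 24 := Nat.le_of_dvd (by norm_num) hd24
  have hcases : C.index = 1 ∨ C.index = 2 ∨ C.index = 3 ∨ C.index = 6 := by
    generalize C.index = d at hd24 h4 hpos hle
    interval_cases d <;> omega
  rcases hcases with h | h | h | h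
  · exfalso
    rw [← hcardR] at h
    have hs : Subsingleton f.range := (Nat.card_eq_one_iff_unique.1 h).1
    exact hα1 (Subsingleton.elim _ _)
  · exfalso
    rw [← hcardR] at h
    obtain ⟨z, _, hz⟩ := (Nat.card_eq_two_iff' (1 : f.range)).1 h
    exact hαβ ((hz α hα1).trans (hz β hβ1).symm)
  · exfalso
    rw [← hcardR] at h
    have h3 : α ^ 3 = 1 := by rw [← h]; exact pow_card_eq_one'
    apply hα1
    calc α = α ^ 3 * (α * α)⁻¹ := by group
      _ = 1 := by rw [h3, hα2]; simp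
  · exact h

/-- abstract form of (C23) -/
theorem s4_of_transvections (Q P : Subgroup K) [Q.Normal] (hQP : Q ≤ P)
    (hQ4 : Nat.card Q = 4) (hP8 : Nat.card P = 8) (hPs : ¬ 2 ∣ P.index)
    (a b u1 u2 : K) (ha2 : a * a = 1) (hb : b ∈ P) (hu1 : u1 ∈ Q) (hu2 : u2 ∈ Q)
    (hQc : ∀ v ∈ Q, ∀ w ∈ Q, v * w = w * v) (hQsq : ∀ v ∈ Q, v * v = 1)
    (hau1 : a * u1 = u1 * a) (hau2 : a * u2 ≠ u2 * a) (hbu1 : b * u1 ≠ u1 * b)
    (hQF : IsPGroup 2 P → (Subgroup.centralizer (Q : Set K) ⊓ P ≤ Q) → QuotFacts Q P) :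
    Nonempty (K ⧸ Cfsg.oddCore K ≃* Equiv.Perm (Fin 4)) := by
  have hidx := index_centralizer_six Q P hQP hQ4 hP8 hPs a b u1 u2 ha2 hu1 hu2 hQc hau1 hau2 hbu1
  have hPp : IsPGroup 2 P := IsPGroup.of_card (n := 3) (by rw [hP8]; norm_num)
  have hCP : Subgroup.centralizer (Q : Set K) ⊓ P ≤ Q := by
    have hle1 : Q ≤ Subgroup.centralizer (Q : Set K) ⊓ P := by
      refine le_inf ?_ hQP
      intro q hq
      rw [Subgroup.mem_centralizer_iff]
      intro w hw
      exact hQc w hw q hq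
    have hne : Subgroup.centralizer (Q : Set K) ⊓ P ≠ P := by
      intro he
      have hbm : b ∈ Subgroup.centralizer (Q : Set K) ⊓ P := by rw [he]; exact hb
      have := Subgroup.mem_centralizer_iff.1 (Subgroup.mem_inf.1 hbm).1 u1 hu1
      exact hbu1 this.symm
    have := Cfsg.Agent.Lib.H14.Glaub.eq_of_card_pow' (p := 2) (n := 2) Nat.prime_two
      (by rw [hQ4]; norm_num) (by rw [hP8]; norm_num) hle1 inf_le_right hne
    rw [this]
  obtain ⟨hcard, hcent, hinj⟩ := hQF hPp hCP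
  rw [hidx, hQ4] at hcard
  set O : Subgroup K := Cfsg.oddCore K with hO
  have hQO : Q ⊓ O = ⊥ := by
    rw [eq_bot_iff]
    intro g hg
    rw [Subgroup.mem_bot]
    apply hinj g (hQP hg.1)
    exact (QuotientGroup.eq_one_iff g).2 hg.2
  have hVn : (Q.map (QuotientGroup.mk' O)).Normal :=
    Subgroup.Normal.map inferInstance _ (QuotientGroup.mk'_surjective O)
  have hVcard : Nat.card (Q.map (QuotientGroup.mk' O)) = 4 := by
    rw [card_map_mk Q O hQO, hQ4]
  have hVk : IsKleinFour (Q.map (QuotientGroup.mk' O)) := by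
    refine isKleinFour_of_card_of_sq hVcard ?_
    rintro ⟨_, q, hq, rfl⟩
    apply Subtype.ext
    have h1 : (QuotientGroup.mk' O q) ^ 2 = 1 := by
      rw [← map_pow, pow_two, hQsq q hq, map_one]
    simpa using h1
  exact Cfsg.Agent.Lib.H5.S4Recog.nonempty_mulEquiv_perm_four (by rw [hcard]) _ hVk hcent

end abstract

section chain

variable {G : Type*} [Group G] [Finite G]

omit [Finite G] in
theorem gen_mem (S : Setup G) {t : ℕ} {x : ℤ → G} (hx : Gen S t x) (k : ℤ) : x k ∈ S.X t k := by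
  rw [hx.X_eq k]; exact Subgroup.mem_zpowers _

omit [Finite G] in
theorem comm_of_gen_comm (S : Setup G) {t : ℕ} {x : ℤ → G} (hx : Gen S t x) {i j : ℤ}
    (h : x i * x j = x j * x i) : Comm (S.X t i) (S.X t j) := by
  intro a ha b hb
  rw [hx.X_eq i] at ha
  rw [hx.X_eq j] at hb
  obtain ⟨m, rfl⟩ := Subgroup.mem_zpowers_iff.1 ha
  obtain ⟨n, rfl⟩ := Subgroup.mem_zpowers_iff.1 hb
  exact (Commute.zpow_zpow (show Commute (x i) (x j) from h) m n).eq

/-- (C23) modulo the abstract piece (ABS) -/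
theorem case23_of (S : Setup G) (hp2 : S.p = 2) (hU : S.Uni 3) (hI : S.Ivl 3) (hD : S.Dist 3 2)
    (x : ℤ → G) (hx : Gen S 3 x) (hodd : ¬ 2 ∣ (S.Pj 0).relIndex (H0 S))
    (hQF : ∀ (Q P : Subgroup ↥(H0 S)) [Q.Normal], Q ≤ P → IsPGroup 2 P → ¬ 2 ∣ P.index →
      (∀ a ∈ Q, ∀ b ∈ Q, a * b = b * a) → Subgroup.centralizer (Q : Set ↥(H0 S)) ⊓ P ≤ Q →
      QuotFacts Q P) :
    Nonempty (↥(H0 S) ⧸ Cfsg.oddCore ↥(H0 S) ≃* Equiv.Perm (Fin 4)) := by
  have e1 : S.Pj (-1) = S.Iv 3 (-3) (-1) := by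
    have := hI.Pj_eq (-1)
    rw [this]; congr 1
  have e0 : S.Pj 0 = S.Iv 3 (-2) 0 := by
    have := hI.Pj_eq 0
    rw [this]; congr 1
  have hQP0 : S.Iv 3 (-2) (-1) ≤ S.Pj 0 := by
    rw [e0]; exact S.Iv_mono 3 le_rfl (by norm_num)
  have hQH : S.Iv 3 (-2) (-1) ≤ H0 S := hQP0.trans (Pj_zero_le_H0 S)
  have hnorm : H0 S ≤ Subgroup.normalizer ((S.Iv 3 (-2) (-1) : Subgroup G) : Set G) := by
    apply sup_le
    · rw [e1]
      apply Cfsg.Agent.Lib.H14.Glaub.le_normalizer_of_conj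
      intro g hg a ha
      exact Cfsg.Agent.Lib.H16.Glaub.Iv_conj_right S hI (a := -3) (a' := -2) (b := -1)
        (by norm_num) (by norm_num) (by norm_num) hg ha
    · rw [e0]
      apply Cfsg.Agent.Lib.H14.Glaub.le_normalizer_of_conj
      intro g hg a ha
      exact Cfsg.Agent.Lib.H16.Glaub.Iv_conj_left S hI (a := -2) (b := 0) (b' := -1)
        (by norm_num) (by norm_num) (by norm_num) hg ha
  have hQn : ((S.Iv 3 (-2) (-1)).subgroupOf (H0 S)).Normal :=
    (Subgroup.normal_subgroupOf_iff_le_normalizer hQH).2 hnorm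
  have hQ4 : Nat.card ((S.Iv 3 (-2) (-1)).subgroupOf (H0 S)) = 4 := by
    rw [Nat.card_congr (Subgroup.subgroupOfEquivOfLe hQH).toEquiv,
      hI.card (-2) (-1) (by norm_num) (by norm_num), hp2]
    decide
  have hP8 : Nat.card ((S.Pj 0).subgroupOf (H0 S)) = 8 := by
    rw [Nat.card_congr (Subgroup.subgroupOfEquivOfLe (Pj_zero_le_H0 S)).toEquiv, e0,
      hI.card (-2) 0 (by norm_num) (by norm_num), hp2]
    decide
  have hQP : (S.Iv 3 (-2) (-1)).subgroupOf (H0 S) ≤ (S.Pj 0).subgroupOf (H0 S) := by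
    intro g hg
    rw [Subgroup.mem_subgroupOf] at hg ⊢
    exact hQP0 hg
  -- the four elements
  have hxm3 : x (-3) ∈ H0 S := by
    apply Pj_neg_one_le_H0 S
    rw [e1]
    exact S.X_le_Iv 3 le_rfl (by norm_num) (gen_mem S hx (-3))
  have hx0P : x 0 ∈ S.Pj 0 := by
    rw [e0]
    exact S.X_le_Iv 3 (by norm_num) le_rfl (gen_mem S hx 0)
  have hxm2 : x (-2) ∈ S.Iv 3 (-2) (-1) := S.X_le_Iv 3 le_rfl (by norm_num) (gen_mem S hx (-2))
  have hxm1 : x (-1) ∈ S.Iv 3 (-2) (-1) := S.X_le_Iv 3 (by norm_num) le_rfl (gen_mem S hx (-1))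
  have hQcomm : Comm (S.Iv 3 (-2) (-1)) (S.Iv 3 (-2) (-1)) := by
    apply Cfsg.Agent.Lib.H14.Glaub.comm_Iv_Iv
    intro i j h1 h2 h3 h4
    exact hD.comm i j (abs_lt.2 ⟨by push_cast; omega, by push_cast; omega⟩)
  refine s4_of_transvections ((S.Iv 3 (-2) (-1)).subgroupOf (H0 S)) ((S.Pj 0).subgroupOf (H0 S))
    hQP hQ4 hP8 hodd ⟨x (-3), hxm3⟩ ⟨x 0, Pj_zero_le_H0 S hx0P⟩ ⟨x (-2), hQH hxm2⟩
    ⟨x (-1), hQH hxm1⟩ ?_ ?_ ?_ ?_ ?_ ?_ ?_ ?_ ?_ ?_
  · exact Subtype.ext (hx.sq (-3))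
  · exact Subgroup.mem_subgroupOf.2 hx0P
  · exact Subgroup.mem_subgroupOf.2 hxm2
  · exact Subgroup.mem_subgroupOf.2 hxm1
  · intro v hv w hw
    exact Subtype.ext (hQcomm v.1 (Subgroup.mem_subgroupOf.1 hv) w.1 (Subgroup.mem_subgroupOf.1 hw))
  · intro v hv
    exact Subtype.ext (Cfsg.Agent.Lib.H14.Glaub.Iv_sq S hp2 3 2 hU hD (a := -2) (b := -1)
      (by norm_num) (Subgroup.mem_subgroupOf.1 hv))
  · exact Subtype.ext (hD.comm (-3) (-2) (abs_lt.2 ⟨by norm_num, by norm_num⟩) _ (gen_mem S hx (-3))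
      _ (gen_mem S hx (-2)))
  · intro h
    have h1 : x (-3) * x (-1) = x (-1) * x (-3) := congrArg Subtype.val h
    have hn := hD.ncomm (-3)
    have e : (-3 : ℤ) + ((2 : ℕ) : ℤ) = -1 := by norm_num
    rw [e] at hn
    exact hn (comm_of_gen_comm S hx h1)
  · intro h
    have h1 : x 0 * x (-2) = x (-2) * x 0 := congrArg Subtype.val h
    have hn := hD.ncomm (-2)
    have e : (-2 : ℤ) + ((2 : ℕ) : ℤ) = 0 := by norm_num
    rw [e] at hn
    exact hn (comm_of_gen_comm S hx h1.symm)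
  · intro hPp hCP
    exact hQF _ _ hQP hPp hodd (fun v hv w hw => Subtype.ext
      (hQcomm v.1 (Subgroup.mem_subgroupOf.1 hv) w.1 (Subgroup.mem_subgroupOf.1 hw))) hCP

/-- (C23) `(q,t) = (2,3)`. -/
theorem case23 (S : Setup G) (hp2 : S.p = 2) (hU : S.Uni 3) (hI : S.Ivl 3) (hD : S.Dist 3 2) (hC : S.Cen 3 2)
    (x : ℤ → G) (hx : Gen S 3 x) (hodd : ¬ 2 ∣ (S.Pj 0).relIndex (H0 S)) :
    Nonempty (↥(H0 S) ⧸ Cfsg.oddCore ↥(H0 S) ≃* Equiv.Perm (Fin 4)) := by
  have _ := hC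
  exact case23_of S hp2 hU hI hD x hx hodd
    (fun Q P _ hQP hP hPs hQc hC' => Cfsg.Agent.Lib.H19.G85.quot_facts Q P hQP hP hPs hQc hC')

end chain

end Cfsg.Agent.Lib.H14.G85
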