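import Mathlib
import Cfsg.Prelude.Def_Blocks
import Cfsg.Prelude.Def_Characters
import Cfsg.Agent.Lib.H23.GagDefs
import Cfsg.Agent.S0193
import Cfsg.Agent.Lib.H23.FullyRamified
import Cfsg.Agent.Lib.H23.DegreeDvd
import Cfsg.Agent.Lib.L0.CharIndChar
import Cfsg.Agent.Lib.L0.CharOps

/-!
# S4561 (Gagola), piece CHI (helper14): `χ = ϑ^{Tw}` is irreducible of degree `p χ₀(1)^p`.
-/

set_option autoImplicit false

universe u

namespace Cfsg.Agent.Lib.H14.GAG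

open Cfsg Cfsg.Agent.Lib.H23.Gag

section tw

variable {H₀ : Type u} [Group H₀] [Finite H₀] (p : ℕ) [Fact p.Prime]

/-- the element `b = (1,1,1,0)` of the base group -/
def chiB (H₀ : Type u) [Group H₀] (p : ℕ) : Tw H₀ p := ⟨1, 1, 1, 0⟩

theorem chiB_mem (H₀ : Type u) [Group H₀] (p : ℕ) : chiB H₀ p ∈ Tw.base H₀ p := rfl

theorem chi_conj_b (x : Tw H₀ p) :
    x * chiB H₀ p * x⁻¹ = ⟨1, 1, 1, Multiplicative.toAdd x.s⟩ := by
  ext t
  · rw [Tw.conj_f]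
    simp [chiB]
  · rw [Tw.conj_s]; rfl
  · rw [Tw.conj_v]; rfl
  · simp only [chiB, Tw.mul_c, Tw.inv_c, Tw.mul_s, Tw.inv_v, mul_one, mul_neg, add_zero]
    ring

/-- the element `(1,1,1,c)` of the base group -/
def mkB (H₀ : Type u) [Group H₀] (p : ℕ) (c : ZMod p) : ↥(Tw.base H₀ p) :=
  ⟨⟨1, 1, 1, c⟩, Tw.mem_base.mpr rfl⟩

theorem theta_mk_one (χ₀ : H₀ → ℂ) (c : ZMod p) :
    Tw.theta p χ₀ (mkB H₀ p c) = (χ₀ 1) ^ p * (ZMod.stdAddChar c : ℂ) := by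
  unfold Tw.theta mkB
  simp only [Pi.one_apply, Finset.prod_const, Finset.card_univ]
  congr 2
  have : Fintype.card (Cp p) = p := by
    change Fintype.card (Multiplicative (ZMod p)) = p
    rw [Fintype.card_multiplicative, ZMod.card]
  rw [this]

theorem stab_theta_iff (χ₀ : IrrCharacter H₀)
    (hθ : IsIrrCharacter ↥(Tw.base H₀ p) (Tw.theta p (χ₀ : H₀ → ℂ))) (g : Tw H₀ p) :
    (∀ h : ↥(Tw.base H₀ p), Tw.theta p (χ₀ : H₀ → ℂ)
        ⟨g * h * g⁻¹, (Tw.base_normal (H₀ := H₀) (p := p)).conj_mem h h.2 g⟩ =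
          Tw.theta p (χ₀ : H₀ → ℂ) h) ↔ g ∈ Tw.base H₀ p := by
  constructor
  · intro h
    by_contra hg
    have hb := h ⟨chiB H₀ p, chiB_mem H₀ p⟩
    have e1 : (⟨g * (chiB H₀ p) * g⁻¹,
        (Tw.base_normal (H₀ := H₀) (p := p)).conj_mem _ (chiB_mem H₀ p) g⟩ : ↥(Tw.base H₀ p)) =
        mkB H₀ p (Multiplicative.toAdd g.s) := by
      apply Subtype.ext
      exact chi_conj_b p g
    rw [e1, theta_mk_one] at hb
    have e2 : (⟨chiB H₀ p, chiB_mem H₀ p⟩ : ↥(Tw.base H₀ p)) = mkB H₀ p 0 := rfl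
    rw [e2, theta_mk_one] at hb
    have h1 : ((χ₀ : H₀ → ℂ) 1) ^ p ≠ 0 := by
      apply pow_ne_zero
      rw [Cfsg.Agent.Lib.H23.apply_one_eq_charDegree _ χ₀.2]
      exact_mod_cast (Cfsg.Agent.Lib.H23.charDegree_pos _ χ₀.2).ne'
    have h2 := mul_left_cancel₀ h1 hb
    have h3 : (ZMod.stdAddChar (N := p) (Multiplicative.toAdd g.s)) =
        ZMod.stdAddChar (N := p) 0 := by
      exact_mod_cast h2
    have h4 := ZMod.injective_stdAddChar (N := p) h3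
    apply hg
    rw [Tw.mem_base]
    exact Multiplicative.toAdd.injective h4
  · intro hg h
    have hcf := Cfsg.Agent.Lib.L0.isClassFunction_of_isCharacter
      (Cfsg.Agent.Lib.L0.isCharacter_of_irr hθ)
    have := hcf h ⟨g, hg⟩
    convert this using 2
    exact Subtype.ext rfl

/-- projection onto the `s`-coordinate -/
def sHom (H₀ : Type u) [Group H₀] (p : ℕ) : Tw H₀ p →* Cp p where
  toFun x := x.s
  map_one' := rfl
  map_mul' _ _ := rfl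

theorem sHom_surjective (H₀ : Type u) [Group H₀] (p : ℕ) : Function.Surjective (sHom H₀ p) :=
  fun s => ⟨⟨1, s, 0, 0⟩, rfl⟩

theorem isIrrCharacter_chi (χ₀ : IrrCharacter H₀)
    (hθ : IsIrrCharacter ↥(Tw.base H₀ p) (Tw.theta p (χ₀ : H₀ → ℂ))) :
    IsIrrCharacter (Tw H₀ p) (Tw.chi p (χ₀ : H₀ → ℂ)) ∧
      charDegree (Tw.chi p (χ₀ : H₀ → ℂ) : Tw H₀ p → ℂ) = p * (charDegree (χ₀ : H₀ → ℂ)) ^ p := by
  classical
  have hS := Cfsg.Agent.S0193.result (Tw.base H₀ p) (Tw.theta p (χ₀ : H₀ → ℂ)) hθ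
  have hcard : Nat.card {g : Tw H₀ p // ∀ h : ↥(Tw.base H₀ p), Tw.theta p (χ₀ : H₀ → ℂ)
        ⟨g * h * g⁻¹, (Tw.base_normal (H₀ := H₀) (p := p)).conj_mem h h.2 g⟩ =
          Tw.theta p (χ₀ : H₀ → ℂ) h} = Nat.card ↥(Tw.base H₀ p) := by
    apply Nat.card_congr
    exact Equiv.subtypeEquivRight (fun g => stab_theta_iff p χ₀ hθ g)
  rw [hcard] at hS
  have hne : (Nat.card ↥(Tw.base H₀ p) : ℂ) ≠ 0 := Nat.cast_ne_zero.mpr Nat.card_pos.ne'
  have hinner : Cfsg.classInner (Tw.chi p (χ₀ : H₀ → ℂ)) (Tw.chi p (χ₀ : H₀ → ℂ)) = 1 := by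
    have : (Nat.card ↥(Tw.base H₀ p) : ℂ) *
        Cfsg.classInner (Tw.chi p (χ₀ : H₀ → ℂ)) (Tw.chi p (χ₀ : H₀ → ℂ)) =
        (Nat.card ↥(Tw.base H₀ p) : ℂ) * 1 := by
      rw [mul_one]; exact hS
    exact mul_left_cancel₀ hne this
  have hchar : IsCharacter (Tw H₀ p) (Tw.chi p (χ₀ : H₀ → ℂ)) :=
    Cfsg.Agent.Lib.L0.isCharacter_indFun (Tw.base H₀ p) (Cfsg.Agent.Lib.L0.isCharacter_of_irr hθ)
  refine ⟨Cfsg.Agent.Lib.L0.isIrrCharacter_of_classInner_self_eq_one hchar hinner, ?_⟩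
  apply Cfsg.Agent.Lib.H23.charDegree_eq_of_apply_one
  have h1 : Tw.chi p (χ₀ : H₀ → ℂ) 1 =
      ((Tw.base H₀ p).index : ℂ) * Tw.theta p (χ₀ : H₀ → ℂ) 1 :=
    Cfsg.Agent.Lib.H23.indFun_one' (Tw.base H₀ p) (Tw.theta p (χ₀ : H₀ → ℂ))
  have hidx : (Tw.base H₀ p).index = p := by
    have hker : Tw.base H₀ p = (sHom H₀ p).ker := by
      ext x
      rw [MonoidHom.mem_ker]
      rfl
    rw [hker, Subgroup.index_ker, MonoidHom.range_eq_top.mpr (sHom_surjective H₀ p)]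
    rw [Nat.card_congr (Subgroup.topEquiv (G := Cp p)).toEquiv]
    change Nat.card (Multiplicative (ZMod p)) = p
    rw [Nat.card_eq_fintype_card, Fintype.card_multiplicative, ZMod.card]
  have h2 : Tw.theta p (χ₀ : H₀ → ℂ) 1 = ((χ₀ : H₀ → ℂ) 1) ^ p := by
    have e : (1 : ↥(Tw.base H₀ p)) = ⟨⟨1, 1, 0, 0⟩, Tw.mem_base.mpr rfl⟩ := rfl
    rw [e]
    unfold Tw.theta
    simp only [Pi.one_apply, Finset.prod_const, Finset.card_univ]
    have : Fintype.card (Cp p) = p := by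
      change Fintype.card (Multiplicative (ZMod p)) = p
      rw [Fintype.card_multiplicative, ZMod.card]
    rw [this]
    simp
  rw [h1, hidx, h2, Cfsg.Agent.Lib.H23.apply_one_eq_charDegree _ χ₀.2]
  push_cast
  rfl

end tw

end Cfsg.Agent.Lib.H14.GAG
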