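import Mathlib
import Cfsg.Prelude.Def_Blocks
import Cfsg.Prelude.Def_Characters
import Cfsg.Agent.Lib.H8.GAGBOUND
import Cfsg.Agent.Lib.H23.FullyRamified
import Cfsg.Agent.Lib.H24.CharBasic
import Cfsg.Agent.Lib.L0.CharOps

/-!
# S4561 (Gagola), piece PIZ (helper14): in a group of central type every prime divisor of `|H|`
divides `|Z(H)|`.
-/

set_option autoImplicit false

namespace Cfsg.Agent.Lib.H14.GAG

open Cfsg
open scoped ComplexConjugate

/-- A character of central type vanishes off the centre. -/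
theorem vanish_off_center {H : Type*} [Group H] [Fintype H] (χ : IrrCharacter H)
    (hdeg : (charDegree (χ : H → ℂ)) ^ 2 = (Subgroup.center H).index) (g : H)
    (hg : g ∉ Subgroup.center H) : (χ : H → ℂ) g = 0 := by
  classical
  set d := charDegree (χ : H → ℂ) with hd
  have hd1 : ((d : ℕ) : ℂ) = (χ : H → ℂ) 1 := Cfsg.Agent.Lib.H24.charDegree_irr χ
  have hn1 : ‖(χ : H → ℂ) 1‖ ^ 2 = (d : ℝ) ^ 2 := by
    rw [← hd1]
    simp
  have h4 : ∑ n : Subgroup.center H, ‖(χ : H → ℂ) n‖ ^ 2 =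
      (Nat.card (Subgroup.center H) : ℝ) * (d : ℝ) ^ 2 := by
    rw [Finset.sum_congr rfl (fun (n : Subgroup.center H) _ =>
      (Cfsg.Agent.Lib.H8.GAG.norm_irr_center χ n.2).trans hn1),
      Finset.sum_const, Finset.card_univ, Nat.card_eq_fintype_card, nsmul_eq_mul]
  have h5 : (Nat.card (Subgroup.center H) : ℝ) * (d : ℝ) ^ 2 = (Nat.card H : ℝ) := by
    have : Nat.card (Subgroup.center H) * d ^ 2 = Nat.card H := by
      rw [hdeg, Subgroup.card_mul_index]
    exact_mod_cast this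
  have h6 : ∑ n : Subgroup.center H, ‖(χ : H → ℂ) n‖ ^ 2 = ∑ g : H, ‖(χ : H → ℂ) g‖ ^ 2 := by
    rw [h4, h5, Cfsg.Agent.Lib.H8.GAG.sum_normSq_irr χ]
  exact (Cfsg.Agent.Lib.H23.sum_normSq_subgroup_eq_iff (Subgroup.center H) (χ : H → ℂ)).mp h6 g hg

/-- **PIZ**. -/
theorem prime_dvd_card_center {H : Type*} [Group H] [Finite H] (χ : IrrCharacter H)
    (hdeg : (charDegree (χ : H → ℂ)) ^ 2 = (Subgroup.center H).index) (r : ℕ) (hr : r.Prime)
    (h : r ∣ Nat.card H) : r ∣ Nat.card (Subgroup.center H) := by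
  classical
  have : Fintype H := Fintype.ofFinite H
  have : Fact r.Prime := ⟨hr⟩
  by_contra hnd
  set d := charDegree (χ : H → ℂ) with hd
  have hd1 : ((d : ℕ) : ℂ) = (χ : H → ℂ) 1 := Cfsg.Agent.Lib.H24.charDegree_irr χ
  obtain S : Sylow r H := default
  -- elements of `S` other than `1` are not central
  have hSZ : ∀ s : (S : Subgroup H), s ≠ 1 → (χ : H → ℂ) (s : H) = 0 := by
    intro s hs
    apply vanish_off_center χ hdeg
    intro hz
    apply hs
    obtain ⟨k, hk⟩ := (IsPGroup.iff_orderOf.mp S.2) s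
    have h1 : orderOf (s : H) ∣ Nat.card (Subgroup.center H) := by
      have : orderOf (⟨(s : H), hz⟩ : Subgroup.center H) ∣ Nat.card (Subgroup.center H) :=
        orderOf_dvd_natCard _
      rwa [← Subgroup.orderOf_coe] at this
    rw [Subgroup.orderOf_coe] at h1
    rw [hk] at h1
    rcases Nat.eq_zero_or_pos k with hk0 | hk0
    · rw [hk0, pow_zero] at hk
      exact orderOf_eq_one_iff.mp hk
    · exfalso
      exact hnd (dvd_trans (dvd_pow_self r hk0.ne') h1)
  -- the inner product of the restriction with the trivial character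
  have hchar : IsCharacter (S : Subgroup H) (fun s : (S : Subgroup H) => (χ : H → ℂ) s) :=
    Cfsg.Agent.Lib.L0.isCharacter_restrict _ (Cfsg.Agent.Lib.L0.isCharacter_of_irr χ.2)
  have hone : IsCharacter (S : Subgroup H) (1 : ↥(S : Subgroup H) → ℂ) :=
    Cfsg.Agent.Lib.L0.isCharacter_of_irr Cfsg.Agent.Lib.L0.isIrrCharacter_one
  obtain ⟨n, hn⟩ := Cfsg.Agent.Lib.L0.classInner_char_char_nat hchar hone
  unfold classInner at hn
  have hsum : ∑ s : (S : Subgroup H), (χ : H → ℂ) (s : H) * conj ((1 : ↥(S : Subgroup H) → ℂ) s) =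
      (d : ℂ) := by
    rw [Finset.sum_eq_single (1 : ↥(S : Subgroup H))]
    · simp [hd1]
    · intro s _ hs
      rw [hSZ s hs, zero_mul]
    · intro h1
      exact absurd (Finset.mem_univ _) h1
  rw [hsum] at hn
  have hSpos : (Nat.card (S : Subgroup H) : ℂ) ≠ 0 := by exact_mod_cast Nat.card_pos.ne'
  have hdn : d = n * Nat.card (S : Subgroup H) := by
    have : (d : ℂ) = (n : ℂ) * (Nat.card (S : Subgroup H) : ℂ) := by
      rw [← hn]
      field_simp
    exact_mod_cast this
  -- `|S|² ∣ |H|`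
  have h2 : Nat.card (S : Subgroup H) ^ 2 ∣ Nat.card H := by
    have h3 : Nat.card (S : Subgroup H) ^ 2 ∣ d ^ 2 := by
      rw [hdn, mul_pow]
      exact dvd_mul_left _ _
    rw [hdeg] at h3
    exact dvd_trans h3 (Subgroup.index_dvd_card _)
  rw [Sylow.card_eq_multiplicity] at h2
  have hHpos : Nat.card H ≠ 0 := Nat.card_pos.ne'
  have h3 : (r ^ (Nat.card H).factorization r) ^ 2 ∣ Nat.card H := h2
  rw [← pow_mul] at h3
  have h4 := (hr.pow_dvd_iff_le_factorization hHpos).mp h3
  have h5 : 0 < (Nat.card H).factorization r := hr.factorization_pos_of_dvd hHpos h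
  omega

end Cfsg.Agent.Lib.H14.GAG
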