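import Mathlib
import Cfsg.Agent.Lib.H17.GHDefs
import Cfsg.Agent.Lib.H21.GHKE
import Cfsg.Agent.Lib.H25.GHK4

/-!
# S4402 piece K7 (helper14 twin): `T = A1c A2c Asc`, `A_i ∩ Asc` has index 2 in `A_i`, `T / Asc` is abelian

Only the inclusion `{enc n | inAs n} ⊆ Asc` is needed (`inAs n`: the bits of `n` satisfy
`b0 + b1 = b2 + b3` and `b4 = b5`), which follows from explicit words in five elements of `Omc`.
-/

set_option autoImplicit false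
set_option linter.dupNamespace false

namespace Cfsg.Agent.Lib.H14.GH

open Subgroup Cfsg.Agent.Lib.H17.GH Cfsg.Agent.Lib.H14.A8Sylow Cfsg.Agent.Lib.H21.GH
  Cfsg.Agent.Lib.H25.GH

/-- the index condition describing the 32 elements of `Asc` inside the enumeration `enc` -/
def inAs (n : Fin 128) : Bool :=
  (xor (n.val.testBit 0) (n.val.testBit 1) == xor (n.val.testBit 2) (n.val.testBit 3)) &&
    (n.val.testBit 4 == n.val.testBit 5)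

set_option maxRecDepth 1000000 in
theorem k7_om_aux : ∀ k : Fin 128, (k = 64 ∨ k = 69 ∨ k = 74 ∨ k = 112 ∨ k = 121) →
    (enc k * enc k = 1 ∧ ∀ i, blk4 (enc k i) ≠ blk4 i) := by decide +kernel

theorem k7_enc_mem_Omc (k : Fin 128) (hk : k = 64 ∨ k = 69 ∨ k = 74 ∨ k = 112 ∨ k = 121) :
    enc k ∈ Omc := by
  obtain ⟨h1, h2⟩ := k7_om_aux k hk
  exact ⟨enc_mem_T k, h1, h2⟩

theorem k7_enc_mem_Asc_of_om (k : Fin 128) (hk : k = 64 ∨ k = 69 ∨ k = 74 ∨ k = 112 ∨ k = 121) :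
    enc k ∈ Asc := Subgroup.subset_closure (k7_enc_mem_Omc k hk)

set_option maxRecDepth 1000000 in
theorem k7_gens_aux : hsw = enc 64 ∧ lsw 0 * lsw 2 = enc 69 * enc 64 ∧ lsw 1 * lsw 3 = enc 74 * enc 64 ∧
    qsw 0 * qsw 1 = enc 112 * enc 64 ∧ lsw 2 * lsw 3 = enc 64 * enc 69 * enc 112 * enc 121 := by
  decide +kernel

theorem k7_hsw_mem : hsw ∈ Asc := by
  rw [k7_gens_aux.1]; exact k7_enc_mem_Asc_of_om 64 (by decide)

theorem k7_g1_mem : lsw 0 * lsw 2 ∈ Asc := by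
  rw [k7_gens_aux.2.1]
  exact Asc.mul_mem (k7_enc_mem_Asc_of_om 69 (by decide)) (k7_enc_mem_Asc_of_om 64 (by decide))

theorem k7_g2_mem : lsw 1 * lsw 3 ∈ Asc := by
  rw [k7_gens_aux.2.2.1]
  exact Asc.mul_mem (k7_enc_mem_Asc_of_om 74 (by decide)) (k7_enc_mem_Asc_of_om 64 (by decide))

theorem k7_g3_mem : qsw 0 * qsw 1 ∈ Asc := by
  rw [k7_gens_aux.2.2.2.1]
  exact Asc.mul_mem (k7_enc_mem_Asc_of_om 112 (by decide)) (k7_enc_mem_Asc_of_om 64 (by decide))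

theorem k7_g4_mem : lsw 2 * lsw 3 ∈ Asc := by
  rw [k7_gens_aux.2.2.2.2]
  exact Asc.mul_mem (Asc.mul_mem (Asc.mul_mem (k7_enc_mem_Asc_of_om 64 (by decide))
    (k7_enc_mem_Asc_of_om 69 (by decide))) (k7_enc_mem_Asc_of_om 112 (by decide)))
    (k7_enc_mem_Asc_of_om 121 (by decide))

set_option maxRecDepth 1000000 in
theorem k7_enc_eq_aux : ∀ n : Fin 128, inAs n = true →
    enc n = pw (lsw 0 * lsw 2) (n.val.testBit 0) * pw (lsw 1 * lsw 3) (n.val.testBit 1) *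
      pw (lsw 2 * lsw 3) (xor (n.val.testBit 0) (n.val.testBit 2)) *
      pw (qsw 0 * qsw 1) (n.val.testBit 4) * pw hsw (n.val.testBit 6) := by decide +kernel

/-- the elements `enc n` with `inAs n` lie in `Asc` -/
theorem enc_mem_Asc (n : Fin 128) (hn : inAs n = true) : enc n ∈ Asc := by
  rw [k7_enc_eq_aux n hn]
  exact Asc.mul_mem (Asc.mul_mem (Asc.mul_mem (Asc.mul_mem (pw_mem k7_g1_mem _) (pw_mem k7_g2_mem _))
    (pw_mem k7_g4_mem _)) (pw_mem k7_g3_mem _)) (pw_mem k7_hsw_mem _)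

theorem inAs_eq_false_of_not_mem (n : Fin 128) (h : enc n ∉ Asc) : inAs n = false := by
  by_contra hc
  exact h (enc_mem_Asc n (by simpa using hc))

/-! ## the product decomposition -/

theorem k7_prod : ∀ p ∈ T, ∃ a ∈ A1c, ∃ b ∈ A2c, ∃ c ∈ Asc, p = a * b * c := by
  intro p hp
  obtain ⟨n, rfl⟩ := (mem_T_iff_enc p).1 hp
  refine ⟨pw (lsw 0) (n.val.testBit 0) * pw (lsw 1) (n.val.testBit 1) * pw (lsw 2) (n.val.testBit 2) *
    pw (lsw 3) (n.val.testBit 3), ?_, pw (qsw 0) (n.val.testBit 4) * pw (qsw 1) (n.val.testBit 5), ?_,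
    pw hsw (n.val.testBit 6), pw_mem k7_hsw_mem _, ?_⟩
  · exact A1c.mul_mem (A1c.mul_mem (A1c.mul_mem (pw_mem (lsw_mem_A1c 0) _) (pw_mem (lsw_mem_A1c 1) _))
      (pw_mem (lsw_mem_A1c 2) _)) (pw_mem (lsw_mem_A1c 3) _)
  · exact A2c.mul_mem (pw_mem (qsw_mem_A2c 0) _) (pw_mem (qsw_mem_A2c 1) _)
  · unfold enc
    simp only [mul_assoc]

/-! ## the index conditions -/

set_option maxRecDepth 1000000 in
theorem k7_sq1_aux : ∀ n : Fin 128,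
    (lsw 0 * enc n = enc n * lsw 0 ∧ lsw 1 * enc n = enc n * lsw 1 ∧ lsw 2 * enc n = enc n * lsw 2 ∧
      lsw 3 * enc n = enc n * lsw 3) → enc n * enc n = 1 := by decide +kernel

set_option maxRecDepth 1000000 in
theorem k7_idx1_aux : ∀ n m : Fin 128,
    (lsw 0 * enc n = enc n * lsw 0 ∧ lsw 1 * enc n = enc n * lsw 1 ∧ lsw 2 * enc n = enc n * lsw 2 ∧
      lsw 3 * enc n = enc n * lsw 3) → inAs n = false →
    (lsw 0 * enc m = enc m * lsw 0 ∧ lsw 1 * enc m = enc m * lsw 1 ∧ lsw 2 * enc m = enc m * lsw 2 ∧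
      lsw 3 * enc m = enc m * lsw 3) → inAs m = false →
        ∃ k : Fin 128, inAs k = true ∧ enc n * enc m = enc k := by decide +kernel

set_option maxRecDepth 1000000 in
theorem k7_sq2_aux : ∀ n : Fin 128,
    (dsw 0 1 * enc n = enc n * dsw 0 1 ∧ qsw 0 * enc n = enc n * qsw 0 ∧
      dsw 2 3 * enc n = enc n * dsw 2 3 ∧ qsw 1 * enc n = enc n * qsw 1) → enc n * enc n = 1 := by
  decide +kernel

set_option maxRecDepth 1000000 in
theorem k7_idx2_aux : ∀ n m : Fin 128,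
    (dsw 0 1 * enc n = enc n * dsw 0 1 ∧ qsw 0 * enc n = enc n * qsw 0 ∧
      dsw 2 3 * enc n = enc n * dsw 2 3 ∧ qsw 1 * enc n = enc n * qsw 1) → inAs n = false →
    (dsw 0 1 * enc m = enc m * dsw 0 1 ∧ qsw 0 * enc m = enc m * qsw 0 ∧
      dsw 2 3 * enc m = enc m * dsw 2 3 ∧ qsw 1 * enc m = enc m * qsw 1) → inAs m = false →
        ∃ k : Fin 128, inAs k = true ∧ enc n * enc m = enc k := by decide +kernel

theorem k7_idx1 : ∀ a ∈ A1c, ∀ a' ∈ A1c, a ∉ Asc → a' ∉ Asc → a⁻¹ * a' ∈ Asc := by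
  intro a ha a' ha' hna hna'
  rw [mem_A1c_iff] at ha ha'
  obtain ⟨n, rfl⟩ := (mem_T_iff_enc a).1 ha.1
  obtain ⟨m, rfl⟩ := (mem_T_iff_enc a').1 ha'.1
  have hsq := k7_sq1_aux n ha.2
  obtain ⟨k, hk1, hk2⟩ := k7_idx1_aux n m ha.2 (inAs_eq_false_of_not_mem n hna) ha'.2
    (inAs_eq_false_of_not_mem m hna')
  have hinv : (enc n)⁻¹ = enc n := inv_eq_of_mul_eq_one_right hsq
  rw [hinv, hk2]
  exact enc_mem_Asc k hk1

theorem k7_idx2 : ∀ a ∈ A2c, ∀ a' ∈ A2c, a ∉ Asc → a' ∉ Asc → a⁻¹ * a' ∈ Asc := by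
  intro a ha a' ha' hna hna'
  rw [mem_A2c_iff] at ha ha'
  obtain ⟨n, rfl⟩ := (mem_T_iff_enc a).1 ha.1
  obtain ⟨m, rfl⟩ := (mem_T_iff_enc a').1 ha'.1
  have hsq := k7_sq2_aux n ha.2
  obtain ⟨k, hk1, hk2⟩ := k7_idx2_aux n m ha.2 (inAs_eq_false_of_not_mem n hna) ha'.2
    (inAs_eq_false_of_not_mem m hna')
  have hinv : (enc n)⁻¹ = enc n := inv_eq_of_mul_eq_one_right hsq
  rw [hinv, hk2]
  exact enc_mem_Asc k hk1

/-! ## `Asc` is normalized by `T`, and `T / Asc` is abelian -/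

theorem k7_conj_mem_Omc {g σ : Equiv.Perm (Fin 8)} (hg : g ∈ T) (hσ : σ ∈ Omc) :
    g * σ * g⁻¹ ∈ Omc := by
  obtain ⟨h1, h2, h3⟩ := hσ
  refine ⟨T.mul_mem (T.mul_mem hg h1) (T.inv_mem hg), ?_, ?_⟩
  · calc g * σ * g⁻¹ * (g * σ * g⁻¹) = g * (σ * σ) * g⁻¹ := by group
      _ = 1 := by rw [h2]; group
  · intro i hi
    have hg4 := (mem_T.1 hg).2
    have e1 : (g * σ * g⁻¹) i = g (σ (g⁻¹ i)) := by
      simp only [Equiv.Perm.mul_apply]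
    have e2 : i = g (g⁻¹ i) := by simp
    rw [e1] at hi
    have hi' : blk4 (g (σ (g⁻¹ i))) = blk4 (g (g⁻¹ i)) := by rw [hi]; exact congrArg blk4 e2
    exact h3 (g⁻¹ i) ((hg4 _ _).1 hi')

theorem k7_conj_mem_Asc {g a : Equiv.Perm (Fin 8)} (hg : g ∈ T) (ha : a ∈ Asc) :
    g * a * g⁻¹ ∈ Asc := by
  have h : Asc ≤ Asc.comap (MulAut.conj g).toMonoidHom := by
    unfold Asc
    rw [Subgroup.closure_le]
    intro σ hσ
    show (MulAut.conj g) σ ∈ Subgroup.closure Omc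
    rw [MulAut.conj_apply]
    exact Subgroup.subset_closure (k7_conj_mem_Omc hg hσ)
  have := h ha
  rw [Subgroup.mem_comap] at this
  simpa [MulAut.conj_apply] using this

/-- the seven generators of `T` used by `enc` -/
def k7gen (g : Fin 7) : Equiv.Perm (Fin 8) :=
  match g with
  | 0 => lsw 0
  | 1 => lsw 1
  | 2 => lsw 2
  | 3 => lsw 3
  | 4 => qsw 0
  | 5 => qsw 1
  | 6 => hsw

set_option maxRecDepth 1000000 in
theorem k7_comm_aux : ∀ (g : Fin 7) (m : Fin 128), k7gen g * k7gen g = 1 ∧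
    ∃ k : Fin 128, inAs k = true ∧ k7gen g * enc m * k7gen g = enc k * enc m := by decide +kernel

/-- the commutator property of a single element -/
def K7C (p : Equiv.Perm (Fin 8)) : Prop :=
  p ∈ T ∧ ∀ q ∈ T, p * q * p⁻¹ * q⁻¹ ∈ Asc

theorem k7C_one : K7C 1 := by
  refine ⟨T.one_mem, fun q _ => ?_⟩
  have : (1 : Equiv.Perm (Fin 8)) * q * 1⁻¹ * q⁻¹ = 1 := by group
  rw [this]; exact Asc.one_mem

theorem k7C_mul {p1 p2 : Equiv.Perm (Fin 8)} (h1 : K7C p1) (h2 : K7C p2) : K7C (p1 * p2) := by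
  refine ⟨T.mul_mem h1.1 h2.1, fun q hq => ?_⟩
  have e : p1 * p2 * q * (p1 * p2)⁻¹ * q⁻¹ =
      (p1 * (p2 * q * p2⁻¹ * q⁻¹) * p1⁻¹) * (p1 * q * p1⁻¹ * q⁻¹) := by group
  rw [e]
  exact Asc.mul_mem (k7_conj_mem_Asc h1.1 (h2.2 q hq)) (h1.2 q hq)

theorem k7gen_mem_T (g : Fin 7) : k7gen g ∈ T := by
  have h0 : ∀ a : Fin 4, lsw a ∈ T := fun a => (mem_A1c_iff _).1 (lsw_mem_A1c a) |>.1
  have h64 : hsw ∈ T := by rw [k7_gens_aux.1]; exact enc_mem_T 64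
  fin_cases g
  · exact h0 0
  · exact h0 1
  · exact h0 2
  · exact h0 3
  · exact qsw_mem_T 0
  · exact qsw_mem_T 1
  · exact h64

theorem k7C_gen (g : Fin 7) : K7C (k7gen g) := by
  refine ⟨k7gen_mem_T g, fun q hq => ?_⟩
  obtain ⟨m, rfl⟩ := (mem_T_iff_enc q).1 hq
  obtain ⟨hsq, k, hk1, hk2⟩ := k7_comm_aux g m
  have hinv : (k7gen g)⁻¹ = k7gen g := inv_eq_of_mul_eq_one_right hsq
  rw [hinv, hk2]
  have : enc k * enc m * (enc m)⁻¹ = enc k := by group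
  rw [this]
  exact enc_mem_Asc k hk1

theorem k7C_pw (g : Fin 7) (b : Bool) : K7C (pw (k7gen g) b) := by
  unfold pw
  split
  · exact k7C_gen g
  · exact k7C_one

theorem k7C_enc (n : Fin 128) : K7C (enc n) := by
  have h : enc n = pw (k7gen 0) (n.val.testBit 0) * pw (k7gen 1) (n.val.testBit 1) *
      pw (k7gen 2) (n.val.testBit 2) * pw (k7gen 3) (n.val.testBit 3) * pw (k7gen 4) (n.val.testBit 4) *
      pw (k7gen 5) (n.val.testBit 5) * pw (k7gen 6) (n.val.testBit 6) := rfl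
  rw [h]
  exact k7C_mul (k7C_mul (k7C_mul (k7C_mul (k7C_mul (k7C_mul (k7C_pw 0 _) (k7C_pw 1 _)) (k7C_pw 2 _))
    (k7C_pw 3 _)) (k7C_pw 4 _)) (k7C_pw 5 _)) (k7C_pw 6 _)

theorem k7_comm : ∀ p ∈ T, ∀ q ∈ T, p * q * p⁻¹ * q⁻¹ ∈ Asc := by
  intro p hp q hq
  obtain ⟨n, rfl⟩ := (mem_T_iff_enc p).1 hp
  exact (k7C_enc n).2 q hq

/-- K7. `T = A1c A2c Asc`, `A_i ∩ Asc` has index 2 in `A_i`, `T / Asc` is abelian. -/
theorem prod_idx_comm : (∀ p ∈ T, ∃ a ∈ A1c, ∃ b ∈ A2c, ∃ c ∈ Asc, p = a * b * c) ∧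
    (∀ a ∈ A1c, ∀ a' ∈ A1c, a ∉ Asc → a' ∉ Asc → a⁻¹ * a' ∈ Asc) ∧
    (∀ a ∈ A2c, ∀ a' ∈ A2c, a ∉ Asc → a' ∉ Asc → a⁻¹ * a' ∈ Asc) ∧
    (∀ p ∈ T, ∀ q ∈ T, p * q * p⁻¹ * q⁻¹ ∈ Asc) :=
  ⟨k7_prod, k7_idx1, k7_idx2, k7_comm⟩

end Cfsg.Agent.Lib.H14.GH
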