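import Mathlib
import Cfsg.Prelude.Def_Sporadic_a
import Cfsg.Agent.Lib.H27.GolayInv
import Cfsg.Agent.Lib.H27.GolayDual
import Cfsg.Agent.Lib.H28.OctadFlags
import Cfsg.Agent.Lib.H28.M24Trans

set_option autoImplicit false

namespace Cfsg.Agent.Lib.H14.GolayDualAct

open Cfsg Cfsg.Agent.Lib.H28 Cfsg.Agent.Lib.H27 Finset
open scoped Pointwise

/-- dot product of binary words -/
def dot (u v : GolayPt → ZMod 2) : ZMod 2 := ∑ i, u i * v i

theorem dot_add_left (u u' v : GolayPt → ZMod 2) : dot (u + u') v = dot u v + dot u' v := by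
  unfold dot
  rw [← Finset.sum_add_distrib]
  apply Finset.sum_congr rfl
  intro i _
  rw [Pi.add_apply]; ring

theorem dot_add_right (u v v' : GolayPt → ZMod 2) : dot u (v + v') = dot u v + dot u v' := by
  unfold dot
  rw [← Finset.sum_add_distrib]
  apply Finset.sum_congr rfl
  intro i _
  rw [Pi.add_apply]; ring

theorem dot_comm (u v : GolayPt → ZMod 2) : dot u v = dot v u := by
  unfold dot
  apply Finset.sum_congr rfl
  intro i _
  ring

theorem dot_eq_card (u v : GolayPt → ZMod 2) : dot u v = ((supp u ∩ supp v).card : ZMod 2) :=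
  dot_eq u v

theorem dot_ind_ind (S T : Finset GolayPt) : dot (ind S) (ind T) = ((S ∩ T).card : ZMod 2) := by
  rw [dot_eq_card, supp_ind, supp_ind]

theorem dot_ind (S : Finset GolayPt) (v : GolayPt → ZMod 2) : dot (ind S) v = ∑ i ∈ S, v i := by
  unfold dot ind
  rw [← Finset.sum_filter_add_sum_filter_not univ (fun i => i ∈ S)]
  have h1 : ∑ i ∈ univ.filter (fun i => i ∈ S), (if i ∈ S then (1 : ZMod 2) else 0) * v i
      = ∑ i ∈ S, v i := by
    rw [Finset.filter_mem_eq_inter, Finset.univ_inter]
    apply Finset.sum_congr rfl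
    intro i hi
    rw [if_pos hi, one_mul]
  have h2 : ∑ i ∈ univ.filter (fun i => ¬ i ∈ S), (if i ∈ S then (1 : ZMod 2) else 0) * v i = 0 := by
    apply Finset.sum_eq_zero
    intro i hi
    rw [Finset.mem_filter] at hi
    rw [if_neg hi.2, zero_mul]
  rw [h1, h2, add_zero]

theorem dot_one (u : GolayPt → ZMod 2) : dot u 1 = ((supp u).card : ZMod 2) := by
  rw [dot_eq_card]
  have : supp (1 : GolayPt → ZMod 2) = univ := by
    ext i; simp [mem_supp]
  rw [this, Finset.inter_univ]

/-- orthogonality within the code -/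
theorem dot_code {u v : GolayPt → ZMod 2} (hu : u ∈ golayCode) (hv : v ∈ golayCode) :
    dot u v = 0 := golayCode_orth u hu v hv

/-- a word orthogonal to the code lies in the code -/
theorem mem_of_dot_zero {u : GolayPt → ZMod 2} (h : ∀ c ∈ golayCode, dot u c = 0) :
    u ∈ golayCode := by
  rw [← golay_self_dual]
  intro w hw
  show dotB w u = 0
  rw [dotB_apply]
  have := h w hw
  rw [dot_comm] at this
  exact this

/-- every linear functional on the code is the dot product with a word of weight at most 4 -/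
theorem exists_rep (μ : ↥golayCode →ₗ[ZMod 2] ZMod 2) :
    ∃ e : GolayPt → ZMod 2, hammingNorm e ≤ 4 ∧ ∀ c : ↥golayCode, μ c = dot e (c : GolayPt → ZMod 2) := by
  obtain ⟨ν, hν⟩ := LinearMap.exists_extend μ
  let u : GolayPt → ZMod 2 := fun i => ν (Pi.single i 1)
  have hu : ∀ v : GolayPt → ZMod 2, ν v = dot u v := by
    intro v
    have := LinearMap.pi_apply_eq_sum_univ ν v
    rw [this]
    unfold dot
    apply Finset.sum_congr rfl
    intro i _
    rw [smul_eq_mul, mul_comm]
    congr 1
    congr 1
    funext j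
    simp [Pi.single_apply, eq_comm]
  obtain ⟨e, he, hwt⟩ := exists_leader u
  refine ⟨e, hwt, ?_⟩
  intro c
  have h1 : μ c = ν (c : GolayPt → ZMod 2) := by
    rw [← hν]; rfl
  rw [h1, hu]
  have h2 := dot_code he c.2
  rw [dot_add_left] at h2
  have : ∀ a b : ZMod 2, a + b = 0 → a = b := by decide
  exact this _ _ h2

/-- sets of small total size representing the same functional coincide -/
theorem eq_of_dot_eq {S T : Finset GolayPt} (hST : S.card + T.card ≤ 7)
    (h : ∀ c ∈ golayCode, dot (ind S) c = dot (ind T) c) : S = T := by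
  have hmem : ind S + ind T ∈ golayCode := by
    apply mem_of_dot_zero
    intro c hc
    rw [dot_add_left, h c hc]
    have : ∀ a : ZMod 2, a + a = 0 := by decide
    exact this _
  by_contra hne
  have hne0 : ind S + ind T ≠ 0 := by
    intro h0
    apply hne
    have : ind S = ind T := by
      have : ∀ a b : ZMod 2, a + b = 0 → a = b := by decide
      funext i
      exact this _ _ (congrFun h0 i)
    have := congrArg supp this
    rwa [supp_ind, supp_ind] at this
  have h8 := golayCode_min_weight hmem hne0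
  have hle : hammingNorm (ind S + ind T) ≤ S.card + T.card := by
    have := wt_add (ind S) (ind T)
    rw [hammingNorm_ind, hammingNorm_ind] at this
    omega
  omega


/-- number of octads meeting `S` evenly -/
noncomputable def N8 (S : Finset GolayPt) : ℕ :=
  {o : Finset GolayPt | o ∈ octads ∧ Even (S ∩ o).card}.ncard

theorem ncard_octads_smul' {g0 : Equiv.Perm GolayPt} (hg0 : g0 ∈ M24) (P : Finset GolayPt → Prop) :
    {o' : Finset GolayPt | o' ∈ octads ∧ P o'}.ncard
      = {y : Finset GolayPt | y ∈ octads ∧ P (g0 • y)}.ncard := by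
  have himg : {o' : Finset GolayPt | o' ∈ octads ∧ P o'}
      = (fun y : Finset GolayPt => g0 • y) '' {y : Finset GolayPt | y ∈ octads ∧ P (g0 • y)} := by
    ext o'
    rw [Set.mem_image]
    constructor
    · rintro ⟨ho', hP⟩
      refine ⟨g0⁻¹ • o', ⟨smul_mem_octads (M24.inv_mem hg0) ho', ?_⟩, smul_inv_smul _ _⟩
      rw [smul_inv_smul]; exact hP
    · rintro ⟨y, ⟨hy, hP⟩, rfl⟩
      exact ⟨smul_mem_octads hg0 hy, hP⟩
  rw [himg]
  exact Set.ncard_image_of_injective _ (MulAction.injective g0)

theorem N8_smul {g : Equiv.Perm GolayPt} (hg : g ∈ M24) (S : Finset GolayPt) :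
    N8 (g • S) = N8 S := by
  unfold N8
  rw [ncard_octads_smul' hg (fun o => Even (g • S ∩ o).card)]
  congr 1
  ext y
  simp only [Set.mem_ofPred_eq]
  rw [← Finset.smul_finset_inter, Finset.card_smul_finset]

theorem N8_mask (a : ℕ) :
    N8 (ptsMask a) = (octMasks.filter (fun m => popc (a &&& m) % 2 == 0)).length := by
  unfold N8
  apply ncard_octads_filter
  intro m _
  rw [card_ptsMask_inter, Nat.even_iff, beq_iff_eq]

theorem N8_mask_zero : N8 (ptsMask 0) = 759 := by
  rw [N8_mask]; decide +kernel

theorem N8_mask_three : N8 (ptsMask 3) = 407 := by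
  rw [N8_mask]; decide +kernel

theorem N8_mask_fifteen : N8 (ptsMask 15) = 375 := by
  rw [N8_mask]; decide +kernel

theorem card_ptsMask_three : (ptsMask 3).card = 2 := by
  rw [card_ptsMask]; decide +kernel

theorem card_ptsMask_fifteen : (ptsMask 15).card = 4 := by
  rw [card_ptsMask]; decide +kernel

theorem ptsMask_zero : ptsMask 0 = ∅ := by
  rw [← Finset.card_eq_zero, card_ptsMask]; decide +kernel

/-- `M24` is transitive on sets of a given size at most 5 -/
theorem exists_smul_eq {S T : Finset GolayPt} (h : S.card = T.card) (h5 : S.card ≤ 5) :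
    ∃ g ∈ M24, g • S = T := by
  classical
  let f : Fin S.card ≃ S := S.equivFin.symm
  let f' : Fin S.card ≃ T := (finCongr h).trans T.equivFin.symm
  obtain ⟨g, hg, hgx⟩ := exists_M24_map h5 (fun i => (f i : GolayPt)) (fun i => (f' i : GolayPt))
    (fun i j hij => f.injective (Subtype.ext hij)) (fun i j hij => f'.injective (Subtype.ext hij))
  refine ⟨g, hg, ?_⟩
  apply Finset.eq_of_subset_of_card_le
  · intro y hy
    rw [Finset.mem_smul_finset] at hy
    obtain ⟨s, hs, rfl⟩ := hy
    obtain ⟨i, hi⟩ := f.surjective ⟨s, hs⟩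
    have : g s = f' i := by
      have := hgx i
      simp only [hi] at this
      exact this
    show g s ∈ T
    rw [this]
    exact (f' i).2
  · rw [Finset.card_smul_finset, h]

theorem N8_empty : N8 ∅ = 759 := by
  rw [← ptsMask_zero]; exact N8_mask_zero

theorem N8_two {S : Finset GolayPt} (h : S.card = 2) : N8 S = 407 := by
  obtain ⟨g, hg, rfl⟩ := exists_smul_eq (S := ptsMask 3) (T := S) (by rw [card_ptsMask_three, h])
    (by rw [card_ptsMask_three]; norm_num)
  rw [N8_smul hg, N8_mask_three]

theorem N8_four {S : Finset GolayPt} (h : S.card = 4) : N8 S = 375 := by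
  obtain ⟨g, hg, rfl⟩ := exists_smul_eq (S := ptsMask 15) (T := S) (by rw [card_ptsMask_fifteen, h])
    (by rw [card_ptsMask_fifteen]; norm_num)
  rw [N8_smul hg, N8_mask_fifteen]


end Cfsg.Agent.Lib.H14.GolayDualAct
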