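import Mathlib
import Cfsg.Agent.Lib.H14.GolayDualAct
import Cfsg.Agent.Lib.H14.DuadMap

set_option autoImplicit false

namespace Cfsg.Agent.Lib.H14.GolayDualAct

open Cfsg Cfsg.Agent.Lib.H28 Cfsg.Agent.Lib.H27 Finset
open scoped Pointwise

/-- the all-ones codeword -/
def oneC : ↥golayCode := ⟨1, one_mem_golayCode⟩

/-- the hypotheses on a single linear automorphism of the code -/
structure Good (x : ↥golayCode ≃ₗ[ZMod 2] ↥golayCode) : Prop where
  one : x oneC = oneC
  orb : ∀ c : ↥golayCode, ∃ σ ∈ M24,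
    ((x c : ↥golayCode) : GolayPt → ZMod 2) = actW σ (c : GolayPt → ZMod 2) ∨
    ((x c : ↥golayCode) : GolayPt → ZMod 2) = actW σ (c : GolayPt → ZMod 2) + 1

theorem hammingNorm_actW (σ : Equiv.Perm GolayPt) (w : GolayPt → ZMod 2) :
    hammingNorm (actW σ w) = hammingNorm w := by
  rw [hammingNorm_eq_card_supp, hammingNorm_eq_card_supp, supp_actW, Finset.card_map]

theorem hammingNorm_add_one (w : GolayPt → ZMod 2) :
    hammingNorm (w + 1) + hammingNorm w = 24 := by
  have h : supp (w + 1) = (supp w)ᶜ := by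
    ext i
    simp only [mem_supp, Pi.add_apply, Pi.one_apply, Finset.mem_compl, not_not]
    have : ∀ a : ZMod 2, a + 1 ≠ 0 ↔ a = 0 := by decide
    exact this _
  rw [hammingNorm_eq_card_supp, hammingNorm_eq_card_supp, h, Finset.card_compl]
  have h24 : Fintype.card GolayPt = 24 := by
    rw [Fintype.card_option, ZMod.card]
  have : (supp w).card ≤ Fintype.card GolayPt := Finset.card_le_univ _
  omega

theorem Good.wt {x : ↥golayCode ≃ₗ[ZMod 2] ↥golayCode} (hx : Good x) (c : ↥golayCode)
    (hc : hammingNorm (c : GolayPt → ZMod 2) = 8) :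
    hammingNorm ((x c : ↥golayCode) : GolayPt → ZMod 2) = 8 ∨
      hammingNorm ((x c : ↥golayCode) : GolayPt → ZMod 2) = 16 := by
  obtain ⟨σ, _, h | h⟩ := hx.orb c
  · left; rw [h, hammingNorm_actW, hc]
  · right
    have := hammingNorm_add_one (actW σ (c : GolayPt → ZMod 2))
    rw [hammingNorm_actW, hc] at this
    rw [h]; omega

/-- the codeword of an octad -/
theorem ind_mem_of_octad {o : Finset GolayPt} (ho : o ∈ octads) :
    ind o ∈ golayCode ∧ hammingNorm (ind o) = 8 := by
  obtain ⟨⟨c, hc, rfl⟩, h8⟩ := ho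
  rw [← supp_eq_support₂] at h8 ⊢
  rw [ind_supp, hammingNorm_eq_card_supp]
  exact ⟨hc, h8⟩

theorem octad_of_mem {c : GolayPt → ZMod 2} (hc : c ∈ golayCode) (h8 : hammingNorm c = 8) :
    supp c ∈ octads := by
  refine ⟨⟨c, hc, (supp_eq_support₂ c).symm⟩, ?_⟩
  rw [← hammingNorm_eq_card_supp]; exact h8

/-- image octad of an octad under a good map -/
noncomputable def phi (x : ↥golayCode ≃ₗ[ZMod 2] ↥golayCode) (o : Finset GolayPt) : Finset GolayPt :=
  by
    classical
    exact if h : ind o ∈ golayCode then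
      (if hammingNorm ((x ⟨ind o, h⟩ : ↥golayCode) : GolayPt → ZMod 2) = 8
        then supp ((x ⟨ind o, h⟩ : ↥golayCode) : GolayPt → ZMod 2)
        else supp (((x ⟨ind o, h⟩ : ↥golayCode) : GolayPt → ZMod 2) + 1))
    else ∅

theorem phi_spec {x : ↥golayCode ≃ₗ[ZMod 2] ↥golayCode} (hx : Good x) {o : Finset GolayPt}
    (ho : o ∈ octads) :
    phi x o ∈ octads ∧
      (ind (phi x o) = ((x ⟨ind o, (ind_mem_of_octad ho).1⟩ : ↥golayCode) : GolayPt → ZMod 2) ∨
       ind (phi x o) = ((x ⟨ind o, (ind_mem_of_octad ho).1⟩ : ↥golayCode) : GolayPt → ZMod 2) + 1) := by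
  classical
  have hmem := (ind_mem_of_octad ho).1
  have h8 := (ind_mem_of_octad ho).2
  unfold phi
  rw [dif_pos hmem]
  have hwt := hx.wt ⟨ind o, hmem⟩ h8
  obtain ⟨y, hy⟩ : ∃ y : ↥golayCode, y = x ⟨ind o, hmem⟩ := ⟨_, rfl⟩
  rw [← hy] at hwt ⊢
  rcases hwt with h | h
  · rw [if_pos h]
    exact ⟨octad_of_mem y.2 h, Or.inl (ind_supp _)⟩
  · have hne : ¬ hammingNorm (y : GolayPt → ZMod 2) = 8 := by rw [h]; norm_num
    rw [if_neg hne]
    have hm1 : (y : GolayPt → ZMod 2) + 1 ∈ golayCode := golayCode.add_mem y.2 one_mem_golayCode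
    have hw : hammingNorm ((y : GolayPt → ZMod 2) + 1) = 8 := by
      have := hammingNorm_add_one (y : GolayPt → ZMod 2)
      omega
    exact ⟨octad_of_mem hm1 hw, Or.inr (ind_supp _)⟩

theorem dot_add_one_of_even {e : GolayPt → ZMod 2} (he : Even (supp e).card) (w : GolayPt → ZMod 2) :
    dot e (w + 1) = dot e w := by
  rw [dot_add_right, dot_one, (ZMod.natCast_eq_zero_iff_even).2 he, add_zero]

theorem even_inter_iff (e : GolayPt → ZMod 2) (o : Finset GolayPt) :
    Even (supp e ∩ o).card ↔ dot e (ind o) = 0 := by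
  rw [dot_eq_card, supp_ind, ZMod.natCast_eq_zero_iff_even]

theorem phi_injOn {x : ↥golayCode ≃ₗ[ZMod 2] ↥golayCode} (hx : Good x) :
    Set.InjOn (phi x) octads := by
  intro o1 ho1 o2 ho2 h
  obtain ⟨_, h1⟩ := phi_spec hx ho1
  obtain ⟨_, h2⟩ := phi_spec hx ho2
  have hm1 := (ind_mem_of_octad ho1).1
  have hm2 := (ind_mem_of_octad ho2).1
  have key : (⟨ind o1, hm1⟩ : ↥golayCode) = ⟨ind o2, hm2⟩ ∨
      (⟨ind o1, hm1⟩ : ↥golayCode) = ⟨ind o2, hm2⟩ + oneC := by
    have hadd : ∀ a : GolayPt → ZMod 2, a + 1 + 1 = a := by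
      intro a; funext i
      have : ∀ t : ZMod 2, t + 1 + 1 = t := by decide
      exact this _
    have hxone : ∀ c : ↥golayCode, ((x (c + oneC) : ↥golayCode) : GolayPt → ZMod 2)
        = ((x c : ↥golayCode) : GolayPt → ZMod 2) + 1 := by
      intro c
      rw [map_add, hx.one]; rfl
    rw [h] at h1
    rcases h1 with h1 | h1 <;> rcases h2 with h2 | h2
    · left; apply x.injective; apply Subtype.ext; rw [← h1, ← h2]
    · right; apply x.injective; apply Subtype.ext; rw [hxone, ← h2, ← h1]
    · right; apply x.injective; apply Subtype.ext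
      rw [hxone, ← h2, h1, hadd]
    · left; apply x.injective; apply Subtype.ext
      have := h1.symm.trans h2
      have h3 := congrArg (· + (1 : GolayPt → ZMod 2)) this
      simp only [hadd] at h3
      exact h3
  rcases key with k | k
  · have := congrArg Subtype.val k
    simp only at this
    have := congrArg supp this
    rwa [supp_ind, supp_ind] at this
  · exfalso
    have := congrArg Subtype.val k
    have h3 : ind o1 = ind o2 + 1 := this
    have w1 := (ind_mem_of_octad ho1).2
    have w2 := (ind_mem_of_octad ho2).2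
    have := hammingNorm_add_one (ind o2)
    rw [← h3] at this
    omega

/-- counting inequality: a good map transports functionals without increasing the octad count -/
theorem N8_le {x : ↥golayCode ≃ₗ[ZMod 2] ↥golayCode} (hx : Good x) {e e' : GolayPt → ZMod 2}
    (he : Even (supp e).card)
    (h : ∀ c : ↥golayCode, dot e' (c : GolayPt → ZMod 2) = dot e ((x c : ↥golayCode) : GolayPt → ZMod 2)) :
    N8 (supp e') ≤ N8 (supp e) := by
  unfold N8
  apply Set.ncard_le_ncard_of_injOn (phi x)
  · rintro o ⟨ho, hev⟩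
    obtain ⟨hpo, hind⟩ := phi_spec hx ho
    refine ⟨hpo, ?_⟩
    rw [even_inter_iff] at hev ⊢
    have hm := (ind_mem_of_octad ho).1
    have := h ⟨ind o, hm⟩
    simp only at this
    rw [this] at hev
    rcases hind with hi | hi
    · rw [hi]; exact hev
    · rw [hi, dot_add_one_of_even he]; exact hev
  · intro o1 ho1 o2 ho2 h12
    exact phi_injOn hx ho1.1 ho2.1 h12

/-- dot product with a fixed word as a linear map -/
def dotLin (u : GolayPt → ZMod 2) : (GolayPt → ZMod 2) →ₗ[ZMod 2] ZMod 2 where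
  toFun := dot u
  map_add' := dot_add_right u
  map_smul' a v := by
    unfold dot
    rw [RingHom.id_apply, smul_eq_mul, Finset.mul_sum]
    apply Finset.sum_congr rfl
    intro i _
    rw [Pi.smul_apply, smul_eq_mul]; ring

theorem duad_image {x : ↥golayCode ≃ₗ[ZMod 2] ↥golayCode} (hx : Good x) (hx' : Good x.symm)
    {S : Finset GolayPt} (hS : S.card = 2) :
    ∃ S' : Finset GolayPt, S'.card = 2 ∧ ∀ c : ↥golayCode,
      dot (ind S) ((x c : ↥golayCode) : GolayPt → ZMod 2) = dot (ind S') (c : GolayPt → ZMod 2) := by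
  let μ : ↥golayCode →ₗ[ZMod 2] ZMod 2 :=
    (dotLin (ind S)).comp (golayCode.subtype.comp x.toLinearMap)
  have hμ : ∀ c : ↥golayCode, μ c = dot (ind S) ((x c : ↥golayCode) : GolayPt → ZMod 2) := fun c => rfl
  obtain ⟨e', hwt, he'⟩ := exists_rep μ
  have hSe : Even (supp (ind S)).card := by rw [supp_ind, hS]; decide
  have hpar : Even (supp e').card := by
    rw [← ZMod.natCast_eq_zero_iff_even, ← dot_one]
    have := he' oneC
    rw [hμ, hx.one] at this
    show dot e' (oneC : GolayPt → ZMod 2) = 0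
    rw [← this]
    show dot (ind S) 1 = 0
    rw [dot_one, supp_ind, hS]; decide
  have hle1 : N8 (supp e') ≤ N8 (supp (ind S)) := by
    apply N8_le hx hSe
    intro c
    rw [← he', hμ]
  have hle2 : N8 (supp (ind S)) ≤ N8 (supp e') := by
    apply N8_le hx' hpar
    intro c
    rw [← he', hμ, LinearEquiv.apply_symm_apply]
  have hN : N8 (supp e') = 407 := by
    have := N8_two hS
    rw [supp_ind] at hle1 hle2
    omega
  have hk : (supp e').card ≤ 4 := hwt
  have hk2 : (supp e').card = 2 := by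
    obtain ⟨m, hm⟩ := hpar
    have hm2 : m ≤ 2 := by omega
    interval_cases m
    · exfalso
      have h0 : supp e' = ∅ := Finset.card_eq_zero.mp (by omega)
      rw [h0, N8_empty] at hN
      omega
    · omega
    · exfalso
      rw [N8_four (by omega)] at hN
      omega
  refine ⟨supp e', hk2, ?_⟩
  intro c
  rw [ind_supp, ← he', hμ]

/-- the conclusion for a single good map with good inverse -/
theorem exists_M24_of_good {x : ↥golayCode ≃ₗ[ZMod 2] ↥golayCode} (hx : Good x) (hx' : Good x.symm) :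
    ∃ σ ∈ M24, ∀ c : ↥golayCode,
      ((x c : ↥golayCode) : GolayPt → ZMod 2) = actW σ (c : GolayPt → ZMod 2) ∨
      ((x c : ↥golayCode) : GolayPt → ZMod 2) = actW σ (c : GolayPt → ZMod 2) + 1 := by
  classical
  -- the map on 2-sets
  have hex : ∀ S : Finset GolayPt, ∃ S' : Finset GolayPt, S.card = 2 → (S'.card = 2 ∧ ∀ c : ↥golayCode,
      dot (ind S) ((x c : ↥golayCode) : GolayPt → ZMod 2) = dot (ind S') (c : GolayPt → ZMod 2)) := by
    intro S
    by_cases hS : S.card = 2
    · obtain ⟨S', h1, h2⟩ := duad_image hx hx' hS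
      exact ⟨S', fun _ => ⟨h1, h2⟩⟩
    · exact ⟨∅, fun h => absurd h hS⟩
  choose F hF using hex
  have hcard : ∀ S : Finset GolayPt, S.card = 2 → (F S).card = 2 := fun S hS => (hF S hS).1
  have hspec : ∀ S : Finset GolayPt, S.card = 2 → ∀ c : ↥golayCode,
      dot (ind S) ((x c : ↥golayCode) : GolayPt → ZMod 2) = dot (ind (F S)) (c : GolayPt → ZMod 2) :=
    fun S hS => (hF S hS).2
  have hinj : ∀ S T : Finset GolayPt, S.card = 2 → T.card = 2 → F S = F T → S = T := by
    intro S T hS hT hST
    apply eq_of_dot_eq (by omega)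
    intro c hc
    have h1 := hspec S hS (x.symm ⟨c, hc⟩)
    have h2 := hspec T hT (x.symm ⟨c, hc⟩)
    rw [LinearEquiv.apply_symm_apply] at h1 h2
    simp only at h1 h2
    rw [h1, h2, hST]
  have hadd : ∀ S T : Finset GolayPt, S.card = 2 → T.card = 2 → (symmDiff S T).card = 2 →
      F (symmDiff S T) = symmDiff (F S) (F T) := by
    intro S T hS hT hU
    apply eq_of_dot_eq
    · have := DuadMap.card_symmDiff_add (F S) (F T)
      rw [hcard S hS, hcard T hT] at this
      rw [hcard _ hU]; omega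
    · intro c hc
      rw [← hspec _ hU ⟨c, hc⟩, ← ind_add, ← ind_add, dot_add_left, dot_add_left,
        hspec S hS, hspec T hT]
  have h01 : (none : GolayPt) ≠ some 0 := by decide
  have h02 : (none : GolayPt) ≠ some 1 := by decide
  have h12 : (some 0 : GolayPt) ≠ some 1 := by decide
  obtain ⟨π, hπinj, hπ⟩ := DuadMap.exists_point_map F hcard hinj hadd none (some 0) (some 1) h01 h02 h12
  have hπbij : Function.Bijective π := ⟨hπinj, Finite.injective_iff_surjective.mp hπinj⟩
  let πE : Equiv.Perm GolayPt := Equiv.ofBijective π hπbij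
  -- coordinates
  have hpair : ∀ (c : ↥golayCode) (p q : GolayPt), p ≠ q →
      ((x c : ↥golayCode) : GolayPt → ZMod 2) p + ((x c : ↥golayCode) : GolayPt → ZMod 2) q
        = (c : GolayPt → ZMod 2) (π p) + (c : GolayPt → ZMod 2) (π q) := by
    intro c p q hpq
    have h := hspec {p, q} (Finset.card_pair hpq) c
    rw [hπ p q hpq, dot_ind, dot_ind, Finset.sum_pair hpq,
      Finset.sum_pair (fun h => hpq (hπinj h))] at h
    exact h
  have hconst : ∀ (c : ↥golayCode) (p q : GolayPt),
      ((x c : ↥golayCode) : GolayPt → ZMod 2) p + (c : GolayPt → ZMod 2) (π p)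
        = ((x c : ↥golayCode) : GolayPt → ZMod 2) q + (c : GolayPt → ZMod 2) (π q) := by
    intro c p q
    by_cases hpq : p = q
    · rw [hpq]
    · have h := hpair c p q hpq
      have : ∀ a b a' b' : ZMod 2, a + b = a' + b' → a + a' = b + b' := by decide
      exact this _ _ _ _ h
  have hcases : ∀ c : ↥golayCode,
      ((x c : ↥golayCode) : GolayPt → ZMod 2) = actW πE⁻¹ (c : GolayPt → ZMod 2) ∨
      ((x c : ↥golayCode) : GolayPt → ZMod 2) = actW πE⁻¹ (c : GolayPt → ZMod 2) + 1 := by
    intro c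
    have hact : ∀ p, actW πE⁻¹ (c : GolayPt → ZMod 2) p = (c : GolayPt → ZMod 2) (π p) := by
      intro p
      show (c : GolayPt → ZMod 2) ((πE⁻¹).symm p) = _
      rfl
    have h2 : ∀ a b : ZMod 2, a + b = 0 → a = b := by decide
    have h3 : ∀ a b : ZMod 2, a + b = 1 → a = b + 1 := by decide
    have h4 : ∀ a : ZMod 2, a = 0 ∨ a = 1 := by decide
    rcases h4 (((x c : ↥golayCode) : GolayPt → ZMod 2) none + (c : GolayPt → ZMod 2) (π none)) with h | h
    · left
      funext p
      rw [hact]
      apply h2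
      rw [hconst c p none, h]
    · right
      funext p
      rw [Pi.add_apply, hact, Pi.one_apply]
      apply h3
      rw [hconst c p none, h]
  refine ⟨πE⁻¹, ?_, hcases⟩
  rw [mem_M24_iff]
  intro c hc
  have hfun : c ∘ (πE⁻¹).symm = actW πE⁻¹ c := rfl
  rw [hfun]
  rcases hcases ⟨c, hc⟩ with h | h
  · have := (x ⟨c, hc⟩).2
    rw [h] at this
    exact this
  · have h1 := (x ⟨c, hc⟩).2
    rw [h] at h1
    have h2 := golayCode.add_mem h1 one_mem_golayCode
    have : actW πE⁻¹ c + 1 + 1 = actW πE⁻¹ c := by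
      funext i
      have : ∀ t : ZMod 2, t + 1 + 1 = t := by decide
      exact this _
    rw [this] at h2
    exact h2

end Cfsg.Agent.Lib.H14.GolayDualAct
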