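import Mathlib
import Cfsg.Agent.Lib.H17.HJDefs
import Cfsg.Agent.Lib.H1.PCore

/-!
# S3313 piece CARDS : `|C_G(z)| = 1920`, `|C_G(t)| = 240` (helper14)
-/

set_option autoImplicit false

namespace Cfsg.Agent.Lib.H14.HJ

open Cfsg Cfsg.Agent.Lib.H17.HJ
open Pointwise

set_option linter.unusedSectionVars false

/-- `|H ⊔ N| = |H| |N|` when `H` normalizes `N` and `H ⊓ N = ⊥` -/
theorem card_sup_of_disjoint {G : Type*} [Group G] (H N : Subgroup G)
    (hn : ∀ h ∈ H, ∀ x ∈ N, h * x * h⁻¹ ∈ N) (hd : H ⊓ N = ⊥) :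
    Nat.card ↥(H ⊔ N) = Nat.card ↥H * Nat.card ↥N := by
  have hLE : H ≤ Subgroup.normalizer (N : Set G) := by
    intro h hh
    rw [Subgroup.mem_normalizer_iff]
    intro x
    constructor
    · exact hn h hh x
    · intro hx
      have := hn h⁻¹ (H.inv_mem hh) _ hx
      simpa [mul_assoc] using this
  have hset : ((H ⊔ N : Subgroup G) : Set G) = (H : Set G) * (N : Set G) :=
    Subgroup.coe_mul_of_left_le_normalizer_right H N hLE
  rw [← Nat.card_prod]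
  symm
  have hmem : ∀ p : ↥H × ↥N, (p.1 : G) * (p.2 : G) ∈ H ⊔ N := fun p =>
    (H ⊔ N).mul_mem ((le_sup_left : H ≤ H ⊔ N) p.1.2) ((le_sup_right : N ≤ H ⊔ N) p.2.2)
  refine Nat.card_congr (Equiv.ofBijective
    (fun p : ↥H × ↥N => (⟨(p.1 : G) * (p.2 : G), hmem p⟩ : ↥(H ⊔ N))) ⟨?_, ?_⟩)
  · rintro ⟨⟨a, ha⟩, ⟨b, hb⟩⟩ ⟨⟨a', ha'⟩, ⟨b', hb'⟩⟩ hab
    have hab' : a * b = a' * b' := congrArg Subtype.val hab
    have h1 : a'⁻¹ * a = b' * b⁻¹ := by
      have : a'⁻¹ * (a * b) * b⁻¹ = a'⁻¹ * (a' * b') * b⁻¹ := by rw [hab']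
      simpa [mul_assoc] using this
    have h2 : a'⁻¹ * a ∈ H ⊓ N :=
      ⟨H.mul_mem (H.inv_mem ha') ha, by rw [h1]; exact N.mul_mem hb' (N.inv_mem hb)⟩
    rw [hd, Subgroup.mem_bot] at h2
    have ha_eq : a = a' := by
      have := congrArg (fun x => a' * x) h2
      simpa using this
    have hb_eq : b = b' := by
      rw [h2] at h1
      have := congrArg (fun x => x * b) h1
      simpa using this
    subst ha_eq hb_eq
    rfl
  · rintro ⟨x, hx⟩
    have hx' : x ∈ ((H ⊔ N : Subgroup G) : Set G) := hx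
    rw [hset, Set.mem_mul] at hx'
    obtain ⟨a, ha, b, hb, rfl⟩ := hx'
    exact ⟨(⟨a, ha⟩, ⟨b, hb⟩), rfl⟩

theorem card_a5 : Nat.card ↥(alternatingGroup (Fin 5)) = 60 := by
  rw [nat_card_alternatingGroup]
  simp [Nat.factorial]

theorem card_Qz {G : Type*} [Group G] (z : G) :
    Nat.card ↥(Qz z) = Nat.card ↥(Cfsg.pCore 2 ↥(Subgroup.centralizer ({z} : Set G))) := by
  unfold Qz
  exact Nat.card_congr ((Cfsg.pCore 2 ↥(Subgroup.centralizer ({z} : Set G))).equivMapOfInjective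
    (Subgroup.centralizer ({z} : Set G)).subtype (Subgroup.subtype_injective _)).toEquiv.symm

/-- `Q` is normalized by `C_G(z)` -/
theorem Qz_conj_mem {G : Type*} [Group G] (z : G) (c : G)
    (hc : c ∈ Subgroup.centralizer ({z} : Set G)) (q : G) (hq : q ∈ Qz z) :
    c * q * c⁻¹ ∈ Qz z := by
  unfold Qz at hq ⊢
  rw [Subgroup.mem_map] at hq ⊢
  obtain ⟨q', hq', rfl⟩ := hq
  have hN := Cfsg.Agent.Lib.H1.pCore_normal 2 ↥(Subgroup.centralizer ({z} : Set G))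
  exact ⟨⟨c, hc⟩ * q' * ⟨c, hc⟩⁻¹, hN.conj_mem q' hq' ⟨c, hc⟩, rfl⟩

variable {G : Type*} [Group G] [Finite G] {z t : G} {K V B : Subgroup G}

theorem card_Cz (h : Setting z t K V B) :
    Nat.card ↥(Subgroup.centralizer ({z} : Set G)) = 1920 := by
  have hKle : K ≤ Subgroup.centralizer ({z} : Set G) := by
    rw [← h.hKC]; exact le_sup_left
  have hn : ∀ k ∈ K, ∀ x ∈ Qz z, k * x * k⁻¹ ∈ Qz z := fun k hk x hx =>
    Qz_conj_mem z k (hKle hk) x hx
  have h1 := card_sup_of_disjoint K (Qz z) hn h.hKQ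
  rw [h.hKC] at h1
  obtain ⟨e⟩ := h.hK
  rw [h1, card_Qz, h.hQ, Nat.card_congr e.toEquiv, card_a5]

theorem card_Ct (h : Setting z t K V B) :
    Nat.card ↥(Subgroup.centralizer ({t} : Set G)) = 240 := by
  obtain ⟨hVle, hBle, hcomm, hdisj, hsup⟩ := h.hVB
  have hn : ∀ v ∈ V, ∀ x ∈ B, v * x * v⁻¹ ∈ B := by
    intro v hv x hx
    rw [hcomm v hv x hx, mul_assoc, mul_inv_cancel, mul_one]
    exact hx
  have h1 := card_sup_of_disjoint V B hn hdisj
  rw [hsup] at h1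
  obtain ⟨e⟩ := h.hB
  rw [h1, h.hV, Nat.card_congr e.toEquiv, card_a5]

end Cfsg.Agent.Lib.H14.HJ
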