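import Mathlib
import Cfsg.Agent.Lib.H17.HJDefs
import Cfsg.Agent.Lib.H14.HJCARDS
import Cfsg.Agent.Lib.H29.HJDC

/-!
# S3313 piece NOUT : `C_G(z) ∖ Q` has 120 involutions (helper14)
-/

set_option autoImplicit false

namespace Cfsg.Agent.Lib.H14.HJ

open Cfsg Cfsg.Agent.Lib.H17.HJ

set_option linter.unusedSectionVars false

theorem orderOf_eq_two_iff' {M : Type*} [Group M] (a : M) :
    orderOf a = 2 ↔ a ≠ 1 ∧ a * a = 1 := by
  constructor
  · intro h
    refine ⟨?_, ?_⟩
    · rintro rfl
      rw [orderOf_one] at h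
      omega
    · have := pow_orderOf_eq_one a
      rw [h, pow_two] at this
      exact this
  · rintro ⟨h1, h2⟩
    have : Fact (Nat.Prime 2) := ⟨Nat.prime_two⟩
    exact orderOf_eq_prime (by rw [pow_two]; exact h2) h1

set_option maxRecDepth 100000 in
theorem a5_invol_card : Nat.card {a : alternatingGroup (Fin 5) // orderOf a = 2} = 15 := by
  have h : Nat.card {a : alternatingGroup (Fin 5) // orderOf a = 2} =
      Nat.card {a : alternatingGroup (Fin 5) // a ≠ 1 ∧ a * a = 1} :=
    Nat.card_congr (Equiv.subtypeEquivRight (fun a => orderOf_eq_two_iff' a))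
  rw [h, Nat.card_eq_fintype_card, Fintype.card_subtype]
  decide

variable {G : Type*} [Group G] [Finite G] {z t : G} {K V B : Subgroup G}

/-- the involutions of `B` are counted by `A₅` -/
theorem card_invol_B (h : Setting z t K V B) :
    Nat.card {a : G // a ∈ B ∧ orderOf a = 2} = 15 := by
  obtain ⟨e⟩ := h.hB
  rw [← a5_invol_card]
  refine Nat.card_congr ?_
  refine
    { toFun := fun a => ⟨e ⟨a.1, a.2.1⟩, ?_⟩
      invFun := fun b => ⟨(e.symm b.1 : G), (e.symm b.1).2, ?_⟩
      left_inv := ?_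
      right_inv := ?_ }
  · rw [MulEquiv.orderOf_eq, ← Subgroup.orderOf_coe]
    exact a.2.2
  · rw [Subgroup.orderOf_coe, MulEquiv.orderOf_eq]
    exact b.2
  · intro a
    apply Subtype.ext
    simp
  · intro b
    apply Subtype.ext
    simp

theorem card_out (h : Setting z t K V B) :
    Nat.card {v : G // v ∈ Subgroup.centralizer ({z} : Set G) ∧ orderOf v = 2 ∧ v ∉ Qz z} = 120 := by
  have hdc := Cfsg.Agent.Lib.H29.HJ.comm_count z t
  -- first set
  have h1 : Nat.card {b : G // IsConj t b ∧ z * b = b * z} =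
      Nat.card {v : G // v ∈ Subgroup.centralizer ({z} : Set G) ∧ orderOf v = 2 ∧ v ∉ Qz z} := by
    refine Nat.card_congr (Equiv.subtypeEquivRight (fun b => ?_))
    constructor
    · rintro ⟨hc, hcomm⟩
      have ho : orderOf b = 2 := by
        obtain ⟨c, hc'⟩ := hc
        rw [← SemiconjBy.orderOf_eq (↑c) hc', h.ht]
      refine ⟨Subgroup.mem_centralizer_singleton_iff.2 hcomm.symm, ho, ?_⟩
      intro hbQ
      exact h.hzt ((h.hQz b hbQ ho).symm.trans hc.symm)
    · rintro ⟨hbC, ho, hbQ⟩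
      exact ⟨(h.hCz b hbC ho hbQ).symm, (Subgroup.mem_centralizer_singleton_iff.1 hbC).symm⟩
  -- second set
  have hBle : B ≤ Subgroup.centralizer ({t} : Set G) := h.hVB.2.1
  have h2 : Nat.card {a : G // IsConj z a ∧ a * t = t * a} =
      Nat.card {a : G // a ∈ B ∧ orderOf a = 2} := by
    refine Nat.card_congr (Equiv.subtypeEquivRight (fun a => ?_))
    constructor
    · rintro ⟨hc, hcomm⟩
      have ho : orderOf a = 2 := by
        obtain ⟨c, hc'⟩ := hc
        rw [← SemiconjBy.orderOf_eq (↑c) hc', h.hz]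
      refine ⟨?_, ho⟩
      by_contra haB
      have haC : a ∈ Subgroup.centralizer ({t} : Set G) :=
        Subgroup.mem_centralizer_singleton_iff.2 hcomm
      exact h.hzt (hc.trans (h.hCt a haC ho haB))
    · rintro ⟨haB, ho⟩
      exact ⟨(h.hBz a haB ho).symm, Subgroup.mem_centralizer_singleton_iff.1 (hBle haB)⟩
  rw [h1, h2, card_invol_B h, card_Ct h, card_Cz h] at hdc
  omega

end Cfsg.Agent.Lib.H14.HJ
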