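import Mathlib
import Cfsg.Prelude.Def_Sporadic_a
import Cfsg.Agent.Lib.H14.SrgBase

set_option autoImplicit false
set_option linter.unusedSectionVars false

namespace Cfsg.Agent.Lib.H14.HSAut

open Cfsg Cfsg.Agent.Lib.H14.Srg
open scoped Pointwise

section gen
variable {α : Type*} [DecidableEq α] {B : Set (Finset α)}

theorem image_eq_smul (σ : Equiv.Perm α) : (fun b : Finset α => b.image σ) '' B = σ • B := by
  rw [← Set.image_smul]
  rfl

theorem mem_setSystemAut_iff (σ : Equiv.Perm α) :
    σ ∈ setSystemAut B ↔ (fun b : Finset α => b.image σ) '' B = B := by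
  rw [image_eq_smul]
  exact MulAction.mem_stabilizer_iff

theorem adj_none_iff (w : Option (α ⊕ B)) :
    (pointBlockGraph B).Adj none w ↔ ∃ a, w = some (Sum.inl a) := by
  rcases w with _ | a | b
  · simp [pointBlockGraph]
  · simp [pointBlockGraph, pointBlockRel]
  · simp [pointBlockGraph, pointBlockRel]

theorem adj_pt_blk_iff (a : α) (b : B) :
    (pointBlockGraph B).Adj (some (Sum.inl a)) (some (Sum.inr b)) ↔ a ∈ (b : Finset α) := by
  simp [pointBlockGraph, pointBlockRel]

/-- the automorphism group of the point-block graph -/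
abbrev AutPB (B : Set (Finset α)) : Type _ := pointBlockGraph B ≃g pointBlockGraph B

theorem pt_of_fix (f : AutPB B) (hf : f none = none) (a : α) :
    ∃ a', f (some (Sum.inl a)) = some (Sum.inl a') := by
  rw [← adj_none_iff, ← hf, f.map_adj_iff, adj_none_iff]
  exact ⟨a, rfl⟩

theorem symm_fix (f : AutPB B) (hf : f none = none) : f.symm none = none := by
  rw [← hf, f.symm_apply_apply, hf]

/-- the map of points induced by an automorphism fixing the extra vertex -/
noncomputable def ptFun (f : AutPB B) (hf : f none = none) (a : α) : α :=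
  Classical.choose (pt_of_fix f hf a)

theorem ptFun_spec (f : AutPB B) (hf : f none = none) (a : α) :
    f (some (Sum.inl a)) = some (Sum.inl (ptFun f hf a)) :=
  Classical.choose_spec (pt_of_fix f hf a)

theorem ptFun_symm (f : AutPB B) (hf : f none = none) (a : α) :
    ptFun f.symm (symm_fix f hf) (ptFun f hf a) = a := by
  have h1 := ptFun_spec f hf a
  have h2 := ptFun_spec f.symm (symm_fix f hf) (ptFun f hf a)
  rw [← h1, f.symm_apply_apply] at h2
  exact (Sum.inl_injective (Option.some_injective _ h2)).symm

theorem ptFun_symm' (f : AutPB B) (hf : f none = none) (a : α) :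
    ptFun f hf (ptFun f.symm (symm_fix f hf) a) = a := by
  have h1 := ptFun_spec f.symm (symm_fix f hf) a
  have h2 := ptFun_spec f hf (ptFun f.symm (symm_fix f hf) a)
  rw [← h1, f.apply_symm_apply] at h2
  exact (Sum.inl_injective (Option.some_injective _ h2)).symm

/-- the permutation of points induced by an automorphism fixing the extra vertex -/
noncomputable def permOf (f : AutPB B) (hf : f none = none) : Equiv.Perm α where
  toFun := ptFun f hf
  invFun := ptFun f.symm (symm_fix f hf)
  left_inv := ptFun_symm f hf
  right_inv := ptFun_symm' f hf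

theorem permOf_spec (f : AutPB B) (hf : f none = none) (a : α) :
    f (some (Sum.inl a)) = some (Sum.inl (permOf f hf a)) :=
  ptFun_spec f hf a

theorem permOf_symm_spec (f : AutPB B) (hf : f none = none) (a : α) :
    f.symm (some (Sum.inl a)) = some (Sum.inl ((permOf f hf).symm a)) :=
  ptFun_spec f.symm (symm_fix f hf) a

theorem blk_of_fix (f : AutPB B) (hf : f none = none) (b : B) :
    ∃ b' : B, f (some (Sum.inr b)) = some (Sum.inr b') := by
  rcases h : f (some (Sum.inr b)) with _ | a | b'
  · rw [← hf] at h
    exact absurd (f.injective h) (by simp)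
  · have h2 := permOf_symm_spec f hf a
    rw [← h, f.symm_apply_apply] at h2
    simp at h2
  · exact ⟨b', rfl⟩

theorem blk_of_fix_coe (f : AutPB B) (hf : f none = none) (b b' : B)
    (h : f (some (Sum.inr b)) = some (Sum.inr b')) :
    (b' : Finset α) = (b : Finset α).image (permOf f hf) := by
  ext x
  rw [Finset.mem_image]
  constructor
  · intro hx
    refine ⟨(permOf f hf).symm x, ?_, (permOf f hf).apply_symm_apply x⟩
    rw [← adj_pt_blk_iff, ← f.map_adj_iff, permOf_spec f hf, h, Equiv.apply_symm_apply,
      adj_pt_blk_iff]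
    exact hx
  · rintro ⟨a, ha, rfl⟩
    rw [← adj_pt_blk_iff, ← h, ← permOf_spec f hf, f.map_adj_iff, adj_pt_blk_iff]
    exact ha

theorem image_permOf_mem (f : AutPB B) (hf : f none = none) (b : B) :
    (b : Finset α).image (permOf f hf) ∈ B := by
  obtain ⟨b', hb'⟩ := blk_of_fix f hf b
  rw [← blk_of_fix_coe f hf b b' hb']
  exact b'.2

theorem permOf_symm (f : AutPB B) (hf : f none = none) :
    permOf f.symm (symm_fix f hf) = (permOf f hf).symm := by
  ext a
  have h1 := permOf_spec f.symm (symm_fix f hf) a
  rw [permOf_symm_spec f hf a] at h1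
  exact (Sum.inl_injective (Option.some_injective _ h1)).symm

theorem permOf_mem (f : AutPB B) (hf : f none = none) :
    (fun b : Finset α => b.image (permOf f hf)) '' B = B := by
  apply Set.Subset.antisymm
  · rintro _ ⟨b, hb, rfl⟩
    exact image_permOf_mem f hf ⟨b, hb⟩
  · intro b hb
    refine ⟨b.image (permOf f hf).symm, ?_, ?_⟩
    · have := image_permOf_mem f.symm (symm_fix f hf) ⟨b, hb⟩
      rwa [permOf_symm] at this
    · simp only [Finset.image_image]
      have : (⇑(permOf f hf) ∘ ⇑(permOf f hf).symm) = id := by
        ext a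
        simp
      rw [this, Finset.image_id]

theorem eq_iso_permOf (f : AutPB B) (hf : f none = none) :
    f = pointBlockGraphIso (permOf f hf) (permOf_mem f hf) := by
  apply RelIso.ext
  rintro (_ | a | b)
  · exact hf
  · exact permOf_spec f hf a
  · obtain ⟨b', hb'⟩ := blk_of_fix f hf b
    rw [hb']
    have : b' = blockEquiv (permOf f hf) (permOf_mem f hf) b :=
      Subtype.ext (blk_of_fix_coe f hf b b' hb')
    rw [this]
    rfl

/-- automorphisms of the set system are the automorphisms of the graph fixing the extra vertex -/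
noncomputable def stabEquiv :
    setSystemAut B ≃ MulAction.stabilizer (AutPB B) (none : Option (α ⊕ B)) where
  toFun σ := ⟨pointBlockGraphIso σ.1 ((mem_setSystemAut_iff σ.1).1 σ.2), by
    rw [MulAction.mem_stabilizer_iff]; rfl⟩
  invFun f := ⟨permOf f.1 (MulAction.mem_stabilizer_iff.1 f.2),
    (mem_setSystemAut_iff _).2 (permOf_mem f.1 (MulAction.mem_stabilizer_iff.1 f.2))⟩
  left_inv σ := by
    apply Subtype.ext
    ext a
    have h := permOf_spec (pointBlockGraphIso σ.1 ((mem_setSystemAut_iff σ.1).1 σ.2))
      (by rfl) a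
    exact (Sum.inl_injective (Option.some_injective _ h)).symm
  right_inv f := by
    apply Subtype.ext
    exact (eq_iso_permOf f.1 (MulAction.mem_stabilizer_iff.1 f.2)).symm

end gen

end Cfsg.Agent.Lib.H14.HSAut
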