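import Mathlib
import Cfsg.Prelude.Def_Sporadic_a
import Cfsg.Agent.Lib.H14.SrgBase

set_option autoImplicit false

namespace Cfsg.Agent.Lib.H14.HSModel

open Cfsg

/-- bit masks of the 77 blocks of a concrete `S(3,6,22)` on `Fin 22` -/
def masks : List ℕ := [1594, 4773, 12036, 16601, 21574, 41666, 55680, 58401, 67881, 73751, 78984, 102512, 115212, 134275, 137244, 143650, 150112, 164165, 197520, 267080, 278836, 288778, 297489, 329924, 361730, 402512, 426152, 479233, 525792, 538689, 541443, 559142, 565528, 609296, 680068, 693760, 720970, 787469, 790674, 860704, 1048974, 1053969, 1058992, 1084488, 1120770, 1139008, 1188361, 1228818, 1246244, 1310819, 1328768, 1355780, 1573460, 1593384, 1671297, 1968384, 2099538, 2105452, 2126352, 2131092, 2134027, 2164289, 2179234, 2245896, 2336768, 2366496, 2367873, 2490886, 2624136, 2691332, 2752561, 2932800, 3164165, 3179296, 3281088, 3473432, 3679234]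

/-- the subset of `Fin 22` coded by a bit mask -/
def fsMask (m : ℕ) : Finset (Fin 22) := Finset.univ.filter (fun i : Fin 22 => m.testBit i.val = true)

theorem mem_fsMask {m : ℕ} {i : Fin 22} : i ∈ fsMask m ↔ m.testBit i.val = true := by
  simp [fsMask]

/-- the concrete block set -/
def B0 : Set (Finset (Fin 22)) := {b | ∃ m ∈ masks, b = fsMask m}

theorem card_check : ∀ m ∈ masks, (fsMask m).card = 6 := by decide +kernel

theorem triple_check : ∀ i j k : Fin 22, i ≠ j → i ≠ k → j ≠ k →
    (masks.filter (fun m => m.testBit i.val && m.testBit j.val && m.testBit k.val)).length = 1 := by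
  decide +kernel

theorem lt_check : ∀ m ∈ masks, m < 2 ^ 22 := by decide +kernel

theorem nodup_check : masks.Nodup := by decide +kernel


theorem isSteiner_B0 : IsSteinerSystem 3 6 B0 := by
  refine ⟨?_, ?_⟩
  · rintro b ⟨m, hm, rfl⟩
    exact card_check m hm
  · intro s hs
    obtain ⟨i, j, k, hij, hik, hjk, rfl⟩ := Finset.card_eq_three.1 hs
    have h1 := triple_check i j k hij hik hjk
    obtain ⟨m, hm⟩ := List.length_eq_one_iff.1 h1
    have hmem : m ∈ masks.filter (fun m => m.testBit i.val && m.testBit j.val && m.testBit k.val) := by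
      rw [hm]; exact List.mem_singleton.2 rfl
    rw [List.mem_filter] at hmem
    obtain ⟨hm1, hm2⟩ := hmem
    simp only [Bool.and_eq_true] at hm2
    refine ⟨fsMask m, ⟨⟨m, hm1, rfl⟩, ?_⟩, ?_⟩
    · intro x hx
      simp only [Finset.mem_insert, Finset.mem_singleton] at hx
      rcases hx with rfl | rfl | rfl
      · exact mem_fsMask.2 hm2.1.1
      · exact mem_fsMask.2 hm2.1.2
      · exact mem_fsMask.2 hm2.2
    · rintro b ⟨⟨m', hm', rfl⟩, hsub⟩
      have hi := mem_fsMask.1 (hsub (by simp : i ∈ ({i, j, k} : Finset (Fin 22))))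
      have hj := mem_fsMask.1 (hsub (by simp : j ∈ ({i, j, k} : Finset (Fin 22))))
      have hk := mem_fsMask.1 (hsub (by simp : k ∈ ({i, j, k} : Finset (Fin 22))))
      have hmem' : m' ∈ masks.filter
          (fun m => m.testBit i.val && m.testBit j.val && m.testBit k.val) := by
        rw [List.mem_filter]
        exact ⟨hm', by simp [hi, hj, hk]⟩
      rw [hm] at hmem'
      rw [List.mem_singleton.1 hmem']

theorem testBit_eq_false_of_lt {m : ℕ} (hm : m < 2 ^ 22) {i : ℕ} (hi : 22 ≤ i) :
    m.testBit i = false :=
  Nat.testBit_lt_two_pow (lt_of_lt_of_le hm (Nat.pow_le_pow_right (by norm_num) hi))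

theorem fsMask_injOn {m m' : ℕ} (hm : m < 2 ^ 22) (hm' : m' < 2 ^ 22)
    (h : fsMask m = fsMask m') : m = m' := by
  apply Nat.eq_of_testBit_eq
  intro i
  by_cases hi : i < 22
  · have := Finset.ext_iff.1 h ⟨i, hi⟩
    rw [mem_fsMask, mem_fsMask] at this
    simp only at this
    cases h1 : m.testBit i <;> cases h2 : m'.testBit i <;> simp_all
  · push Not at hi
    rw [testBit_eq_false_of_lt hm hi, testBit_eq_false_of_lt hm' hi]

theorem disjoint_fsMask {m m' : ℕ} (hm : m < 2 ^ 22) :
    Disjoint (fsMask m) (fsMask m') ↔ m &&& m' = 0 := by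
  rw [Finset.disjoint_left]
  constructor
  · intro h
    apply Nat.eq_of_testBit_eq
    intro i
    rw [Nat.testBit_and, Nat.zero_testBit]
    by_cases hi : i < 22
    · have := h (a := ⟨i, hi⟩)
      rw [mem_fsMask, mem_fsMask] at this
      simp only at this
      cases h1 : m.testBit i <;> cases h2 : m'.testBit i <;> simp_all
    · push Not at hi
      rw [testBit_eq_false_of_lt hm hi, Bool.false_and]
  · intro h i h1 h2
    rw [mem_fsMask] at h1 h2
    have := congrArg (fun x => x.testBit i.val) h
    simp only [Nat.testBit_and, Nat.zero_testBit, h1, h2, Bool.and_self] at this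
    exact absurd this (by decide)

/-- vertices of the concrete graphs: the masks -/
abbrev MV : Type := {m : ℕ // m ∈ masks}

/-- the blocks of the model are indexed by the masks -/
noncomputable def maskEquiv : MV ≃ B0 :=
  Equiv.ofBijective (fun m => ⟨fsMask m.1, m.1, m.2, rfl⟩) ⟨by
    intro m m' h
    have := congrArg Subtype.val h
    exact Subtype.ext (fsMask_injOn (lt_check _ m.2) (lt_check _ m'.2) this), by
    rintro ⟨b, m, hm, rfl⟩
    exact ⟨⟨m, hm⟩, rfl⟩⟩

theorem maskEquiv_coe (m : MV) : ((maskEquiv m : B0) : Finset (Fin 22)) = fsMask m.1 := rfl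


open Cfsg.Agent.Lib.H14.Srg

/-- Boolean adjacency of the block graph on masks -/
def adj77 (v w : MV) : Bool := (v.1 != w.1) && ((v.1 &&& w.1) == 0)

theorem blockGraph_adj_iff (v w : MV) :
    (blockGraph B0).Adj (maskEquiv v) (maskEquiv w) ↔ adj77 v w = true := by
  simp only [blockGraph, SimpleGraph.fromRel_adj, ne_eq, EmbeddingLike.apply_eq_iff_eq,
    maskEquiv_coe, disjoint_fsMask (lt_check _ v.2), disjoint_fsMask (lt_check _ w.2), adj77,
    Bool.and_eq_true, bne_iff_ne, beq_iff_eq, Nat.land_comm w.1 v.1, or_self]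
  constructor
  · rintro ⟨h1, h2⟩
    exact ⟨fun h => h1 (Subtype.ext h), h2⟩
  · rintro ⟨h1, h2⟩
    exact ⟨fun h => h1 (congrArg Subtype.val h), h2⟩

theorem check77 : srgCheck masks.attach adj77 16 0 4 = true := by decide +kernel

theorem srg77 : SRGProp (blockGraph B0) 77 16 0 4 := by
  have h : SRGProp ((blockGraph B0).comap maskEquiv) 77 16 0 4 :=
    srg_of_check _ masks.attach (List.nodup_attach.2 nodup_check) (fun v => List.mem_attach _ v)
      adj77 (fun v w => by rw [SimpleGraph.comap_adj]; exact blockGraph_adj_iff v w) 77 16 0 4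
      (by rw [List.length_attach]; rfl) check77
  exact SRGProp.of_iso (SimpleGraph.Iso.comap maskEquiv (blockGraph B0)).symm h


/-- vertices of the concrete 100-vertex graph -/
abbrev V100 : Type := Option (Fin 22 ⊕ MV)

/-- Boolean adjacency of the concrete 100-vertex graph -/
def adj100 : V100 → V100 → Bool
  | none, some (Sum.inl _) => true
  | some (Sum.inl _), none => true
  | some (Sum.inl p), some (Sum.inr m) => m.1.testBit p.1
  | some (Sum.inr m), some (Sum.inl p) => m.1.testBit p.1
  | some (Sum.inr m), some (Sum.inr m') => adj77 m m'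
  | _, _ => false

/-- the vertex bijection for the 100-vertex graph -/
noncomputable def equiv100 : V100 ≃ Option (Fin 22 ⊕ B0) :=
  Equiv.optionCongr (Equiv.sumCongr (Equiv.refl _) maskEquiv)

theorem pointBlockGraph_adj_iff (v w : V100) :
    (pointBlockGraph B0).Adj (equiv100 v) (equiv100 w) ↔ adj100 v w = true := by
  rcases v with _ | p | m <;> rcases w with _ | q | m'
  · simp [pointBlockGraph, adj100, equiv100]
  · simp [pointBlockGraph, pointBlockRel, adj100, equiv100]
  · simp [pointBlockGraph, pointBlockRel, adj100, equiv100]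
  · simp [pointBlockGraph, pointBlockRel, adj100, equiv100]
  · simp [pointBlockGraph, pointBlockRel, adj100, equiv100]
  · simp only [pointBlockGraph, SimpleGraph.fromRel_adj, equiv100, adj100]
    simp [pointBlockRel, maskEquiv_coe, mem_fsMask]
  · simp [pointBlockGraph, pointBlockRel, adj100, equiv100]
  · simp only [pointBlockGraph, SimpleGraph.fromRel_adj, equiv100, adj100]
    simp [pointBlockRel, maskEquiv_coe, mem_fsMask]
  · have := blockGraph_adj_iff m m'
    simp only [blockGraph, SimpleGraph.fromRel_adj] at this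
    simp only [pointBlockGraph, SimpleGraph.fromRel_adj, equiv100, adj100]
    rw [← this]
    simp [pointBlockRel]


/-- enumeration of the 100 vertices -/
def l100 : List V100 :=
  none :: ((List.finRange 22).map (fun p => some (Sum.inl p)) ++
    masks.attach.map (fun m => some (Sum.inr m)))

theorem nodup_l100 : l100.Nodup := by
  unfold l100
  rw [List.nodup_cons]
  refine ⟨by simp, ?_⟩
  refine List.Nodup.append ?_ ?_ ?_
  · exact (List.nodup_finRange 22).map (fun a b h => by simpa using h)
  · exact (List.nodup_attach.2 nodup_check).map (fun a b h => by simpa using h)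
  · intro x hx hx'
    rw [List.mem_map] at hx hx'
    obtain ⟨p, -, rfl⟩ := hx
    obtain ⟨m, -, h⟩ := hx'
    simp at h

theorem mem_l100 (v : V100) : v ∈ l100 := by
  unfold l100
  rcases v with _ | p | m
  · simp
  · simp
  · simp

theorem length_l100 : l100.length = 100 := by
  unfold l100
  rw [List.length_cons, List.length_append, List.length_map, List.length_map,
    List.length_attach, List.length_finRange]
  rfl

theorem check100 : srgCheck l100 adj100 22 0 6 = true := by decide +kernel

theorem srg100 : SRGProp (pointBlockGraph B0) 100 22 0 6 := by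
  have h : SRGProp ((pointBlockGraph B0).comap equiv100) 100 22 0 6 :=
    srg_of_check _ l100 nodup_l100 mem_l100
      adj100 (fun v w => by rw [SimpleGraph.comap_adj]; exact pointBlockGraph_adj_iff v w)
      100 22 0 6 length_l100 check100
  exact SRGProp.of_iso (SimpleGraph.Iso.comap equiv100 (pointBlockGraph B0)).symm h

end Cfsg.Agent.Lib.H14.HSModel
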