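import Mathlib
import Cfsg.Prelude.Def_Sporadic_a
import Cfsg.Agent.Lib.H14.HSAut
import Cfsg.Agent.Lib.H2.SRG100b
import Cfsg.Agent.S0410
import Cfsg.Agent.S0414
import Cfsg.Agent.S0428

set_option autoImplicit false
set_option linter.unusedSectionVars false

namespace Cfsg.Agent.Lib.H14.HSAut

open Cfsg Cfsg.Agent.Lib.H14.Srg
open scoped Pointwise

section count
variable {α : Type*} [Fintype α] [DecidableEq α] {B : Set (Finset α)}

theorem exists_aut_to_none (hα : Fintype.card α = 22) (hB : IsSteinerSystem 3 6 B)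
    (v : Option (α ⊕ B)) : ∃ f : AutPB B, f v = none := by
  classical
  have : Fintype B := Fintype.ofFinite B
  have hΓ : (pointBlockGraph B).IsSRGWith 100 22 0 6 := Cfsg.Agent.S0428.result hα hB
  obtain ⟨e, he⟩ := Cfsg.Agent.S0410.result (Cfsg.Agent.Lib.H2.SRG100.card_Pt hΓ (v0 := v)) hα
    (Cfsg.Agent.Lib.H2.SRG100.steiner hΓ (v0 := v)) hB
  refine ⟨(Cfsg.Agent.Lib.H2.SRG100.isoPB hΓ (v0 := v)).trans (pointBlockGraphIso e he), ?_⟩
  show pointBlockGraphIso e he (Cfsg.Agent.Lib.H2.SRG100.toPB (pointBlockGraph B) v v) = none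
  rw [Cfsg.Agent.Lib.H2.SRG100.toPB_v0]
  rfl

theorem card_vertices (hα : Fintype.card α = 22) (hB : IsSteinerSystem 3 6 B) :
    Nat.card (Option (α ⊕ B)) = 100 := by
  classical
  have : Fintype B := Fintype.ofFinite B
  have hΓ : (pointBlockGraph B).IsSRGWith 100 22 0 6 := Cfsg.Agent.S0428.result hα hB
  rw [Nat.card_eq_fintype_card]
  exact hΓ.card

theorem card_aut (hα : Fintype.card α = 22) (hB : IsSteinerSystem 3 6 B) :
    Nat.card (AutPB B) = 88704000 := by
  have htrans : MulAction.orbit (AutPB B) (none : Option (α ⊕ B)) = Set.univ := by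
    ext v
    simp only [Set.mem_univ, iff_true]
    obtain ⟨f, hf⟩ := exists_aut_to_none hα hB v
    refine ⟨f⁻¹, ?_⟩
    rw [← hf]
    simp
  have h1 := MulAction.index_stabilizer (AutPB B) (none : Option (α ⊕ B))
  rw [htrans, Set.ncard_univ, card_vertices hα hB] at h1
  have h2 := Subgroup.index_mul_card (MulAction.stabilizer (AutPB B) (none : Option (α ⊕ B)))
  rw [h1, ← Nat.card_congr stabEquiv, (Cfsg.Agent.S0414.result hα hB).1] at h2
  rw [← h2]

end count

end Cfsg.Agent.Lib.H14.HSAut
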