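import Mathlib

set_option autoImplicit false

namespace Cfsg.Agent.Lib.H14.SignInv

/-- the sign of an involution moving `2k` points is `(-1)^k` -/
theorem sign_of_involution {X : Type*} [Fintype X] [DecidableEq X] (π : Equiv.Perm X)
    (h2 : π * π = 1) (k : ℕ) (hk : π.support.card = 2 * k) :
    Equiv.Perm.sign π = (-1) ^ k := by
  have hall : ∀ n ∈ π.cycleType, n = 2 := by
    intro n hn
    have h1 : n ∣ orderOf π := Equiv.Perm.dvd_of_mem_cycleType hn
    have h3 : orderOf π ∣ 2 := orderOf_dvd_of_pow_eq_one (by rw [sq]; exact h2)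
    have h4 : 2 ≤ n := Equiv.Perm.two_le_of_mem_cycleType hn
    have h5 := Nat.le_of_dvd (by norm_num) (h1.trans h3)
    omega
  have hrep : π.cycleType = Multiset.replicate (Multiset.card π.cycleType) 2 :=
    Multiset.eq_replicate_card.2 hall
  have hsum := Equiv.Perm.sum_cycleType π
  rw [hrep, Multiset.sum_replicate, hk, smul_eq_mul, mul_comm] at hsum
  have hcard : Multiset.card π.cycleType = k := by omega
  rw [Equiv.Perm.sign_of_cycleType, hrep, hcard, Multiset.sum_replicate, Multiset.card_replicate,
    smul_eq_mul, pow_add, mul_comm k 2, pow_mul]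
  simp

end Cfsg.Agent.Lib.H14.SignInv
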