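import Mathlib
import Cfsg.Prelude.Def_Sporadic_a
import Cfsg.Agent.Lib.H14.HSModel
import Cfsg.Agent.Lib.H14.HSAut
import Cfsg.Agent.Lib.H14.SignInv

set_option autoImplicit false

namespace Cfsg.Agent.Lib.H14.HSOdd

open Cfsg Cfsg.Agent.Lib.H14.Srg Cfsg.Agent.Lib.H14.HSModel Cfsg.Agent.Lib.H14.HSAut

/-- table of an involutory automorphism of the model with 8 fixed points -/
def sigTab : List (Fin 22) :=
  [15, 1, 17, 3, 4, 10, 8, 19, 6, 9, 5, 11, 12, 14, 13, 0, 20, 2, 18, 7, 16, 21]

def sigFun (i : Fin 22) : Fin 22 := sigTab.getD i.1 0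

theorem sigFun_invol : Function.Involutive sigFun := by
  have : ∀ i : Fin 22, sigFun (sigFun i) = i := by decide
  exact this

/-- the involution as a permutation -/
def sig : Equiv.Perm (Fin 22) := sigFun_invol.toPerm

theorem sig_apply (i : Fin 22) : sig i = sigFun i := rfl

theorem sig_sig (i : Fin 22) : sig (sig i) = i := sigFun_invol i

theorem pres_check : ∀ m ∈ masks, ∃ m' ∈ masks,
    ∀ i : Fin 22, m'.testBit (sigFun i).val = m.testBit i.val := by decide +kernel

theorem mem_image_sig {m : ℕ} {x : Fin 22} :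
    x ∈ (fsMask m).image sig ↔ m.testBit (sigFun x).val = true := by
  rw [Finset.mem_image]
  constructor
  · rintro ⟨i, hi, rfl⟩
    rw [sig_apply, sigFun_invol i]
    exact mem_fsMask.1 hi
  · intro h
    exact ⟨sigFun x, mem_fsMask.2 h, by rw [sig_apply, sigFun_invol x]⟩

theorem image_sig_mem {b : Finset (Fin 22)} (hb : b ∈ B0) : b.image sig ∈ B0 := by
  obtain ⟨m, hm, rfl⟩ := hb
  obtain ⟨m', hm', h⟩ := pres_check m hm
  refine ⟨m', hm', ?_⟩
  ext x
  rw [mem_image_sig, mem_fsMask]
  have := h (sigFun x)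
  rw [sigFun_invol x] at this
  rw [this]

theorem image_sig_image_sig (b : Finset (Fin 22)) : (b.image sig).image sig = b := by
  rw [Finset.image_image]
  have : (⇑sig ∘ ⇑sig) = id := by
    ext i
    simp [sig_sig]
  rw [this, Finset.image_id]

theorem hsig : (fun b : Finset (Fin 22) => b.image sig) '' B0 = B0 := by
  apply Set.Subset.antisymm
  · rintro _ ⟨b, hb, rfl⟩
    exact image_sig_mem hb
  · intro b hb
    exact ⟨b.image sig, image_sig_mem hb, image_sig_image_sig b⟩

/-- the odd automorphism of the concrete graph -/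
noncomputable def f0 : AutPB B0 := pointBlockGraphIso sig hsig

theorem f0_none : f0 none = none := rfl
theorem f0_pt (a : Fin 22) : f0 (some (Sum.inl a)) = some (Sum.inl (sig a)) := rfl
theorem f0_blk (b : B0) : f0 (some (Sum.inr b)) = some (Sum.inr (blockEquiv sig hsig b)) := rfl

theorem f0_f0 (v : Option (Fin 22 ⊕ B0)) : f0 (f0 v) = v := by
  rcases v with _ | a | b
  · rfl
  · rw [f0_pt, f0_pt, sig_sig]
  · rw [f0_blk, f0_blk]
    congr 2
    apply Subtype.ext
    rw [blockEquiv_coe, blockEquiv_coe, image_sig_image_sig]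

/-- Boolean: the vertex is moved by `f0` -/
def movB : V100 → Bool
  | none => false
  | some (Sum.inl a) => sigFun a != a
  | some (Sum.inr m) => !((List.finRange 22).all fun i => m.1.testBit (sigFun i).val == m.1.testBit i.val)

theorem movB_iff (w : V100) : f0 (equiv100 w) ≠ equiv100 w ↔ movB w = true := by
  rcases w with _ | a | m
  · simp [equiv100, f0_none, movB]
  · have : equiv100 (some (Sum.inl a)) = some (Sum.inl a) := rfl
    rw [this, f0_pt, sig_apply]
    simp [movB]
  · have : equiv100 (some (Sum.inr m)) = some (Sum.inr (maskEquiv m)) := rfl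
    rw [this, f0_blk]
    simp only [movB, ne_eq, Option.some.injEq, Sum.inr.injEq, Bool.not_eq_eq_eq_not, Bool.not_true,
      List.all_eq_false, List.mem_finRange, beq_iff_eq, true_and]
    rw [Subtype.ext_iff, blockEquiv_coe, maskEquiv_coe, Finset.ext_iff]
    simp only [mem_image_sig, mem_fsMask]
    constructor
    · intro h
      push Not at h
      obtain ⟨x, hx⟩ := h
      refine ⟨x, ?_⟩
      intro h2
      rcases hx with ⟨h3, h4⟩ | ⟨h3, h4⟩
      · rw [h2] at h3; exact h4 h3
      · rw [h2] at h3; exact h3 h4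
    · rintro ⟨x, hx⟩ h
      apply hx
      have := h x
      cases h1 : m.1.testBit (sigFun x).val <;> cases h2 : m.1.testBit x.val <;> simp_all

theorem mov_check : (l100.filter movB).length = 70 := by decide +kernel


theorem card_moved : Nat.card {v : Option (Fin 22 ⊕ B0) // f0 v ≠ v} = 70 := by
  rw [← mov_check, ← card_subtype_of_list l100 nodup_l100 mem_l100 movB]
  apply Nat.card_congr
  exact (Equiv.subtypeEquiv equiv100 (fun w => (movB_iff w).symm)).symm

theorem sign_f0 [Fintype (Option (Fin 22 ⊕ B0))] [DecidableEq (Option (Fin 22 ⊕ B0))] :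
    Equiv.Perm.sign (f0.toEquiv : Equiv.Perm (Option (Fin 22 ⊕ B0))) = -1 := by
  have h := Cfsg.Agent.Lib.H14.SignInv.sign_of_involution
    (f0.toEquiv : Equiv.Perm (Option (Fin 22 ⊕ B0))) (Equiv.ext (fun v => f0_f0 v)) 35 (by
      rw [← Nat.subtype_card (p := fun v => f0 v ≠ v) _ (fun v => Equiv.Perm.mem_support)]
      exact card_moved)
  rw [h]
  decide

end Cfsg.Agent.Lib.H14.HSOdd
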