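import Mathlib

set_option autoImplicit false

namespace Cfsg.Agent.Lib.H14.Idx2

/-- cardinality of the join of two disjoint normal subgroups -/
theorem card_sup_of_disjoint {G : Type*} [Group G] (H K : Subgroup G) [K.Normal]
    (h : H ⊓ K = ⊥) : Nat.card (H ⊔ K : Subgroup G) = Nat.card H * Nat.card K := by
  have h1 : K.relIndex (H ⊔ K) = K.relIndex H := Subgroup.relIndex_sup_right H K
  have h2 : K.relIndex H = Nat.card H := by
    rw [← Subgroup.inf_relIndex_left, h, Subgroup.relIndex_bot_left]
  have h3 := Subgroup.card_mul_index (K.subgroupOf (H ⊔ K))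
  have h4 : Nat.card (K.subgroupOf (H ⊔ K)) = Nat.card K :=
    Nat.card_congr (Subgroup.subgroupOfEquivOfLe le_sup_right).toEquiv
  rw [h4] at h3
  change Nat.card K * K.relIndex (H ⊔ K) = _ at h3
  rw [h1, h2] at h3
  rw [← h3, mul_comm]

/-- Normal subgroups of a centreless group with a simple subgroup of index two. -/
theorem normal_eq_of_index_two {G : Type*} [Group G] [Finite G] (M : Subgroup G)
    (hM2 : M.index = 2) (hMs : IsSimpleGroup M)
    (hZ : ∀ z : G, (∀ g, g * z = z * g) → z = 1) (K : Subgroup G) [hK : K.Normal] :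
    K = ⊥ ∨ K = M ∨ K = ⊤ := by
  have hMn : M.Normal := Subgroup.normal_of_index_eq_two hM2
  have hKM : (K.subgroupOf M).Normal := hK.subgroupOf M
  rcases hMs.eq_bot_or_eq_top_of_normal _ hKM with h | h
  · -- K ⊓ M = ⊥
    left
    have hinf : K ⊓ M = ⊥ := by
      rw [Subgroup.subgroupOf_eq_bot] at h
      exact disjoint_iff.1 h
    have hc := card_sup_of_disjoint K M hinf
    have hle : Nat.card (K ⊔ M : Subgroup G) ≤ Nat.card G := Subgroup.card_le_card_group _
    have hG : Nat.card M * 2 = Nat.card G := by rw [← hM2]; exact M.card_mul_index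
    have hMpos : 0 < Nat.card M := Nat.card_pos
    have hK2 : Nat.card K ≤ 2 := by
      rw [hc, ← hG, mul_comm] at hle
      exact Nat.le_of_mul_le_mul_left hle hMpos
    have hKpos : 0 < Nat.card K := Nat.card_pos
    by_contra hne
    have hK1 : Nat.card K ≠ 1 := fun h1 => hne (Subgroup.card_eq_one.1 h1)
    have hK2' : Nat.card K = 2 := by omega
    -- a nontrivial element k of K is central
    obtain ⟨k, hk1⟩ := (Subgroup.ne_bot_iff_exists_ne_one.1 hne)
    have hk' : (k : G) ≠ 1 := fun h => hk1 (Subtype.ext h)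
    have hall : ∀ x : K, x = 1 ∨ x = k := by
      intro x
      by_contra hx
      push Not at hx
      have : 2 < Nat.card K := by
        classical
        have : Fintype K := Fintype.ofFinite K
        rw [Nat.card_eq_fintype_card (α := K)]
        have := Finset.card_le_univ ({1, k, x} : Finset K)
        rw [Finset.card_insert_of_notMem, Finset.card_insert_of_notMem,
          Finset.card_singleton] at this
        · exact this
        · simp only [Finset.mem_singleton]; exact fun h => hx.2 h.symm
        · simp only [Finset.mem_insert, Finset.mem_singleton]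
          rintro (h | h)
          · exact hk1 h.symm
          · exact hx.1 h.symm
      omega
    apply hk'
    apply hZ
    intro g
    have hconj : g * k * g⁻¹ ∈ K := hK.conj_mem k k.2 g
    rcases hall ⟨_, hconj⟩ with h1 | h1
    · exfalso
      have := congrArg Subtype.val h1
      simp only [Subgroup.coe_one] at this
      apply hk'
      have h2 : (k : G) = g⁻¹ * (g * k * g⁻¹) * g := by group
      rw [h2, this]; group
    · have := congrArg Subtype.val h1
      simp only at this
      calc g * k = g * k * g⁻¹ * g := by group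
        _ = k * g := by rw [this]
  · -- M ≤ K
    right
    have hle : M ≤ K := by
      rw [Subgroup.subgroupOf_eq_top] at h
      exact h
    have hdvd := Subgroup.index_dvd_of_le hle
    rw [hM2] at hdvd
    rcases (Nat.dvd_prime Nat.prime_two).1 hdvd with h1 | h1
    · right; exact Subgroup.index_eq_one.1 h1
    · left
      symm
      apply Subgroup.eq_of_le_of_card_ge hle
      have e1 := K.card_mul_index
      have e2 := M.card_mul_index
      rw [h1] at e1
      rw [hM2] at e2
      omega


section simple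
variable {A : Type*} [Group A] (N : Subgroup A) [hNn : N.Normal]

/-- conjugation by `g` applied to a subgroup of the normal subgroup `N` -/
def cm (g : A) (K : Subgroup N) : Subgroup N :=
  K.map (MulAut.conjNormal (H := N) g).toMonoidHom

theorem mem_cm {g : A} {K : Subgroup N} {x : N} :
    x ∈ cm N g K ↔ ∃ k ∈ K, MulAut.conjNormal (H := N) g k = x := by
  simp [cm, Subgroup.mem_map]

theorem cm_mul (g h : A) (K : Subgroup N) : cm N (g * h) K = cm N g (cm N h K) := by
  ext x
  simp only [mem_cm, map_mul, MulAut.mul_apply]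
  constructor
  · rintro ⟨k, hk, rfl⟩
    exact ⟨_, ⟨k, hk, rfl⟩, rfl⟩
  · rintro ⟨_, ⟨k, hk, rfl⟩, rfl⟩
    exact ⟨k, hk, rfl⟩

theorem cm_le_of_mem {n : A} (hn : n ∈ N) (K : Subgroup N) [hK : K.Normal] : cm N n K ≤ K := by
  intro x hx
  obtain ⟨k, hk, rfl⟩ := (mem_cm N).1 hx
  have : MulAut.conjNormal (H := N) n k = (⟨n, hn⟩ : N) * k * (⟨n, hn⟩ : N)⁻¹ := by
    apply Subtype.ext
    simp [MulAut.conjNormal_apply]
  rw [this]
  exact hK.conj_mem k hk _

theorem cm_one (K : Subgroup N) : cm N 1 K = K := by
  ext x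
  simp [mem_cm]

theorem cm_eq_of_mem {n : A} (hn : n ∈ N) (K : Subgroup N) [hK : K.Normal] : cm N n K = K := by
  apply le_antisymm (cm_le_of_mem N hn K)
  have h1 : cm N n (cm N n⁻¹ K) = K := by rw [← cm_mul, mul_inv_cancel, cm_one]
  have h2 : cm N n⁻¹ K ≤ K := cm_le_of_mem N (N.inv_mem hn) K
  calc K = cm N n (cm N n⁻¹ K) := h1.symm
    _ ≤ cm N n K := Subgroup.map_mono h2

theorem cm_sup (g : A) (X Y : Subgroup N) : cm N g (X ⊔ Y) = cm N g X ⊔ cm N g Y :=
  Subgroup.map_sup X Y _

theorem cm_inf (g : A) (X Y : Subgroup N) : cm N g (X ⊓ Y) = cm N g X ⊓ cm N g Y :=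
  Subgroup.map_inf X Y (MulAut.conjNormal (H := N) g).toMonoidHom
    (MulAut.conjNormal (H := N) g).injective

theorem cm_normal (g : A) (K : Subgroup N) [hK : K.Normal] : (cm N g K).Normal :=
  hK.map _ (MulAut.conjNormal (H := N) g).surjective

theorem card_cm (g : A) (K : Subgroup N) : Nat.card (cm N g K) = Nat.card K :=
  Subgroup.card_map_of_injective (MulAut.conjNormal (H := N) g).injective

theorem normal_map_of_cm {X : Subgroup N} (h : ∀ g : A, cm N g X = X) :
    (X.map N.subtype).Normal := by
  constructor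
  rintro _ ⟨y, hy, rfl⟩ g
  refine ⟨MulAut.conjNormal (H := N) g y, ?_, ?_⟩
  · have : MulAut.conjNormal (H := N) g y ∈ cm N g X := (mem_cm N).2 ⟨y, hy, rfl⟩
    rwa [h g] at this
  · simp [MulAut.conjNormal_apply]

/-- A subgroup of index two which is contained in every nontrivial normal subgroup and whose
order is not a square is simple. -/
theorem isSimpleGroup_of_index_two [Finite A] (hN2 : N.index = 2)
    (hmin : ∀ L : Subgroup A, L.Normal → L ≠ ⊥ → N ≤ L)
    (hsq : ∀ x : ℕ, x * x ≠ Nat.card N) (hne : N ≠ ⊥) : IsSimpleGroup N := by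
  have hnt : Nontrivial N := (Subgroup.nontrivial_iff_ne_bot N).2 hne
  refine { toNontrivial := hnt, eq_bot_or_eq_top_of_normal := ?_ }
  intro K hK
  have hNtop : N ≠ ⊤ := by
    intro h
    rw [h, Subgroup.index_top] at hN2
    omega
  obtain ⟨t, ht⟩ : ∃ t : A, t ∉ N := by
    by_contra h
    push Not at h
    exact hNtop ((Subgroup.eq_top_iff' N).2 h)
  have hK2n : (cm N t K).Normal := cm_normal N t K
  have htt : t * t ∈ N := by
    have := Subgroup.sq_mem_of_index_two hN2 t
    rwa [sq] at this
  have hswap : ∀ g : A, (cm N g K = K ∧ cm N g (cm N t K) = cm N t K) ∨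
      (cm N g K = cm N t K ∧ cm N g (cm N t K) = K) := by
    intro g
    by_cases hg : g ∈ N
    · left
      exact ⟨cm_eq_of_mem N hg K, cm_eq_of_mem N hg (cm N t K)⟩
    · right
      have hn : t⁻¹ * g ∈ N := by
        rw [Subgroup.mul_mem_iff_of_index_two hN2]
        constructor
        · intro h; exact absurd (N.inv_mem_iff.1 h) ht
        · intro h; exact absurd h hg
      have hg' : g = t * (t⁻¹ * g) := by group
      constructor
      · rw [hg', cm_mul, cm_eq_of_mem N hn K]
      · rw [hg', cm_mul, cm_eq_of_mem N hn (cm N t K), ← cm_mul, cm_eq_of_mem N htt K]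
  have hU : ∀ g : A, cm N g (K ⊔ cm N t K) = K ⊔ cm N t K := by
    intro g
    rw [cm_sup]
    rcases hswap g with ⟨h1, h2⟩ | ⟨h1, h2⟩
    · rw [h1, h2]
    · rw [h1, h2, sup_comm]
  have hL : ∀ g : A, cm N g (K ⊓ cm N t K) = K ⊓ cm N t K := by
    intro g
    rw [cm_inf]
    rcases hswap g with ⟨h1, h2⟩ | ⟨h1, h2⟩
    · rw [h1, h2]
    · rw [h1, h2, inf_comm]
  have hUn := normal_map_of_cm N hU
  have hLn := normal_map_of_cm N hL
  by_cases hL0 : (K ⊓ cm N t K).map N.subtype = ⊥
  · rw [Subgroup.map_eq_bot_iff_of_injective _ N.subtype_injective] at hL0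
    by_cases hU0 : (K ⊔ cm N t K).map N.subtype = ⊥
    · left
      rw [Subgroup.map_eq_bot_iff_of_injective _ N.subtype_injective] at hU0
      exact le_bot_iff.1 (hU0 ▸ le_sup_left)
    · exfalso
      have h1 := hmin _ hUn hU0
      have hUtop : K ⊔ cm N t K = ⊤ := by
        rw [eq_top_iff]
        intro x _
        obtain ⟨y, hy, hyx⟩ := h1 x.2
        have : y = x := Subtype.ext hyx
        rwa [this] at hy
      have hc := card_sup_of_disjoint K (cm N t K) hL0
      rw [hUtop, Subgroup.card_top, card_cm] at hc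
      exact hsq _ hc.symm
  · right
    have h1 := hmin _ hLn hL0
    rw [eq_top_iff]
    intro x _
    obtain ⟨y, hy, hyx⟩ := h1 x.2
    have : y = x := Subtype.ext hyx
    rw [this] at hy
    exact hy.1

end simple

end Cfsg.Agent.Lib.H14.Idx2
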