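import Mathlib
import Cfsg.Agent.Lib.H14.Idx2

set_option autoImplicit false

namespace Cfsg.Agent.Lib.H14.PrimNormal

open MulAction Cfsg.Agent.Lib.H14.Idx2
open scoped Pointwise

section prim
variable {A V : Type*} [Group A] [MulAction A V]

/-- the blocks containing `v0` are trivial -/
def PrimAt (A : Type*) {V : Type*} [Group A] [MulAction A V] (v0 : V) : Prop :=
  ∀ O : Set V, IsBlock A O → v0 ∈ O → (∃ v ∈ O, v ≠ v0) → O = Set.univ

theorem orbit_normal_eq_univ [FaithfulSMul A V] [IsPretransitive A V] (v0 : V)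
    (hprim : PrimAt A v0) (N : Subgroup A) [N.Normal] (hN : N ≠ ⊥) :
    orbit N v0 = Set.univ := by
  apply hprim _ (IsBlock.orbit_of_normal v0) (mem_orbit_self v0)
  by_contra h
  push Not at h
  apply hN
  rw [Subgroup.eq_bot_iff_forall]
  intro n hn
  have hfix : ∀ k ∈ N, k • v0 = v0 := by
    intro k hk
    apply h
    exact ⟨⟨k, hk⟩, rfl⟩
  apply eq_of_smul_eq_smul (α := V)
  intro v
  obtain ⟨g, rfl⟩ := exists_smul_eq A v0 v
  rw [one_smul]
  have h1 : g⁻¹ * n * g ∈ N := by
    have := Subgroup.Normal.conj_mem (inferInstance : N.Normal) n hn g⁻¹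
    simpa using this
  have h2 := hfix _ h1
  calc n • g • v0 = g • (g⁻¹ * n * g) • v0 := by simp [mul_smul]
    _ = g • v0 := by rw [h2]

/-- the stabilizer in a subgroup -/
def stabEquivInf (N : Subgroup A) (v0 : V) :
    stabilizer N v0 ≃ (N ⊓ stabilizer A v0 : Subgroup A) where
  toFun n := ⟨n.1.1, Subgroup.mem_inf.2 ⟨n.1.2, by
    have := n.2
    rw [mem_stabilizer_iff] at this ⊢
    exact this⟩⟩
  invFun a := ⟨⟨a.1, (Subgroup.mem_inf.1 a.2).1⟩, by
    have := (Subgroup.mem_inf.1 a.2).2
    rw [mem_stabilizer_iff] at this ⊢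
    exact this⟩
  left_inv _ := rfl
  right_inv _ := rfl

theorem card_of_transitive [Finite V] (N : Subgroup A) (v0 : V)
    (h : orbit N v0 = Set.univ) :
    Nat.card N = Nat.card V * Nat.card (N ⊓ stabilizer A v0 : Subgroup A) := by
  have h1 := index_stabilizer N v0
  rw [h, Set.ncard_univ] at h1
  have h2 := Subgroup.index_mul_card (stabilizer N v0)
  rw [h1, Nat.card_congr (stabEquivInf N v0)] at h2
  exact h2.symm



theorem card_inf_stab (N : Subgroup A) (T : Subgroup A) :
    Nat.card (N.subgroupOf T) = Nat.card (N ⊓ T : Subgroup A) := by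
  rw [← Subgroup.inf_subgroupOf_right]
  exact Nat.card_congr (Subgroup.subgroupOfEquivOfLe inf_le_right).toEquiv

/-- a normal subgroup of order 100 of a group all of whose nontrivial normal subgroups are
transitive on 100 points does not exist -/
theorem no_normal_100 [Finite A] [Finite V] (v0 : V) (hV : Nat.card V = 100)
    (htr : ∀ L : Subgroup A, L.Normal → L ≠ ⊥ → orbit L v0 = Set.univ)
    (N : Subgroup A) [hN : N.Normal] (hc : Nat.card N = 100) : False := by
  have : Fact (Nat.Prime 5) := ⟨by norm_num⟩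
  obtain ⟨P⟩ : Nonempty (Sylow 5 N) := inferInstance
  -- the number of Sylow 5-subgroups is one
  have h1 : Nat.card (Sylow 5 N) ≡ 1 [MOD 5] := card_sylow_modEq_one 5 N
  have h2 : Nat.card (Sylow 5 N) ∣ (P : Subgroup N).index := Sylow.card_dvd_index P
  have h3 : ¬ 5 ∣ (P : Subgroup N).index := Sylow.not_dvd_index P
  have h4 : (P : Subgroup N).index ∣ 100 := by
    rw [← hc]; exact Subgroup.index_dvd_card _
  have h5 : (P : Subgroup N).index ∈ Nat.divisors 100 := by
    rw [Nat.mem_divisors]; exact ⟨h4, by norm_num⟩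
  have h6 : Nat.card (Sylow 5 N) = 1 := by
    have hd : Nat.divisors 100 = {1, 2, 4, 5, 10, 20, 25, 50, 100} := by decide
    rw [hd] at h5
    simp only [Finset.mem_insert, Finset.mem_singleton] at h5
    have hle : Nat.card (Sylow 5 N) ≤ (P : Subgroup N).index :=
      Nat.le_of_dvd (by rcases h5 with h | h | h | h | h | h | h | h | h <;> omega) h2
    have hpos : 0 < Nat.card (Sylow 5 N) := Nat.card_pos
    unfold Nat.ModEq at h1
    rcases h5 with h | h | h | h | h | h | h | h | h
    · omega
    · omega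
    · omega
    all_goals (exfalso; apply h3; rw [h]; try norm_num)
  have hsub : Subsingleton (Sylow 5 N) := (Nat.card_eq_one_iff_unique.1 h6).1
  have hPn : (P : Subgroup N).Normal := Sylow.normal_of_subsingleton P
  have hPc : (P : Subgroup N).Characteristic := Sylow.characteristic_of_normal P hPn
  have hPA : ((P : Subgroup N).map N.subtype).Normal :=
    ConjAct.normal_of_characteristic_of_normal
  have hPne : (P : Subgroup N).map N.subtype ≠ ⊥ := by
    rw [Ne, Subgroup.map_eq_bot_iff_of_injective _ N.subtype_injective]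
    apply Sylow.ne_bot_of_dvd_card
    rw [hc]; norm_num
  have horb := htr _ hPA hPne
  have hdvd : Nat.card V ∣ Nat.card ((P : Subgroup N).map N.subtype) := by
    have e1 := index_stabilizer ((P : Subgroup N).map N.subtype) v0
    rw [horb, Set.ncard_univ] at e1
    rw [← e1]
    exact Subgroup.index_dvd_card _
  rw [hV, Subgroup.card_map_of_injective N.subtype_injective] at hdvd
  obtain ⟨k, hk⟩ := (IsPGroup.iff_card.1 P.isPGroup')
  rw [hk] at hdvd
  have : 2 ∣ 5 ^ k := Dvd.dvd.trans (by norm_num) hdvd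
  have := (Nat.Prime.dvd_of_dvd_pow Nat.prime_two this)
  omega

theorem card_normal_cases [Finite A] [Finite V] [FaithfulSMul A V] [IsPretransitive A V]
    (v0 : V) (hprim : PrimAt A v0) (hV : Nat.card V = 100) (m : ℕ)
    (hT : ∀ K : Subgroup (stabilizer A v0), K.Normal →
      Nat.card K = 1 ∨ Nat.card K = m ∨ Nat.card K = 2 * m)
    (N : Subgroup A) [hN : N.Normal] (hne : N ≠ ⊥) :
    Nat.card N = 100 * m ∨ Nat.card N = 200 * m := by
  have h1 := card_of_transitive N v0 (orbit_normal_eq_univ v0 hprim N hne)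
  rw [hV, ← card_inf_stab] at h1
  rcases hT _ (hN.subgroupOf _) with h | h | h
  · exfalso
    rw [h] at h1
    exact no_normal_100 v0 hV (fun L hL hL0 => by
      have := hL
      exact orbit_normal_eq_univ v0 hprim L hL0) N h1
  · left; rw [h1, h]
  · right; rw [h1, h]; ring


theorem index_ker_sign (sgn : A →* ℤˣ) (hs : ∃ f, sgn f = -1) : sgn.ker.index = 2 := by
  rw [Subgroup.index_ker]
  have h1 : Nat.card sgn.range ∣ 2 := by
    have := Subgroup.card_subgroup_dvd_card sgn.range
    rwa [Nat.card_eq_fintype_card (α := ℤˣ), Fintype.card_units_int] at this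
  have h2 : Nat.card sgn.range ≠ 1 := by
    intro h
    rw [Subgroup.card_eq_one] at h
    obtain ⟨f, hf⟩ := hs
    have : sgn f ∈ sgn.range := ⟨f, rfl⟩
    rw [h, Subgroup.mem_bot, hf] at this
    exact absurd this (by decide)
  rcases (Nat.dvd_prime Nat.prime_two).1 h1 with h | h
  · exact absurd h h2
  · exact h

theorem exists_simple [Finite A] [Finite V] [FaithfulSMul A V] [IsPretransitive A V]
    (v0 : V) (hprim : PrimAt A v0) (hV : Nat.card V = 100) (m : ℕ) (hm : 1 ≤ m)
    (hT : ∀ K : Subgroup (stabilizer A v0), K.Normal →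
      Nat.card K = 1 ∨ Nat.card K = m ∨ Nat.card K = 2 * m)
    (hA : Nat.card A = 200 * m) (sgn : A →* ℤˣ) (hs : ∃ f, sgn f = -1)
    (hsq : ∀ x : ℕ, x * x ≠ 100 * m) :
    ∃ H : Subgroup A, IsSimpleGroup H ∧ Nat.card H = 100 * m := by
  have hidx := index_ker_sign sgn hs
  have hcard : Nat.card sgn.ker = 100 * m := by
    have := sgn.ker.card_mul_index
    rw [hidx, hA] at this
    omega
  have hne : sgn.ker ≠ ⊥ := by
    intro h
    rw [h, Subgroup.card_bot] at hcard
    omega
  refine ⟨sgn.ker, ?_, hcard⟩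
  have : sgn.ker.Normal := MonoidHom.normal_ker sgn
  apply isSimpleGroup_of_index_two sgn.ker hidx ?_ (by rw [hcard]; exact hsq) hne
  intro L hL hL0
  have := hL
  have hLc := card_normal_cases v0 hprim hV m hT L hL0
  have hLK : (L ⊓ sgn.ker).Normal := inferInstance
  have hLK0 : L ⊓ sgn.ker ≠ ⊥ := by
    intro h0
    have h1 := card_sup_of_disjoint L sgn.ker h0
    have h2 : Nat.card (L ⊔ sgn.ker : Subgroup A) ≤ Nat.card A := Subgroup.card_le_card_group _
    rw [h1, hcard, hA] at h2
    rcases hLc with h | h <;> rw [h] at h2 <;> nlinarith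
  have h3 := card_normal_cases v0 hprim hV m hT (L ⊓ sgn.ker) hLK0
  have h4 : L ⊓ sgn.ker = sgn.ker := by
    apply Subgroup.eq_of_le_of_card_ge inf_le_right
    rw [hcard]
    rcases h3 with h | h
    · rw [h]
    · rw [h]; omega
  rw [← h4]
  exact inf_le_left

end prim

end Cfsg.Agent.Lib.H14.PrimNormal
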