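import Mathlib
import Cfsg.Prelude.Def_Sporadic_a
import Cfsg.Agent.Lib.H14.HSAut
import Cfsg.Agent.Lib.H14.PrimNormal

set_option autoImplicit false
set_option linter.unusedSectionVars false

namespace Cfsg.Agent.Lib.H14.HSAut

open Cfsg Cfsg.Agent.Lib.H14.Srg Cfsg.Agent.Lib.H14.PrimNormal MulAction
open scoped Pointwise

section gen
variable {α : Type*} [DecidableEq α] {B : Set (Finset α)}

/-- the graph automorphism induced by an automorphism of the set system -/
noncomputable def autOf (σ : Equiv.Perm α) (hσ : σ ∈ setSystemAut B) : AutPB B :=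
  pointBlockGraphIso σ ((mem_setSystemAut_iff σ).1 hσ)

theorem autOf_none (σ : Equiv.Perm α) (hσ : σ ∈ setSystemAut B) : autOf σ hσ none = none := rfl

theorem autOf_pt (σ : Equiv.Perm α) (hσ : σ ∈ setSystemAut B) (a : α) :
    autOf σ hσ (some (Sum.inl a)) = some (Sum.inl (σ a)) := rfl

theorem autOf_blk (σ : Equiv.Perm α) (hσ : σ ∈ setSystemAut B) (b : B) :
    autOf σ hσ (some (Sum.inr b)) =
      some (Sum.inr (blockEquiv σ ((mem_setSystemAut_iff σ).1 hσ) b)) := rfl

theorem eq_blk_of_not_adj_none {w : Option (α ⊕ B)} (h1 : w ≠ none)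
    (h2 : ¬ (pointBlockGraph B).Adj none w) : ∃ b : B, w = some (Sum.inr b) := by
  rcases w with _ | a | b
  · exact absurd rfl h1
  · exact absurd ((adj_none_iff _).2 ⟨a, rfl⟩) h2
  · exact ⟨b, rfl⟩

theorem not_adj_pt_blk {a : α} {b : B} (h : a ∉ (b : Finset α)) :
    ¬ (pointBlockGraph B).Adj (some (Sum.inl a)) (some (Sum.inr b)) := by
  rw [adj_pt_blk_iff]; exact h

theorem primAt_none (hne : ∀ b ∈ B, (b : Finset α).Nonempty) (hav : ∀ a : α, ∃ b ∈ B, a ∉ b)
    (htp : ∀ a a' : α, ∃ σ ∈ setSystemAut B, σ a = a')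
    (htb : ∀ b ∈ B, ∀ b' ∈ B, ∃ σ ∈ setSystemAut B, b.image σ = b')
    (htr : ∀ v : Option (α ⊕ B), ∃ f : AutPB B, f v = none) :
    PrimAt (AutPB B) (none : Option (α ⊕ B)) := by
  intro O hO h0 hv
  -- invariance under the stabilizer
  have hstab : ∀ (σ : Equiv.Perm α) (hσ : σ ∈ setSystemAut B), ∀ w ∈ O, autOf σ hσ w ∈ O := by
    intro σ hσ w hw
    have h1 : autOf σ hσ • O = O := hO.smul_eq_of_mem h0 (by
      change autOf σ hσ none ∈ O
      rw [autOf_none]; exact h0)
    rw [← h1]
    exact ⟨w, hw, rfl⟩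
  -- a block containing all points and the extra vertex contains all blocks
  have hpts_blks : (∀ a : α, some (Sum.inl a) ∈ O) → ∀ b : B, some (Sum.inr b) ∈ O := by
    intro hp b
    obtain ⟨g, hg⟩ := htr (some (Sum.inr b))
    obtain ⟨a0, ha0⟩ := hne b.1 b.2
    -- g⁻¹ none = the block vertex; g⁻¹ • O meets O in the point a0
    have hadj : (pointBlockGraph B).Adj (g (some (Sum.inl a0))) none := by
      rw [← hg, g.map_adj_iff, adj_pt_blk_iff]; exact ha0
    obtain ⟨a1, ha1⟩ := (adj_none_iff _).1 hadj.symm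
    have h1 : g • O = O := by
      apply hO.smul_eq_of_mem (hp a0)
      change g (some (Sum.inl a0)) ∈ O
      rw [ha1]; exact hp a1
    have h2 : g⁻¹ • O = O := by
      rw [inv_smul_eq_iff]; exact h1.symm
    rw [← h2]
    refine ⟨none, h0, ?_⟩
    change g⁻¹ none = _
    rw [← hg]
    exact g.symm_apply_apply _
  -- a block containing all blocks and the extra vertex contains all points
  have hblks_pts : (∀ b : B, some (Sum.inr b) ∈ O) → ∀ a : α, some (Sum.inl a) ∈ O := by
    intro hb a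
    obtain ⟨g, hg⟩ := htr (some (Sum.inl a))
    obtain ⟨b1, hb1, hab1⟩ := hav a
    have hnadj : ¬ (pointBlockGraph B).Adj none (g (some (Sum.inr ⟨b1, hb1⟩))) := by
      rw [← hg, g.map_adj_iff]
      exact not_adj_pt_blk hab1
    have hne' : g (some (Sum.inr ⟨b1, hb1⟩)) ≠ none := by
      rw [← hg]
      intro h
      have := g.injective h
      simp at this
    obtain ⟨b2, hb2⟩ := eq_blk_of_not_adj_none hne' hnadj
    have h1 : g • O = O := by
      apply hO.smul_eq_of_mem (hb ⟨b1, hb1⟩)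
      change g (some (Sum.inr ⟨b1, hb1⟩)) ∈ O
      rw [hb2]; exact hb b2
    have h2 : g⁻¹ • O = O := by
      rw [inv_smul_eq_iff]; exact h1.symm
    rw [← h2]
    refine ⟨none, h0, ?_⟩
    change g⁻¹ none = _
    rw [← hg]
    exact g.symm_apply_apply _
  obtain ⟨v, hvO, hvne⟩ := hv
  have hall : (∀ a : α, some (Sum.inl a) ∈ O) ∧ ∀ b : B, some (Sum.inr b) ∈ O := by
    rcases v with _ | a | b
    · exact absurd rfl hvne
    · have hp : ∀ a' : α, some (Sum.inl a') ∈ O := by
        intro a'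
        obtain ⟨σ, hσ, hσa⟩ := htp a a'
        have := hstab σ hσ _ hvO
        rwa [autOf_pt, hσa] at this
      exact ⟨hp, hpts_blks hp⟩
    · have hb : ∀ b' : B, some (Sum.inr b') ∈ O := by
        intro b'
        obtain ⟨σ, hσ, hσb⟩ := htb b.1 b.2 b'.1 b'.2
        have := hstab σ hσ _ hvO
        rw [autOf_blk] at this
        have he : blockEquiv σ ((mem_setSystemAut_iff σ).1 hσ) b = b' :=
          Subtype.ext (by rw [blockEquiv_coe]; exact hσb)
        rwa [he] at this
      exact ⟨hblks_pts hb, hb⟩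
  ext w
  simp only [Set.mem_univ, iff_true]
  rcases w with _ | a | b
  · exact h0
  · exact hall.1 a
  · exact hall.2 b

end gen

end Cfsg.Agent.Lib.H14.HSAut
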