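import Mathlib
import Cfsg.Prelude.Def_Sporadic
import Cfsg.Prelude.Def_Sporadic_a
import Cfsg.Agent.Lib.H14.HSAut2
import Cfsg.Agent.Lib.H14.HSPrim
import Cfsg.Agent.Lib.H14.HSOdd
import Cfsg.Agent.Lib.H28.Steiner

set_option autoImplicit false
set_option linter.unusedSectionVars false

namespace Cfsg.Agent.Lib.H14.HSAut

open Cfsg Cfsg.Agent.Lib.H14.Srg Cfsg.Agent.Lib.H14.PrimNormal Cfsg.Agent.Lib.H14.Idx2 MulAction
open scoped Pointwise

section gen
variable {α : Type*} [DecidableEq α] {B : Set (Finset α)}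

/-- the stabilizer of the extra vertex, as a group -/
noncomputable def stabMulEquiv :
    setSystemAut B ≃* stabilizer (AutPB B) (none : Option (α ⊕ B)) :=
  { stabEquiv with
    map_mul' := by
      intro σ τ
      apply Subtype.ext
      apply RelIso.ext
      rintro (_ | a | b)
      · rfl
      · rfl
      · change some (Sum.inr _) = some (Sum.inr _)
        congr 2
        apply Subtype.ext
        change (b : Finset α).image (σ.1 * τ.1) = ((b : Finset α).image τ.1).image σ.1
        rw [Finset.image_image]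
        rfl }

end gen

section steiner
variable {α : Type*} [Fintype α] [DecidableEq α] {B : Set (Finset α)}

theorem smul_eq_apply (g : setSystemAut B) (a : α) : g • a = g.1 a := rfl

theorem trans_pts (hα : Fintype.card α = 22) (hB : IsSteinerSystem 3 6 B) (a a' : α) :
    ∃ σ ∈ setSystemAut B, σ a = a' := by
  have h3 := (Cfsg.Agent.S0414.result hα hB).2.1
  have := h3
  have h1 : IsMultiplyPretransitive (setSystemAut B) α 1 :=
    isMultiplyPretransitive_of_le (n := 3) (by norm_num)
      (by rw [Nat.card_eq_fintype_card, hα]; norm_num)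
  rw [is_one_pretransitive_iff] at h1
  obtain ⟨g, hg⟩ := h1.exists_smul_eq a a'
  exact ⟨g.1, g.2, hg⟩

theorem center_free (hα : Fintype.card α = 22) (hB : IsSteinerSystem 3 6 B)
    (z : setSystemAut B) (hz : ∀ g, g * z = z * g) : z = 1 := by
  have h3 := (Cfsg.Agent.S0414.result hα hB).2.1
  have := h3
  have h2 : IsMultiplyPretransitive (setSystemAut B) α 2 :=
    isMultiplyPretransitive_of_le (n := 3) (by norm_num)
      (by rw [Nat.card_eq_fintype_card, hα]; norm_num)
  rw [is_two_pretransitive_iff] at h2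
  by_contra hne
  have : ∃ a : α, z.1 a ≠ a := by
    by_contra h
    push Not at h
    apply hne
    apply Subtype.ext
    ext a
    exact h a
  obtain ⟨a, ha⟩ := this
  -- a third point
  have hc : ∃ c : α, c ≠ a ∧ c ≠ z.1 a := by
    by_contra h
    push Not at h
    have : Fintype.card α ≤ 2 := by
      have hsub : (Finset.univ : Finset α) ⊆ {a, z.1 a} := by
        intro c _
        by_cases hca : c = a
        · simp [hca]
        · simp [h c hca]
      calc Fintype.card α = (Finset.univ : Finset α).card := rfl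
        _ ≤ ({a, z.1 a} : Finset α).card := Finset.card_le_card hsub
        _ ≤ 2 := Finset.card_le_two
    omega
  obtain ⟨c, hca, hcz⟩ := hc
  obtain ⟨g, hg1, hg2⟩ := h2 (Ne.symm ha) (Ne.symm hca)
  rw [smul_eq_apply] at hg1 hg2
  have h1 := congrArg (fun x : setSystemAut B => x.1 a) (hz g)
  simp only [Subgroup.coe_mul, Equiv.Perm.mul_apply] at h1
  rw [hg2, hg1] at h1
  exact hcz h1


theorem image_mem_of_aut {σ : Equiv.Perm α} (hσ : σ ∈ setSystemAut B) {b : Finset α}
    (hb : b ∈ B) : b.image σ ∈ B := by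
  have := (mem_setSystemAut_iff σ).1 hσ
  rw [← this]
  exact ⟨b, hb, rfl⟩

theorem trans_blks (hα : Fintype.card α = 22) (hB : IsSteinerSystem 3 6 B)
    (b : Finset α) (hb : b ∈ B) (b' : Finset α) (hb' : b' ∈ B) :
    ∃ σ ∈ setSystemAut B, b.image σ = b' := by
  have h3 := (Cfsg.Agent.S0414.result hα hB).2.1
  rw [isMultiplyPretransitive_iff] at h3
  obtain ⟨T, hTb, hT3⟩ := Finset.exists_subset_card_eq (s := b) (n := 3)
    (by rw [hB.1 b hb]; norm_num)
  obtain ⟨T', hTb', hT3'⟩ := Finset.exists_subset_card_eq (s := b') (n := 3)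
    (by rw [hB.1 b' hb']; norm_num)
  let x : Fin 3 ↪ α := (T.equivFinOfCardEq hT3).symm.toEmbedding.trans
    (Function.Embedding.subtype _)
  let y : Fin 3 ↪ α := (T'.equivFinOfCardEq hT3').symm.toEmbedding.trans
    (Function.Embedding.subtype _)
  obtain ⟨g, hg⟩ := h3 x y
  refine ⟨g.1, g.2, ?_⟩
  -- both blocks contain T'
  have hT' : T' ⊆ b.image g.1 := by
    intro t ht
    obtain ⟨i, hi⟩ := (T'.equivFinOfCardEq hT3').symm.surjective ⟨t, ht⟩
    have h1 : y i = t := by
      change ((T'.equivFinOfCardEq hT3').symm i : α) = t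
      rw [hi]
    have h2 : g.1 (x i) = y i := by
      have := congrArg (fun e : Fin 3 ↪ α => e i) hg
      exact this
    rw [← h1, ← h2]
    apply Finset.mem_image_of_mem
    apply hTb
    exact ((T.equivFinOfCardEq hT3).symm i).2
  obtain ⟨b0, -, huniq⟩ := hB.2 T' hT3'
  rw [huniq _ ⟨image_mem_of_aut g.2 hb, hT'⟩, huniq _ ⟨hb', hTb'⟩]

theorem exists_avoid (hα : Fintype.card α = 22) (hB : IsSteinerSystem 3 6 B) (a : α) :
    ∃ b ∈ B, a ∉ b := by
  by_contra h
  push Not at h
  have h0 := Cfsg.Agent.Lib.H28.steiner_count hB (∅ : Finset α) (by simp)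
  have h1 := Cfsg.Agent.Lib.H28.steiner_count hB ({a} : Finset α) (by simp)
  rw [hα] at h0 h1
  have heq : (Cfsg.Agent.Lib.H28.blocksF B).filter (({a} : Finset α) ⊆ ·) =
      (Cfsg.Agent.Lib.H28.blocksF B).filter ((∅ : Finset α) ⊆ ·) := by
    ext b
    simp only [Finset.mem_filter, Cfsg.Agent.Lib.H28.mem_blocksF, Finset.singleton_subset_iff,
      Finset.empty_subset, and_true, and_iff_left_iff_imp]
    exact h b
  rw [heq] at h1
  simp only [Finset.card_empty, Finset.card_singleton] at h0 h1
  norm_num [Nat.choose] at h0 h1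
  omega

theorem block_nonempty (hB : IsSteinerSystem 3 6 B) (b : Finset α) (hb : b ∈ B) : b.Nonempty := by
  rw [← Finset.card_pos, hB.1 b hb]
  norm_num

theorem primAt_steiner (hα : Fintype.card α = 22) (hB : IsSteinerSystem 3 6 B) :
    PrimAt (AutPB B) (none : Option (α ⊕ B)) :=
  primAt_none (block_nonempty hB) (exists_avoid hα hB) (trans_pts hα hB) (trans_blks hα hB)
    (exists_aut_to_none hα hB)

theorem pretransitive_steiner (hα : Fintype.card α = 22) (hB : IsSteinerSystem 3 6 B) :
    IsPretransitive (AutPB B) (Option (α ⊕ B)) := by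
  constructor
  intro v w
  obtain ⟨f, hf⟩ := exists_aut_to_none hα hB v
  obtain ⟨g, hg⟩ := exists_aut_to_none hα hB w
  refine ⟨g⁻¹ * f, ?_⟩
  change g⁻¹ (f v) = w
  rw [hf, ← hg]
  exact g.symm_apply_apply w

theorem stab_normal_card (hα : Fintype.card α = 22) (hB : IsSteinerSystem 3 6 B)
    (K : Subgroup (stabilizer (AutPB B) (none : Option (α ⊕ B)))) (hK : K.Normal) :
    Nat.card K = 1 ∨ Nat.card K = 443520 ∨ Nat.card K = 2 * 443520 := by
  obtain ⟨hcard, -, M, hM2, hMs, hMc⟩ := Cfsg.Agent.S0414.result hα hB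
  have : Finite (setSystemAut B) := Nat.finite_of_card_ne_zero (by rw [hcard]; norm_num)
  let K' : Subgroup (setSystemAut B) := K.map (stabMulEquiv (B := B)).symm.toMonoidHom
  have hK' : K'.Normal := hK.map _ (stabMulEquiv (B := B)).symm.surjective
  have hcK : Nat.card K' = Nat.card K :=
    Subgroup.card_map_of_injective (stabMulEquiv (B := B)).symm.injective
  rw [← hcK]
  rcases normal_eq_of_index_two M hM2 hMs (center_free hα hB) K' with h | h | h
  · left; rw [h, Subgroup.card_bot]
  · right; left; rw [h, hMc]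
  · right; right; rw [h, Subgroup.card_top, hcard]


theorem not_square (x : ℕ) : x * x ≠ 100 * 443520 := by
  intro hx
  rcases le_or_gt x 6659 with h | h
  · nlinarith
  · have : 6660 ≤ x := h
    nlinarith

theorem exists_HS (hα : Fintype.card α = 22) (hB : IsSteinerSystem 3 6 B) :
    ∃ H : Subgroup (AutPB B), IsHS H := by
  classical
  have : Fintype B := Fintype.ofFinite B
  have hAfin : Finite (AutPB B) :=
    Nat.finite_of_card_ne_zero (by rw [card_aut hα hB]; norm_num)
  have hpre := pretransitive_steiner hα hB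
  let sgn : AutPB B →* ℤˣ :=
    Equiv.Perm.sign.comp (MulAction.toPermHom (AutPB B) (Option (α ⊕ B)))
  have hs : ∃ f, sgn f = -1 := by
    obtain ⟨e, he⟩ := Cfsg.Agent.S0410.result (Fintype.card_fin 22) hα
      Cfsg.Agent.Lib.H14.HSModel.isSteiner_B0 hB
    have : Fintype (Option (Fin 22 ⊕ Cfsg.Agent.Lib.H14.HSModel.B0)) := Fintype.ofFinite _
    let φ := pointBlockGraphIso e he
    refine ⟨(φ.symm.trans Cfsg.Agent.Lib.H14.HSOdd.f0).trans φ, ?_⟩
    change Equiv.Perm.sign (MulAction.toPermHom (AutPB B) (Option (α ⊕ B))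
      ((φ.symm.trans Cfsg.Agent.Lib.H14.HSOdd.f0).trans φ)) = -1
    have h1 : MulAction.toPermHom (AutPB B) (Option (α ⊕ B))
        ((φ.symm.trans Cfsg.Agent.Lib.H14.HSOdd.f0).trans φ) =
        (φ.toEquiv.symm.trans Cfsg.Agent.Lib.H14.HSOdd.f0.toEquiv).trans φ.toEquiv := by
      ext v
      rfl
    rw [h1, Equiv.Perm.sign_symm_trans_trans]
    exact Cfsg.Agent.Lib.H14.HSOdd.sign_f0
  obtain ⟨H, hH1, hH2⟩ := exists_simple (none : Option (α ⊕ B)) (primAt_steiner hα hB)
    (card_vertices hα hB) 443520 (by norm_num) (stab_normal_card hα hB)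
    (by rw [card_aut hα hB]) sgn hs not_square
  exact ⟨H, hH1, by rw [hH2]⟩

end steiner

end Cfsg.Agent.Lib.H14.HSAut
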