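import Mathlib
import Cfsg.Prelude.Def_SporadicCombinatorics
import Cfsg.Agent.Lib.H8.Hexacode

set_option autoImplicit false

namespace Cfsg.Agent.Lib.H14.HexIdx
open Cfsg Cfsg.Agent.Lib.H8.Hexa

/-- squaring (the field involution) on indices -/
def sqT (a : Fin 4) : Fin 4 := ![0, 1, 3, 2] a

/-- Hermitian product of index words -/
def chk (k y : Fin 6 → Fin 4) : Fin 4 :=
  addT (addT (addT (addT (addT (mulT (y 0) (sqT (k 0))) (mulT (y 1) (sqT (k 1))))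
    (mulT (y 2) (sqT (k 2)))) (mulT (y 3) (sqT (k 3)))) (mulT (y 4) (sqT (k 4))))
    (mulT (y 5) (sqT (k 5)))

/-- membership test for the index hexacode -/
def inCode (y : Fin 6 → Fin 4) : Bool :=
  decide (chk u1 y = 0) && decide (chk u2 y = 0) && decide (chk u3 y = 0)

theorem inCode_sound : ∀ a b c d f g : Fin 4, inCode ![a, b, c, d, f, g] = true →
    ∃ t : Fin 4 × Fin 4 × Fin 4, ∀ m, cw t m = ![a, b, c, d, f, g] m := by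
  decide +kernel

theorem inCode_complete : ∀ t : Fin 4 × Fin 4 × Fin 4, inCode (cw t) = true := by
  decide +kernel

/-- index-level monomial map with explicit inverse permutation -/
def mono (τ : Fin 6 → Fin 6) (d y : Fin 6 → Fin 4) : Fin 6 → Fin 4 :=
  fun i => mulT (d i) (y (τ i))

/-- the three generators are mapped into the code -/
def presG (τ : Fin 6 → Fin 6) (d : Fin 6 → Fin 4) : Bool :=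
  inCode (mono τ d u1) && inCode (mono τ d u2) && inCode (mono τ d u3)

theorem diag_const : ∀ a b c d f g : Fin 3,
    presG id ![a.succ, b.succ, c.succ, d.succ, f.succ, g.succ] = true → (a = b ∧ b = c ∧ c = d ∧ d = f ∧ f = g) := by
  decide +kernel

theorem no_swap : ∀ a b c d f g : Fin 3,
    presG (fun i => Equiv.swap (0 : Fin 6) 1 i) ![a.succ, b.succ, c.succ, d.succ, f.succ, g.succ] = false := by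
  decide +kernel

def wit : Fin 6 → Fin 6 → Fin 6 → Fin 6 → Fin 4 :=
  ![![![![1,1,1,1,1,1], ![1,1,1,1,1,1], ![1,1,1,1,1,1], ![1,1,1,1,1,1], ![1,1,1,1,1,1], ![1,1,1,1,1,1]], ![![1,1,1,1,1,1], ![1,1,1,1,1,1], ![1,1,1,1,3,2], ![1,1,1,1,2,3], ![1,1,3,2,1,1], ![1,1,2,3,1,1]], ![![1,1,1,1,1,1], ![1,1,1,1,2,3], ![1,1,1,1,1,1], ![1,1,1,1,3,2], ![1,3,2,1,3,2], ![1,2,3,1,3,2]], ![![1,1,1,1,1,1], ![1,1,1,1,3,2], ![1,1,1,1,2,3], ![1,1,1,1,1,1], ![1,2,1,3,2,3], ![1,3,1,2,2,3]], ![![1,1,1,1,1,1], ![1,1,2,3,1,1], ![1,3,3,2,2,1], ![1,2,3,2,3,1], ![1,1,1,1,1,1], ![1,1,3,2,1,1]], ![![1,1,1,1,1,1], ![1,1,3,2,1,1], ![1,2,2,3,1,3], ![1,3,2,3,1,2], ![1,1,2,3,1,1], ![1,1,1,1,1,1]]],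
 ![![![1,1,1,1,1,1], ![1,1,1,1,1,1], ![1,1,1,1,2,3], ![1,1,1,1,3,2], ![1,1,2,3,1,1], ![1,1,3,2,1,1]], ![![1,1,1,1,1,1], ![1,1,1,1,1,1], ![1,1,1,1,1,1], ![1,1,1,1,1,1], ![1,1,1,1,1,1], ![1,1,1,1,1,1]], ![![1,1,1,1,3,2], ![1,1,1,1,1,1], ![1,1,1,1,1,1], ![1,1,1,1,2,3], ![1,3,2,3,1,2], ![1,2,3,2,3,1]], ![![1,1,1,1,2,3], ![1,1,1,1,1,1], ![1,1,1,1,3,2], ![1,1,1,1,1,1], ![1,2,2,3,1,3], ![1,3,3,2,2,1]], ![![1,1,3,2,1,1], ![1,1,1,1,1,1], ![1,3,1,2,2,3], ![1,2,3,1,3,2], ![1,1,1,1,1,1], ![1,1,2,3,1,1]], ![![1,1,2,3,1,1], ![1,1,1,1,1,1], ![1,2,1,3,2,3], ![1,3,2,1,3,2], ![1,1,3,2,1,1], ![1,1,1,1,1,1]]],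
 ![![![1,1,1,1,1,1], ![1,1,1,1,3,2], ![1,1,1,1,1,1], ![1,1,1,1,2,3], ![1,3,3,2,2,1], ![1,2,2,3,1,3]], ![![1,1,1,1,2,3], ![1,1,1,1,1,1], ![1,1,1,1,1,1], ![1,1,1,1,3,2], ![1,3,1,2,2,3], ![1,2,1,3,2,3]], ![![1,1,1,1,1,1], ![1,1,1,1,1,1], ![1,1,1,1,1,1], ![1,1,1,1,1,1], ![1,1,1,1,1,1], ![1,1,1,1,1,1]], ![![1,1,1,1,3,2], ![1,1,1,1,2,3], ![1,1,1,1,1,1], ![1,1,1,1,1,1], ![1,3,2,2,2,2], ![1,2,3,3,3,3]], ![![1,3,2,1,3,2], ![1,3,2,3,1,2], ![1,1,1,1,1,1], ![1,2,3,3,3,3], ![1,1,1,1,1,1], ![1,3,2,2,2,2]], ![![1,2,3,1,3,2], ![1,2,3,2,3,1], ![1,1,1,1,1,1], ![1,3,2,2,2,2], ![1,2,3,3,3,3], ![1,1,1,1,1,1]]],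
 ![![![1,1,1,1,1,1], ![1,1,1,1,2,3], ![1,1,1,1,3,2], ![1,1,1,1,1,1], ![1,2,3,2,3,1], ![1,3,2,3,1,2]], ![![1,1,1,1,3,2], ![1,1,1,1,1,1], ![1,1,1,1,2,3], ![1,1,1,1,1,1], ![1,2,3,1,3,2], ![1,3,2,1,3,2]], ![![1,1,1,1,2,3], ![1,1,1,1,3,2], ![1,1,1,1,1,1], ![1,1,1,1,1,1], ![1,2,3,3,3,3], ![1,3,2,2,2,2]], ![![1,1,1,1,1,1], ![1,1,1,1,1,1], ![1,1,1,1,1,1], ![1,1,1,1,1,1], ![1,1,1,1,1,1], ![1,1,1,1,1,1]], ![![1,2,1,3,2,3], ![1,2,2,3,1,3], ![1,3,2,2,2,2], ![1,1,1,1,1,1], ![1,1,1,1,1,1], ![1,2,3,3,3,3]], ![![1,3,1,2,2,3], ![1,3,3,2,2,1], ![1,2,3,3,3,3], ![1,1,1,1,1,1], ![1,3,2,2,2,2], ![1,1,1,1,1,1]]],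
 ![![![1,1,1,1,1,1], ![1,1,3,2,1,1], ![1,3,2,1,3,2], ![1,2,1,3,2,3], ![1,1,1,1,1,1], ![1,1,2,3,1,1]], ![![1,1,2,3,1,1], ![1,1,1,1,1,1], ![1,3,2,3,1,2], ![1,2,2,3,1,3], ![1,1,1,1,1,1], ![1,1,3,2,1,1]], ![![1,3,3,2,2,1], ![1,3,1,2,2,3], ![1,1,1,1,1,1], ![1,3,2,2,2,2], ![1,1,1,1,1,1], ![1,2,3,3,3,3]], ![![1,2,3,2,3,1], ![1,2,3,1,3,2], ![1,2,3,3,3,3], ![1,1,1,1,1,1], ![1,1,1,1,1,1], ![1,3,2,2,2,2]], ![![1,1,1,1,1,1], ![1,1,1,1,1,1], ![1,1,1,1,1,1], ![1,1,1,1,1,1], ![1,1,1,1,1,1], ![1,1,1,1,1,1]], ![![1,1,3,2,1,1], ![1,1,2,3,1,1], ![1,3,2,2,2,2], ![1,2,3,3,3,3], ![1,1,1,1,1,1], ![1,1,1,1,1,1]]],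
 ![![![1,1,1,1,1,1], ![1,1,2,3,1,1], ![1,2,3,1,3,2], ![1,3,1,2,2,3], ![1,1,3,2,1,1], ![1,1,1,1,1,1]], ![![1,1,3,2,1,1], ![1,1,1,1,1,1], ![1,2,3,2,3,1], ![1,3,3,2,2,1], ![1,1,2,3,1,1], ![1,1,1,1,1,1]], ![![1,2,2,3,1,3], ![1,2,1,3,2,3], ![1,1,1,1,1,1], ![1,2,3,3,3,3], ![1,3,2,2,2,2], ![1,1,1,1,1,1]], ![![1,3,2,3,1,2], ![1,3,2,1,3,2], ![1,3,2,2,2,2], ![1,1,1,1,1,1], ![1,2,3,3,3,3], ![1,1,1,1,1,1]], ![![1,1,2,3,1,1], ![1,1,3,2,1,1], ![1,2,3,3,3,3], ![1,3,2,2,2,2], ![1,1,1,1,1,1], ![1,1,1,1,1,1]], ![![1,1,1,1,1,1], ![1,1,1,1,1,1], ![1,1,1,1,1,1], ![1,1,1,1,1,1], ![1,1,1,1,1,1], ![1,1,1,1,1,1]]]]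

theorem wit_ne : ∀ a b c i : Fin 6, wit a b c i ≠ 0 := by decide +kernel

theorem wit_pres : ∀ a b c : Fin 6, a ≠ b → b ≠ c → a ≠ c →
    presG (fun i => Equiv.swap b c (Equiv.swap a b i)) (wit a b c) = true := by
  decide +kernel

end Cfsg.Agent.Lib.H14.HexIdx
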