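import Mathlib
import Cfsg.Prelude.Def_SporadicCombinatorics
import Cfsg.Agent.Lib.H8.Hexacode
import Cfsg.Agent.Lib.H14.HexIdx

set_option autoImplicit false

namespace Cfsg.Agent.Lib.H14.HexMono
open Cfsg Cfsg.Agent.Lib.H8.Hexa Cfsg.Agent.Lib.H14.HexIdx

/-- the monomial map `(σ, c)` preserves the hexacode -/
def Pres (F : Type*) [Field F] (ω : F) (σ : Equiv.Perm (Fin 6)) (c : Fin 6 → Fˣ) : Prop :=
  ∀ x ∈ hexacode F ω, monomialMap σ c x ∈ hexacode F ω

theorem vec6 {α : Type*} (y : Fin 6 → α) : y = ![y 0, y 1, y 2, y 3, y 4, y 5] := by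
  funext i; fin_cases i <;> rfl

/-- the monomial map as a linear map -/
def monoLin {F : Type*} [Field F] (σ : Equiv.Perm (Fin 6)) (c : Fin 6 → Fˣ) :
    (Fin 6 → F) →ₗ[F] (Fin 6 → F) where
  toFun := monomialMap σ c
  map_add' x y := by
    funext i; simp only [monomialMap, Pi.add_apply]; ring
  map_smul' a x := by
    funext i; simp only [monomialMap, Pi.smul_apply, smul_eq_mul, RingHom.id_apply]; ring

section
variable {F : Type*} [Field F] [Fintype F] {ω : F}
variable (hF : Fintype.card F = 4) (hω : ω ^ 2 + ω + 1 = 0)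
include hF hω

theorem mem_iff (y : Fin 6 → Fin 4) :
    (fun m => e ω (y m)) ∈ hexacode F ω ↔ inCode y = true := by
  have h2 := two_eq_zero_of_card hF
  constructor
  · intro h
    obtain ⟨t, ht⟩ := (mem_hexacode_iff hF hω _).mp h
    have : cw t = y := by
      funext m
      exact e_injective hω h2 (congrFun ht m)
    rw [← this]
    exact inCode_complete t
  · intro h
    rw [vec6 y] at h
    obtain ⟨t, ht⟩ := inCode_sound _ _ _ _ _ _ h
    refine (mem_hexacode_iff hF hω _).mpr ⟨t, ?_⟩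
    funext m
    show e ω (cw t m) = e ω (y m)
    rw [ht m, ← vec6 y]

theorem monomialMap_e (σ : Equiv.Perm (Fin 6)) (c : Fin 6 → Fˣ) (d : Fin 6 → Fin 4)
    (hd : ∀ i, (c i : F) = e ω (d i)) (y : Fin 6 → Fin 4) :
    monomialMap σ c (fun m => e ω (y m)) = fun m => e ω (mono (⇑σ.symm) d y m) := by
  have h2 := two_eq_zero_of_card hF
  funext i
  simp only [monomialMap, mono, hd, e_mul hω h2]

theorem gen_mem1 : (fun m => e ω (u1 m)) ∈ hexacode F ω := by
  rw [← v1_eq]; exact Submodule.subset_span (by simp)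

theorem gen_mem2 : (fun m => e ω (u2 m)) ∈ hexacode F ω := by
  rw [← v2_eq]; exact Submodule.subset_span (by simp)

theorem gen_mem3 : (fun m => e ω (u3 m)) ∈ hexacode F ω := by
  rw [← v3_eq]; exact Submodule.subset_span (by simp)

theorem pres_iff (σ : Equiv.Perm (Fin 6)) (c : Fin 6 → Fˣ) (d : Fin 6 → Fin 4)
    (hd : ∀ i, (c i : F) = e ω (d i)) :
    Pres F ω σ c ↔ presG (⇑σ.symm) d = true := by
  constructor
  · intro h
    have h1 := h _ (gen_mem1 hF hω)
    have h2 := h _ (gen_mem2 hF hω)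
    have h3 := h _ (gen_mem3 hF hω)
    rw [monomialMap_e hF hω σ c d hd, mem_iff hF hω] at h1 h2 h3
    simp only [presG, Bool.and_eq_true]
    exact ⟨⟨h1, h2⟩, h3⟩
  · intro h
    simp only [presG, Bool.and_eq_true] at h
    obtain ⟨⟨h1, h2⟩, h3⟩ := h
    have hle : hexacode F ω ≤ (hexacode F ω).comap (monoLin σ c) := by
      unfold hexacode
      rw [Submodule.span_le]
      intro v hv
      simp only [Set.mem_insert_iff, Set.mem_singleton_iff] at hv
      show monomialMap σ c v ∈ hexacode F ω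
      rcases hv with rfl | rfl | rfl
      · rw [v1_eq, monomialMap_e hF hω σ c d hd, mem_iff hF hω]; exact h1
      · rw [v2_eq, monomialMap_e hF hω σ c d hd, mem_iff hF hω]; exact h2
      · rw [v3_eq, monomialMap_e hF hω σ c d hd, mem_iff hF hω]; exact h3
    intro x hx
    exact hle hx

/-- index description of a family of units -/
theorem exists_idx (c : Fin 6 → Fˣ) :
    ∃ k : Fin 6 → Fin 3, ∀ i, (c i : F) = e ω ((k i).succ) := by
  have h2 := two_eq_zero_of_card hF
  have : ∀ i, ∃ k : Fin 3, (c i : F) = e ω k.succ := by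
    intro i
    obtain ⟨a, ha⟩ := e_surjective hF hω (c i : F)
    have ha0 : a ≠ 0 := by
      rintro rfl
      exact (c i).ne_zero ha.symm
    obtain ⟨k, hk⟩ := Fin.exists_succ_eq.mpr ha0
    exact ⟨k, by rw [hk, ha]⟩
  choose k hk using this
  exact ⟨k, hk⟩

/-- units from nonzero indices -/
noncomputable def unitsOf (ω : F) (hF : Fintype.card F = 4) (hω : ω ^ 2 + ω + 1 = 0)
    (d : Fin 6 → Fin 4) (hd : ∀ i, d i ≠ 0) : Fin 6 → Fˣ :=
  fun i => Units.mk0 (e ω (d i))
    (fun h => hd i ((e_eq_zero_iff hω (two_eq_zero_of_card hF) _).mp h))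

theorem unitsOf_coe (d : Fin 6 → Fin 4) (hd : ∀ i, d i ≠ 0) (i : Fin 6) :
    ((unitsOf ω hF hω d hd i : Fˣ) : F) = e ω (d i) := rfl

theorem diag_scalar (c : Fin 6 → Fˣ) (h : Pres F ω 1 c) : ∀ i j, c i = c j := by
  have h2 := two_eq_zero_of_card hF
  obtain ⟨k, hk⟩ := exists_idx hF hω c
  have hp := (pres_iff hF hω 1 c _ hk).mp h
  have hid : (⇑(1 : Equiv.Perm (Fin 6)).symm : Fin 6 → Fin 6) = id := rfl
  rw [hid, vec6 (fun i => (k i).succ)] at hp
  have := diag_const _ _ _ _ _ _ hp
  obtain ⟨e01, e12, e23, e34, e45⟩ := this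
  have hall : ∀ i, k i = k 0 := by
    intro i
    fin_cases i
    · rfl
    · exact e01.symm
    · exact (e01.trans e12).symm
    · exact (e01.trans (e12.trans e23)).symm
    · exact (e01.trans (e12.trans (e23.trans e34))).symm
    · exact (e01.trans (e12.trans (e23.trans (e34.trans e45)))).symm
  intro i j
  apply Units.ext
  rw [hk i, hk j, hall i, hall j]

theorem not_pres_swap (c : Fin 6 → Fˣ) : ¬ Pres F ω (Equiv.swap 0 1) c := by
  intro h
  obtain ⟨k, hk⟩ := exists_idx hF hω c
  have hp := (pres_iff hF hω _ c _ hk).mp h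
  have hid : (⇑(Equiv.swap (0 : Fin 6) 1).symm : Fin 6 → Fin 6)
      = fun i => Equiv.swap (0 : Fin 6) 1 i := by
    rw [Equiv.symm_swap]
  rw [hid, vec6 (fun i => (k i).succ)] at hp
  have := no_swap (k 0) (k 1) (k 2) (k 3) (k 4) (k 5)
  rw [this] at hp
  exact Bool.false_ne_true hp

theorem pres_three_cycle (a b c : Fin 6) (hab : a ≠ b) (hbc : b ≠ c) (hac : a ≠ c) :
    Pres F ω (Equiv.swap a b * Equiv.swap b c)
      (unitsOf ω hF hω (wit a b c) (wit_ne a b c)) := by
  rw [pres_iff hF hω _ _ (wit a b c) (unitsOf_coe hF hω _ _)]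
  have hid : (⇑(Equiv.swap a b * Equiv.swap b c).symm : Fin 6 → Fin 6)
      = fun i => Equiv.swap b c (Equiv.swap a b i) := by
    funext i
    rw [← Equiv.Perm.inv_def, mul_inv_rev, Equiv.swap_inv, Equiv.swap_inv, Equiv.Perm.mul_apply]
  rw [hid]
  exact wit_pres a b c hab hbc hac

end

section
variable {F : Type*} [Field F] {ω : F}

theorem pres_one : Pres F ω 1 (fun _ => 1) := by
  intro x hx
  have : monomialMap (1 : Equiv.Perm (Fin 6)) (fun _ => (1 : Fˣ)) x = x := by
    funext i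
    show ((1 : Fˣ) : F) * x ((1 : Equiv.Perm (Fin 6)).symm i) = x i
    rw [Units.val_one, one_mul]; rfl
  rw [this]; exact hx

theorem monomialMap_mul (σ τ : Equiv.Perm (Fin 6)) (c c' : Fin 6 → Fˣ) (x : Fin 6 → F) :
    monomialMap (σ * τ) (fun i => c i * c' (σ.symm i)) x
      = monomialMap σ c (monomialMap τ c' x) := by
  funext i
  simp only [monomialMap, Units.val_mul]
  have : (σ * τ).symm i = τ.symm (σ.symm i) := by
    rw [← Equiv.Perm.inv_def, mul_inv_rev, Equiv.Perm.mul_apply]; rfl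
  rw [this]; ring

theorem pres_mul {σ τ : Equiv.Perm (Fin 6)} {c c' : Fin 6 → Fˣ}
    (h : Pres F ω σ c) (h' : Pres F ω τ c') :
    Pres F ω (σ * τ) (fun i => c i * c' (σ.symm i)) := by
  intro x hx
  rw [monomialMap_mul]
  exact h _ (h' _ hx)

theorem pres_smul {σ : Equiv.Perm (Fin 6)} {c : Fin 6 → Fˣ} (h : Pres F ω σ c) (l : Fˣ) :
    Pres F ω σ (fun i => l * c i) := by
  intro x hx
  have : monomialMap σ (fun i => l * c i) x = (l : F) • monomialMap σ c x := by
    funext i
    simp only [monomialMap, Units.val_mul, Pi.smul_apply, smul_eq_mul]; ring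
  rw [this]
  exact Submodule.smul_mem _ _ (h x hx)

variable (F ω) in
/-- the permutation parts of hexacode-preserving monomial maps -/
def permPart : Subgroup (Equiv.Perm (Fin 6)) where
  carrier := {σ | ∃ c, Pres F ω σ c}
  one_mem' := ⟨_, pres_one⟩
  mul_mem' := by
    rintro σ τ ⟨c, h⟩ ⟨c', h'⟩
    exact ⟨_, pres_mul h h'⟩
  inv_mem' := by
    rintro σ ⟨c, h⟩
    have hpow : ∀ n : ℕ, ∃ c', Pres F ω (σ ^ n) c' := by
      intro n
      induction n with
      | zero => exact ⟨_, by rw [pow_zero]; exact pres_one⟩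
      | succ n ih =>
        obtain ⟨c', h'⟩ := ih
        exact ⟨_, by rw [pow_succ]; exact pres_mul h' h⟩
    have : σ⁻¹ = σ ^ (orderOf σ - 1) := by
      rw [inv_eq_iff_mul_eq_one, ← pow_succ', Nat.sub_add_cancel (orderOf_pos σ),
        pow_orderOf_eq_one]
    rw [this]
    exact hpow _

theorem mem_permPart {σ : Equiv.Perm (Fin 6)} : σ ∈ permPart F ω ↔ ∃ c, Pres F ω σ c := Iff.rfl

end

section
variable {F : Type*} [Field F] [Fintype F] {ω : F}
variable (hF : Fintype.card F = 4) (hω : ω ^ 2 + ω + 1 = 0)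
include hF hω

theorem permPart_eq : permPart F ω = alternatingGroup (Fin 6) := by
  have hge : alternatingGroup (Fin 6) ≤ permPart F ω := by
    rw [← Equiv.Perm.closure_three_cycles_eq_alternating, Subgroup.closure_le]
    intro g hg
    have hg3 : g.IsThreeCycle := hg
    obtain ⟨a, ha⟩ : ∃ a, a ∈ g.support := by
      have := hg3.card_support
      have hne : g.support.Nonempty := by
        rw [← Finset.card_pos, this]; norm_num
      exact hne
    have heq := hg3.eq_swap_mul_swap_iff_mem_support.mpr ha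
    have hnd := hg3.nodup_iff_mem_support.mpr ha
    simp only [List.nodup_cons, List.mem_cons, List.not_mem_nil, or_false, not_or,
      List.nodup_nil, and_true, not_false_eq_true] at hnd
    obtain ⟨⟨h1, h2⟩, h3⟩ := hnd
    show g ∈ permPart F ω
    rw [heq]
    exact ⟨_, pres_three_cycle hF hω a (g a) (g (g a)) h1 h3 h2⟩
  apply le_antisymm _ hge
  intro σ hσ
  by_contra hodd
  have hs : Equiv.Perm.sign σ = -1 := by
    rcases Int.units_eq_one_or (Equiv.Perm.sign σ) with h | h
    · exact absurd (Equiv.Perm.mem_alternatingGroup.mpr h) hodd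
    · exact h
  have hmem : σ⁻¹ * Equiv.swap 0 1 ∈ alternatingGroup (Fin 6) := by
    rw [Equiv.Perm.mem_alternatingGroup, map_mul, map_inv, hs,
      Equiv.Perm.sign_swap (by decide)]
    decide
  have : Equiv.swap (0 : Fin 6) 1 ∈ permPart F ω := by
    have := (permPart F ω).mul_mem hσ (hge hmem)
    rwa [mul_inv_cancel_left] at this
  obtain ⟨c, hc⟩ := this
  exact not_pres_swap hF hω c hc

theorem pres_ratio {σ : Equiv.Perm (Fin 6)} {c c' : Fin 6 → Fˣ}
    (h : Pres F ω σ c) (h' : Pres F ω σ c') : ∀ i, c' i = (c' 0 / c 0) * c i := by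
  obtain ⟨c'', h''⟩ : σ⁻¹ ∈ permPart F ω := (permPart F ω).inv_mem ⟨c, h⟩
  have k1 := pres_mul h'' h
  have k2 := pres_mul h'' h'
  rw [inv_mul_cancel] at k1 k2
  have d1 := diag_scalar hF hω _ k1
  have d2 := diag_scalar hF hω _ k2
  have key : ∀ i j : Fin 6, c' i / c i = c' j / c j := by
    intro i j
    have e1 := d1 (σ.symm i) (σ.symm j)
    have e2 := d2 (σ.symm i) (σ.symm j)
    simp only [Equiv.Perm.inv_def, Equiv.symm_symm, Equiv.apply_symm_apply] at e1 e2
    calc c' i / c i = (c'' (σ.symm i) * c' i) / (c'' (σ.symm i) * c i) :=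
          (mul_div_mul_left_eq_div _ _ _).symm
      _ = (c'' (σ.symm j) * c' j) / (c'' (σ.symm j) * c j) := by rw [e1, e2]
      _ = c' j / c j := mul_div_mul_left_eq_div _ _ _
  intro i
  rw [← key i 0, div_mul_cancel]

theorem card_pres_of_mem {σ : Equiv.Perm (Fin 6)} (hσ : σ ∈ alternatingGroup (Fin 6)) :
    Nat.card {c : Fin 6 → Fˣ // Pres F ω σ c} = 3 := by
  rw [← permPart_eq hF hω] at hσ
  obtain ⟨c0, h0⟩ := hσ
  have hbij : Function.Bijective
      (fun l : Fˣ => (⟨fun i => l * c0 i, pres_smul h0 l⟩ : {c : Fin 6 → Fˣ // Pres F ω σ c})) := by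
    constructor
    · intro l l' h
      have := congrFun (congrArg Subtype.val h) 0
      exact mul_right_cancel this
    · rintro ⟨c', h'⟩
      refine ⟨c' 0 / c0 0, ?_⟩
      apply Subtype.ext
      funext i
      exact (pres_ratio hF hω h0 h' i).symm
  rw [← Nat.card_congr (Equiv.ofBijective _ hbij), Nat.card_units, Nat.card_eq_fintype_card, hF]

theorem card_pres_of_not_mem {σ : Equiv.Perm (Fin 6)} (hσ : σ ∉ alternatingGroup (Fin 6)) :
    Nat.card {c : Fin 6 → Fˣ // Pres F ω σ c} = 0 := by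
  rw [← permPart_eq hF hω] at hσ
  have : IsEmpty {c : Fin 6 → Fˣ // Pres F ω σ c} := ⟨fun c => hσ ⟨c.1, c.2⟩⟩
  exact Nat.card_of_isEmpty

theorem card_total :
    Nat.card {f : Equiv.Perm (Fin 6) × (Fin 6 → Fˣ) // Pres F ω f.1 f.2} = 1080 := by
  classical
  rw [Nat.card_congr (Equiv.subtypeProdEquivSigmaSubtype
    (fun (σ : Equiv.Perm (Fin 6)) (c : Fin 6 → Fˣ) => Pres F ω σ c)), Nat.card_sigma]
  have : ∀ σ : Equiv.Perm (Fin 6), Nat.card {c : Fin 6 → Fˣ // Pres F ω σ c}
      = if σ ∈ alternatingGroup (Fin 6) then 3 else 0 := by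
    intro σ
    split_ifs with h
    · exact card_pres_of_mem hF hω h
    · exact card_pres_of_not_mem hF hω h
  simp_rw [this]
  rw [Finset.sum_ite, Finset.sum_const_zero, add_zero, Finset.sum_const, smul_eq_mul]
  have hc : (Finset.univ.filter fun σ : Equiv.Perm (Fin 6) => σ ∈ alternatingGroup (Fin 6)).card
      = 360 := by
    have h1 : Fintype.card (alternatingGroup (Fin 6)) = 360 := by
      rw [card_alternatingGroup]; rfl
    rw [← h1, Fintype.card_subtype]
  rw [hc]

end

end Cfsg.Agent.Lib.H14.HexMono
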