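import Mathlib
import Cfsg.Agent.Lib.H7.K4Defs

/-!
# S3805 piece CE1 (helper14): the hypothesis `hK` of `tri3'` for conjugates of elements of order 3 of `N`
-/

set_option autoImplicit false
set_option maxRecDepth 100000

namespace Cfsg.Agent.Lib.H14.K4

open Cfsg Cfsg.Agent.Lib.H7.K4

/-- elements of order dividing 3 of `S₃` commute -/
theorem s3_comm_of_pow_three : ∀ a : Equiv.Perm (Fin 3), ∀ b : Equiv.Perm (Fin 3),
    a ^ 3 = 1 → b ^ 3 = 1 → a * b = b * a := by
  decide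

/-- elements of order dividing 3 of `S₃ × S₃` commute -/
theorem s33_comm_of_pow_three (a b : S33) (ha : a ^ 3 = 1) (hb : b ^ 3 = 1) : a * b = b * a := by
  have h1 := s3_comm_of_pow_three a.1 b.1 (by simpa using congrArg Prod.fst ha)
    (by simpa using congrArg Prod.fst hb)
  have h2 := s3_comm_of_pow_three a.2 b.2 (by simpa using congrArg Prod.snd ha)
    (by simpa using congrArg Prod.snd hb)
  exact Prod.ext h1 h2

variable {G : Type*} [Group G]

/-- the case `g = 1` of CE1 -/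
theorem hK_of_hyp_aux (h : Hyp G) (c : G) (hc : c ∈ h.N) (hc3 : c ^ 3 = 1) (hc1 : c ≠ 1) :
    ∀ α : G, α ≠ 1 → α ^ 3 = 1 → α * c = c * α →
      ∀ w : G, w * α = α * w → w ^ 3 = 1 → w * c = c * w := by
  intro α hα1 hα3 hαc w hwα hw3
  have hc4 : c ^ 4 ≠ 1 := by
    have : c ^ 4 = c := by rw [pow_succ, hc3, one_mul]
    rw [this]; exact hc1
  have hαN : α ∈ h.N := by
    apply h.ti α c hc hc4
    have : α * c * α⁻¹ = c := by rw [hαc]; group
    rw [this]; exact hc
  have hα4 : α ^ 4 ≠ 1 := by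
    have : α ^ 4 = α := by rw [pow_succ, hα3, one_mul]
    rw [this]; exact hα1
  have hwN : w ∈ h.N := by
    apply h.ti w α hαN hα4
    have : w * α * w⁻¹ = α := by rw [hwα]; group
    rw [this]; exact hαN
  have e1 : (h.e ⟨w, hwN⟩) ^ 3 = 1 := by
    rw [← map_pow]
    have : (⟨w, hwN⟩ : ↥h.N) ^ 3 = 1 := Subtype.ext (by simpa using hw3)
    rw [this, map_one]
  have e2 : (h.e ⟨c, hc⟩) ^ 3 = 1 := by
    rw [← map_pow]
    have : (⟨c, hc⟩ : ↥h.N) ^ 3 = 1 := Subtype.ext (by simpa using hc3)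
    rw [this, map_one]
  have e3 := s33_comm_of_pow_three _ _ e1 e2
  rw [← map_mul, ← map_mul] at e3
  have e4 := h.e.injective e3
  exact congrArg Subtype.val e4

/-- CE1. -/
theorem hK_of_hyp (h : Hyp G) (c : G) (hc : c ∈ h.N) (hc3 : c ^ 3 = 1) (hc1 : c ≠ 1) (g : G) :
    ∀ α : G, α ≠ 1 → α ^ 3 = 1 → α * (g * c * g⁻¹) = (g * c * g⁻¹) * α →
      ∀ w : G, w * α = α * w → w ^ 3 = 1 → w * (g * c * g⁻¹) = (g * c * g⁻¹) * w := by
  intro α hα1 hα3 hαc w hwα hw3
  have key := hK_of_hyp_aux h c hc hc3 hc1 (g⁻¹ * α * g)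
    (by
      intro e
      apply hα1
      have : α = g * (g⁻¹ * α * g) * g⁻¹ := by group
      rw [this, e]; group)
    (by
      have : (g⁻¹ * α * g) ^ 3 = g⁻¹ * α ^ 3 * g := by
        have := conj_pow (a := g⁻¹) (b := α) (i := 3)
        simpa using this
      rw [this, hα3]; group)
    (by
      have : g⁻¹ * α * g * c = g⁻¹ * (α * (g * c * g⁻¹)) * g := by group
      rw [this, hαc]; group)
    (g⁻¹ * w * g)
    (by
      have : g⁻¹ * w * g * (g⁻¹ * α * g) = g⁻¹ * (w * α) * g := by group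
      rw [this, hwα]; group)
    (by
      have : (g⁻¹ * w * g) ^ 3 = g⁻¹ * w ^ 3 * g := by
        have := conj_pow (a := g⁻¹) (b := w) (i := 3)
        simpa using this
      rw [this, hw3]; group)
  have : w * (g * c * g⁻¹) = g * (g⁻¹ * w * g * c) * g⁻¹ := by group
  rw [this, key]; group

end Cfsg.Agent.Lib.H14.K4
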