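import Mathlib
import Cfsg.Agent.Lib.H7.K4Defs

/-!
# S3805 piece CE2 (helper14): fusion of 3-singular elements is controlled by `N`
-/

set_option autoImplicit false

namespace Cfsg.Agent.Lib.H14.K4

open Cfsg Cfsg.Agent.Lib.H7.K4

variable {G : Type*} [Group G]

/-- CE2. -/
theorem isConj_of_isConj (h : Hyp G) (s s' : S33) (hs : s ^ 4 ≠ 1)
    (hconj : IsConj (h.el s) (h.el s')) : IsConj s s' := by
  obtain ⟨g, hg⟩ := isConj_iff.1 hconj
  have hd4 : h.el s ^ 4 ≠ 1 := by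
    rw [← h.el_pow, ← h.el_one]
    intro e
    exact hs (h.el_injective e)
  have hgN : g ∈ h.N := by
    apply h.ti g (h.el s) (h.el_mem s) hd4
    rw [hg]; exact h.el_mem s'
  rw [isConj_iff]
  refine ⟨h.e ⟨g, hgN⟩, ?_⟩
  apply h.el_injective
  rw [h.el_mul, h.el_mul, h.el_inv, h.el_e]
  exact hg

end Cfsg.Agent.Lib.H14.K4
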