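import Mathlib
import Cfsg.Agent.Lib.H7.K4Defs

/-!
# S3805 piece GRPC (helper14): the TI property from the hypotheses
-/

set_option autoImplicit false

namespace Cfsg.Agent.Lib.H14.K4

open Cfsg Cfsg.Agent.Lib.H7.K4

variable {G : Type*} [Group G] [Finite G]

/-- a 3-element of `N_G(T)` lies in the Sylow 3-subgroup `T` -/
theorem mem_sylow_of_mem_normalizer (T : Sylow 3 G) (x : G)
    (hxN : x ∈ Subgroup.normalizer ((T : Subgroup G) : Set G)) (hx : x ^ 9 = 1) :
    x ∈ (T : Subgroup G) := by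
  have hz : IsPGroup 3 (Subgroup.zpowers x) := by
    rw [IsPGroup.iff_card]
    have hord : orderOf x ∣ 3 ^ 2 := by
      apply orderOf_dvd_of_pow_eq_one
      simpa using hx
    obtain ⟨k, _, hk⟩ := (Nat.dvd_prime_pow (by norm_num : Nat.Prime 3)).1 hord
    exact ⟨k, by rw [Nat.card_zpowers, hk]⟩
  have hle : Subgroup.zpowers x ≤ Subgroup.normalizer ((T : Subgroup G) : Set G) := by
    rw [Subgroup.zpowers_le]; exact hxN
  have hsup : IsPGroup 3 ((T : Subgroup G) ⊔ Subgroup.zpowers x : Subgroup G) :=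
    IsPGroup.to_sup_of_normal_left' T.2 hz hle
  have := T.is_maximal' hsup le_sup_left
  have hx' : x ∈ (T : Subgroup G) ⊔ Subgroup.zpowers x :=
    (le_sup_right : Subgroup.zpowers x ≤ _) (Subgroup.mem_zpowers x)
  rw [this] at hx'
  exact hx'

/-- GRPC. -/
theorem ti_of_hyp (T : Sylow 3 G) (hT : Cfsg.IsElementaryAbelian 3 (T : Subgroup G))
    (hN : Nat.card ↥(Subgroup.normalizer ((T : Subgroup G) : Set G)) = 36)
    (hloc : ∀ t ∈ (T : Subgroup G), t ≠ 1 →
      Subgroup.centralizer ({t} : Set G) ≤ Subgroup.normalizer ((T : Subgroup G) : Set G)) :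
    ∀ g d : G, d ∈ Subgroup.normalizer ((T : Subgroup G) : Set G) → d ^ 4 ≠ 1 →
      g * d * g⁻¹ ∈ Subgroup.normalizer ((T : Subgroup G) : Set G) →
      g ∈ Subgroup.normalizer ((T : Subgroup G) : Set G) := by
  intro g d hd hd4 hgd
  set N := Subgroup.normalizer ((T : Subgroup G) : Set G) with hNdef
  have hpow36 : ∀ y : G, y ∈ N → y ^ 36 = 1 := by
    intro y hy
    have h1 : (⟨y, hy⟩ : ↥N) ^ Nat.card ↥N = 1 := pow_card_eq_one'
    rw [hN] at h1
    have := congrArg Subtype.val h1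
    simpa using this
  have ht9 : ∀ y : G, y ∈ N → (y ^ 4) ^ 9 = 1 := by
    intro y hy
    rw [← pow_mul]; exact hpow36 y hy
  have htT : d ^ 4 ∈ (T : Subgroup G) :=
    mem_sylow_of_mem_normalizer T _ (N.pow_mem hd 4) (ht9 d hd)
  have e1 : g * d ^ 4 * g⁻¹ = (g * d * g⁻¹) ^ 4 := by
    rw [conj_pow]
  have htT' : g * d ^ 4 * g⁻¹ ∈ (T : Subgroup G) := by
    rw [e1]
    exact mem_sylow_of_mem_normalizer T _ (N.pow_mem hgd 4) (ht9 _ hgd)
  have : IsMulCommutative (T : Subgroup G) := hT.1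
  have hy : (g⁻¹)⁻¹ * d ^ 4 * g⁻¹ ∈ (T : Subgroup G) := by
    rw [inv_inv]; exact htT'
  obtain ⟨n, hn, hn'⟩ := T.conj_eq_normalizer_conj_of_mem (d ^ 4) g⁻¹ htT hy
  rw [inv_inv] at hn'
  -- `n * g` centralises `d ^ 4`
  have hcomm : n * g ∈ Subgroup.centralizer ({d ^ 4} : Set G) := by
    rw [Subgroup.mem_centralizer_singleton_iff]
    have : n * (g * d ^ 4 * g⁻¹) * n⁻¹ = d ^ 4 := by
      rw [hn']; group
    calc (n * g) * d ^ 4 = n * (g * d ^ 4 * g⁻¹) * n⁻¹ * (n * g) := by group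
      _ = d ^ 4 * (n * g) := by rw [this]
  have hng : n * g ∈ N := hloc _ htT hd4 hcomm
  have : g = n⁻¹ * (n * g) := by group
  rw [this]
  exact N.mul_mem (N.inv_mem hn) hng

end Cfsg.Agent.Lib.H14.K4
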