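import Cfsg.Agent.Lib.H14.KFam1
import Cfsg.Agent.S2827
import Cfsg.Agent.S2829

set_option autoImplicit false

namespace Cfsg.Agent.Lib.H14
open scoped commutatorElement

universe u

section
variable {G : Type*} [Group G] [Finite G] {p : ℕ} [hp : Fact p.Prime]
set_option linter.unusedSectionVars false

/-- `O^p` commutes with images under homomorphisms (finite source). -/
theorem presOf_map {G' : Type*} [Group G'] (f : G →* G') (E : Subgroup G) :
    presOf p (E.map f) = (presOf p E).map f := by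
  apply le_antisymm
  · conv_lhs => unfold presOf
    rw [Subgroup.closure_le]
    rintro y ⟨⟨x, hx, rfl⟩, hy⟩
    obtain ⟨k, hk⟩ := exists_pow_mem_presOf p E x hx
    apply mem_of_pow_mem_of_coprime p _ _ hy k
    rw [← map_pow]
    exact Subgroup.mem_map_of_mem f hk
  · conv_lhs => unfold presOf
    rw [MonoidHom.map_closure, Subgroup.closure_le]
    rintro _ ⟨x, ⟨hxE, hx⟩, rfl⟩
    apply Subgroup.subset_closure
    exact ⟨Subgroup.mem_map_of_mem f hxE, Nat.Coprime.coprime_dvd_left (orderOf_map_dvd f x) hx⟩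

/-- If `⁅e, k⁆` commutes with `e` then `⁅e ^ m, k⁆ = ⁅e, k⁆ ^ m`. -/
theorem commutatorElement_pow_left {G : Type*} [Group G] (e k : G)
    (hc : ⁅e, k⁆ * e = e * ⁅e, k⁆) (m : ℕ) : ⁅e ^ m, k⁆ = ⁅e, k⁆ ^ m := by
  induction m with
  | zero => simp [commutatorElement_def]
  | succ m ih =>
    have h1 : ⁅e ^ (m + 1), k⁆ = e * ⁅e ^ m, k⁆ * e⁻¹ * ⁅e, k⁆ := by
      simp only [commutatorElement_def, pow_succ']
      group
    have hcm : Commute (⁅e, k⁆ ^ m) e := (Commute.pow_left (show Commute ⁅e, k⁆ e from hc) m)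
    rw [h1, ih, ← hcm.eq, mul_assoc (⁅e, k⁆ ^ m), mul_inv_cancel, mul_one, ← pow_succ]

/-- A subnormal `p`-subgroup of a group with `O_p = 1` is trivial. -/
theorem eq_bot_of_isSubnormal_of_isPGroup (hO : Cfsg.pCore p G = ⊥) (X : Subgroup G)
    (hX : X.IsSubnormal) (hXp : IsPGroup p ↥X) : X = ⊥ := by
  rw [eq_bot_iff, ← hO]
  exact (le_pCoreOf p X X le_rfl Subgroup.le_normalizer hXp).trans (pCoreOf_le_of_isSubnormal p X hX)

/-- In an abelian subnormal subgroup of a group with `O_p = 1` there are no `p`-elements. -/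
theorem eq_one_of_pow_eq_one (hO : Cfsg.pCore p G = ⊥) (Z : Subgroup G) (hZ : Z.IsSubnormal)
    (hZc : ∀ a ∈ Z, ∀ b ∈ Z, a * b = b * a) (c : G) (hc : c ∈ Z) (j : ℕ) (hj : c ^ (p ^ j) = 1) :
    c = 1 := by
  have hle : Subgroup.zpowers c ≤ Z := by rw [Subgroup.zpowers_le]; exact hc
  have hn : ((Subgroup.zpowers c).subgroupOf Z).Normal := by
    apply Subgroup.normal_subgroupOf_of_le_normalizer
    apply le_nzr_of_conj_mem
    intro z hz x hx
    have hxZ : x ∈ Z := hle hx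
    have : z * x * z⁻¹ = x := by rw [hZc z hz x hxZ]; group
    rw [this]; exact hx
  have hsub : (Subgroup.zpowers c).IsSubnormal := Subgroup.IsSubnormal.step _ Z hle hZ hn
  have hp' : IsPGroup p ↥(Subgroup.zpowers c) := by
    rintro ⟨y, hy⟩
    refine ⟨j, Subtype.ext ?_⟩
    obtain ⟨k, rfl⟩ := Subgroup.mem_zpowers_iff.mp hy
    simp only [Subgroup.coe_pow, Subgroup.coe_one]
    rw [← zpow_natCast, ← zpow_mul, mul_comm, zpow_mul, zpow_natCast, hj, one_zpow]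
  have := eq_bot_of_isSubnormal_of_isPGroup hO _ hsub hp'
  have h1 : c ∈ Subgroup.zpowers c := Subgroup.mem_zpowers c
  rw [this] at h1
  exact Subgroup.mem_bot.mp h1

/-- **Power trick.** -/
theorem commutator_eq_bot_of_presOf (hO : Cfsg.pCore p G = ⊥) (E A Z : Subgroup G)
    (hZ : Z.IsSubnormal) (hZE : Z ≤ E) (hZC : Z ≤ Subgroup.centralizer (E : Set G))
    (hEA : ∀ e ∈ E, ∀ a ∈ A, ⁅e, a⁆ ∈ Z) (hpres : ⁅presOf p E, A⁆ = ⊥) : ⁅E, A⁆ = ⊥ := by
  rw [eq_bot_iff, Subgroup.commutator_le]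
  intro e he a ha
  rw [Subgroup.mem_bot]
  have hcZ := hEA e he a ha
  have hce : ⁅e, a⁆ * e = e * ⁅e, a⁆ := (Subgroup.mem_centralizer_iff.mp (hZC hcZ) e he).symm
  obtain ⟨j, hj⟩ := exists_pow_mem_presOf p E e he
  have h1 : ⁅e ^ (p ^ j), a⁆ = 1 := by
    have : ⁅e ^ (p ^ j), a⁆ ∈ ⁅presOf p E, A⁆ := Subgroup.commutator_mem_commutator hj ha
    rw [hpres] at this
    exact Subgroup.mem_bot.mp this
  rw [commutatorElement_pow_left e a hce] at h1
  apply eq_one_of_pow_eq_one hO Z hZ ?_ _ hcZ j h1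
  intro x hx y hy
  exact (Subgroup.mem_centralizer_iff.mp (hZC hy) x (hZE hx))

/-- The `𝒦`-family hypotheses with `O_p(G) = 1` and strongly `p`-irreducible members. -/
structure KF0 (p : ℕ) (𝒦 : Set (Subgroup G)) : Prop where
  toKF : KF p 𝒦
  hO : Cfsg.pCore p G = ⊥
  hspi : ∀ E ∈ 𝒦, Cfsg.IsStronglyPIrreducible p ↥E

namespace KF0
variable {𝒦 : Set (Subgroup G)}

theorem nzr (h : KF0 p 𝒦) {E : Subgroup G} (hE : E ∈ 𝒦) :
    sSup 𝒦 ≤ Subgroup.normalizer (E : Set G) := by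
  have := h.toKF.hnorm E hE
  rw [h.hO, sup_bot_eq, sup_bot_eq] at this
  exact this

theorem le_R (_h : KF0 p 𝒦) {E : Subgroup G} (hE : E ∈ 𝒦) : E ≤ sSup 𝒦 := le_sSup hE

theorem subn (h : KF0 p 𝒦) {E : Subgroup G} (hE : E ∈ 𝒦) : E.IsSubnormal := by
  have hn := h.toKF.sSup_normal
  exact Subgroup.IsSubnormal.step E (sSup 𝒦) (le_sSup hE) hn.isSubnormal
    (Subgroup.normal_subgroupOf_of_le_normalizer (h.nzr hE))

theorem pCoreOf_eq_bot (h : KF0 p 𝒦) {E : Subgroup G} (hE : E ∈ 𝒦) : Cfsg.pCoreOf p E = ⊥ := by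
  rw [eq_bot_iff, ← h.hO]
  exact pCoreOf_le_of_isSubnormal p E (h.subn hE)

/-- ambient form of strong `p`-irreducibility (with `O_p(E) = 1`). -/
theorem spi (h : KF0 p 𝒦) {E : Subgroup G} (hE : E ∈ 𝒦) (X : Subgroup G) (hXE : X ≤ E)
    (hEX : E ≤ Subgroup.normalizer (X : Set G)) (hne : ⁅X, E⁆ ≠ ⊥) : presOf p E ≤ X := by
  have hn : (X.subgroupOf E).Normal := Subgroup.normal_subgroupOf_of_le_normalizer hEX
  have h1 := (h.hspi E hE).2 (X.subgroupOf E) hn ?_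
  · have h2 := Subgroup.map_mono (f := E.subtype) h1
    rw [pResidual_map_eq, Subgroup.map_subgroupOf_eq_of_le hXE] at h2
    exact h2
  · intro hc
    apply hne
    have h2 := Subgroup.map_mono (f := E.subtype) hc
    rw [Subgroup.map_commutator, Subgroup.map_subgroupOf_eq_of_le hXE, ← MonoidHom.range_eq_map,
      Subgroup.range_subtype] at h2
    have h3 : (Cfsg.pCore p ↥E).map E.subtype = Cfsg.pCoreOf p E := rfl
    rw [h3, h.pCoreOf_eq_bot hE] at h2
    exact eq_bot_iff.mpr h2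

theorem presOf_le_commutator (h : KF0 p 𝒦) {E : Subgroup G} (hE : E ∈ 𝒦) :
    presOf p E ≤ ⁅E, E⁆ := by
  have hpi := Cfsg.Agent.S2829.result (h.hspi E hE)
  obtain ⟨T⟩ : Nonempty (Sylow p ↥E) := inferInstance
  have h1 := (Cfsg.Agent.S2827.result hpi T).2.2.1
  have h2 := Subgroup.map_mono (f := E.subtype) h1
  rw [pResidual_map_eq, commutator_def, Subgroup.map_commutator, ← MonoidHom.range_eq_map,
    Subgroup.range_subtype] at h2
  exact h2

theorem not_isPClosed (h : KF0 p 𝒦) : ¬ Cfsg.IsPClosed p G := by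
  intro hc
  obtain ⟨E, hE⟩ := h.toKF.hne
  apply (h.hspi E hE).1
  obtain ⟨T⟩ : Nonempty (Sylow p G) := inferInstance
  have hTn : (T : Subgroup G).Normal := hc T
  obtain ⟨TE⟩ : Nonempty (Sylow p ↥E) := inferInstance
  apply isPClosed_of_normal_sylow TE
  have hsub : ∀ Q : Subgroup G, IsPGroup p ↥Q → Q ≤ (T : Subgroup G) := by
    intro Q hQ
    obtain ⟨Q', hQ'⟩ := hQ.exists_le_sylow
    have := Sylow.unique_of_normal T hTn
    rw [Subsingleton.elim T Q']; exact hQ'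
  have hXp : IsPGroup p ↥(((T : Subgroup G) ⊓ E).subgroupOf E) :=
    (T.2.to_le inf_le_left).comap_subtype
  have h1 : (TE : Subgroup ↥E) ≤ ((T : Subgroup G) ⊓ E).subgroupOf E := by
    intro y hy
    rw [Subgroup.mem_subgroupOf]
    exact ⟨hsub _ (TE.2.map E.subtype) ⟨y, hy, rfl⟩, y.2⟩
  have h2 : ((T : Subgroup G) ⊓ E).subgroupOf E = (TE : Subgroup ↥E) := TE.is_maximal' hXp h1
  rw [← h2, Subgroup.inf_subgroupOf_right]
  exact hTn.subgroupOf E

end KF0

/-- `R₀ = ⟨O^p(E) | E ∈ 𝒦⟩`. -/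
def R0 (p : ℕ) (𝒦 : Set (Subgroup G)) : Subgroup G := sSup ((fun E => presOf p E) '' 𝒦)

theorem presOf_le_R0 {𝒦 : Set (Subgroup G)} {E : Subgroup G} (hE : E ∈ 𝒦) :
    presOf p E ≤ R0 p 𝒦 := le_sSup ⟨E, hE, rfl⟩

theorem R0_le_of {𝒦 : Set (Subgroup G)} (N : Subgroup G) (h : ∀ E ∈ 𝒦, presOf p E ≤ N) :
    R0 p 𝒦 ≤ N := by
  apply sSup_le
  rintro _ ⟨E, hE, rfl⟩
  exact h E hE

theorem R0_normal {𝒦 : Set (Subgroup G)} (h : KF p 𝒦) : (R0 p 𝒦).Normal := by
  constructor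
  intro x hx g
  have key : R0 p 𝒦 ≤ (R0 p 𝒦).comap (MulAut.conj g).toMonoidHom := by
    apply R0_le_of
    intro E hE
    rw [← Subgroup.map_le_iff_le_comap, ← presOf_map]
    exact presOf_le_R0 (h.hinv g E hE)
  have := key hx
  simpa [MulAut.conj_apply] using this

namespace KF0
variable {𝒦 : Set (Subgroup G)}

theorem pmod_R (h : KF0 p 𝒦) : PMod p (sSup 𝒦) (R0 p 𝒦) := by
  have hn : (R0 p 𝒦).Normal := R0_normal h.toKF
  have hHC : sSup 𝒦 ≤ Subgroup.normalizer ((R0 p 𝒦 : Subgroup G) : Set G) := by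
    rw [Subgroup.normalizer_eq_top_iff.mpr hn]; exact le_top
  exact (pmod_sSup_of_finite (sSup 𝒦) (R0 p 𝒦) hHC 𝒦 (Set.toFinite 𝒦) (fun E hE =>
    ⟨le_sSup hE, h.nzr hE, fun d hd => by
      obtain ⟨k, hk⟩ := exists_pow_mem_presOf p E d hd
      exact ⟨k, presOf_le_R0 hE hk⟩⟩)).2.2

theorem pResidual_le_R0 (h : KF0 p 𝒦) : Cfsg.pResidual p G ≤ R0 p 𝒦 := by
  conv_lhs => unfold Cfsg.pResidual
  rw [Subgroup.closure_le]
  intro x hx
  have hxR : x ∈ sSup 𝒦 := h.toKF.hres (Subgroup.subset_closure hx)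
  obtain ⟨k, hk⟩ := h.pmod_R x hxR
  exact mem_of_pow_mem_of_coprime p _ x hx k hk

theorem R0_le_commutator (h : KF0 p 𝒦) : R0 p 𝒦 ≤ ⁅sSup 𝒦, sSup 𝒦⁆ := by
  apply R0_le_of
  intro E hE
  exact (h.presOf_le_commutator hE).trans (Subgroup.commutator_mono (le_sSup hE) (le_sSup hE))

/-- Case B: a normal subgroup meeting every member of `𝒦` centrally is `p`-closed. -/
theorem isPClosed_of_central (h : KF0 p 𝒦) (N : Subgroup G) [hN : N.Normal]
    (hB : ∀ E ∈ 𝒦, ⁅N ⊓ E, E⁆ = ⊥) : Cfsg.IsPClosed p ↥N := by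
  have hRn := h.toKF.sSup_normal
  set R := sSup 𝒦 with hR
  set N₁ := N ⊓ R with hN₁
  -- B2/B3
  have hB3 : ∀ E ∈ 𝒦, ⁅E, N₁⁆ = ⊥ := by
    intro E hE
    have hEN : ∀ e ∈ E, ∀ n ∈ N₁, ⁅e, n⁆ ∈ N ⊓ E := by
      intro e he n hn
      refine ⟨?_, ?_⟩
      · rw [commutatorElement_def]
        exact N.mul_mem (hN.conj_mem n hn.1 e) (N.inv_mem hn.1)
      · have h1 : n * e⁻¹ * n⁻¹ ∈ E :=
          (Subgroup.mem_normalizer_iff.mp (h.nzr hE hn.2) e⁻¹).mp (E.inv_mem he)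
        have : ⁅e, n⁆ = e * (n * e⁻¹ * n⁻¹) := by rw [commutatorElement_def]; group
        rw [this]; exact E.mul_mem he h1
    have h1 : ⁅E, N₁⁆ ≤ N ⊓ E := Subgroup.commutator_le.mpr hEN
    have h2 : ⁅⁅E, N₁⁆, E⁆ = ⊥ := eq_bot_iff.mpr
      ((Subgroup.commutator_mono h1 le_rfl).trans (le_of_eq (hB E hE)))
    have h3 : ⁅⁅N₁, E⁆, E⁆ = ⊥ := by rw [Subgroup.commutator_comm N₁ E]; exact h2
    have h4 : ⁅⁅E, E⁆, N₁⁆ = ⊥ := Subgroup.commutator_commutator_eq_bot_of_rotate h2 h3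
    have h5 : ⁅presOf p E, N₁⁆ = ⊥ := eq_bot_iff.mpr
      ((Subgroup.commutator_mono (h.presOf_le_commutator hE) le_rfl).trans (le_of_eq h4))
    exact commutator_eq_bot_of_presOf h.hO E N₁ (N ⊓ E) (hN.isSubnormal.inf (h.subn hE))
      inf_le_right (Subgroup.commutator_eq_bot_iff_le_centralizer.mp (hB E hE)) hEN h5
  -- B4
  have hB4 : ⁅R, N₁⁆ = ⊥ := by
    rw [Subgroup.commutator_eq_bot_iff_le_centralizer]
    apply sSup_le
    intro E hE
    exact Subgroup.commutator_eq_bot_iff_le_centralizer.mp (hB3 E hE)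
  obtain ⟨T⟩ : Nonempty (Sylow p G) := inferInstance
  set T₁ := (T : Subgroup G) ⊓ N with hT₁
  -- B5
  have h1 : ⁅T₁, R⁆ ≤ N₁ := by
    rw [Subgroup.commutator_le]
    intro t ht r hr
    refine ⟨?_, ?_⟩
    · have : ⁅t, r⁆ = t * (r * t⁻¹ * r⁻¹) := by rw [commutatorElement_def]; group
      rw [this]; exact N.mul_mem ht.2 (hN.conj_mem _ (N.inv_mem ht.2) r)
    · rw [commutatorElement_def]
      exact R.mul_mem (hRn.conj_mem r hr t) (R.inv_mem hr)
  have h2 : ⁅⁅T₁, R⁆, R⁆ = ⊥ := by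
    rw [eq_bot_iff, Subgroup.commutator_comm]
    exact (Subgroup.commutator_mono le_rfl h1).trans (le_of_eq hB4)
  have h3 : ⁅⁅R, T₁⁆, R⁆ = ⊥ := by rw [Subgroup.commutator_comm R T₁]; exact h2
  have h4 : ⁅⁅R, R⁆, T₁⁆ = ⊥ := Subgroup.commutator_commutator_eq_bot_of_rotate h3 h2
  have h5 : R0 p 𝒦 ≤ Subgroup.centralizer (T₁ : Set G) := by
    rw [← Subgroup.commutator_eq_bot_iff_le_centralizer, eq_bot_iff]
    exact (Subgroup.commutator_mono h.R0_le_commutator le_rfl).trans (le_of_eq h4)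
  -- B7
  have h6 : presOf p N ≤ R0 p 𝒦 := by
    refine (presOf_mono p le_top).trans ?_
    rw [← pResidual_eq_presOf_top]
    exact h.pResidual_le_R0
  have h7 : N ≤ Subgroup.normalizer (T₁ : Set G) := by
    refine (le_presOf_sup_sylow N (sylowInf T N)).trans (sup_le ?_ ?_)
    · exact (h6.trans h5).trans (Subgroup.centralizer_le_normalizer _)
    · rw [sylowInf_map]; exact Subgroup.le_normalizer
  apply isPClosed_of_normal_sylow (sylowInf T N)
  rw [sylowInf_coe]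
  exact Subgroup.normal_subgroupOf_of_le_normalizer h7

end KF0

namespace KF0
variable {𝒦 : Set (Subgroup G)}

theorem presOf_map_cj (E : Subgroup G) (g : G) :
    presOf p (E.map (MulAut.conj g).toMonoidHom) = (presOf p E).map (MulAut.conj g).toMonoidHom :=
  presOf_map _ E

/-- **`𝒦`-family lemma, core form (`O_p = 1`): `G` is `p`-irreducible.** -/
theorem isPIrreducible (h : KF0 p 𝒦) : Cfsg.IsPIrreducible p G := by
  refine ⟨h.not_isPClosed, fun N hN hNc => ?_⟩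
  by_cases hA : ∃ E ∈ 𝒦, presOf p E ≤ N
  · obtain ⟨E, hE, hEN⟩ := hA
    refine h.pResidual_le_R0.trans (R0_le_of N ?_)
    intro K hK
    obtain ⟨g, rfl⟩ := h.toKF.htr E hE K hK
    rw [presOf_map_cj]
    rintro _ ⟨x, hx, rfl⟩
    exact hN.conj_mem x (hEN hx) g
  · exfalso
    apply hNc
    apply h.isPClosed_of_central N
    intro E hE
    by_contra hne
    apply hA
    refine ⟨E, hE, (h.spi hE (N ⊓ E) inf_le_right ?_ hne).trans inf_le_left⟩
    intro e he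
    apply mem_normalizer_inf
    · rw [Subgroup.normalizer_eq_top_iff.mpr hN]; exact Subgroup.mem_top e
    · exact Subgroup.le_normalizer he

/-- **`𝒦`-family lemma, core form: the dichotomy.** -/
theorem dichotomy (h : KF0 p 𝒦) (E : Subgroup G) (hE : E ∈ 𝒦) (K : Subgroup G) (hK : K ∈ 𝒦) :
    presOf p E = presOf p K ∨ ⁅E, K⁆ = ⊥ := by
  have hcard : ∀ E ∈ 𝒦, ∀ K ∈ 𝒦, presOf p E ≤ K → presOf p E = presOf p K := by
    intro E hE K hK hle
    have h1 : presOf p E ≤ presOf p K := by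
      rw [← presOf_presOf p E]; exact presOf_mono p hle
    apply Subgroup.eq_of_le_of_card_ge h1
    obtain ⟨g, rfl⟩ := h.toKF.htr E hE K hK
    rw [presOf_map_cj, card_map_conj]
  by_cases h1 : presOf p E ≤ K
  · exact Or.inl (hcard E hE K hK h1)
  by_cases h2 : presOf p K ≤ E
  · exact Or.inl (hcard K hK E hE h2).symm
  right
  have hEK : E ≤ Subgroup.normalizer (K : Set G) := (le_sSup hE).trans (h.nzr hK)
  have hKE : K ≤ Subgroup.normalizer (E : Set G) := (le_sSup hK).trans (h.nzr hE)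
  have hZE : ⁅E ⊓ K, E⁆ = ⊥ := by
    by_contra hne
    apply h1
    refine (h.spi hE (E ⊓ K) inf_le_left ?_ hne).trans inf_le_right
    intro e he
    exact mem_normalizer_inf (Subgroup.le_normalizer he) (hEK he)
  have hZK : ⁅E ⊓ K, K⁆ = ⊥ := by
    by_contra hne
    apply h2
    refine (h.spi hK (E ⊓ K) inf_le_right ?_ hne).trans inf_le_left
    intro k hk
    exact mem_normalizer_inf (hKE hk) (Subgroup.le_normalizer hk)
  have hcomm : ∀ e ∈ E, ∀ k ∈ K, ⁅e, k⁆ ∈ E ⊓ K := by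
    intro e he k hk
    refine ⟨?_, ?_⟩
    · have h1 : k * e⁻¹ * k⁻¹ ∈ E :=
        (Subgroup.mem_normalizer_iff.mp (hKE hk) e⁻¹).mp (E.inv_mem he)
      have : ⁅e, k⁆ = e * (k * e⁻¹ * k⁻¹) := by rw [commutatorElement_def]; group
      rw [this]; exact E.mul_mem he h1
    · rw [commutatorElement_def]
      exact K.mul_mem ((Subgroup.mem_normalizer_iff.mp (hEK he) k).mp hk) (K.inv_mem hk)
  have h3 : ⁅E, K⁆ ≤ E ⊓ K := Subgroup.commutator_le.mpr hcomm
  have h4 : ⁅⁅E, K⁆, E⁆ = ⊥ := eq_bot_iff.mpr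
    ((Subgroup.commutator_mono h3 le_rfl).trans (le_of_eq hZE))
  have h5 : ⁅⁅K, E⁆, E⁆ = ⊥ := by rw [Subgroup.commutator_comm K E]; exact h4
  have h6 : ⁅⁅E, E⁆, K⁆ = ⊥ := Subgroup.commutator_commutator_eq_bot_of_rotate h4 h5
  have h7 : ⁅presOf p E, K⁆ = ⊥ := eq_bot_iff.mpr
    ((Subgroup.commutator_mono (h.presOf_le_commutator hE) le_rfl).trans (le_of_eq h6))
  exact commutator_eq_bot_of_presOf h.hO E K (E ⊓ K) ((h.subn hE).inf (h.subn hK)) inf_le_left
    (Subgroup.commutator_eq_bot_iff_le_centralizer.mp hZE) hcomm h7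

end KF0

end
end Cfsg.Agent.Lib.H14
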