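import Cfsg.Agent.Lib.H14.KFam2
import Cfsg.Agent.Lib.H14.PIrrQuot
import Cfsg.Agent.S2828

set_option autoImplicit false

namespace Cfsg.Agent.Lib.H14
open scoped commutatorElement

universe u

section
variable {H : Type*} [Group H] [Finite H] {p : ℕ} [hp : Fact p.Prime]
set_option linter.unusedSectionVars false

theorem isStronglyPIrreducible_of_surjective {G G' : Type*} [Group G] [Group G'] [Finite G]
    (f : G →* G') (hf : Function.Surjective f) (hk : IsPGroup p f.ker)
    (h : Cfsg.IsStronglyPIrreducible p G) : Cfsg.IsStronglyPIrreducible p G' := by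
  obtain ⟨h1, h2⟩ := h
  have hA := isPClosed_iff_of_surjective f hf hk
  refine ⟨fun hc => h1 (hA.mpr hc), fun Nb hNb hNbc => ?_⟩
  rw [← pResidual_map_of_surjective f hf]
  apply Subgroup.map_le_iff_le_comap.mpr
  apply h2 _ (hNb.comap _)
  intro hc
  apply hNbc
  have h3 := Subgroup.map_mono (f := f) hc
  rw [Subgroup.map_commutator, Subgroup.map_comap_eq_self_of_surjective hf,
    Subgroup.map_top_of_surjective _ hf] at h3
  exact h3.trans (pCore_map_le _ hf)

theorem isPGroup_ker_subgroupMap {G G' : Type*} [Group G] [Group G'] (f : G →* G')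
    (hk : IsPGroup p f.ker) (N : Subgroup G) : IsPGroup p (f.subgroupMap N).ker := by
  apply IsPGroup.of_injective hk
    ((N.subtype.comp (f.subgroupMap N).ker.subtype).codRestrict f.ker ?_) ?_
  · intro x
    rw [MonoidHom.mem_ker]
    have h1 : (f.subgroupMap N) (x : ↥N) = 1 := x.2
    have h2 := congrArg Subtype.val h1
    simpa using h2
  · intro x y hxy
    have h1 := congrArg Subtype.val hxy
    apply Subtype.ext
    apply Subtype.ext
    simpa using h1

theorem pCore_quotient_pCore : Cfsg.pCore p (H ⧸ Cfsg.pCore p H) = ⊥ := by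
  have hPn : (Cfsg.pCore p H).Normal := pCore_normal
  have hk : IsPGroup p (QuotientGroup.mk' (Cfsg.pCore p H)).ker := by
    rw [QuotientGroup.ker_mk']; exact pCore_isPGroup
  have h1 := comap_pCore_le (p := p) (QuotientGroup.mk' (Cfsg.pCore p H)) hk
  have h2 := Subgroup.map_mono (f := QuotientGroup.mk' (Cfsg.pCore p H)) h1
  rw [Subgroup.map_comap_eq_self_of_surjective (QuotientGroup.mk'_surjective _),
    QuotientGroup.map_mk'_self] at h2
  exact eq_bot_iff.mpr h2

theorem map_map_cj {G' : Type*} [Group G'] (f : H →* G') (E : Subgroup H) (g : H) :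
    (E.map (MulAut.conj g).toMonoidHom).map f = (E.map f).map (MulAut.conj (f g)).toMonoidHom := by
  rw [Subgroup.map_map, Subgroup.map_map]
  congr 1
  ext x
  simp [MulAut.conj_apply]

theorem pCore_quotient_eq_bot (P : Subgroup H) [P.Normal] (hP : P = Cfsg.pCore p H) :
    Cfsg.pCore p (H ⧸ P) = ⊥ := by
  subst hP
  exact pCore_quotient_pCore

/-- Transport of the `𝒦`-family hypotheses to `H / O_p(H)`. -/
theorem KF.kf0_quotient {𝒦 : Set (Subgroup H)} (h : KF p 𝒦)
    (hspi : ∀ E ∈ 𝒦, Cfsg.IsStronglyPIrreducible p ↥E) (P : Subgroup H) [hPn : P.Normal]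
    (hP : P = Cfsg.pCore p H) :
    KF0 p ((fun E : Subgroup H => E.map (QuotientGroup.mk' P)) '' 𝒦) := by
  have hπ : Function.Surjective (QuotientGroup.mk' P) := QuotientGroup.mk'_surjective P
  have hPp : IsPGroup p ↥P := by rw [hP]; exact pCore_isPGroup
  have hk : IsPGroup p (QuotientGroup.mk' P).ker := by rw [QuotientGroup.ker_mk']; exact hPp
  have hO : Cfsg.pCore p (H ⧸ P) = ⊥ := pCore_quotient_eq_bot P hP
  have hsS1 : (sSup 𝒦).map (QuotientGroup.mk' P) ≤
      sSup ((fun E : Subgroup H => E.map (QuotientGroup.mk' P)) '' 𝒦) := by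
    rw [Subgroup.map_le_iff_le_comap]
    apply sSup_le
    intro E hE
    rw [← Subgroup.map_le_iff_le_comap]
    exact le_sSup ⟨E, hE, rfl⟩
  have hsS2 : sSup ((fun E : Subgroup H => E.map (QuotientGroup.mk' P)) '' 𝒦) ≤
      (sSup 𝒦).map (QuotientGroup.mk' P) := by
    apply sSup_le
    rintro _ ⟨E, hE, rfl⟩
    exact Subgroup.map_mono (le_sSup hE)
  refine ⟨⟨?_, ?_, ?_, ?_, ?_⟩, hO, ?_⟩
  · obtain ⟨E, hE⟩ := h.hne
    exact ⟨_, E, hE, rfl⟩
  · rintro gb _ ⟨E, hE, rfl⟩
    obtain ⟨g, rfl⟩ := hπ gb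
    exact ⟨_, h.hinv g E hE, map_map_cj _ E g⟩
  · rintro _ ⟨E, hE, rfl⟩ _ ⟨K, hK, rfl⟩
    obtain ⟨g, rfl⟩ := h.htr E hE K hK
    exact ⟨QuotientGroup.mk' P g, map_map_cj _ E g⟩
  · rw [← pResidual_map_of_surjective (QuotientGroup.mk' P) hπ]
    exact (Subgroup.map_mono h.hres).trans hsS1
  · rintro _ ⟨E, hE, rfl⟩
    rw [hO, sup_bot_eq, sup_bot_eq]
    have h1 := h.hnorm E hE
    rw [← hP] at h1
    have h2 : (E ⊔ P).map (QuotientGroup.mk' P) = E.map (QuotientGroup.mk' P) := by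
      rw [Subgroup.map_sup, QuotientGroup.map_mk'_self, sup_bot_eq]
    calc sSup ((fun E : Subgroup H => E.map (QuotientGroup.mk' P)) '' 𝒦)
        ≤ (sSup 𝒦).map (QuotientGroup.mk' P) := hsS2
      _ ≤ (Subgroup.normalizer ((E ⊔ P : Subgroup H) : Set H)).map (QuotientGroup.mk' P) :=
          Subgroup.map_mono (le_sup_left.trans h1)
      _ ≤ Subgroup.normalizer (((E ⊔ P).map (QuotientGroup.mk' P) : Subgroup (H ⧸ P)) : Set (H ⧸ P)) :=
          Subgroup.le_normalizer_map _
      _ = Subgroup.normalizer ((E.map (QuotientGroup.mk' P) : Subgroup (H ⧸ P)) : Set (H ⧸ P)) := by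
          rw [h2]
  · rintro _ ⟨E, hE, rfl⟩
    exact isStronglyPIrreducible_of_surjective ((QuotientGroup.mk' P).subgroupMap E)
      ((QuotientGroup.mk' P).subgroupMap_surjective E) (isPGroup_ker_subgroupMap _ hk E)
      (hspi E hE)

/-- **`𝒦`-family lemma, strongly `p`-irreducible case.** -/
theorem KF.spi_conclusion {𝒦 : Set (Subgroup H)} (h : KF p 𝒦)
    (hspi : ∀ E ∈ 𝒦, Cfsg.IsStronglyPIrreducible p ↥E) :
    Cfsg.IsPIrreducible p H ∧ ∀ E ∈ 𝒦, ∀ K ∈ 𝒦,
      presOf p (E ⊔ Cfsg.pCore p H) = presOf p (K ⊔ Cfsg.pCore p H) ∨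
        ⁅E, K⁆ ≤ Cfsg.pCore p H := by
  have hPn : (Cfsg.pCore p H).Normal := Cfsg.Agent.Lib.H14.pCore_normal
  have hPp : IsPGroup p ↥(Cfsg.pCore p H) := pCore_isPGroup
  have h0 := h.kf0_quotient hspi (Cfsg.pCore p H) rfl
  have hπ := QuotientGroup.mk'_surjective (Cfsg.pCore p H)
  refine ⟨((Cfsg.Agent.S2828.result (Cfsg.pCore p H) hPp).1).mpr h0.isPIrreducible, ?_⟩
  intro E hE K hK
  have key : ∀ A B : Subgroup H, Cfsg.pCore p H ≤ B →
      (presOf p A).map (QuotientGroup.mk' (Cfsg.pCore p H)) =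
        (presOf p B).map (QuotientGroup.mk' (Cfsg.pCore p H)) → presOf p A ≤ presOf p B := by
    intro A B hPB heq
    have h1 : presOf p A ≤ presOf p B ⊔ Cfsg.pCore p H := by
      have := Subgroup.le_comap_map (QuotientGroup.mk' (Cfsg.pCore p H)) (presOf p A)
      rw [heq, Subgroup.comap_map_eq, QuotientGroup.ker_mk'] at this
      exact this
    rw [← presOf_presOf p A]
    apply presOf_le_of_le_sup' (presOf p B) (Cfsg.pCore p H) (presOf p A) ?_ hPp h1
    exact (hPB.trans Subgroup.le_normalizer).trans (presOf_normalized p B)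
  rcases h0.dichotomy (E.map (QuotientGroup.mk' (Cfsg.pCore p H))) ⟨E, hE, rfl⟩
    (K.map (QuotientGroup.mk' (Cfsg.pCore p H))) ⟨K, hK, rfl⟩ with h1 | h1
  · left
    have hE2 : (E ⊔ Cfsg.pCore p H).map (QuotientGroup.mk' (Cfsg.pCore p H)) =
        E.map (QuotientGroup.mk' (Cfsg.pCore p H)) := by
      rw [Subgroup.map_sup, QuotientGroup.map_mk'_self, sup_bot_eq]
    have hK2 : (K ⊔ Cfsg.pCore p H).map (QuotientGroup.mk' (Cfsg.pCore p H)) =
        K.map (QuotientGroup.mk' (Cfsg.pCore p H)) := by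
      rw [Subgroup.map_sup, QuotientGroup.map_mk'_self, sup_bot_eq]
    rw [← hE2, ← hK2, presOf_map, presOf_map] at h1
    exact le_antisymm (key _ _ le_sup_right h1) (key _ _ le_sup_right h1.symm)
  · right
    rw [← Subgroup.map_commutator, Subgroup.map_eq_bot_iff, QuotientGroup.ker_mk'] at h1
    exact h1

end
end Cfsg.Agent.Lib.H14
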