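import Cfsg.Agent.Lib.H14.Trace
import Cfsg.Agent.Lib.H14.FStarComm2
import Cfsg.Agent.Lib.H14.Large2
import Cfsg.Agent.Lib.H14.PReduced10
import Cfsg.Agent.Lib.H15.CharP

/-! Kieler's lemma: ambient cocycle and trace lemmas, normal case, subnormal induction. -/

set_option autoImplicit false

namespace Cfsg.Agent.Lib.H14
open scoped commutatorElement IsMulCommutative

universe u

section
variable {G : Type*} [Group G] [Finite G] {p : ℕ} [hp : Fact p.Prime]
set_option linter.unusedSectionVars false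

theorem coprime_index_subgroupOf (P K : Subgroup G) (h : ¬ p ∣ P.relIndex K) :
    ((P.subgroupOf K).index).Coprime p := by
  rw [Nat.coprime_comm, Nat.Prime.coprime_iff_not_dvd hp.out]
  exact h

/-- **Ambient cocycle lemma.** -/
theorem ambient_cocycle (U K P : Subgroup G) (hU : Cfsg.IsElementaryAbelian p U)
    (hKU : K ≤ Subgroup.normalizer (U : Set G)) (hPK : P ≤ K) (hidx : ¬ p ∣ P.relIndex K)
    (b : G) (hbU : ∀ x ∈ K, ⁅x, b⁆ ∈ U) (hbP : ∀ t ∈ P, ⁅t, b⁆ = 1)
    (hfix : ∀ u ∈ U, (∀ t ∈ P, t * u = u * t) → ∀ k ∈ K, k * u = u * k) :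
    ∀ x ∈ K, ⁅x, b⁆ = 1 := by
  have hUc : IsMulCommutative ↥U := hU.1
  intro x hx
  have key := cocycle_eq_one (conjHom K U hKU) (P.subgroupOf K) (p := p)
    (by intro m; apply Subtype.ext; simpa using hU.2 m m.2)
    (coprime_index_subgroupOf P K hidx)
    (fun x : ↥K => (⟨⁅(x : G), b⁆, hbU x x.2⟩ : ↥U))
    (by
      intro x y
      apply Subtype.ext
      show ⁅((x * y : ↥K) : G), b⁆ = ((conjHom K U hKU x ⟨⁅(y : G), b⁆, hbU y y.2⟩ : ↥U) : G) *
        ⁅(x : G), b⁆
      rw [conjHom_apply_coe]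
      simp only [Subgroup.coe_mul, commutatorElement_def]
      group)
    (by
      intro t ht
      apply Subtype.ext
      exact hbP t (Subgroup.mem_subgroupOf.mp ht))
    (by
      intro m hm k
      apply Subtype.ext
      rw [conjHom_apply_coe]
      have h1 : ∀ t ∈ P, t * (m : G) = (m : G) * t := by
        intro t ht
        have := congrArg Subtype.val (hm ⟨t, hPK ht⟩ (Subgroup.mem_subgroupOf.mpr ht))
        rw [conjHom_apply_coe] at this
        calc t * (m : G) = (t * (m : G) * t⁻¹) * t := by group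
          _ = (m : G) * t := by rw [this]
      have h2 := hfix m m.2 h1 k k.2
      rw [h2]; group)
    ⟨x, hx⟩
  exact congrArg Subtype.val key

theorem conj_eq_of_comm {a k : G} (h : k * a = a * k) : k * a * k⁻¹ = a := by
  rw [h]; group

theorem comm_of_conj_eq {a k : G} (h : k * a * k⁻¹ = a) : k * a = a * k := by
  calc k * a = (k * a * k⁻¹) * k := by group
    _ = a * k := by rw [h]

/-- **Ambient trace lemma.** -/
theorem ambient_trace (U K P S A : Subgroup G) (hU : Cfsg.IsElementaryAbelian p U)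
    (hKU : K ≤ Subgroup.normalizer (U : Set G)) (hPK : P ≤ K) (hidx : ¬ p ∣ P.relIndex K)
    (hSp : IsPGroup p ↥S) (hSK : S ≤ Subgroup.normalizer (K : Set G))
    (hSP : S ≤ Subgroup.normalizer (P : Set G)) (hSU : S ≤ Subgroup.normalizer (U : Set G))
    (hA : ∀ u, u ∈ A ↔ u ∈ U ∧ ∀ t ∈ P, t * u = u * t)
    (hfix : ∀ z ∈ A, (∀ s ∈ S, s * z = z * s) → ∀ k ∈ K, k * z = z * k) :
    ∀ a ∈ A, ∀ k ∈ K, k * a = a * k := by
  have hUc : IsMulCommutative ↥U := hU.1
  have hUp : ∀ m : ↥U, m ^ p = 1 := by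
    intro m; apply Subtype.ext; simpa using hU.2 m m.2
  have hAU : A ≤ U := fun a ha => ((hA a).mp ha).1
  set ρ := conjHom K U hKU with hρ
  set P' := P.subgroupOf K with hP'
  have hcop : (P'.index).Coprime p := coprime_index_subgroupOf P K hidx
  -- `P'`-fixed elements of `↥U` are the elements of `A`
  have hfixA : ∀ m : ↥U, (∀ t ∈ P', ρ t m = m) ↔ (m : G) ∈ A := by
    intro m
    rw [hA]
    constructor
    · intro h
      refine ⟨m.2, fun t ht => ?_⟩
      have := congrArg Subtype.val (h ⟨t, hPK ht⟩ (Subgroup.mem_subgroupOf.mpr ht))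
      rw [hρ, conjHom_apply_coe] at this
      exact comm_of_conj_eq this
    · rintro ⟨-, h⟩ t ht
      apply Subtype.ext
      rw [hρ, conjHom_apply_coe]
      exact conj_eq_of_comm (h t (Subgroup.mem_subgroupOf.mp ht))
  have hfixK : ∀ m : ↥U, (∀ k : ↥K, ρ k m = m) ↔ ∀ k ∈ K, k * (m : G) = (m : G) * k := by
    intro m
    constructor
    · intro h k hk
      have := congrArg Subtype.val (h ⟨k, hk⟩)
      rw [hρ, conjHom_apply_coe] at this
      exact comm_of_conj_eq this
    · intro h k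
      apply Subtype.ext
      rw [hρ, conjHom_apply_coe]
      exact conj_eq_of_comm (h k k.2)
  set τ := relTraceHom ρ P' with hτ
  -- the kernel of the trace on `A`
  set A₁ : Subgroup G := (A.subgroupOf U ⊓ τ.ker).map U.subtype with hA₁
  have hA₁mem : ∀ x, x ∈ A₁ ↔ ∃ hx : x ∈ U, x ∈ A ∧ τ ⟨x, hx⟩ = 1 := by
    intro x
    constructor
    · rintro ⟨m, ⟨hm1, hm2⟩, rfl⟩
      exact ⟨m.2, Subgroup.mem_subgroupOf.mp hm1, hm2⟩
    · rintro ⟨hx, hxA, hxτ⟩
      exact ⟨⟨x, hx⟩, ⟨Subgroup.mem_subgroupOf.mpr hxA, hxτ⟩, rfl⟩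
  have hA₁U : A₁ ≤ U := by
    intro x hx
    obtain ⟨hxU, -, -⟩ := (hA₁mem x).mp hx
    exact hxU
  have hA₁p : IsPGroup p ↥A₁ := (isPGroup_of_isElementaryAbelian U hU).to_le hA₁U
  -- `S` normalizes `A₁`
  have hSA₁ : S ≤ Subgroup.normalizer (A₁ : Set G) := by
    apply le_nzr_of_conj_mem
    intro s hs x hx
    obtain ⟨hxU, hxA, hxτ⟩ := (hA₁mem x).mp hx
    have hsxU : s * x * s⁻¹ ∈ U := (Subgroup.mem_normalizer_iff.mp (hSU hs) x).mp hxU
    have hsxA : s * x * s⁻¹ ∈ A := by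
      rw [hA]
      refine ⟨hsxU, fun t ht => ?_⟩
      have h1 : s⁻¹ * t * s⁻¹⁻¹ ∈ P :=
        (Subgroup.mem_normalizer_iff.mp (Subgroup.inv_mem _ (hSP hs)) t).mp ht
      have h2 := ((hA x).mp hxA).2 _ h1
      have h3 : s⁻¹ * t * s * x = x * (s⁻¹ * t * s) := by simpa using h2
      calc t * (s * x * s⁻¹) = s * (s⁻¹ * t * s * x) * s⁻¹ := by group
        _ = s * (x * (s⁻¹ * t * s)) * s⁻¹ := by rw [h3]
        _ = s * x * s⁻¹ * t := by group
    refine (hA₁mem _).mpr ⟨hsxU, hsxA, ?_⟩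
    -- equivariance
    have heq := relTrace_equivariant ρ P' (K.normalizerMonoidHom ⟨s, hSK hs⟩)
      (by
        intro t
        rw [hP', Subgroup.mem_subgroupOf, Subgroup.mem_subgroupOf,
          Subgroup.normalizerMonoidHom_apply_apply_coe]
        exact Subgroup.mem_normalizer_iff.mp (hSP hs) t)
      (U.normalizerMonoidHom ⟨s, hSU hs⟩)
      (by
        intro k m
        apply Subtype.ext
        simp only [hρ, conjHom_apply_coe, Subgroup.normalizerMonoidHom_apply_apply_coe]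
        group)
      ⟨x, hxU⟩ ((hfixA _).mpr hxA)
    have h4 : (U.normalizerMonoidHom ⟨s, hSU hs⟩) ⟨x, hxU⟩ = ⟨s * x * s⁻¹, hsxU⟩ := by
      apply Subtype.ext
      simp
    rw [h4] at heq
    rw [hτ, relTraceHom_apply, ← heq]
    rw [hτ, relTraceHom_apply] at hxτ
    rw [hxτ, map_one]
  -- `A₁ = ⊥`
  have hA₁bot : A₁ = ⊥ := by
    by_contra hne
    have h1 := inf_centralizer_ne_bot_of_isPGroup A₁ S hA₁p hSp hne hSA₁
    obtain ⟨⟨z, hz⟩, hz1'⟩ := (Subgroup.ne_bot_iff_exists_ne_one).mp h1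
    have hz1 : z ≠ 1 := fun h => hz1' (Subtype.ext h)
    obtain ⟨hzU, hzA, hzτ⟩ := (hA₁mem z).mp hz.1
    have hzS : ∀ s ∈ S, s * (z : G) = z * s := fun s hs =>
      (Subgroup.mem_centralizer_iff.mp hz.2 s hs)
    have hzK := hfix z hzA hzS
    have h2 : τ ⟨z, hzU⟩ = (⟨z, hzU⟩ : ↥U) ^ P'.index := by
      rw [hτ, relTraceHom_apply]
      exact relTrace_of_fixed ρ P' _ ((hfixK _).mpr hzK)
    rw [hzτ] at h2
    have h3 : orderOf (⟨z, hzU⟩ : ↥U) ∣ Nat.gcd P'.index p :=
      Nat.dvd_gcd (orderOf_dvd_of_pow_eq_one h2.symm) (orderOf_dvd_of_pow_eq_one (hUp _))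
    rw [hcop.gcd_eq_one, Nat.dvd_one, orderOf_eq_one_iff] at h3
    apply hz1
    exact congrArg Subtype.val h3
  -- conclusion
  intro a ha
  set m : ↥U := ⟨a, hAU ha⟩ with hm
  have hmP : ∀ t ∈ P', ρ t m = m := (hfixA m).mpr ha
  have hτK : ∀ k : ↥K, ρ k (τ m) = τ m := fun k => apply_relTrace ρ P' m hmP k
  have hτA : ((τ m : ↥U) : G) ∈ A := (hfixA _).mp (fun t _ => hτK t)
  have he : (((m ^ P'.index * (τ m)⁻¹ : ↥U)) : G) ∈ A₁ := by
    refine (hA₁mem _).mpr ⟨(m ^ P'.index * (τ m)⁻¹ : ↥U).2, ?_, ?_⟩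
    · rw [Subgroup.coe_mul, Subgroup.coe_inv, Subgroup.coe_pow]
      exact A.mul_mem (A.pow_mem ha _) (A.inv_mem hτA)
    · show τ (m ^ P'.index * (τ m)⁻¹) = 1
      rw [map_mul, map_pow, map_inv]
      have : τ (τ m) = (τ m) ^ P'.index := by
        rw [hτ, relTraceHom_apply, relTraceHom_apply]
        exact relTrace_of_fixed ρ P' _ hτK
      rw [this, mul_inv_cancel]
  rw [hA₁bot, Subgroup.mem_bot] at he
  have he' : m ^ P'.index = τ m := by
    have : (m ^ P'.index * (τ m)⁻¹ : ↥U) = 1 := Subtype.ext he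
    exact mul_inv_eq_one.mp this
  have hdvd : orderOf m ∣ p := orderOf_dvd_of_pow_eq_one (hUp m)
  have hcop' : (P'.index).Coprime (orderOf m) := Nat.Coprime.coprime_dvd_right hdvd hcop
  obtain ⟨j, hj⟩ := exists_pow_eq_self_of_coprime hcop'
  have hmK : ∀ k : ↥K, ρ k m = m := by
    intro k
    rw [← hj, map_pow, he', hτK k]
  exact (hfixK m).mp hmK

end
section
variable {G : Type*} [Group G] [Finite G] {p : ℕ} [hp : Fact p.Prime]
set_option linter.unusedSectionVars false

theorem mem_oz_of (P : Subgroup G) (z : G) (hzP : z ∈ P) (hc : ∀ g ∈ P, g * z = z * g)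
    (hz : z ^ p = 1) : z ∈ Cfsg.omegaOne p (P ⊓ Subgroup.centralizer (P : Set G)) := by
  unfold Cfsg.omegaOne
  exact Subgroup.subset_closure ⟨⟨hzP, Subgroup.mem_centralizer_iff.mpr hc⟩, hz⟩

/-- Sylow maximality, ambient form. -/
theorem le_of_isPGroup_of_not_dvd_relIndex (S X R : Subgroup G) (hS : ¬ p ∣ S.relIndex X)
    (hSR : S ≤ R) (hRX : R ≤ X) (hR : IsPGroup p ↥R) : R ≤ S := by
  have h1 : S.relIndex R * R.relIndex X = S.relIndex X :=
    Subgroup.relIndex_mul_relIndex S R X hSR hRX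
  have h2 : S.relIndex R ∣ Nat.card R := Subgroup.relIndex_dvd_card S R
  obtain ⟨n, hn⟩ := IsPGroup.iff_card.mp hR
  rw [hn] at h2
  obtain ⟨j, -, e⟩ := (Nat.dvd_prime_pow hp.out).mp h2
  rcases Nat.eq_zero_or_pos j with rfl | hj
  · rw [pow_zero] at e; exact Subgroup.relIndex_eq_one.mp e
  · exfalso; apply hS; rw [← h1, e]; exact Dvd.dvd.mul_right (dvd_pow_self p hj.ne') _

theorem le_sylow_of_normalizes (S X Q : Subgroup G) (hS : ¬ p ∣ S.relIndex X) (hSX : S ≤ X)
    (hSp : IsPGroup p ↥S) (hQX : Q ≤ X) (hQp : IsPGroup p ↥Q)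
    (hSQ : S ≤ Subgroup.normalizer (Q : Set G)) : Q ≤ S := by
  have hR : IsPGroup p ↥(S ⊔ Q) := IsPGroup.to_sup_of_normal_right' hSp hQp hSQ
  exact le_sup_right.trans
    (le_of_isPGroup_of_not_dvd_relIndex S X (S ⊔ Q) hS le_sup_left (sup_le hSX hQX) hR)

theorem mem_of_commutes_sylow (P L : Subgroup G) (hP : ¬ p ∣ P.relIndex L) (hPL : P ≤ L)
    (hPp : IsPGroup p ↥P) (u : G) (huL : u ∈ L) (hup : u ^ p = 1)
    (hc : ∀ t ∈ P, t * u = u * t) : u ∈ P := by
  have hZp : IsPGroup p ↥(Subgroup.zpowers u) := by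
    rintro ⟨y, hy⟩
    refine ⟨1, Subtype.ext ?_⟩
    obtain ⟨k, rfl⟩ := Subgroup.mem_zpowers_iff.mp hy
    simp only [pow_one, Subgroup.coe_pow, Subgroup.coe_one]
    rw [← zpow_natCast, ← zpow_mul, mul_comm, zpow_mul, zpow_natCast, hup, one_zpow]
  have hn : P ≤ Subgroup.normalizer ((Subgroup.zpowers u : Subgroup G) : Set G) := by
    apply le_nzr_of_conj_mem
    intro t ht x hx
    obtain ⟨k, rfl⟩ := Subgroup.mem_zpowers_iff.mp hx
    have h1 : Commute t u := hc t ht
    have : t * u ^ k * t⁻¹ = u ^ k := conj_eq_of_comm (h1.zpow_right k).eq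
    rw [this]; exact Subgroup.zpow_mem_zpowers u k
  exact (le_sylow_of_normalizes P L (Subgroup.zpowers u) hP hPL hPp
    (by rw [Subgroup.zpowers_le]; exact huL) hZp hn) (Subgroup.mem_zpowers u)

theorem not_dvd_relIndex_inf (S X L : Subgroup G) (hLX : L ≤ X)
    (hXL : X ≤ Subgroup.normalizer (L : Set G)) (h : ¬ p ∣ S.relIndex X) :
    ¬ p ∣ (S ⊓ L).relIndex L := by
  have hN : (L.subgroupOf X).Normal := (Subgroup.normal_subgroupOf_iff_le_normalizer hLX).mpr hXL
  have h1 := relIndex_dvd_index_of_normal_right (S.subgroupOf X) (L.subgroupOf X)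
  rw [Subgroup.relIndex_subgroupOf hLX] at h1
  rw [Subgroup.inf_relIndex_right]
  intro h2
  exact h (h2.trans h1)

/-- **Kieler's lemma, normal case (ambient form).** -/
theorem kieler_normal (X L S : Subgroup G)
    (hX : X ⊓ Subgroup.centralizer (Cfsg.pCoreOf p X : Set G) ≤ Cfsg.pCoreOf p X)
    (hSX : S ≤ X) (hSp : IsPGroup p ↥S) (hS : ¬ p ∣ S.relIndex X)
    (hLX : L ≤ X) (hXL : X ≤ Subgroup.normalizer (L : Set G)) :
    L ⊓ Subgroup.centralizer (oz p S : Set G) =
      L ⊓ Subgroup.centralizer (oz p (S ⊓ L) : Set G) := by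
  set Q := Cfsg.pCoreOf p X with hQ
  have hQp : IsPGroup p ↥Q := Cfsg.Agent.Lib.H15.pcoreOf_isPGroup p X
  have hXQ : X ≤ Subgroup.normalizer (Q : Set G) := Cfsg.Agent.Lib.H15.pcoreOf_normalized p X
  have hQX : Q ≤ X := Cfsg.Agent.Lib.H15.pcoreOf_le p X
  have hQS : Q ≤ S := le_sylow_of_normalizes S X Q hS hSX hSp hQX hQp (hSX.trans hXQ)
  set W := oz p Q with hW
  have hWe : Cfsg.IsElementaryAbelian p W := isElementaryAbelian_oz p Q
  have hXW : X ≤ Subgroup.normalizer (W : Set G) := hXQ.trans (nzr_le_nzr_oz p Q)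
  set B := oz p S with hB
  have hBW : B ≤ W := by
    intro z hz
    obtain ⟨h1, h2, h3⟩ := mem_oz_props p S z hz
    have hzQ : z ∈ Q :=
      hX ⟨hSX h1, Subgroup.mem_centralizer_iff.mpr (fun g hg => h2 g (hQS hg))⟩
    exact mem_oz_of Q z hzQ (fun g hg => h2 g (hQS hg)) h3
  set P := S ⊓ L with hP
  have hPp : IsPGroup p ↥P := hSp.to_le inf_le_left
  have hPL : P ≤ L := inf_le_right
  have hPS : P ≤ S := inf_le_left
  have hPidx : ¬ p ∣ P.relIndex L := not_dvd_relIndex_inf S X L hLX hXL hS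
  -- `L` has characteristic `p`
  have hLc : L ⊓ Subgroup.centralizer (Cfsg.pCoreOf p L : Set G) ≤ Cfsg.pCoreOf p L :=
    Cfsg.Agent.Lib.H15.charP_of_normalized_rel (K := X) hXQ hQp hX hLX (hQX.trans hXL)
  set QL := Cfsg.pCoreOf p L with hQL
  have hQLp : IsPGroup p ↥QL := Cfsg.Agent.Lib.H15.pcoreOf_isPGroup p L
  have hQLL : QL ≤ L := Cfsg.Agent.Lib.H15.pcoreOf_le p L
  have hXQL : X ≤ Subgroup.normalizer (QL : Set G) := hXL.trans (nzr_le_nzr_pCoreOf p L)
  have hQLS : QL ≤ S :=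
    le_sylow_of_normalizes S X QL hS hSX hSp (hQLL.trans hLX) hQLp (hSX.trans hXQL)
  have hQLP : QL ≤ P := le_inf hQLS hQLL
  set U₂ := oz p QL with hU₂
  have hU₂e : Cfsg.IsElementaryAbelian p U₂ := isElementaryAbelian_oz p QL
  have hXU₂ : X ≤ Subgroup.normalizer (U₂ : Set G) := hXQL.trans (nzr_le_nzr_oz p QL)
  set A := oz p P with hA
  have hAU₂ : A ≤ U₂ := by
    intro z hz
    obtain ⟨h1, h2, h3⟩ := mem_oz_props p P z hz
    have hzQ : z ∈ QL :=
      hLc ⟨hPL h1, Subgroup.mem_centralizer_iff.mpr (fun g hg => h2 g (hQLP hg))⟩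
    exact mem_oz_of QL z hzQ (fun g hg => h2 g (hQLP hg)) h3
  have hSL : S ≤ Subgroup.normalizer (L : Set G) := hSX.trans hXL
  apply le_antisymm
  · -- (⇒)
    refine le_inf inf_le_left ?_
    set K := L ⊓ Subgroup.centralizer (B : Set G) with hK
    have hPK : P ≤ K := by
      refine le_inf hPL ?_
      intro t ht
      rw [Subgroup.mem_centralizer_iff]
      intro b hb
      exact ((mem_oz_props p S b hb).2.1 t (hPS ht)).symm
    have hidx : ¬ p ∣ P.relIndex K := by
      intro h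
      apply hPidx
      rw [← Subgroup.relIndex_mul_relIndex P K L hPK inf_le_left]
      exact Dvd.dvd.mul_right h _
    have hSK : S ≤ Subgroup.normalizer (K : Set G) := by
      intro s hs
      exact mem_normalizer_inf (hSL hs)
        (nzr_le_nzr_centralizer B (nzr_le_nzr_oz p S (Subgroup.le_normalizer hs)))
    have hSP : S ≤ Subgroup.normalizer (P : Set G) := fun s hs =>
      mem_normalizer_inf (Subgroup.le_normalizer hs) (hSL hs)
    have key := ambient_trace U₂ K P S A hU₂e ((inf_le_left.trans hLX).trans hXU₂) hPK hidx hSp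
      hSK hSP (hSX.trans hXU₂)
      (by
        intro u
        constructor
        · intro hu
          exact ⟨hAU₂ hu, (mem_oz_props p P u hu).2.1⟩
        · rintro ⟨huU, hc⟩
          obtain ⟨h1, -, h3⟩ := mem_oz_props p QL u huU
          exact mem_oz_of P u (hQLP h1) hc h3)
      (by
        intro z hz hzS k hk
        obtain ⟨h1, -, h3⟩ := mem_oz_props p P z hz
        have hzB : z ∈ B := mem_oz_of S z (hPS h1) hzS h3
        exact (Subgroup.mem_centralizer_iff.mp hk.2 z hzB).symm)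
    intro k hk
    rw [Subgroup.mem_centralizer_iff]
    intro a ha
    exact (key a ha k hk).symm
  · -- (⇐)
    refine le_inf inf_le_left ?_
    set K' := L ⊓ Subgroup.centralizer (A : Set G) with hK'
    have hPK' : P ≤ K' := by
      refine le_inf hPL ?_
      intro t ht
      rw [Subgroup.mem_centralizer_iff]
      intro a ha
      exact ((mem_oz_props p P a ha).2.1 t ht).symm
    have hidx' : ¬ p ∣ P.relIndex K' := by
      intro h
      apply hPidx
      rw [← Subgroup.relIndex_mul_relIndex P K' L hPK' inf_le_left]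
      exact Dvd.dvd.mul_right h _
    have hU : Cfsg.IsElementaryAbelian p (W ⊓ L) :=
      isElementaryAbelian_of_le W (W ⊓ L) hWe inf_le_left
    have hK'U : K' ≤ Subgroup.normalizer ((W ⊓ L : Subgroup G) : Set G) := by
      intro x hx
      exact mem_normalizer_inf (hXW (hLX hx.1)) (Subgroup.le_normalizer hx.1)
    intro x hx
    rw [Subgroup.mem_centralizer_iff]
    intro b hb
    have hbW : b ∈ W := hBW hb
    obtain ⟨hbS, hbc, hbp⟩ := mem_oz_props p S b hb
    have key := ambient_cocycle (W ⊓ L) K' P hU hK'U hPK' hidx' b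
      (by
        intro y hy
        have hyX : y ∈ X := hLX hy.1
        refine ⟨?_, ?_⟩
        · have h1 : y * b * y⁻¹ ∈ W := (Subgroup.mem_normalizer_iff.mp (hXW hyX) b).mp hbW
          rw [commutatorElement_def]
          exact W.mul_mem h1 (W.inv_mem hbW)
        · have h1 : b * y⁻¹ * b⁻¹ ∈ L :=
            (Subgroup.mem_normalizer_iff.mp (hSL hbS) y⁻¹).mp (L.inv_mem hy.1)
          have : ⁅y, b⁆ = y * (b * y⁻¹ * b⁻¹) := by rw [commutatorElement_def]; group
          rw [this]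
          exact L.mul_mem hy.1 h1)
      (by
        intro t ht
        rw [commutatorElement_eq_one_iff_mul_comm]
        exact hbc t (hPS ht))
      (by
        intro u hu hc k hk
        have huP : u ∈ P := mem_of_commutes_sylow P L hPidx hPL hPp u hu.2 (hWe.2 u hu.1) hc
        have huA : u ∈ A := mem_oz_of P u huP hc (hWe.2 u hu.1)
        exact (Subgroup.mem_centralizer_iff.mp hk.2 u huA).symm)
      x hx
    exact ((commutatorElement_eq_one_iff_mul_comm).mp key).symm

/-- **Kieler's lemma.** -/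
theorem kieler (hH : Subgroup.centralizer (Cfsg.pCore p G : Set G) ≤ Cfsg.pCore p G)
    (T : Sylow p G) (L : Subgroup G) (hL : L.IsSubnormal) :
    ¬ p ∣ ((T : Subgroup G) ⊓ L).relIndex L ∧
    L ⊓ Subgroup.centralizer (oz p (T : Subgroup G) : Set G) =
      L ⊓ Subgroup.centralizer (oz p ((T : Subgroup G) ⊓ L) : Set G) := by
  induction hL with
  | top =>
    refine ⟨?_, ?_⟩
    · rw [inf_top_eq, Subgroup.relIndex_top_right]; exact T.not_dvd_index
    · rw [inf_top_eq]
  | step A K hle hK hN ih =>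
    have hKA : K ≤ Subgroup.normalizer (A : Set G) :=
      (Subgroup.normal_subgroupOf_iff_le_normalizer hle).mp hN
    have hKc := Cfsg.Agent.Lib.H15.charP_of_isSubnormal hH hK
    have h1 := kieler_normal K A ((T : Subgroup G) ⊓ K) hKc inf_le_right (T.2.to_le inf_le_left)
      ih.1 hle hKA
    have h2 : (T : Subgroup G) ⊓ K ⊓ A = (T : Subgroup G) ⊓ A := by
      rw [inf_assoc, inf_eq_right.mpr hle]
    rw [h2] at h1
    refine ⟨?_, ?_⟩
    · have := not_dvd_relIndex_inf ((T : Subgroup G) ⊓ K) K A hle hKA ih.1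
      rwa [h2] at this
    · calc A ⊓ Subgroup.centralizer (oz p (T : Subgroup G) : Set G)
          = A ⊓ (K ⊓ Subgroup.centralizer (oz p (T : Subgroup G) : Set G)) := by
            rw [← inf_assoc, inf_eq_left.mpr hle]
        _ = A ⊓ (K ⊓ Subgroup.centralizer (oz p ((T : Subgroup G) ⊓ K) : Set G)) := by rw [ih.2]
        _ = A ⊓ Subgroup.centralizer (oz p ((T : Subgroup G) ⊓ K) : Set G) := by
            rw [← inf_assoc, inf_eq_left.mpr hle]
        _ = _ := h1

end

end Cfsg.Agent.Lib.H14
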