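import Mathlib
import Cfsg.Agent.Lib.H7.T648Defs
import Cfsg.Agent.Lib.H7.T648Model
import Cfsg.Agent.Lib.H27.Basic
import Cfsg.Agent.Lib.H14.T648MODA

/-!
# S3702 piece MODP (helper14): `O_3(M648) = J648`
-/

set_option autoImplicit false

namespace Cfsg.Agent.Lib.H14.T648

open Cfsg Cfsg.Agent.Lib.H7.T648

/-- the linear part as an endomorphism of `M648` (kernel `J648`) -/
def linHom : M648 →* M648 where
  toFun x := lin x.a x.b x.p
  map_one' := rfl
  map_mul' x y := by
    apply M648.ext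
    · funext i
      show (0 : ZMod 3) = (lin x.a x.b x.p).sz ((lin y.a y.b y.p).p i) * (0 : ZMod 3) + 0
      ring
    · rfl
    · rfl
    · rfl

theorem linHom_apply (x : M648) : linHom x = lin x.a x.b x.p := rfl

theorem mem_J648_iff_linHom (x : M648) : x ∈ J648 ↔ linHom x = 1 := by
  rw [linHom_apply, ← isOne_iff]
  constructor
  · rintro ⟨h1, h2, h3⟩
    exact ⟨rfl, h1, h2, h3⟩
  · rintro ⟨-, h1, h2, h3⟩
    exact ⟨h1, h2, h3⟩

theorem J648_eq_ker : J648 = linHom.ker := by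
  ext x
  rw [MonoidHom.mem_ker]
  exact mem_J648_iff_linHom x

theorem J648_normal' : (J648).Normal := by
  rw [J648_eq_ker]
  exact MonoidHom.normal_ker _

set_option maxRecDepth 100000 in
theorem tr_pow_three_aux : ∀ v : Fin 3 → ZMod 3, IsOne ((⟨v, 1, 1, 1⟩ : M648) ^ 3) := by
  decide +kernel

theorem J648_pow_three' (x : M648) (hx : x ∈ J648) : x ^ 3 = 1 := by
  obtain ⟨v, a, b, p⟩ := x
  obtain ⟨h1, h2, h3⟩ := hx
  simp only at h1 h2 h3
  subst h1 h2 h3
  exact (isOne_iff _).1 (tr_pow_three_aux v)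

theorem J648_isPGroup : IsPGroup 3 ↥J648 := by
  intro x
  refine ⟨1, ?_⟩
  apply Subtype.ext
  rw [pow_one, Subgroup.coe_pow, Subgroup.coe_one]
  exact J648_pow_three' x.1 x.2

/-- a nontrivial linear element is a `2`-element or has a product with a conjugate that is an
involution -/
theorem lin_aux : ∀ (a b : ℤˣ) (p : Equiv.Perm (Fin 3)), ¬ IsOne (lin a b p) →
    IsOne ((lin a b p) ^ 4) ∨
      ∃ (a' b' : ℤˣ) (p' : Equiv.Perm (Fin 3)),
        ¬ IsOne (lin a b p * (lin a' b' p' * lin a b p * (lin a' b' p')⁻¹)) ∧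
          IsOne ((lin a b p * (lin a' b' p' * lin a b p * (lin a' b' p')⁻¹)) ^ 2) := by
  decide +kernel

theorem eq_one_of_pow_coprime {M : Type*} [Group M] (y : M) (m n : ℕ) (hm : y ^ m = 1)
    (hn : y ^ n = 1) (h : Nat.Coprime m n) : y = 1 := by
  have h1 := orderOf_dvd_of_pow_eq_one hm
  have h2 := orderOf_dvd_of_pow_eq_one hn
  have h3 : orderOf y ∣ 1 := by
    have := Nat.dvd_gcd h1 h2
    rwa [h] at this
  exact orderOf_eq_one_iff.1 (Nat.dvd_one.1 h3)

theorem pCore_M648 : Cfsg.pCore 3 M648 = J648 := by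
  apply le_antisymm
  · intro x hx
    by_contra hxJ
    have hP : IsPGroup 3 ↥(Cfsg.pCore 3 M648) := Cfsg.Agent.Lib.H27.pCore_isPGroup
    have hN : (Cfsg.pCore 3 M648).Normal := Cfsg.Agent.Lib.H27.pCore_normal'
    -- every element of the core is a 3-element
    have h3 : ∀ y ∈ Cfsg.pCore 3 M648, ∃ k : ℕ, y ^ 3 ^ k = 1 := by
      intro y hy
      obtain ⟨k, hk⟩ := hP ⟨y, hy⟩
      exact ⟨k, by simpa using congrArg Subtype.val hk⟩
    have hl : ¬ IsOne (lin x.a x.b x.p) := by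
      rw [isOne_iff, ← linHom_apply, ← mem_J648_iff_linHom]
      exact hxJ
    rcases lin_aux x.a x.b x.p hl with h4 | ⟨a', b', p', hne, h2⟩
    · obtain ⟨k, hk⟩ := h3 x hx
      have e1 : (linHom x) ^ 3 ^ k = 1 := by rw [← map_pow, hk, map_one]
      have e2 : (linHom x) ^ 4 = 1 := (isOne_iff _).1 h4
      have : linHom x = 1 := eq_one_of_pow_coprime _ _ _ e1 e2
        (Nat.Coprime.pow_left k (by norm_num))
      exact hl ((isOne_iff _).2 this)
    · set r := lin a' b' p' with hr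
      have hz : x * (r * x * r⁻¹) ∈ Cfsg.pCore 3 M648 :=
        (Cfsg.pCore 3 M648).mul_mem hx (hN.conj_mem x hx r)
      obtain ⟨k, hk⟩ := h3 _ hz
      have hLr : linHom r = r := rfl
      have hL : linHom (x * (r * x * r⁻¹)) = lin x.a x.b x.p * (r * lin x.a x.b x.p * r⁻¹) := by
        rw [map_mul, map_mul, map_mul, map_inv, hLr, linHom_apply]
      have e1 : (lin x.a x.b x.p * (r * lin x.a x.b x.p * r⁻¹)) ^ 3 ^ k = 1 := by
        rw [← hL, ← map_pow, hk, map_one]
      have e2 : (lin x.a x.b x.p * (r * lin x.a x.b x.p * r⁻¹)) ^ 2 = 1 := (isOne_iff _).1 h2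
      have := eq_one_of_pow_coprime _ _ _ e1 e2 (Nat.Coprime.pow_left k (by norm_num))
      exact hne ((isOne_iff _).2 this)
  · exact Cfsg.Agent.Lib.H27.le_pCore J648 J648_normal' J648_isPGroup

end Cfsg.Agent.Lib.H14.T648
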