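import Mathlib
import Cfsg.Agent.Lib.H7.T648Defs
import Cfsg.Agent.Lib.H7.T648Model
import Cfsg.Agent.Lib.H18.L648Defs
import Cfsg.Agent.Lib.L0.CharOps
import Cfsg.Agent.Lib.L0.CharIndChar
import Cfsg.Agent.Lib.H14.T648MODP

/-!
# S3702 piece CHARGEN (helper14): a monomial datum gives a character of `M648`

`zpw n = z ^ n` in `Z12`; for `MonoOK D`, `B = subB D h = {x | D.P x}` is a subgroup containing `J648`,
`lamB D h : B →* ℂˣ`, `x ↦ ζ₁₂^(D.nu x)`, and `psi D = indFun B lamB` (`indFun_lamB`): the summand of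
`indFun` is invariant under conjugation by `J648` (`term_conj`), and a sum over `M648` of a function of
the linear part only is `27` times the sum over the list `Tl` of the 24 linear parts (`sum_lin`).
-/

set_option autoImplicit false

namespace Cfsg.Agent.Lib.H14.L648

open Cfsg Cfsg.Agent.Lib.H7.T648 Cfsg.Agent.Lib.H18 Cfsg.Agent.Lib.H18.L648
  Cfsg.Agent.Lib.H18.LatEnum
open scoped ComplexConjugate

theorem zpw_mod (n : ℕ) : zpw (n % 12) = zpw n := by
  unfold zpw
  rw [Nat.mod_mod]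

theorem z_pow_twelve : Z12.z ^ 12 = 1 := by decide

theorem zpw_lt : ∀ k < 12, zpw k = Z12.z ^ k := by decide

theorem zpw_eq_pow (n : ℕ) : zpw n = Z12.z ^ n := by
  rw [← zpw_mod, zpw_lt _ (Nat.mod_lt n (by norm_num))]
  conv_rhs => rw [← Nat.mod_add_div n 12]
  rw [pow_add, pow_mul, z_pow_twelve, one_pow, mul_one]

theorem zpw_add (m n : ℕ) : zpw (m + n) = zpw m * zpw n := by
  rw [zpw_eq_pow, zpw_eq_pow, zpw_eq_pow, pow_add]

theorem toC_zpw (n : ℕ) : Z12.toC (zpw n) = Z12.w12 ^ n := by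
  rw [zpw_eq_pow, Z12.toC_z_pow]

/-! ### the list of linear parts -/

/-- the 24 linear parts -/
def Tl : List (ℤˣ × ℤˣ × Equiv.Perm (Fin 3)) :=
  P6.flatMap fun p => [(1, 1, p), (1, -1, p), (-1, 1, p), (-1, -1, p)]

theorem Kl_eq : Kl = Tl.map kel := rfl

theorem Tl_nodup : Tl.Nodup := by decide

theorem mem_Tl : ∀ t : ℤˣ × ℤˣ × Equiv.Perm (Fin 3), t ∈ Tl := by decide

theorem sum_lin_eq {R : Type*} [AddCommMonoid R] (F : ℤˣ × ℤˣ × Equiv.Perm (Fin 3) → R) :
    ∑ t, F t = (Tl.map F).sum := by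
  rw [← List.sum_toFinset F Tl_nodup]
  apply Finset.sum_congr _ (fun _ _ => rfl)
  ext t
  simp [mem_Tl t]

/-- a sum over `M648` of a function of the linear part only -/
theorem sum_lin {R : Type*} [AddCommMonoid R] (F : M648 → R)
    (F' : ℤˣ × ℤˣ × Equiv.Perm (Fin 3) → R) (hF : ∀ g : M648, F g = F' (g.a, g.b, g.p)) :
    ∑ g : M648, F g = 27 • (Tl.map F').sum := by
  rw [← Equiv.sum_comp M648.equivProd.symm F, Fintype.sum_prod_type]
  have h1 : ∀ (x : Fin 3 → ZMod 3) (y : ℤˣ × ℤˣ × Equiv.Perm (Fin 3)),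
      F (M648.equivProd.symm (x, y)) = F' y := by
    intro x y
    rw [hF]
    rfl
  simp only [h1]
  rw [Finset.sum_const, Finset.card_univ, sum_lin_eq]
  congr 1


/-! ### the subgroup `B` and its linear character -/

section mono

variable (D : Mono)

theorem P_linHom (h : MonoOK D) (x : M648) : D.P x = D.P (Cfsg.Agent.Lib.H14.T648.linHom x) := h.1 x

theorem P_of_mem_J (h : MonoOK D) (t : M648) (ht : t ∈ J648) : D.P t = true := by
  rw [P_linHom D h, (Cfsg.Agent.Lib.H14.T648.mem_J648_iff_linHom t).1 ht]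
  exact h.2.1

theorem inv_eq_pow' (x : M648) : x⁻¹ = x ^ (orderOf x - 1) := by
  rw [inv_eq_iff_mul_eq_one, ← pow_succ', Nat.sub_add_cancel (orderOf_pos x), pow_orderOf_eq_one]

theorem P_pow (h : MonoOK D) (x : M648) (hx : D.P x = true) (n : ℕ) : D.P (x ^ n) = true := by
  induction n with
  | zero => rw [pow_zero]; exact h.2.1
  | succ n ih => rw [pow_succ]; exact h.2.2.1 _ _ ih hx

/-- the subgroup `B = {x | D.P x}` -/
def subB (h : MonoOK D) : Subgroup M648 where
  carrier := {x | D.P x = true}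
  one_mem' := h.2.1
  mul_mem' := fun {a b} ha hb => h.2.2.1 a b ha hb
  inv_mem' := fun {x} hx => by
    show D.P x⁻¹ = true
    rw [inv_eq_pow']
    exact P_pow D h x hx _

theorem mem_subB (h : MonoOK D) (x : M648) : x ∈ subB D h ↔ D.P x = true := Iff.rfl

theorem zpw_nu_mul (h : MonoOK D) (x y : M648) (hx : D.P x = true) (hy : D.P y = true) :
    zpw (D.nu (x * y)) = zpw (D.nu x) * zpw (D.nu y) := by
  rw [← zpw_add, ← zpw_mod (D.nu (x * y)), h.2.2.2.2.1 x y hx hy, zpw_mod]

theorem toC_zpw_ne_zero (n : ℕ) : Z12.toC (zpw n) ≠ 0 := by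
  rw [toC_zpw]
  exact pow_ne_zero _ Z12.w12_ne_zero

/-- the linear character `ζ₁₂^ν` of `B` -/
noncomputable def lamB (h : MonoOK D) : ↥(subB D h) →* ℂˣ :=
  MonoidHom.mk' (fun x => Units.mk0 (Z12.toC (zpw (D.nu (x : M648)))) (toC_zpw_ne_zero _))
    (fun x y => by
      apply Units.ext
      show Z12.toC (zpw (D.nu ((x : M648) * (y : M648)))) =
        Z12.toC (zpw (D.nu (x : M648))) * Z12.toC (zpw (D.nu (y : M648)))
      rw [zpw_nu_mul D h _ _ x.2 y.2, map_mul])

theorem lamB_apply (h : MonoOK D) (x : ↥(subB D h)) : ((lamB D h x : ℂˣ) : ℂ) = Z12.toC (zpw (D.nu (x : M648))) := rfl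

theorem extend_eq (h : MonoOK D) (y : M648) :
    extendByZero (subB D h) (fun b => ((lamB D h b : ℂˣ) : ℂ)) y = Z12.toC (term D y) := by
  unfold term
  by_cases hy : D.P y = true
  · rw [L0.extendByZero_apply_of_mem _ _ ((mem_subB D h y).2 hy), if_pos hy]
    rfl
  · rw [L0.extendByZero_apply_not_mem _ _ (fun hm => hy ((mem_subB D h y).1 hm)), if_neg hy, map_zero]

/-- conjugation by `J648` does not change `term D` -/
theorem term_conj (h : MonoOK D) (t y : M648) (ht : t ∈ J648) : term D (t⁻¹ * y * t) = term D y := by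
  have hlt : Cfsg.Agent.Lib.H14.T648.linHom t = 1 :=
    (Cfsg.Agent.Lib.H14.T648.mem_J648_iff_linHom t).1 ht
  have hP : D.P (t⁻¹ * y * t) = D.P y := by
    rw [P_linHom D h, map_mul, map_mul, map_inv, hlt, inv_one, one_mul, mul_one, ← P_linHom D h]
  unfold term
  rw [hP]
  by_cases hy : D.P y = true
  · rw [if_pos hy, if_pos hy]
    have hPt : D.P t = true := P_of_mem_J D h t ht
    have hPti : D.P t⁻¹ = true := P_of_mem_J D h _ (J648.inv_mem ht)
    have h1 := h.2.2.2.2.1 (t⁻¹ * y) t (h.2.2.1 _ _ hPti hy) hPt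
    have h2 := h.2.2.2.2.1 t⁻¹ y hPti hy
    have h3 := h.2.2.2.2.1 t⁻¹ t hPti hPt
    rw [inv_mul_cancel] at h3
    have h4 := h.2.2.2.1
    rw [← zpw_mod (D.nu (t⁻¹ * y * t)), ← zpw_mod (D.nu y)]
    congr 1
    omega
  · rw [if_neg hy, if_neg hy]


theorem sum_term (h : MonoOK D) (g : M648) :
    ∑ x : M648, term D (x⁻¹ * g * x) = 27 • psiZ D g := by
  rw [sum_lin (fun x => term D (x⁻¹ * g * x)) (fun t => term D ((kel t)⁻¹ * g * kel t))]
  · rw [psiZ, Kl_eq, List.map_map]
    rfl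
  · intro x
    have hj : (Cfsg.Agent.Lib.H14.T648.linHom x)⁻¹ * x ∈ J648 := by
      rw [Cfsg.Agent.Lib.H14.T648.mem_J648_iff_linHom, map_mul, map_inv]
      exact inv_mul_cancel _
    have e : x⁻¹ * g * x = ((Cfsg.Agent.Lib.H14.T648.linHom x)⁻¹ * x)⁻¹ *
        ((Cfsg.Agent.Lib.H14.T648.linHom x)⁻¹ * g * Cfsg.Agent.Lib.H14.T648.linHom x) *
        ((Cfsg.Agent.Lib.H14.T648.linHom x)⁻¹ * x) := by group
    show term D (x⁻¹ * g * x) = _
    rw [e, term_conj D h _ _ hj]
    rfl

theorem sum_ite_eq_countP {α : Type*} (l : List α) (p : α → Bool) :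
    (l.map fun t => if p t = true then 1 else 0).sum = l.countP p := by
  induction l with
  | nil => rfl
  | cons a l ih =>
    rw [List.map_cons, List.sum_cons, ih, List.countP_cons]
    by_cases ha : p a = true
    · simp [ha, add_comm]
    · simp [ha]

theorem card_subB (h : MonoOK D) : Nat.card ↥(subB D h) = 27 * D.sz := by
  classical
  have h1 : Nat.card ↥(subB D h) = ∑ x : M648, if D.P x = true then 1 else 0 := by
    rw [Nat.card_eq_fintype_card, Fintype.card_subtype, Finset.card_filter]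
    apply Finset.sum_congr rfl
    intro x _
    by_cases hx : D.P x = true
    · rw [if_pos hx, if_pos ((mem_subB D h x).2 hx)]
    · rw [if_neg hx, if_neg (fun hm => hx ((mem_subB D h x).1 hm))]
  rw [h1, sum_lin (fun x => if D.P x = true then 1 else 0)
    (fun t => if D.P (kel t) = true then 1 else 0) (fun x => by
      show (if D.P x = true then 1 else 0) = if D.P (kel (x.a, x.b, x.p)) = true then 1 else 0
      rw [h.1 x]; rfl)]
  rw [sum_ite_eq_countP Tl (fun t => D.P (kel t)), smul_eq_mul, ← h.2.2.2.2.2, Kl_eq,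
    List.countP_map]
  rfl

theorem indFun_lamB (h : MonoOK D) :
    indFun (subB D h) (fun b => ((lamB D h b : ℂˣ) : ℂ)) = psi D := by
  funext g
  rw [L0.indFun_apply]
  simp only [extend_eq D h]
  rw [← map_sum, sum_term D h g, card_subB D h, psi, map_nsmul]
  push_cast
  rw [nsmul_eq_mul, mul_inv]
  field_simp
  norm_num

end mono

/-- `psi D = indFun B λ` with `B = {x | D.P x}` and `λ x = ζ₁₂^(D.nu x)` -/
theorem isCharacter_psi (D : Mono) (h : MonoOK D) : IsCharacter M648 (psi D) := by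
  rw [← indFun_lamB D h]
  exact L0.isCharacter_indFun (subB D h)
    (L0.isCharacter_of_irr (L0.isIrrCharacter_of_hom (lamB D h)))

end Cfsg.Agent.Lib.H14.L648
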