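import Mathlib
import Cfsg.Agent.Lib.H7.T648Defs
import Cfsg.Agent.Lib.H7.T648Model
import Cfsg.Agent.Lib.H18.L648Defs
import Cfsg.Agent.Lib.L0.CharOps
import Cfsg.Agent.Lib.H26.T648MODC
import Cfsg.Agent.Lib.H4.L648ENUM648

/-!
# S3702 piece DUAL (helper14): the values on `J648 \ {1}`
-/

set_option autoImplicit false

namespace Cfsg.Agent.Lib.H14.L648

open Cfsg Cfsg.Agent.Lib.H7.T648 Cfsg.Agent.Lib.H18 Cfsg.Agent.Lib.H18.L648
  Cfsg.Agent.Lib.H18.LatEnum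
open scoped ComplexConjugate

/-- the three classes of `J648 \ {1}` are single conjugacy classes -/
theorem conj_of_wt (x s : M648) (hx : x ∈ J648) (hs : s ∈ J648) (hx1 : x ≠ 1) (hs1 : s ≠ 1)
    (h : x.wt = s.wt) : ∃ m : M648, m * s * m⁻¹ = x := by
  have hxv := (Cfsg.Agent.Lib.H26.T648.mem_J648_iff_tr x).mp hx
  have hsv := (Cfsg.Agent.Lib.H26.T648.mem_J648_iff_tr s).mp hs
  have hv : x.v ≠ 0 := by
    intro h0; apply hx1; rw [hxv, h0]; rfl
  have hv' : s.v ≠ 0 := by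
    intro h0; apply hs1; rw [hsv, h0]; rfl
  obtain ⟨-, a, b, p, hl⟩ := Cfsg.Agent.Lib.H26.T648.chk1_all x.v hv
  obtain ⟨-, a', b', p', hl'⟩ := Cfsg.Agent.Lib.H26.T648.chk1_all s.v hv'
  have hW : Cfsg.Agent.Lib.H26.T648.W x.v = Cfsg.Agent.Lib.H26.T648.W s.v := h
  have e1 := Cfsg.Agent.Lib.H26.T648.conj_tr (lin a b p) x.v
  have e2 := Cfsg.Agent.Lib.H26.T648.conj_tr (lin a' b' p') s.v
  rw [hl] at e1
  rw [hl', ← hW, ← e1, ← hxv, ← hsv] at e2
  refine ⟨(lin a b p)⁻¹ * lin a' b' p', ?_⟩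
  rw [mul_inv_rev, inv_inv]
  have : (lin a b p)⁻¹ * lin a' b' p' * s * ((lin a' b' p')⁻¹ * lin a b p) =
      (lin a b p)⁻¹ * (lin a' b' p' * s * (lin a' b' p')⁻¹) * lin a b p := by group
  rw [this, e2]
  group


/-- the class of a translation, by components -/
def clsJ (τ : ℕ) : Fin 14 := if τ = 1 then 3 else if τ = 3 then 4 else 5

set_option maxRecDepth 100000 in
theorem cls_tr_aux : ∀ v0 v1 v2 : ZMod 3, (v0 ≠ 0 ∨ v1 ≠ 0 ∨ v2 ≠ 0) →
    cls ⟨![v0, v1, v2], 1, 1, 1⟩ = clsJ (M648.wt ⟨![v0, v1, v2], 1, 1, 1⟩) ∧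
    (M648.wt ⟨![v0, v1, v2], 1, 1, 1⟩ = 1 ∨ M648.wt ⟨![v0, v1, v2], 1, 1, 1⟩ = 2 ∨
      M648.wt ⟨![v0, v1, v2], 1, 1, 1⟩ = 3) := by
  decide +kernel

theorem vec_eta (v : Fin 3 → ZMod 3) : v = ![v 0, v 1, v 2] := by
  funext i
  fin_cases i <;> rfl

theorem cls_J_aux (x : M648) (hx : x ∈ J648) (hx1 : x ≠ 1) :
    cls x = clsJ x.wt ∧ (x.wt = 1 ∨ x.wt = 2 ∨ x.wt = 3) := by
  obtain ⟨v, a, b, p⟩ := x
  obtain ⟨h1, h2, h3⟩ := hx
  simp only at h1 h2 h3
  subst h1 h2 h3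
  rw [vec_eta v]
  apply cls_tr_aux
  by_contra hcon
  simp only [not_or, not_not] at hcon
  apply hx1
  apply M648.ext
  · rw [vec_eta v]
    funext i
    fin_cases i
    · exact hcon.1
    · exact hcon.2.1
    · exact hcon.2.2
  · rfl
  · rfl
  · rfl

theorem cls_of_mem_J648 (x : M648) (hx : x ∈ J648) (hx1 : x ≠ 1) :
    cls x = if x.wt = 1 then 3 else if x.wt = 3 then 4 else 5 :=
  (cls_J_aux x hx hx1).1


theorem mem_J648_of_cls (x : M648) (h : cls x = 3 ∨ cls x = 4 ∨ cls x = 5) :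
    x ∈ J648 ∧ x ≠ 1 ∧ cls x = if x.wt = 1 then 3 else if x.wt = 3 then 4 else 5 := by
  have key : x ∈ J648 ∧ x ≠ 1 := by
    unfold cls at h
    by_cases h0 : isOne x = true
    · rw [if_pos h0] at h
      exact absurd h (by decide)
    rw [if_neg h0] at h
    by_cases h2 : isOne (x * x) = true
    · rw [if_pos h2] at h
      by_cases hp : x.p = 1
      · rw [if_pos hp] at h; exact absurd h (by decide)
      · rw [if_neg hp] at h; exact absurd h (by decide)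
    rw [if_neg h2] at h
    by_cases h3 : isOne (x * x * x) = true
    · rw [if_pos h3] at h
      by_cases hJ : x ∈ J648
      · refine ⟨hJ, fun h1 => h0 ?_⟩
        exact (Cfsg.Agent.Lib.H4.L648.isOne_iff x).2 h1
      · rw [if_neg hJ] at h; exact absurd h (by decide)
    rw [if_neg h3] at h
    by_cases h4 : isOne (x * x * (x * x)) = true
    · rw [if_pos h4] at h; exact absurd h (by decide)
    rw [if_neg h4] at h
    by_cases h6 : isOne (x * x * x * (x * x * x)) = true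
    · rw [if_pos h6] at h
      by_cases hp : x.p = 1
      · rw [if_pos hp] at h; exact absurd h (by decide)
      · rw [if_neg hp] at h; exact absurd h (by decide)
    rw [if_neg h6] at h
    by_cases h9 : isOne (x * x * x * (x * x * x) * (x * x * x)) = true
    · rw [if_pos h9] at h
      by_cases hi : inv9 x = 1
      · rw [if_pos hi] at h; exact absurd h (by decide)
      · rw [if_neg hi] at h; exact absurd h (by decide)
    rw [if_neg h9] at h
    by_cases hi : inv12 x = 1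
    · rw [if_pos hi] at h; exact absurd h (by decide)
    · rw [if_neg hi] at h; exact absurd h (by decide)
  exact ⟨key.1, key.2, cls_of_mem_J648 x key.1 key.2⟩


set_option maxRecDepth 100000 in
theorem tab_dual : ∀ c : Fin 14,
    (∑ i : Fin 9, ((qJ 1 i : ℤ) : Z12) * Ftab i c = if c = 3 then zi (24 * 108) else 0) ∧
    (∑ i : Fin 9, ((qJ 2 i : ℤ) : Z12) * Ftab i c = if c = 5 then zi (24 * 54) else 0) ∧
    (∑ i : Fin 9, ((qJ 3 i : ℤ) : Z12) * Ftab i c = if c = 4 then zi (24 * 81) else 0) := by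
  decide +kernel

theorem tab_dual' (τ : ℕ) (hτ : τ = 1 ∨ τ = 2 ∨ τ = 3) (c : Fin 14) :
    ∑ i : Fin 9, ((qJ τ i : ℤ) : Z12) * Ftab i c = if c = clsJ τ then zi (24 * cJ τ) else 0 := by
  rcases hτ with rfl | rfl | rfl
  · exact (tab_dual c).1
  · exact (tab_dual c).2.1
  · exact (tab_dual c).2.2

theorem toC_zi (m : ℤ) : Z12.toC (zi m) = (m : ℂ) := Z12.toC_intCast m

theorem sum_qJ_Fc (hF : ∀ (i : Fin 9) (x : M648), FZ i x = Ftab i (cls x)) (τ : ℕ)
    (hτ : τ = 1 ∨ τ = 2 ∨ τ = 3) (x : M648) :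
    ∑ i : Fin 9, (qJ τ i : ℂ) * Fc i x = if cls x = clsJ τ then (cJ τ : ℂ) else 0 := by
  have h1 : ∀ i : Fin 9, (qJ τ i : ℂ) * Fc i x =
      Z12.toC (((qJ τ i : ℤ) : Z12) * Ftab i (cls x)) / 24 := by
    intro i
    rw [Fc, hF, map_mul, Z12.toC_intCast]
    ring
  simp only [h1]
  rw [← Finset.sum_div, ← map_sum, tab_dual' τ hτ (cls x)]
  split_ifs with hc
  · rw [toC_zi]
    push_cast
    ring
  · rw [map_zero, zero_div]

theorem wt_eq_of_clsJ (a b : ℕ) (ha : a = 1 ∨ a = 2 ∨ a = 3) (hb : b = 1 ∨ b = 2 ∨ b = 3)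
    (h : clsJ a = clsJ b) : a = b := by
  rcases ha with rfl | rfl | rfl <;> rcases hb with rfl | rfl | rfl <;>
    first | rfl | exact absurd h (by decide)

theorem cJ_mul_csz (τ : ℕ) (hτ : τ = 1 ∨ τ = 2 ∨ τ = 3) : cJ τ * (csz (clsJ τ) : ℤ) = 648 := by
  rcases hτ with rfl | rfl | rfl <;> decide

theorem Fc_dual (hF : ∀ (i : Fin 9) (x : M648), FZ i x = Ftab i (cls x))
    (hcard : ∀ c : Fin 14, (Finset.univ.filter (fun x : M648 => cls x = c)).card = csz c)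
    (s : M648) (hs : s ∈ J648) (hs1 : s ≠ 1) (F : M648 → ℂ) (hcl : IsClassFunction M648 F) :
    ∑ i : Fin 9, (qJ s.wt i : ℂ) * classInner F (Fc i) = F s := by
  have hτ := (cls_J_aux s hs hs1).2
  have hx : ∀ x : M648, cls x = clsJ s.wt → F x = F s := by
    intro x hc
    have h345 : cls x = 3 ∨ cls x = 4 ∨ cls x = 5 := by
      rw [hc]
      rcases hτ with h | h | h <;> rw [h] <;> decide
    obtain ⟨hxJ, hx1, -⟩ := mem_J648_of_cls x h345
    obtain ⟨hcx, hwx⟩ := cls_J_aux x hxJ hx1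
    have hw : x.wt = s.wt := wt_eq_of_clsJ _ _ hwx hτ (hcx.symm.trans hc)
    obtain ⟨m, hm⟩ := conj_of_wt x s hxJ hs hx1 hs1 hw
    rw [← hm]
    exact hcl s m
  unfold classInner
  rw [M648.card_eq]
  have e1 : ∑ i : Fin 9, (qJ s.wt i : ℂ) * (((648 : ℕ) : ℂ)⁻¹ * ∑ x : M648, F x * conj (Fc i x)) =
      ((648 : ℕ) : ℂ)⁻¹ * ∑ x : M648, F x * conj (∑ i : Fin 9, (qJ s.wt i : ℂ) * Fc i x) := by
    simp only [Finset.mul_sum]
    rw [Finset.sum_comm]
    apply Finset.sum_congr rfl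
    intro x _
    rw [map_sum, Finset.mul_sum, Finset.mul_sum]
    apply Finset.sum_congr rfl
    intro i _
    rw [map_mul, map_intCast]
    ring
  rw [e1]
  simp only [sum_qJ_Fc hF s.wt hτ]
  have e2 : ∑ x : M648, F x * conj (if cls x = clsJ s.wt then (cJ s.wt : ℂ) else 0) =
      ∑ x ∈ Finset.univ.filter (fun x : M648 => cls x = clsJ s.wt), F s * (cJ s.wt : ℂ) := by
    rw [Finset.sum_filter]
    apply Finset.sum_congr rfl
    intro x _
    split_ifs with hc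
    · rw [map_intCast, hx x hc]
    · rw [map_zero, mul_zero]
  rw [e2, Finset.sum_const, hcard, nsmul_eq_mul]
  have h3 := cJ_mul_csz s.wt hτ
  have h4 : ((cJ s.wt : ℤ) : ℂ) * ((csz (clsJ s.wt) : ℕ) : ℂ) = 648 := by
    have := congrArg (fun z : ℤ => (z : ℂ)) h3
    simpa using this
  have : ((648 : ℕ) : ℂ)⁻¹ * (((csz (clsJ s.wt) : ℕ) : ℂ) * (F s * ((cJ s.wt : ℤ) : ℂ))) =
      ((648 : ℕ) : ℂ)⁻¹ * (((cJ s.wt : ℤ) : ℂ) * ((csz (clsJ s.wt) : ℕ) : ℂ)) * F s := by ring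
  rw [this, h4]
  norm_num

end Cfsg.Agent.Lib.H14.L648
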