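import Mathlib
import Cfsg.Agent.Lib.H14.PIrrQuot
import Cfsg.Agent.Lib.H14.Subnormal

/-!
# Sections `E / C_E(U)`: a dictionary between subgroups of `G` inside `E` and subgroups of the
quotient (helper14).
-/

set_option autoImplicit false

namespace Cfsg.Agent.Lib.H14.LS

open Cfsg Cfsg.Agent.Lib.H14

variable {G : Type*} [Group G] (E C0 : Subgroup G) [hn : (C0.subgroupOf E).Normal]

/-- image of `X ∩ E` in `E / (C0 ∩ E)` -/
def bar (X : Subgroup G) : Subgroup (↥E ⧸ C0.subgroupOf E) :=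
  (X.subgroupOf E).map (QuotientGroup.mk' (C0.subgroupOf E))

theorem bar_mono {X X' : Subgroup G} (h : X ≤ X') : bar E C0 X ≤ bar E C0 X' :=
  Subgroup.map_mono (Subgroup.comap_mono h)

theorem subgroupOf_le_iff {X X' : Subgroup G} (hX : X ≤ E) :
    X.subgroupOf E ≤ X'.subgroupOf E ↔ X ≤ X' := by
  constructor
  · intro h x hx
    have : (⟨x, hX hx⟩ : ↥E) ∈ X.subgroupOf E := Subgroup.mem_subgroupOf.mpr hx
    exact Subgroup.mem_subgroupOf.mp (h this)
  · intro h
    exact Subgroup.comap_mono h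

theorem bar_le_bar_iff {X X' : Subgroup G} (hX : X ≤ E) (hX' : X' ≤ E) :
    bar E C0 X ≤ bar E C0 X' ↔ X ≤ X' ⊔ (E ⊓ C0) := by
  unfold bar
  rw [Subgroup.map_le_map_iff, QuotientGroup.ker_mk']
  have h1 : X'.subgroupOf E ⊔ C0.subgroupOf E = (X' ⊔ (E ⊓ C0)).subgroupOf E := by
    rw [Subgroup.subgroupOf_sup hX' inf_le_left, Subgroup.inf_subgroupOf_left]
  rw [h1, subgroupOf_le_iff E hX]

theorem bar_sup {X X' : Subgroup G} (hX : X ≤ E) (hX' : X' ≤ E) :
    bar E C0 (X ⊔ X') = bar E C0 X ⊔ bar E C0 X' := by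
  unfold bar
  rw [Subgroup.subgroupOf_sup hX hX', Subgroup.map_sup]

theorem subgroupOf_commutator {X X' : Subgroup G} (hX : X ≤ E) (hX' : X' ≤ E) :
    (⁅X, X'⁆).subgroupOf E = ⁅X.subgroupOf E, X'.subgroupOf E⁆ := by
  apply Subgroup.map_injective E.subtype_injective
  rw [Subgroup.map_commutator, Subgroup.subgroupOf_map_subtype, Subgroup.subgroupOf_map_subtype,
    Subgroup.subgroupOf_map_subtype, inf_eq_left.mpr hX, inf_eq_left.mpr hX',
    inf_eq_left.mpr ((Subgroup.commutator_mono hX hX').trans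
      (Subgroup.commutator_le_self E))]

theorem bar_commutator {X X' : Subgroup G} (hX : X ≤ E) (hX' : X' ≤ E) :
    bar E C0 ⁅X, X'⁆ = ⁅bar E C0 X, bar E C0 X'⁆ := by
  unfold bar
  rw [subgroupOf_commutator E hX hX', Subgroup.map_commutator]

theorem bar_eq_bot_iff {X : Subgroup G} (hX : X ≤ E) : bar E C0 X = ⊥ ↔ X ≤ C0 := by
  unfold bar
  rw [← le_bot_iff, Subgroup.map_le_iff_le_comap, MonoidHom.comap_bot, QuotientGroup.ker_mk',
    subgroupOf_le_iff E hX]

theorem bar_isPGroup {p : ℕ} {X : Subgroup G} (hXp : IsPGroup p X) : IsPGroup p (bar E C0 X) := by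
  unfold bar
  exact (hXp.comap_subtype).map _

theorem bar_normal {X : Subgroup G} (hX : X ≤ E) (hn' : E ≤ Subgroup.normalizer (X : Set G)) :
    (bar E C0 X).Normal := by
  have h1 : (X.subgroupOf E).Normal :=
    (Subgroup.normal_subgroupOf_iff_le_normalizer hX).mpr hn'
  exact h1.map _ (QuotientGroup.mk'_surjective _)

theorem bar_presOf [Finite G] {p : ℕ} [Fact p.Prime] :
    bar E C0 (presOf p E) = Cfsg.pResidual p (↥E ⧸ C0.subgroupOf E) := by
  unfold bar
  have h1 : (presOf p E).subgroupOf E = Cfsg.pResidual p ↥E := by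
    rw [← pResidual_map_eq]
    exact Subgroup.comap_map_eq_self_of_injective E.subtype_injective _
  rw [h1]
  exact pResidual_map_of_surjective _ (QuotientGroup.mk'_surjective _)

theorem bar_self : bar E C0 E = ⊤ := by
  unfold bar
  rw [Subgroup.subgroupOf_self, ← MonoidHom.range_eq_map,
    MonoidHom.range_eq_top_of_surjective _ (QuotientGroup.mk'_surjective _)]

theorem bar_cent : bar E C0 (E ⊓ C0) = ⊥ := by
  rw [bar_eq_bot_iff E C0 inf_le_left]
  exact inf_le_right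

omit hn in
/-- for `X ≤ E`: `X ≤ X' ⊔ C` and `X' ≤ X` give `X ≤ X' ⊔ (X ⊓ C0)` (Dedekind) -/
theorem le_sup_inf_of_le {X X' : Subgroup G} (hX'X : X' ≤ X)
    (hnorm : X' ≤ Subgroup.normalizer ((E ⊓ C0 : Subgroup G) : Set G))
    (h : X ≤ X' ⊔ (E ⊓ C0)) : X ≤ X' ⊔ (X ⊓ C0) := by
  intro x hx
  have hx' : x ∈ ((X' ⊔ (E ⊓ C0) : Subgroup G) : Set G) := h hx
  rw [Subgroup.coe_mul_of_left_le_normalizer_right _ _ hnorm] at hx'
  obtain ⟨a, ha, c, hc, rfl⟩ := Set.mem_mul.mp hx'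
  have hcX : c ∈ X := by
    have : c = a⁻¹ * (a * c) := by group
    rw [this]
    exact X.mul_mem (X.inv_mem (hX'X ha)) hx
  exact Subgroup.mul_mem_sup ha ⟨hcX, (Subgroup.mem_inf.mp hc).2⟩

end Cfsg.Agent.Lib.H14.LS
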