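import Mathlib
import Cfsg.Agent.Lib.H14.LS1
import Cfsg.Agent.Lib.H14.WCProd
import Cfsg.Agent.Lib.H14.WCCharP
import Cfsg.Agent.Lib.H16.PGroupCenter
import Cfsg.Agent.Lib.H14.Large
import Cfsg.Agent.Lib.H14.Large2
import Cfsg.Agent.Lib.H14.Norm
import Cfsg.Agent.Lib.H14.NzrCent
import Cfsg.Agent.Lib.H14.Amalgam5

/-!
# Large subgroups acting on an elementary abelian `p`-group: basic facts (helper14)
-/

set_option autoImplicit false
set_option linter.unusedSectionVars false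

namespace Cfsg.Agent.Lib.H14.LS

open Cfsg Cfsg.Agent.Lib.H14
open scoped commutatorElement

variable {G : Type*} [Group G] [Finite G] {p : ℕ} [hp : Fact p.Prime]

/-- a large `p`-subgroup normalizing the nontrivial `p`-group `U` is normalized by `C(U)` -/
theorem centralizer_le_normalizer_large (Q U : Subgroup G) (hQp : IsPGroup p ↥Q)
    (hQ : Cfsg.IsLarge Q) (hUp : IsPGroup p ↥U) (hU1 : U ≠ ⊥)
    (hQU : Q ≤ Subgroup.normalizer (U : Set G)) :
    Subgroup.centralizer (U : Set G) ≤ Subgroup.normalizer (Q : Set G) := by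
  have hP : IsPGroup p (Q ⊔ U : Subgroup G) := IsPGroup.to_sup_of_normal_right' hQp hUp hQU
  have hPU : (Q ⊔ U : Subgroup G) ≤ Subgroup.normalizer (U : Set G) :=
    sup_le hQU Subgroup.le_normalizer
  obtain ⟨x, hxU, hx1, hxc⟩ := Cfsg.Agent.Lib.H16.exists_ne_one_central_of_le_normalizer hp.out
    (Q ⊔ U) U hP le_sup_right hPU hU1
  have h1 : Subgroup.zpowers x ≤ Subgroup.centralizer (Q : Set G) := by
    rw [Subgroup.zpowers_le, Subgroup.mem_centralizer_iff]
    intro q hq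
    exact hxc q (Subgroup.mem_sup_left hq)
  have h2 : Subgroup.zpowers x ≠ ⊥ := by
    rw [Ne, Subgroup.zpowers_eq_bot]
    exact hx1
  have h3 := hQ.2 (Subgroup.zpowers x) h1 h2
  refine le_trans ?_ h3
  intro c hc
  rw [Subgroup.mem_centralizer_iff] at hc
  have hcx : c * x = x * c := (hc x hxU).symm
  rw [Subgroup.mem_normalizer_iff]
  intro y
  have hconj : ∀ k : ℤ, c * x ^ k * c⁻¹ = x ^ k := by
    intro k
    have : Commute c (x ^ k) := (Commute.zpow_right hcx k)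
    rw [this.eq, mul_inv_cancel_right]
  constructor
  · rintro ⟨k, rfl⟩
    rw [hconj]
    exact ⟨k, rfl⟩
  · intro hy
    obtain ⟨k, hk⟩ := hy
    have : y = x ^ k := by
      have h4 : y = c⁻¹ * (c * y * c⁻¹) * c := by group
      rw [h4, ← hk]
      have := hconj k
      calc c⁻¹ * x ^ k * c = c⁻¹ * (c * x ^ k * c⁻¹) * c := by rw [this]
        _ = x ^ k := by group
    rw [this]
    exact ⟨k, rfl⟩

/-- a large `p`-subgroup `Q ≤ E ≤ N(U)` not normal in `E` does not centralize `U` -/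
theorem not_le_centralizer_of_large (Q U E : Subgroup G) (hQ : Cfsg.IsLarge Q) (hU1 : U ≠ ⊥)
    (hEU : E ≤ Subgroup.normalizer (U : Set G))
    (hQn : ¬ E ≤ Subgroup.normalizer (Q : Set G)) :
    ¬ Q ≤ Subgroup.centralizer (U : Set G) := by
  intro h
  apply hQn
  have h1 : U ≤ Subgroup.centralizer (Q : Set G) := Subgroup.le_centralizer_iff.mp h
  exact hEU.trans (hQ.2 U h1 hU1)

/-- the standing hypotheses (group-theoretic part) -/
structure LSHyp (p : ℕ) (Q U E : Subgroup G) : Prop where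
  hQp : IsPGroup p ↥Q
  hQ1 : Q ≠ ⊥
  hQ : Cfsg.IsLarge Q
  hUp : IsPGroup p ↥U
  hU1 : U ≠ ⊥
  hQE : Q ≤ E
  hEU : E ≤ Subgroup.normalizer (U : Set G)
  hQn : ¬ E ≤ Subgroup.normalizer (Q : Set G)

namespace LSHyp

variable {Q U E : Subgroup G}

theorem wc (h : LSHyp p Q U E) : Cfsg.IsWeaklyClosedSubgroup p Q :=
  large_wc Q h.hQp h.hQ1 h.hQ

theorem W_le (_h : LSHyp p Q U E) : Cfsg.weakClosure Q E ≤ E := weakClosure_le Q E

theorem Q_le_W (h : LSHyp p Q U E) : Q ≤ Cfsg.weakClosure Q E := le_weakClosure Q E h.hQE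

theorem E_le_nzr_W (_h : LSHyp p Q U E) :
    E ≤ Subgroup.normalizer ((Cfsg.weakClosure Q E : Subgroup G) : Set G) :=
  le_normalizer_weakClosure Q E

theorem Er_le_W (_h : LSHyp p Q U E) : presOf p (Cfsg.weakClosure Q E) ≤ Cfsg.weakClosure Q E :=
  presOf_le p _

theorem Er_le_E (h : LSHyp p Q U E) : presOf p (Cfsg.weakClosure Q E) ≤ E :=
  h.Er_le_W.trans h.W_le

theorem E_le_nzr_Er (h : LSHyp p Q U E) :
    E ≤ Subgroup.normalizer ((presOf p (Cfsg.weakClosure Q E) : Subgroup G) : Set G) :=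
  h.E_le_nzr_W.trans (presOf_normalized p _)

theorem W_eq (h : LSHyp p Q U E) :
    Cfsg.weakClosure Q E = presOf p (Cfsg.weakClosure Q E) ⊔ Q :=
  weakClosure_eq_presOf_sup Q h.hQp h.wc E h.hQE

theorem comm_Er_Q (h : LSHyp p Q U E) :
    ⁅presOf p (Cfsg.weakClosure Q E), Q⁆ = presOf p (Cfsg.weakClosure Q E) :=
  commutator_presOf_weakClosure Q h.hQp h.wc E h.hQE

theorem E_le_nzr_C (h : LSHyp p Q U E) :
    E ≤ Subgroup.normalizer ((E ⊓ Subgroup.centralizer (U : Set G) : Subgroup G) : Set G) :=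
  le_nzr_inf E E _ Subgroup.le_normalizer (h.hEU.trans (nzr_le_nzr_centralizer U))

theorem E_le_nzr_D (h : LSHyp p Q U E) :
    E ≤ Subgroup.normalizer ((presOf p (Cfsg.weakClosure Q E) ⊓
      Subgroup.centralizer (U : Set G) : Subgroup G) : Set G) :=
  le_nzr_inf E _ _ h.E_le_nzr_Er (h.hEU.trans (nzr_le_nzr_centralizer U))

theorem E_le_nzr_PD (h : LSHyp p Q U E) :
    E ≤ Subgroup.normalizer ((Cfsg.pCoreOf p (presOf p (Cfsg.weakClosure Q E) ⊓
      Subgroup.centralizer (U : Set G)) : Subgroup G) : Set G) :=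
  h.E_le_nzr_D.trans (nzr_le_nzr_pCoreOf p _)

/-- `C_E(U)` normalizes every `E`-conjugate of `Q` -/
theorem cent_le_nzr_conj (h : LSHyp p Q U E) (e : G) (he : e ∈ E) :
    Subgroup.centralizer (U : Set G) ≤ Subgroup.normalizer ((Q.map (cj e) : Subgroup G) : Set G) := by
  apply centralizer_le_normalizer_large (Q.map (cj e)) U (h.hQp.map _) (large_map_cj Q h.hQ e)
    h.hUp h.hU1
  refine le_trans ?_ h.hEU
  exact (Subgroup.map_mono h.hQE).trans (map_cj_eq_of_mem_nzr E e (Subgroup.le_normalizer he)).le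

/-- `[D, Q^e] ≤ O_p(D)` -/
theorem conj_le_commStab (h : LSHyp p Q U E) (e : G) (he : e ∈ E) :
    Q.map (cj e) ≤ commStab (presOf p (Cfsg.weakClosure Q E) ⊓ Subgroup.centralizer (U : Set G))
      (Cfsg.pCoreOf p (presOf p (Cfsg.weakClosure Q E) ⊓ Subgroup.centralizer (U : Set G))) := by
  have hQeE : Q.map (cj e) ≤ E :=
    (Subgroup.map_mono h.hQE).trans (map_cj_eq_of_mem_nzr E e (Subgroup.le_normalizer he)).le
  intro q hq
  refine ⟨h.E_le_nzr_PD (hQeE hq), fun d hd => ?_⟩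
  -- `[d, q] ∈ D ∩ Q^e`, a normal `p`-subgroup of `D`
  have hDn : (presOf p (Cfsg.weakClosure Q E) ⊓ Subgroup.centralizer (U : Set G) : Subgroup G) ≤
      Subgroup.normalizer (((presOf p (Cfsg.weakClosure Q E) ⊓
        Subgroup.centralizer (U : Set G)) ⊓ Q.map (cj e) : Subgroup G) : Set G) :=
    le_nzr_inf _ _ _ Subgroup.le_normalizer (inf_le_right.trans (h.cent_le_nzr_conj e he))
  have hle := le_pCoreOf p (presOf p (Cfsg.weakClosure Q E) ⊓ Subgroup.centralizer (U : Set G))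
    ((presOf p (Cfsg.weakClosure Q E) ⊓ Subgroup.centralizer (U : Set G)) ⊓ Q.map (cj e))
    inf_le_left hDn ((h.hQp.map (cj e)).to_le inf_le_right)
  apply hle
  refine ⟨?_, ?_⟩
  · -- in `D`: `d * (q d⁻¹ q⁻¹)`
    have h1 : q * d⁻¹ * q⁻¹ ∈ (presOf p (Cfsg.weakClosure Q E) ⊓
        Subgroup.centralizer (U : Set G) : Subgroup G) :=
      (Subgroup.mem_normalizer_iff.mp (h.E_le_nzr_D (hQeE hq)) _).mp (Subgroup.inv_mem _ hd)
    have e1 : ⁅d, q⁆ = d * (q * d⁻¹ * q⁻¹) := by rw [commutatorElement_def]; group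
    rw [e1]
    exact Subgroup.mul_mem _ hd h1
  · -- in `Q^e`: `(d q d⁻¹) q⁻¹`
    have h1 : d * q * d⁻¹ ∈ Q.map (cj e) :=
      (Subgroup.mem_normalizer_iff.mp (h.cent_le_nzr_conj e he hd.2) _).mp hq
    have e1 : ⁅d, q⁆ = d * q * d⁻¹ * q⁻¹ := by rw [commutatorElement_def]
    rw [e1]
    exact Subgroup.mul_mem _ h1 (Subgroup.inv_mem _ hq)

theorem W_le_commStab (h : LSHyp p Q U E) :
    Cfsg.weakClosure Q E ≤ commStab (presOf p (Cfsg.weakClosure Q E) ⊓
        Subgroup.centralizer (U : Set G))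
      (Cfsg.pCoreOf p (presOf p (Cfsg.weakClosure Q E) ⊓ Subgroup.centralizer (U : Set G))) := by
  refine le_trans (le_of_eq (weakClosure_eq_iSup Q h.hQp h.wc E h.hQE)) ?_
  apply iSup_le
  intro k
  exact h.conj_le_commStab k k.2

theorem comm_D_W_le (h : LSHyp p Q U E) :
    ⁅presOf p (Cfsg.weakClosure Q E) ⊓ Subgroup.centralizer (U : Set G),
      Cfsg.weakClosure Q E⁆ ≤
      Cfsg.pCoreOf p (presOf p (Cfsg.weakClosure Q E) ⊓ Subgroup.centralizer (U : Set G)) :=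
  commutator_le_of_le_commStab _ _ _ h.W_le_commStab

end LSHyp

end Cfsg.Agent.Lib.H14.LS
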