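import Mathlib
import Cfsg.Agent.Lib.H14.LS2
import Cfsg.Agent.Lib.H14.QuasiRes

/-!
# Large subgroups acting on an elementary abelian `p`-group: the quasisimple section (helper14)
-/

set_option autoImplicit false
set_option linter.unusedSectionVars false

namespace Cfsg.Agent.Lib.H14.LS

open Cfsg Cfsg.Agent.Lib.H14
open scoped commutatorElement

universe u

variable {G : Type u} [Group G] [Finite G] {p : ℕ} [hp : Fact p.Prime] {Q U E : Subgroup G}
  [hn : ((Subgroup.centralizer (U : Set G)).subgroupOf E).Normal]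

theorem Kbar_eq :
    ((Cfsg.pResidual p ↥E) ⊔ (Subgroup.centralizer (U : Set G)).subgroupOf E).map
      (QuotientGroup.mk' ((Subgroup.centralizer (U : Set G)).subgroupOf E)) =
    Cfsg.pResidual p (↥E ⧸ (Subgroup.centralizer (U : Set G)).subgroupOf E) := by
  rw [Subgroup.map_sup, QuotientGroup.map_mk'_self, sup_bot_eq]
  exact pResidual_map_of_surjective _ (QuotientGroup.mk'_surjective _)

/-- the quotient hypotheses -/
structure QHyp (p : ℕ) (U E : Subgroup G)
    [hn : ((Subgroup.centralizer (U : Set G)).subgroupOf E).Normal] : Prop where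
  hred : Cfsg.pCore p (↥E ⧸ (Subgroup.centralizer (U : Set G)).subgroupOf E) = ⊥
  hqs : Cfsg.IsQuasisimple ↥(Cfsg.pResidual p (↥E ⧸ (Subgroup.centralizer (U : Set G)).subgroupOf E))

theorem barQ_ne_bot (h : LSHyp p Q U E) : bar E (Subgroup.centralizer (U : Set G)) Q ≠ ⊥ := by
  rw [Ne, bar_eq_bot_iff E _ h.hQE]
  exact not_le_centralizer_of_large Q U E h.hQ h.hU1 h.hEU h.hQn

theorem dvd_card_of_ne_bot {H : Type*} [Group H] [Finite H] (Y : Subgroup H) (hY : IsPGroup p Y)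
    (hY1 : Y ≠ ⊥) : p ∣ Nat.card H := by
  obtain ⟨n, hn⟩ := IsPGroup.iff_card.mp hY
  have hn0 : n ≠ 0 := by
    rintro rfl
    rw [pow_zero] at hn
    exact hY1 (Subgroup.card_eq_one.mp hn)
  have h1 : Nat.card Y ∣ Nat.card H := Subgroup.card_subgroup_dvd_card Y
  rw [hn] at h1
  exact (dvd_pow_self p hn0).trans h1

/-- consequence of `quasi_main` in the quotient, for `p`-subgroups of `E` acting nontrivially -/
theorem bar_comm_eq (_h : LSHyp p Q U E) (hq : QHyp p U E) (Y : Subgroup G) (hYE : Y ≤ E)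
    (hYp : IsPGroup p ↥Y) (hYC : ¬ Y ≤ Subgroup.centralizer (U : Set G)) :
    ⁅bar E (Subgroup.centralizer (U : Set G)) (presOf p E),
      bar E (Subgroup.centralizer (U : Set G)) Y⁆ =
      bar E (Subgroup.centralizer (U : Set G)) (presOf p E) ∧
    bar E (Subgroup.centralizer (U : Set G)) (presOf p E) ≤
      ⨆ k : ↥(bar E (Subgroup.centralizer (U : Set G)) (presOf p E)),
        (bar E (Subgroup.centralizer (U : Set G)) Y).map
          (MulAut.conj (k : ↥E ⧸ (Subgroup.centralizer (U : Set G)).subgroupOf E)).toMonoidHom := by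
  have hY1 : bar E (Subgroup.centralizer (U : Set G)) Y ≠ ⊥ := by
    rw [Ne, bar_eq_bot_iff E _ hYE]
    exact hYC
  have hYbp : IsPGroup p (bar E (Subgroup.centralizer (U : Set G)) Y) := bar_isPGroup E _ hYp
  have hdvd := dvd_card_of_ne_bot _ hYbp hY1
  have hmain := quasi_main hdvd hq.hred hq.hqs
  rw [bar_presOf]
  exact hmain.2.1 _ hYbp hY1

theorem barR_le_barW (h : LSHyp p Q U E) (hq : QHyp p U E) :
    bar E (Subgroup.centralizer (U : Set G)) (presOf p E) ≤
      bar E (Subgroup.centralizer (U : Set G)) (Cfsg.weakClosure Q E) := by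
  have h1 := (bar_comm_eq h hq Q h.hQE h.hQp
    (not_le_centralizer_of_large Q U E h.hQ h.hU1 h.hEU h.hQn)).2
  refine h1.trans ?_
  apply iSup_le
  intro k
  have hWn : (bar E (Subgroup.centralizer (U : Set G)) (Cfsg.weakClosure Q E)).Normal :=
    bar_normal E _ h.W_le h.E_le_nzr_W
  rintro _ ⟨y, hy, rfl⟩
  exact hWn.conj_mem y (bar_mono E _ h.Q_le_W hy) k

theorem R_le (h : LSHyp p Q U E) (hq : QHyp p U E) :
    presOf p E ≤ presOf p (Cfsg.weakClosure Q E) ⊔ (E ⊓ Subgroup.centralizer (U : Set G)) := by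
  have h1 : presOf p E ≤ Cfsg.weakClosure Q E ⊔ (E ⊓ Subgroup.centralizer (U : Set G)) :=
    (bar_le_bar_iff E _ (presOf_le p E) h.W_le).mp (barR_le_barW h hq)
  have h2 : presOf p E ≤ (presOf p (Cfsg.weakClosure Q E) ⊔
      (E ⊓ Subgroup.centralizer (U : Set G))) ⊔ Q := by
    refine h1.trans ?_
    conv_lhs => rw [h.W_eq]
    rw [sup_assoc, sup_assoc, sup_comm Q]
  have hQn : Q ≤ Subgroup.normalizer ((presOf p (Cfsg.weakClosure Q E) ⊔
      (E ⊓ Subgroup.centralizer (U : Set G)) : Subgroup G) : Set G) :=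
    h.hQE.trans (le_nzr_sup E _ _ h.E_le_nzr_Er h.E_le_nzr_C)
  have h3 := presOf_le_of_le_sup' _ Q (presOf p E) hQn h.hQp h2
  rwa [presOf_presOf] at h3

/-- **(1)** -/
theorem G1 (h : LSHyp p Q U E) (hq : QHyp p U E) :
    presOf p E ⊔ (E ⊓ Subgroup.centralizer (U : Set G)) =
      presOf p (Cfsg.weakClosure Q E) ⊔ (E ⊓ Subgroup.centralizer (U : Set G)) :=
  le_antisymm (sup_le (R_le h hq) le_sup_right) (sup_le_sup_right (presOf_mono p h.W_le) _)

theorem barEr_eq (h : LSHyp p Q U E) (hq : QHyp p U E) :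
    bar E (Subgroup.centralizer (U : Set G)) (presOf p (Cfsg.weakClosure Q E)) =
      bar E (Subgroup.centralizer (U : Set G)) (presOf p E) := by
  have := congrArg (bar E (Subgroup.centralizer (U : Set G))) (G1 h hq)
  rw [bar_sup E _ (presOf_le p E) inf_le_left, bar_sup E _ h.Er_le_E inf_le_left, bar_cent,
    sup_bot_eq, sup_bot_eq] at this
  exact this.symm

theorem barR_perfect (hq : QHyp p U E) :
    ⁅bar E (Subgroup.centralizer (U : Set G)) (presOf p E),
      bar E (Subgroup.centralizer (U : Set G)) (presOf p E)⁆ =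
      bar E (Subgroup.centralizer (U : Set G)) (presOf p E) := by
  rw [bar_presOf]
  exact Subgroup.isPerfect_iff.mp hq.hqs.1

/-- `Er ≤ N D` whenever `bar Er ≤ bar N`, `N ≤ Er` -/
theorem Er_le_sup_D (h : LSHyp p Q U E) (N : Subgroup G)
    (hN : N ≤ presOf p (Cfsg.weakClosure Q E))
    (hb : bar E (Subgroup.centralizer (U : Set G)) (presOf p (Cfsg.weakClosure Q E)) ≤
      bar E (Subgroup.centralizer (U : Set G)) N) :
    presOf p (Cfsg.weakClosure Q E) ≤
      N ⊔ (presOf p (Cfsg.weakClosure Q E) ⊓ Subgroup.centralizer (U : Set G)) := by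
  have h1 := (bar_le_bar_iff E _ h.Er_le_E (hN.trans h.Er_le_E)).mp hb
  exact le_sup_inf_of_le E _ hN ((hN.trans h.Er_le_E).trans h.E_le_nzr_C) h1

/-- Lemma X -/
theorem comm_le_sup_PD (h : LSHyp p Q U E) (N K : Subgroup G)
    (hN : N ≤ presOf p (Cfsg.weakClosure Q E))
    (hcov : presOf p (Cfsg.weakClosure Q E) ≤
      N ⊔ (presOf p (Cfsg.weakClosure Q E) ⊓ Subgroup.centralizer (U : Set G)))
    (hK : K ≤ Cfsg.weakClosure Q E) (hKN : K ≤ Subgroup.normalizer (N : Set G)) :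
    ⁅presOf p (Cfsg.weakClosure Q E), K⁆ ≤
      N ⊔ Cfsg.pCoreOf p (presOf p (Cfsg.weakClosure Q E) ⊓ Subgroup.centralizer (U : Set G)) := by
  rw [Subgroup.commutator_le]
  intro x hx k hk
  have hND : N ≤ Subgroup.normalizer ((presOf p (Cfsg.weakClosure Q E) ⊓
      Subgroup.centralizer (U : Set G) : Subgroup G) : Set G) :=
    (hN.trans h.Er_le_E).trans h.E_le_nzr_D
  have hx' : x ∈ ((N ⊔ (presOf p (Cfsg.weakClosure Q E) ⊓
      Subgroup.centralizer (U : Set G)) : Subgroup G) : Set G) := hcov hx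
  rw [Subgroup.coe_mul_of_left_le_normalizer_right _ _ hND] at hx'
  obtain ⟨n, hn, d, hd, rfl⟩ := Set.mem_mul.mp hx'
  have e1 : ⁅n * d, k⁆ = n * ⁅d, k⁆ * n⁻¹ * ⁅n, k⁆ := by
    simp only [commutatorElement_def]; group
  rw [e1]
  apply Subgroup.mul_mem
  · apply Subgroup.mem_sup_right
    have h1 : ⁅d, k⁆ ∈ Cfsg.pCoreOf p (presOf p (Cfsg.weakClosure Q E) ⊓
        Subgroup.centralizer (U : Set G)) :=
      h.comm_D_W_le (Subgroup.commutator_mem_commutator hd (hK hk))
    exact (Subgroup.mem_normalizer_iff.mp (h.E_le_nzr_PD ((hN.trans h.Er_le_E) hn)) _).mp h1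
  · apply Subgroup.mem_sup_left
    have h1 : k * n⁻¹ * k⁻¹ ∈ N :=
      (Subgroup.mem_normalizer_iff.mp (hKN hk) _).mp (N.inv_mem hn)
    have e2 : ⁅n, k⁆ = n * (k * n⁻¹ * k⁻¹) := by
      simp only [commutatorElement_def]; group
    rw [e2]
    exact N.mul_mem hn h1

/-- Lemma Y -/
theorem Er_le_of_le_sup_PD (_h : LSHyp p Q U E) (N : Subgroup G)
    (hErN : presOf p (Cfsg.weakClosure Q E) ≤ Subgroup.normalizer (N : Set G))
    (hle : presOf p (Cfsg.weakClosure Q E) ≤
      N ⊔ Cfsg.pCoreOf p (presOf p (Cfsg.weakClosure Q E) ⊓ Subgroup.centralizer (U : Set G))) :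
    presOf p (Cfsg.weakClosure Q E) ≤ N := by
  have hPN : Cfsg.pCoreOf p (presOf p (Cfsg.weakClosure Q E) ⊓
      Subgroup.centralizer (U : Set G)) ≤ Subgroup.normalizer (N : Set G) :=
    ((pCoreOf_le p _).trans inf_le_left).trans hErN
  have h3 := presOf_le_of_le_sup' N _ (presOf p (Cfsg.weakClosure Q E)) hPN
    (pCoreOf_isPGroup p _) hle
  rwa [presOf_presOf] at h3

/-- **(2)** `Er` is perfect -/
theorem G2 (h : LSHyp p Q U E) (hq : QHyp p U E) :
    ⁅presOf p (Cfsg.weakClosure Q E), presOf p (Cfsg.weakClosure Q E)⁆ =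
      presOf p (Cfsg.weakClosure Q E) := by
  apply le_antisymm (Subgroup.commutator_le_self _)
  have hN : ⁅presOf p (Cfsg.weakClosure Q E), presOf p (Cfsg.weakClosure Q E)⁆ ≤
      presOf p (Cfsg.weakClosure Q E) := Subgroup.commutator_le_self _
  have hEN : E ≤ Subgroup.normalizer ((⁅presOf p (Cfsg.weakClosure Q E),
      presOf p (Cfsg.weakClosure Q E)⁆ : Subgroup G) : Set G) :=
    le_nzr_commutator E _ _ h.E_le_nzr_Er h.E_le_nzr_Er
  have hb : bar E (Subgroup.centralizer (U : Set G)) (presOf p (Cfsg.weakClosure Q E)) ≤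
      bar E (Subgroup.centralizer (U : Set G))
        ⁅presOf p (Cfsg.weakClosure Q E), presOf p (Cfsg.weakClosure Q E)⁆ := by
    rw [bar_commutator E _ h.Er_le_E h.Er_le_E, barEr_eq h hq, barR_perfect hq]
  have hcov := Er_le_sup_D h _ hN hb
  have h1 := comm_le_sup_PD h _ Q hN hcov h.Q_le_W (h.hQE.trans hEN)
  rw [h.comm_Er_Q] at h1
  exact Er_le_of_le_sup_PD h _ (h.Er_le_E.trans hEN) h1

/-- **(6)** -/
theorem G6 (h : LSHyp p Q U E) (hq : QHyp p U E) (Y : Subgroup G) (hYE : Y ≤ E)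
    (hYp : IsPGroup p ↥Y) (hYC : ¬ Y ≤ Subgroup.centralizer (U : Set G)) :
    ⁅presOf p (Cfsg.weakClosure Q E), Y⁆ = presOf p (Cfsg.weakClosure Q E) := by
  have hN : ⁅presOf p (Cfsg.weakClosure Q E), Y⁆ ≤ presOf p (Cfsg.weakClosure Q E) :=
    Subgroup.le_normalizer_iff_commutator_le_left.mp (hYE.trans h.E_le_nzr_Er)
  apply le_antisymm hN
  have hb : bar E (Subgroup.centralizer (U : Set G)) (presOf p (Cfsg.weakClosure Q E)) ≤
      bar E (Subgroup.centralizer (U : Set G)) ⁅presOf p (Cfsg.weakClosure Q E), Y⁆ := by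
    rw [bar_commutator E _ h.Er_le_E hYE, barEr_eq h hq, (bar_comm_eq h hq Y hYE hYp hYC).1]
  have hcov := Er_le_sup_D h _ hN hb
  have hErN : presOf p (Cfsg.weakClosure Q E) ≤
      Subgroup.normalizer ((⁅presOf p (Cfsg.weakClosure Q E), Y⁆ : Subgroup G) : Set G) :=
    le_normalizer_commutator_left _ _
  have h1 := comm_le_sup_PD h _ (presOf p (Cfsg.weakClosure Q E)) hN hcov h.Er_le_W hErN
  rw [G2 h hq] at h1
  exact Er_le_of_le_sup_PD h _ hErN h1

end Cfsg.Agent.Lib.H14.LS
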