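import Mathlib
import Cfsg.Agent.Lib.H14.LS3
import Cfsg.Agent.Lib.H7.Quasisimple
import Cfsg.Agent.Lib.H7.PComponent2

/-!
# Large subgroups acting on an elementary abelian `p`-group: quasisimple quotients (helper14)
-/

set_option autoImplicit false
set_option linter.unusedSectionVars false

namespace Cfsg.Agent.Lib.H14.LS

open Cfsg Cfsg.Agent.Lib.H14
open scoped commutatorElement

universe u

variable {G : Type u} [Group G] [Finite G] {p : ℕ} [hp : Fact p.Prime] {Q U E : Subgroup G}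
  [hn : ((Subgroup.centralizer (U : Set G)).subgroupOf E).Normal]

/-- the natural map `Er → E / C_E(U)` -/
def phi (U E Er : Subgroup G) [hn : ((Subgroup.centralizer (U : Set G)).subgroupOf E).Normal]
    (hle : Er ≤ E) : ↥Er →* ↥E ⧸ (Subgroup.centralizer (U : Set G)).subgroupOf E :=
  (QuotientGroup.mk' ((Subgroup.centralizer (U : Set G)).subgroupOf E)).comp (Subgroup.inclusion hle)

theorem phi_ker (Er : Subgroup G) (hle : Er ≤ E) :
    (phi U E Er hle).ker = (Subgroup.centralizer (U : Set G)).subgroupOf Er := by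
  ext x
  unfold phi
  rw [MonoidHom.mem_ker, MonoidHom.comp_apply, QuotientGroup.mk'_apply, QuotientGroup.eq_one_iff,
    Subgroup.mem_subgroupOf, Subgroup.mem_subgroupOf]
  rfl

theorem phi_range (Er : Subgroup G) (hle : Er ≤ E) :
    (phi U E Er hle).range = bar E (Subgroup.centralizer (U : Set G)) Er := by
  unfold phi bar
  rw [MonoidHom.range_comp, Subgroup.inclusion_range]

/-- **(4)** -/
theorem G4 (h : LSHyp p Q U E) (hq : QHyp p U E) (Er : Subgroup G)
    (hEr : Er = presOf p (Cfsg.weakClosure Q E))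
    [hn2 : ((Subgroup.centralizer (U : Set G)).subgroupOf Er).Normal] :
    Cfsg.IsQuasisimple (↥Er ⧸ (Subgroup.centralizer (U : Set G)).subgroupOf Er) := by
  have hle : Er ≤ E := hEr ▸ h.Er_le_E
  have hr : (phi U E Er hle).range =
      Cfsg.pResidual p (↥E ⧸ (Subgroup.centralizer (U : Set G)).subgroupOf E) := by
    rw [phi_range, hEr, barEr_eq h hq, bar_presOf]
  have e1 : ↥Er ⧸ (Subgroup.centralizer (U : Set G)).subgroupOf Er ≃* ↥Er ⧸ (phi U E Er hle).ker :=
    QuotientGroup.quotientMulEquivOfEq (phi_ker Er hle).symm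
  have e2 : ↥Er ⧸ (phi U E Er hle).ker ≃* ↥(phi U E Er hle).range :=
    QuotientGroup.quotientKerEquivRange _
  have e3 : ↥(phi U E Er hle).range ≃*
      ↥(Cfsg.pResidual p (↥E ⧸ (Subgroup.centralizer (U : Set G)).subgroupOf E)) :=
    MulEquiv.subgroupCongr hr
  exact Cfsg.Agent.Lib.H7.quasisimple_of_mulEquiv ((e1.trans e2).trans e3).symm hq.hqs

theorem bar_le_normalizer {X M : Subgroup G} (_hX : X ≤ E)
    (hXM : X ≤ Subgroup.normalizer (M : Set G)) :
    bar E (Subgroup.centralizer (U : Set G)) X ≤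
      Subgroup.normalizer ((bar E (Subgroup.centralizer (U : Set G)) M : Subgroup _) : Set _) := by
  apply le_nzr_of_conj_mem
  rintro _ ⟨x, hx, rfl⟩ _ ⟨m, hm, rfl⟩
  refine ⟨x * m * x⁻¹, ?_, by simp⟩
  rw [SetLike.mem_coe, Subgroup.mem_subgroupOf] at *
  have := (Subgroup.mem_normalizer_iff.mp (hXM hx) _).mp hm
  simpa using this

theorem map_subtype_le_normalizer {X : Subgroup G} (N : Subgroup ↥X) [hN : N.Normal] :
    X ≤ Subgroup.normalizer ((N.map X.subtype : Subgroup G) : Set G) := by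
  apply le_nzr_of_conj_mem
  rintro g hg _ ⟨n, hn, rfl⟩
  exact ⟨⟨g, hg⟩ * n * ⟨g, hg⟩⁻¹, hN.conj_mem n hn _, by simp⟩

theorem Er_ne_bot (h : LSHyp p Q U E) (hq : QHyp p U E) :
    presOf p (Cfsg.weakClosure Q E) ≠ ⊥ := by
  intro hbot
  have h1 := barEr_eq h hq
  rw [hbot, bar_presOf] at h1
  have h2 : bar E (Subgroup.centralizer (U : Set G)) ⊥ = ⊥ := by
    rw [bar_eq_bot_iff E _ bot_le]
    exact bot_le
  rw [h2] at h1
  have h3 := Cfsg.Agent.Lib.H7.quasisimple_nontrivial hq.hqs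
  rw [Subgroup.nontrivial_iff_ne_bot] at h3
  exact h3 h1.symm

/-- **(5)** -/
theorem G5 (h : LSHyp p Q U E) (hq : QHyp p U E) (Er : Subgroup G)
    (hEr : Er = presOf p (Cfsg.weakClosure Q E)) :
    Cfsg.IsQuasisimple (↥Er ⧸ Cfsg.pCore p ↥Er) := by
  have hle : Er ≤ E := hEr ▸ h.Er_le_E
  have hperfG : ⁅Er, Er⁆ = Er := by rw [hEr]; exact G2 h hq
  have hperfX : Group.IsPerfect ↥Er := Subgroup.isPerfect_iff.mpr hperfG
  have hP1n : (Cfsg.pCore p ↥Er).Normal := Cfsg.Agent.Lib.H1.pCore_normal p _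
  have hsurj := QuotientGroup.mk'_surjective (Cfsg.pCore p ↥Er)
  have hperfY : Group.IsPerfect (↥Er ⧸ Cfsg.pCore p ↥Er) :=
    Group.IsPerfect.ofSurjective hsurj
  have hEr1 : Er ≠ ⊥ := by rw [hEr]; exact Er_ne_bot h hq
  have hntX : Nontrivial ↥Er := (Subgroup.nontrivial_iff_ne_bot Er).mpr hEr1
  have hntY : Nontrivial (↥Er ⧸ Cfsg.pCore p ↥Er) := by
    by_contra hns
    rw [not_nontrivial_iff_subsingleton] at hns
    have h1 : Cfsg.pCore p ↥Er = ⊤ := QuotientGroup.subgroup_eq_top_of_subsingleton _ hns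
    have h2 : IsPGroup p ↥Er := by
      have := Cfsg.Agent.Lib.H1.pCore_isPGroup p ↥Er
      rw [h1] at this
      exact this.of_equiv Subgroup.topEquiv
    have h3 : Group.IsNilpotent ↥Er := h2.isNilpotent
    exact Group.IsPerfect.not_isNilpotent ↥Er h3
  apply Cfsg.Agent.Lib.H7.isQuasisimple_of_forall_normal hperfY hntY
  intro Nb hNb
  -- pull back
  have hNn : (Nb.comap (QuotientGroup.mk' (Cfsg.pCore p ↥Er))).Normal := hNb.comap _
  have hP1N : Cfsg.pCore p ↥Er ≤ Nb.comap (QuotientGroup.mk' (Cfsg.pCore p ↥Er)) := by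
    intro x hx
    rw [Subgroup.mem_comap, QuotientGroup.mk'_apply, (QuotientGroup.eq_one_iff x).mpr hx]
    exact Nb.one_mem
  obtain ⟨N, hNdef⟩ : ∃ N : Subgroup ↥Er, N = Nb.comap (QuotientGroup.mk' (Cfsg.pCore p ↥Er)) :=
    ⟨_, rfl⟩
  rw [← hNdef] at hNn hP1N
  have hNmap : N.map (QuotientGroup.mk' (Cfsg.pCore p ↥Er)) = Nb := by
    rw [hNdef]; exact Subgroup.map_comap_eq_self_of_surjective hsurj Nb
  have hNG : N.map Er.subtype ≤ Er := Subgroup.map_subtype_le N
  have hErN : Er ≤ Subgroup.normalizer ((N.map Er.subtype : Subgroup G) : Set G) :=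
    map_subtype_le_normalizer N
  -- the image in the quotient `E / C`
  have hKb : bar E (Subgroup.centralizer (U : Set G)) Er =
      Cfsg.pResidual p (↥E ⧸ (Subgroup.centralizer (U : Set G)).subgroupOf E) := by
    rw [hEr, barEr_eq h hq, bar_presOf]
  have hMK : bar E (Subgroup.centralizer (U : Set G)) (N.map Er.subtype) ≤
      Cfsg.pResidual p (↥E ⧸ (Subgroup.centralizer (U : Set G)).subgroupOf E) := by
    rw [← hKb]; exact bar_mono E _ hNG
  have hKn : Cfsg.pResidual p (↥E ⧸ (Subgroup.centralizer (U : Set G)).subgroupOf E) ≤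
      Subgroup.normalizer ((bar E (Subgroup.centralizer (U : Set G)) (N.map Er.subtype) :
        Subgroup _) : Set _) := by
    rw [← hKb]; exact bar_le_normalizer hle hErN
  have hPD : Cfsg.pCoreOf p (Er ⊓ Subgroup.centralizer (U : Set G)) ≤ N.map Er.subtype := by
    have h1 : Cfsg.pCoreOf p (Er ⊓ Subgroup.centralizer (U : Set G)) ≤ Cfsg.pCoreOf p Er := by
      apply le_pCoreOf p Er _ ((pCoreOf_le p _).trans inf_le_left) _ (pCoreOf_isPGroup p _)
      rw [hEr]
      exact h.Er_le_E.trans h.E_le_nzr_PD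
    refine h1.trans ?_
    unfold Cfsg.pCoreOf
    exact Subgroup.map_mono hP1N
  rcases quasisimple_le_or_le_centralizer _ _ hq.hqs hMK hKn with hc | hc
  · -- `N = ⊤`
    left
    rw [← hKb] at hc
    have hN' : N.map Er.subtype ≤ presOf p (Cfsg.weakClosure Q E) := hEr ▸ hNG
    have hc' : bar E (Subgroup.centralizer (U : Set G)) (presOf p (Cfsg.weakClosure Q E)) ≤
        bar E (Subgroup.centralizer (U : Set G)) (N.map Er.subtype) := hEr ▸ hc
    have hcov := Er_le_sup_D h _ hN' hc'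
    have hErN' : presOf p (Cfsg.weakClosure Q E) ≤
        Subgroup.normalizer ((N.map Er.subtype : Subgroup G) : Set G) := hEr ▸ hErN
    have h1 := comm_le_sup_PD h _ (presOf p (Cfsg.weakClosure Q E)) hN' hcov h.Er_le_W hErN'
    rw [G2 h hq] at h1
    have h2 := Er_le_of_le_sup_PD h _ hErN' h1
    have h3 : N = ⊤ := by
      rw [eq_top_iff]
      intro x _
      have hx : (x : G) ∈ N.map Er.subtype := h2 (hEr ▸ x.2)
      obtain ⟨y, hy, hyx⟩ := hx
      have : y = x := Subtype.ext hyx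
      rwa [this] at hy
    rw [← hNmap, h3, Subgroup.map_top_of_surjective _ hsurj]
  · -- `N` is central mod `O_p`
    right
    have h1 : ⁅bar E (Subgroup.centralizer (U : Set G)) (N.map Er.subtype),
        bar E (Subgroup.centralizer (U : Set G)) Er⁆ = ⊥ := by
      rw [hKb, Subgroup.commutator_eq_bot_iff_le_centralizer]
      exact hc
    rw [← bar_commutator E _ (hNG.trans hle) hle, bar_eq_bot_iff E _
      ((Subgroup.commutator_mono (hNG.trans hle) hle).trans (Subgroup.commutator_le_self E))] at h1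
    have h2 : ⁅N.map Er.subtype, Er⁆ ≤ Er ⊓ Subgroup.centralizer (U : Set G) :=
      le_inf ((Subgroup.commutator_mono hNG le_rfl).trans (Subgroup.commutator_le_self Er)) h1
    have h3 : ⁅⁅N.map Er.subtype, Er⁆, Er⁆ ≤ Cfsg.pCoreOf p Er := by
      have h4 : ⁅Er ⊓ Subgroup.centralizer (U : Set G), Er⁆ ≤
          Cfsg.pCoreOf p (Er ⊓ Subgroup.centralizer (U : Set G)) := by
        rw [hEr]
        exact (Subgroup.commutator_mono le_rfl h.Er_le_W).trans h.comm_D_W_le
      refine (Subgroup.commutator_mono h2 le_rfl).trans (h4.trans ?_)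
      apply le_pCoreOf p Er _ ((pCoreOf_le p _).trans inf_le_left) _ (pCoreOf_isPGroup p _)
      rw [hEr]
      exact h.Er_le_E.trans h.E_le_nzr_PD
    -- inside `↥Er`
    have h5 : ⁅⁅N, (⊤ : Subgroup ↥Er)⁆, (⊤ : Subgroup ↥Er)⁆ ≤ Cfsg.pCore p ↥Er := by
      rw [← Subgroup.map_le_map_iff_of_injective Er.subtype_injective, Subgroup.map_commutator,
        Subgroup.map_commutator, ← MonoidHom.range_eq_map, Subgroup.range_subtype]
      exact h3
    -- in the quotient
    have h6 : ⁅⁅Nb, (⊤ : Subgroup (↥Er ⧸ Cfsg.pCore p ↥Er))⁆,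
        (⊤ : Subgroup (↥Er ⧸ Cfsg.pCore p ↥Er))⁆ = ⊥ := by
      rw [← hNmap, ← Subgroup.map_top_of_surjective _ hsurj, ← Subgroup.map_commutator,
        ← Subgroup.map_commutator, ← le_bot_iff, Subgroup.map_le_iff_le_comap,
        MonoidHom.comap_bot, QuotientGroup.ker_mk']
      exact h5
    have h7 : ⁅⁅(⊤ : Subgroup (↥Er ⧸ Cfsg.pCore p ↥Er)), Nb⁆,
        (⊤ : Subgroup (↥Er ⧸ Cfsg.pCore p ↥Er))⁆ = ⊥ := by
      rw [Subgroup.commutator_comm (⊤ : Subgroup (↥Er ⧸ Cfsg.pCore p ↥Er)) Nb]; exact h6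
    have h8 := Subgroup.commutator_commutator_eq_bot_of_rotate h7 h6
    have h9 : ⁅(⊤ : Subgroup (↥Er ⧸ Cfsg.pCore p ↥Er)),
        (⊤ : Subgroup (↥Er ⧸ Cfsg.pCore p ↥Er))⁆ = (⊤ : Subgroup (↥Er ⧸ Cfsg.pCore p ↥Er)) := by
      rw [← commutator_def]; exact hperfY.commutator_eq_top
    rw [h9, Subgroup.commutator_comm, Subgroup.commutator_eq_bot_iff_le_centralizer] at h8
    intro x hx
    have := h8 hx
    rw [Subgroup.mem_centralizer_iff] at this
    rw [Subgroup.mem_center_iff]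
    intro g
    exact this g (Subgroup.mem_top g)

end Cfsg.Agent.Lib.H14.LS
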