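import Mathlib

set_option autoImplicit false

namespace Cfsg.Agent.Lib.H14.LargeOdd

variable {G : Type*} [Group G]

/-- elements of a subgroup of order 3 -/
theorem mem_of_card_three [Finite G] (H : Subgroup G) (hH : Nat.card H = 3) (a : G) (ha : a ∈ H)
    (ha1 : a ≠ 1) : ∀ y ∈ H, y = 1 ∨ y = a ∨ y = a⁻¹ := by
  intro y hy
  have : Fact (Nat.Prime 3) := ⟨Nat.prime_three⟩
  have htop : Subgroup.zpowers (⟨a, ha⟩ : H) = ⊤ :=
    zpowers_eq_top_of_prime_card hH (fun h => ha1 (congrArg Subtype.val h))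
  have hmem : (⟨y, hy⟩ : H) ∈ Subgroup.zpowers (⟨a, ha⟩ : H) := by rw [htop]; trivial
  have ho : orderOf (⟨a, ha⟩ : H) = 3 := by
    rw [← Nat.card_zpowers, htop, Nat.card_congr Subgroup.topEquiv.toEquiv, hH]
  have ha3 : a ^ 3 = 1 := by
    have := pow_orderOf_eq_one (⟨a, ha⟩ : H)
    rw [ho] at this
    exact congrArg Subtype.val this
  rw [← mem_powers_iff_mem_zpowers, Submonoid.mem_powers_iff] at hmem
  obtain ⟨n, hn⟩ := hmem
  have hn' : a ^ n = y := congrArg Subtype.val hn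
  have h3 : a ^ n = a ^ (n % 3) := by
    conv_lhs => rw [← Nat.div_add_mod n 3, pow_add, pow_mul, ha3, one_pow, one_mul]
  rw [h3] at hn'
  have hlt : n % 3 < 3 := Nat.mod_lt _ (by norm_num)
  interval_cases h : n % 3
  · left; rw [← hn', pow_zero]
  · right; left; rw [← hn', pow_one]
  · right; right
    rw [← hn']
    apply eq_inv_of_mul_eq_one_left
    rw [← pow_succ, ha3]


/-- conjugation by an element of the normalizer -/
theorem conj_mem_of_normalizes {Q K : Subgroup G} (hQK : Q ≤ Subgroup.normalizer (K : Set G))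
    {q k : G} (hq : q ∈ Q) (hk : k ∈ K) : q * k * q⁻¹ ∈ K :=
  (Subgroup.mem_normalizer_iff.1 (hQK hq) k).1 hk

theorem conj_mem_of_normalizes' {Q K : Subgroup G} (hQK : Q ≤ Subgroup.normalizer (K : Set G))
    {q k : G} (hq : q ∈ Q) (hk : k ∈ K) : q⁻¹ * k * q ∈ K := by
  have := conj_mem_of_normalizes hQK (Q.inv_mem hq) hk
  rwa [inv_inv] at this

/-- Step 1: the centralizer of `z` in an odd-order group normalized by `Q` is trivial. -/
theorem step1 [Finite G] (Q : Subgroup G) (z : G) (hQ2 : IsPGroup 2 Q)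
    (hcent : ∀ x : G, (∀ q ∈ Q, x * q = q * x) → x ∈ Q)
    (hnorm : ∀ x : G, x * z = z * x → ∀ q ∈ Q, x * q * x⁻¹ ∈ Q)
    (K : Subgroup G) (hK : Odd (Nat.card K)) (hQK : Q ≤ Subgroup.normalizer (K : Set G))
    (d : G) (hdK : d ∈ K) (hdz : d * z = z * d) : d = 1 := by
  have hKQ : K ⊓ Q = ⊥ := by
    rw [← disjoint_iff]
    apply Subgroup.disjoint_of_coprime_natCard
    obtain ⟨n, hn⟩ := hQ2.exists_card_eq
    rw [hn]
    exact Nat.Coprime.pow_right n (Nat.coprime_two_right.2 hK)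
  have hdQ : d ∈ Q := by
    apply hcent
    intro q hq
    have h1 : d * q * d⁻¹ * q⁻¹ ∈ K ⊓ Q := by
      refine Subgroup.mem_inf.2 ⟨?_, ?_⟩
      · have h2 : q * d⁻¹ * q⁻¹ ∈ K := conj_mem_of_normalizes hQK hq (K.inv_mem hdK)
        have : d * q * d⁻¹ * q⁻¹ = d * (q * d⁻¹ * q⁻¹) := by group
        rw [this]
        exact K.mul_mem hdK h2
      · exact Q.mul_mem (hnorm d hdz q hq) (Q.inv_mem hq)
    rw [hKQ, Subgroup.mem_bot] at h1
    have : d * q = (d * q * d⁻¹ * q⁻¹) * (q * d) := by group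
    rw [this, h1, one_mul]
  have : d ∈ K ⊓ Q := Subgroup.mem_inf.2 ⟨hdK, hdQ⟩
  rwa [hKQ, Subgroup.mem_bot] at this

/-- Step 2: `z` inverts `K`. -/
theorem step2 [Finite G] (z : G) (hz2 : z * z = 1) (K : Subgroup G)
    (hzK : ∀ k ∈ K, z * k * z⁻¹ ∈ K)
    (hfree : ∀ d ∈ K, d * z = z * d → d = 1) :
    ∀ k ∈ K, z * k * z⁻¹ = k⁻¹ := by
  have hzinv : z⁻¹ = z := inv_eq_of_mul_eq_one_left hz2
  let ψ : K → K := fun k => ⟨k.1⁻¹ * (z * k.1 * z⁻¹), K.mul_mem (K.inv_mem k.2) (hzK k.1 k.2)⟩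
  have hinj : Function.Injective ψ := by
    intro k k' h
    have h1 : k.1⁻¹ * (z * k.1 * z⁻¹) = k'.1⁻¹ * (z * k'.1 * z⁻¹) := congrArg Subtype.val h
    have h2 : (k'.1 * k.1⁻¹) * z = z * (k'.1 * k.1⁻¹) := by
      have h3 : k'.1 * k.1⁻¹ = z * (k'.1 * k.1⁻¹) * z⁻¹ := by
        have e1 : z * (k'.1 * k.1⁻¹) * z⁻¹ = (z * k'.1 * z⁻¹) * (z * k.1 * z⁻¹)⁻¹ := by group
        have e2 : z * k.1 * z⁻¹ = k.1 * (k'.1⁻¹ * (z * k'.1 * z⁻¹)) := by
          rw [← h1]; group
        rw [e1, e2]; group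
      calc (k'.1 * k.1⁻¹) * z = (z * (k'.1 * k.1⁻¹) * z⁻¹) * z := by rw [← h3]
        _ = z * (k'.1 * k.1⁻¹) := by group
    have h4 := hfree _ (K.mul_mem k'.2 (K.inv_mem k.2)) h2
    apply Subtype.ext
    have : k'.1 = k.1 := by
      have := mul_inv_eq_one.1 h4
      exact this
    exact this.symm
  have hsurj : Function.Surjective ψ := Finite.injective_iff_surjective.1 hinj
  intro k hk
  obtain ⟨x, hx⟩ := hsurj ⟨k, hk⟩
  have hx' : x.1⁻¹ * (z * x.1 * z⁻¹) = k := congrArg Subtype.val hx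
  rw [← hx', hzinv]
  simp only [mul_assoc, mul_inv_rev, hzinv, inv_inv, hz2, mul_one]

/-- Step 3: `K` is commutative. -/
theorem step3 (z : G) (K : Subgroup G) (hinv : ∀ k ∈ K, z * k * z⁻¹ = k⁻¹) :
    ∀ a ∈ K, ∀ b ∈ K, a * b = b * a := by
  intro a ha b hb
  have h1 := hinv (a * b) (K.mul_mem ha hb)
  have h2 : z * (a * b) * z⁻¹ = (z * a * z⁻¹) * (z * b * z⁻¹) := by group
  rw [h2, hinv a ha, hinv b hb, mul_inv_rev] at h1
  have := congrArg (fun x => x⁻¹) h1
  simpa using this.symm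


theorem exists_pow_sq [Finite G] (K : Subgroup G) (hK : Odd (Nat.card K)) (k : G) (hk : k ∈ K) :
    ∃ j : ℕ, (k * k) ^ j = k := by
  obtain ⟨m, hm⟩ := hK
  refine ⟨m + 1, ?_⟩
  have h1 : k ^ (Nat.card K) = 1 := by
    have := pow_card_eq_one' (G := K) (x := ⟨k, hk⟩)
    exact congrArg Subtype.val this
  rw [← pow_two, ← pow_mul]
  have : 2 * (m + 1) = Nat.card K + 1 := by omega
  rw [this, pow_succ, h1, one_mul]

/-- decomposition of an abelian odd-order group inverted by `z` with respect to an involution `e`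
commuting with `z` -/
theorem exists_decomp [Finite G] (z e : G) (he2 : e * e = 1)
    (K : Subgroup G) (hK : Odd (Nat.card K))
    (heK : ∀ k ∈ K, e * k * e⁻¹ ∈ K)
    (hinv : ∀ k ∈ K, z * k * z⁻¹ = k⁻¹)
    (hcomm : ∀ a ∈ K, ∀ b ∈ K, a * b = b * a) (k : G) (hk : k ∈ K) :
    ∃ a ∈ K, a * e = e * a ∧ ∃ b ∈ K, b * (e * z) = (e * z) * b ∧ a * b = k := by
  have heinv : e⁻¹ = e := inv_eq_of_mul_eq_one_left he2
  set k' := e * k * e⁻¹ with hk'
  have hk'K : k' ∈ K := heK k hk
  have hek' : e * k' * e⁻¹ = k := by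
    rw [hk', heinv]
    have : e * (e * k * e) * e = (e * e) * k * (e * e) := by group
    rw [this, he2, one_mul, mul_one]
  set u := k * k' with hu
  set v := k * k'⁻¹ with hv
  have huK : u ∈ K := K.mul_mem hk hk'K
  have hvK : v ∈ K := K.mul_mem hk (K.inv_mem hk'K)
  have hue : u * e = e * u := by
    have h1 : e * u * e⁻¹ = u := by
      have : e * u * e⁻¹ = (e * k * e⁻¹) * (e * k' * e⁻¹) := by rw [hu]; group
      rw [this, hek', ← hk', hu]
      exact hcomm _ hk'K _ hk
    calc u * e = (e * u * e⁻¹) * e := by rw [h1]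
      _ = e * u := by group
  have hve : e * v * e⁻¹ = v⁻¹ := by
    have : e * v * e⁻¹ = (e * k * e⁻¹) * (e * k' * e⁻¹)⁻¹ := by rw [hv]; group
    rw [this, hek', ← hk', hv, mul_inv_rev, inv_inv]
  have hvez : v * (e * z) = (e * z) * v := by
    have h1 : (e * z) * v * (e * z)⁻¹ = v := by
      have : (e * z) * v * (e * z)⁻¹ = e * (z * v * z⁻¹) * e⁻¹ := by group
      rw [this, hinv v hvK]
      have : e * v⁻¹ * e⁻¹ = (e * v * e⁻¹)⁻¹ := by group
      rw [this, hve, inv_inv]
    calc v * (e * z) = ((e * z) * v * (e * z)⁻¹) * (e * z) := by rw [h1]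
      _ = (e * z) * v := by group
  have huv : u * v = k * k := by
    rw [hu, hv]
    have h1 : k' * (k * k'⁻¹) = k := by
      rw [hcomm k hk k'⁻¹ (K.inv_mem hk'K)]; group
    rw [mul_assoc, h1]
  obtain ⟨j, hj⟩ := exists_pow_sq K hK k hk
  refine ⟨u ^ j, K.pow_mem huK j, ?_, v ^ j, K.pow_mem hvK j, ?_, ?_⟩
  · exact ((Commute.pow_left (show Commute u e from hue) j)).eq
  · exact ((Commute.pow_left (show Commute v (e * z) from hvez) j)).eq
  · rw [← (show Commute u v from hcomm u huK v hvK).mul_pow, huv, hj]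

/-- Step 4: `|K| = |C_K(e)|²`. -/
theorem step4 [Finite G] (Q : Subgroup G) (z e q : G) (hez : e * z = z * e) (he2 : e * e = 1)
    (heQ : e ∈ Q) (hqQ : q ∈ Q) (hq : q * e * q⁻¹ = e * z)
    (K : Subgroup G) (hK : Odd (Nat.card K)) (hQK : Q ≤ Subgroup.normalizer (K : Set G))
    (hfree : ∀ d ∈ K, d * z = z * d → d = 1)
    (hinv : ∀ k ∈ K, z * k * z⁻¹ = k⁻¹)
    (hcomm : ∀ a ∈ K, ∀ b ∈ K, a * b = b * a) :
    Nat.card K = Nat.card ↥(K ⊓ Subgroup.centralizer ({e} : Set G)) *
      Nat.card ↥(K ⊓ Subgroup.centralizer ({e} : Set G)) ∧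
    Nat.card K = Nat.card ↥(K ⊓ Subgroup.centralizer ({e} : Set G)) *
      Nat.card ↥(K ⊓ Subgroup.centralizer ({e * z} : Set G)) ∧
    (K ⊓ Subgroup.centralizer ({e} : Set G)) ⊓ (K ⊓ Subgroup.centralizer ({e * z} : Set G)) = ⊥ := by
  have hnK : ∀ x ∈ Q, ∀ k ∈ K, x * k * x⁻¹ ∈ K := fun x hx k hk =>
    (Subgroup.mem_normalizer_iff.1 (hQK hx) k).1 hk
  set A := K ⊓ Subgroup.centralizer ({e} : Set G) with hA
  set B := K ⊓ Subgroup.centralizer ({e * z} : Set G) with hB
  have memA : ∀ x, x ∈ A ↔ x ∈ K ∧ x * e = e * x := by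
    intro x
    rw [hA, Subgroup.mem_inf, Subgroup.mem_centralizer_singleton_iff]
  have memB : ∀ x, x ∈ B ↔ x ∈ K ∧ x * (e * z) = (e * z) * x := by
    intro x
    rw [hB, Subgroup.mem_inf, Subgroup.mem_centralizer_singleton_iff]
  have hAB : Nat.card A = Nat.card B := by
    apply Nat.card_congr
    refine ⟨fun a => ⟨q * a.1 * q⁻¹, ?_⟩, fun b => ⟨q⁻¹ * b.1 * q, ?_⟩, ?_, ?_⟩
    · have ha := (memA _).1 a.2
      rw [memB]
      refine ⟨hnK q hqQ _ ha.1, ?_⟩
      rw [← hq]
      have e1 : q * a.1 * q⁻¹ * (q * e * q⁻¹) = q * (a.1 * e) * q⁻¹ := by group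
      have e2 : q * e * q⁻¹ * (q * a.1 * q⁻¹) = q * (e * a.1) * q⁻¹ := by group
      rw [e1, e2, ha.2]
    · have hb := (memB _).1 b.2
      rw [memA]
      refine ⟨?_, ?_⟩
      · have := hnK q⁻¹ (Q.inv_mem hqQ) _ hb.1
        rwa [inv_inv] at this
      · have he : e = q⁻¹ * (e * z) * q := by rw [← hq]; group
        have e1 : q⁻¹ * b.1 * q * e = q⁻¹ * (b.1 * (e * z)) * q := by
          conv_lhs => rw [he]
          group
        have e2 : e * (q⁻¹ * b.1 * q) = q⁻¹ * ((e * z) * b.1) * q := by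
          conv_lhs => rw [he]
          group
        rw [e1, e2, hb.2]
    · intro a
      apply Subtype.ext
      show q⁻¹ * (q * a.1 * q⁻¹) * q = a.1
      group
    · intro b
      apply Subtype.ext
      show q * (q⁻¹ * b.1 * q) * q⁻¹ = b.1
      group
  have hbot : A ⊓ B = ⊥ := by
    rw [Subgroup.eq_bot_iff_forall]
    intro x hx
    rw [Subgroup.mem_inf, memA, memB] at hx
    apply hfree x hx.1.1
    have hz : z = e * (e * z) := by rw [← mul_assoc, he2, one_mul]
    rw [hz, ← mul_assoc, hx.1.2, mul_assoc, hx.2.2, ← mul_assoc, ← mul_assoc]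
  have hprod : Nat.card K = Nat.card A * Nat.card B := by
    rw [← Nat.card_prod]
    symm
    apply Nat.card_congr
    have hAK : ∀ a : A, a.1 ∈ K := fun a => ((memA _).1 a.2).1
    have hBK : ∀ b : B, b.1 ∈ K := fun b => ((memB _).1 b.2).1
    refine Equiv.ofBijective (fun p : A × B => (⟨p.1.1 * p.2.1, K.mul_mem (hAK p.1) (hBK p.2)⟩ : K))
      ⟨?_, ?_⟩
    · rintro ⟨a, b⟩ ⟨a', b'⟩ h
      have h1 : a.1 * b.1 = a'.1 * b'.1 := congrArg Subtype.val h
      have h2 : a'.1⁻¹ * a.1 = b'.1 * b.1⁻¹ := by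
        have : a'.1⁻¹ * a.1 = a'.1⁻¹ * (a.1 * b.1) * b.1⁻¹ := by group
        rw [this, h1]; group
      have h3 : a'.1⁻¹ * a.1 ∈ A ⊓ B := by
        refine Subgroup.mem_inf.2 ⟨A.mul_mem (A.inv_mem a'.2) a.2, ?_⟩
        rw [h2]
        exact B.mul_mem b'.2 (B.inv_mem b.2)
      rw [hbot, Subgroup.mem_bot] at h3
      have h4 : a.1 = a'.1 := by
        have := inv_mul_eq_one.1 h3
        exact this.symm
      have h5 : b.1 = b'.1 := by
        rw [h4] at h1
        exact mul_left_cancel h1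
      exact Prod.ext (Subtype.ext h4) (Subtype.ext h5)
    · rintro ⟨k, hk⟩
      obtain ⟨a, haK, hae, b, hbK, hbe, hab⟩ := exists_decomp z e he2 K hK
        (fun k hk => hnK e heQ k hk) hinv hcomm k hk
      refine ⟨⟨⟨a, ?_⟩, ⟨b, ?_⟩⟩, Subtype.ext hab⟩
      · exact (memA _).2 ⟨haK, hae⟩
      · exact (memB _).2 ⟨hbK, hbe⟩
  refine ⟨?_, hprod, hbot⟩
  rw [hprod, hAB]


/-- **Odd-order subgroups normalized by a large-extraspecial-like 2-group are trivial**, provided the
ambient group has no odd square divisors other than `1` and `9`. -/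
theorem odd_normalized_eq_bot [Finite G] (Q : Subgroup G) (z : G)
    (hzQ : z ∈ Q) (hz2 : z * z = 1) (hQ2 : IsPGroup 2 Q)
    (hcent : ∀ x : G, (∀ q ∈ Q, x * q = q * x) → x ∈ Q)
    (hnorm : ∀ x : G, x * z = z * x → ∀ q ∈ Q, x * q * x⁻¹ ∈ Q)
    (hzc : ∀ q ∈ Q, q * z = z * q)
    (hconj : ∀ e ∈ Q, e * e = 1 → e ≠ 1 → e ≠ z → ∃ q ∈ Q, q * e * q⁻¹ = e * z)
    (e f : G) (he : e ∈ Q) (hf : f ∈ Q) (he2 : e * e = 1) (hf2 : f * f = 1) (hef : e * f = f * e)
    (he1 : e ≠ 1) (hez : e ≠ z) (hf1 : f ≠ 1) (hfz : f ≠ z) (hfe : f ≠ e) (hfez : f ≠ e * z)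
    (hnum : ∀ m : ℕ, Odd m → m * m ∣ Nat.card G → m = 1 ∨ m = 3)
    (K : Subgroup G) (hK : Odd (Nat.card K)) (hQK : Q ≤ Subgroup.normalizer (K : Set G)) :
    K = ⊥ := by
  have hnK : ∀ x ∈ Q, ∀ k ∈ K, x * k * x⁻¹ ∈ K := fun x hx k hk =>
    (Subgroup.mem_normalizer_iff.1 (hQK hx) k).1 hk
  have hfree := step1 Q z hQ2 hcent hnorm K hK hQK
  have hinv := step2 z hz2 K (hnK z hzQ) hfree
  have hcomm := step3 z K hinv
  have hzinv : z⁻¹ = z := inv_eq_of_mul_eq_one_left hz2
  have heinv : e⁻¹ = e := inv_eq_of_mul_eq_one_left he2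
  have hfinv : f⁻¹ = f := inv_eq_of_mul_eq_one_left hf2
  -- the square formula
  have hsq : ∀ x ∈ Q, x * x = 1 → x ≠ 1 → x ≠ z →
      Nat.card K = Nat.card ↥(K ⊓ Subgroup.centralizer ({x} : Set G)) *
        Nat.card ↥(K ⊓ Subgroup.centralizer ({x} : Set G)) := by
    intro x hx hx2 hx1 hxz
    obtain ⟨q, hq, hqx⟩ := hconj x hx hx2 hx1 hxz
    exact (step4 Q z x q (hzc x hx) hx2 hx hq hqx K hK hQK hfree hinv hcomm).1
  obtain ⟨qe, hqe, hqee⟩ := hconj e he he2 he1 hez
  obtain ⟨hKA, hKAB, hAB⟩ := step4 Q z e qe (hzc e he) he2 he hqe hqee K hK hQK hfree hinv hcomm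
  set A := K ⊓ Subgroup.centralizer ({e} : Set G) with hA
  set B := K ⊓ Subgroup.centralizer ({e * z} : Set G) with hB
  have memA : ∀ x, x ∈ A ↔ x ∈ K ∧ x * e = e * x := by
    intro x
    rw [hA, Subgroup.mem_inf, Subgroup.mem_centralizer_singleton_iff]
  have memB : ∀ x, x ∈ B ↔ x ∈ K ∧ x * (e * z) = (e * z) * x := by
    intro x
    rw [hB, Subgroup.mem_inf, Subgroup.mem_centralizer_singleton_iff]
  have hmodd : Odd (Nat.card A) := by
    rw [hKA] at hK
    exact (Nat.odd_mul.1 hK).1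
  have hdvd : Nat.card A * Nat.card A ∣ Nat.card G := by
    rw [← hKA]; exact Subgroup.card_subgroup_dvd_card K
  rcases hnum _ hmodd hdvd with h1 | h3
  · rw [h1] at hKA
    exact Subgroup.card_eq_one.1 hKA
  · exfalso
    have hK9 : Nat.card K = 9 := by rw [hKA, h3]
    have hB3 : Nat.card B = 3 := by
      rw [hK9, h3] at hKAB; omega
    -- every noncentral involution of Q has centralizer of order 3 in K
    have hthree : ∀ x ∈ Q, x * x = 1 → x ≠ 1 → x ≠ z →
        Nat.card ↥(K ⊓ Subgroup.centralizer ({x} : Set G)) = 3 := by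
      intro x hx hx2 hx1 hxz
      have := hsq x hx hx2 hx1 hxz
      rw [hK9] at this
      have hle : Nat.card ↥(K ⊓ Subgroup.centralizer ({x} : Set G)) ≤ 9 := by
        rw [← hK9]; exact Subgroup.card_le_of_le inf_le_left
      interval_cases h : Nat.card ↥(K ⊓ Subgroup.centralizer ({x} : Set G)) <;> omega
    -- pick generators
    have hAne : A ≠ ⊥ := by
      intro h
      rw [h, Subgroup.card_bot] at h3
      omega
    have hBne : B ≠ ⊥ := by
      intro h
      rw [h, Subgroup.card_bot] at hB3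
      omega
    obtain ⟨⟨a, haA⟩, ha1'⟩ := (Subgroup.ne_bot_iff_exists_ne_one (H := A)).1 hAne
    have ha1 : a ≠ 1 := fun h => ha1' (Subtype.ext h)
    obtain ⟨⟨b, hbB⟩, hb1'⟩ := (Subgroup.ne_bot_iff_exists_ne_one (H := B)).1 hBne
    have hb1 : b ≠ 1 := fun h => hb1' (Subtype.ext h)
    have haK : a ∈ K := ((memA a).1 haA).1
    have hbK : b ∈ K := ((memB b).1 hbB).1
    -- final contradiction lemma
    have hno : ∀ x ∈ Q, x * x = 1 → x ≠ 1 → x ≠ z → x * a * x⁻¹ = a → x * b * x⁻¹ = b → False := by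
      intro x hx hx2 hx1 hxz hxa hxb
      have hD := hthree x hx hx2 hx1 hxz
      have haD : a ∈ K ⊓ Subgroup.centralizer ({x} : Set G) := by
        rw [Subgroup.mem_inf, Subgroup.mem_centralizer_singleton_iff]
        refine ⟨haK, ?_⟩
        calc a * x = (x * a * x⁻¹) * x := by rw [hxa]
          _ = x * a := by group
      have hbD : b ∈ K ⊓ Subgroup.centralizer ({x} : Set G) := by
        rw [Subgroup.mem_inf, Subgroup.mem_centralizer_singleton_iff]
        refine ⟨hbK, ?_⟩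
        calc b * x = (x * b * x⁻¹) * x := by rw [hxb]
          _ = x * b := by group
      have hbA : b ∈ A := by
        rcases mem_of_card_three _ hD a haD ha1 b hbD with h | h | h
        · exact absurd h hb1
        · rw [h]; exact haA
        · rw [h]; exact A.inv_mem haA
      have : b ∈ A ⊓ B := Subgroup.mem_inf.2 ⟨hbA, hbB⟩
      rw [hAB, Subgroup.mem_bot] at this
      exact hb1 this
    -- actions of e and z
    have hea : e * a * e⁻¹ = a := by
      have := ((memA a).1 haA).2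
      calc e * a * e⁻¹ = (a * e) * e⁻¹ := by rw [this]
        _ = a := by group
    have hza : z * a * z⁻¹ = a⁻¹ := hinv a haK
    have hzb : z * b * z⁻¹ = b⁻¹ := hinv b hbK
    have heb : e * b * e⁻¹ = b⁻¹ := by
      have h1 := ((memB b).1 hbB).2
      have h2 : (e * z) * b * (e * z)⁻¹ = b := by
        calc (e * z) * b * (e * z)⁻¹ = (b * (e * z)) * (e * z)⁻¹ := by rw [h1]
          _ = b := by group
      have h3 : e * b * e⁻¹ = (e * z) * (z * b * z⁻¹) * (e * z)⁻¹ := by
        have : (e * z) * (z * b * z⁻¹) * (e * z)⁻¹ = e * (z * z) * b * (z * z)⁻¹ * e⁻¹ := by group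
        rw [this, hz2]; group
      rw [h3, hzb]
      have : (e * z) * b⁻¹ * (e * z)⁻¹ = ((e * z) * b * (e * z)⁻¹)⁻¹ := by group
      rw [this, h2]
    -- f normalizes A and B
    have hfz' : f * z = z * f := hzc f hf
    have hez' : e * z = z * e := hzc e he
    have hfaA : f * a * f⁻¹ ∈ A := by
      rw [memA]
      refine ⟨hnK f hf a haK, ?_⟩
      have h1 := ((memA a).1 haA).2
      have : f * a * f⁻¹ * e = f * (a * e) * f⁻¹ := by
        have : f⁻¹ * e = e * f⁻¹ := by rw [hfinv]; exact hef.symm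
        rw [mul_assoc (f * a), this]; group
      rw [this, h1]
      have : e * (f * a * f⁻¹) = (e * f) * a * f⁻¹ := by group
      rw [this, hef]; group
    have hfbB : f * b * f⁻¹ ∈ B := by
      rw [memB]
      refine ⟨hnK f hf b hbK, ?_⟩
      have h1 := ((memB b).1 hbB).2
      have hc : f * (e * z) = (e * z) * f := by
        rw [← mul_assoc, ← hef, mul_assoc, hfz', ← mul_assoc]
      have : f * b * f⁻¹ * (e * z) = f * (b * (e * z)) * f⁻¹ := by
        have : f⁻¹ * (e * z) = (e * z) * f⁻¹ := by rw [hfinv]; exact hc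
        rw [mul_assoc (f * b), this]; group
      rw [this, h1]
      have : (e * z) * (f * b * f⁻¹) = ((e * z) * f) * b * f⁻¹ := by group
      rw [this, ← hc]; group
    have hfa1 : f * a * f⁻¹ ≠ 1 := by
      intro h
      apply ha1
      have : a = f⁻¹ * (f * a * f⁻¹) * f := by group
      rw [this, h]; group
    have hfb1 : f * b * f⁻¹ ≠ 1 := by
      intro h
      apply hb1
      have : b = f⁻¹ * (f * b * f⁻¹) * f := by group
      rw [this, h]; group
    have hfa : f * a * f⁻¹ = a ∨ f * a * f⁻¹ = a⁻¹ := by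
      rcases mem_of_card_three A h3 a haA ha1 _ hfaA with h | h | h
      · exact absurd h hfa1
      · exact Or.inl h
      · exact Or.inr h
    have hfb : f * b * f⁻¹ = b ∨ f * b * f⁻¹ = b⁻¹ := by
      rcases mem_of_card_three B hB3 b hbB hb1 _ hfbB with h | h | h
      · exact absurd h hfb1
      · exact Or.inl h
      · exact Or.inr h
    -- the four candidates
    have hfe2 : (f * e) * (f * e) = 1 := by
      have : (f * e) * (f * e) = f * (e * f) * e := by group
      rw [this, hef]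
      have : f * (f * e) * e = (f * f) * (e * e) := by group
      rw [this, hf2, he2, one_mul]
    have hfz2 : (f * z) * (f * z) = 1 := by
      have : (f * z) * (f * z) = f * (z * f) * z := by group
      rw [this, ← hfz']
      have : f * (f * z) * z = (f * f) * (z * z) := by group
      rw [this, hf2, hz2, one_mul]
    have hezez : (e * z) * (e * z) = 1 := by
      have : (e * z) * (e * z) = e * (z * e) * z := by group
      rw [this, ← hez']
      have : e * (e * z) * z = (e * e) * (z * z) := by group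
      rw [this, he2, hz2, one_mul]
    have hfez2 : (f * (e * z)) * (f * (e * z)) = 1 := by
      have hc : f * (e * z) = (e * z) * f := by
        rw [← mul_assoc, ← hef, mul_assoc, hfz', ← mul_assoc]
      have : (f * (e * z)) * (f * (e * z)) = f * ((e * z) * f) * (e * z) := by group
      rw [this, ← hc]
      have : f * (f * (e * z)) * (e * z) = (f * f) * ((e * z) * (e * z)) := by group
      rw [this, hf2, hezez, one_mul]
    rcases hfa with hfa | hfa <;> rcases hfb with hfb | hfb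
    · -- f centralizes both
      exact hno f hf hf2 hf1 hfz hfa hfb
    · -- f e
      apply hno (f * e) (Q.mul_mem hf he) hfe2
      · intro h
        apply hfe
        have : f = (f * e) * e⁻¹ := by group
        rw [this, h, heinv, one_mul]
      · intro h
        apply hfez
        have : f = (f * e) * e⁻¹ := by group
        rw [this, h, heinv, hez']
      · have : (f * e) * a * (f * e)⁻¹ = f * (e * a * e⁻¹) * f⁻¹ := by group
        rw [this, hea, hfa]
      · have : (f * e) * b * (f * e)⁻¹ = f * (e * b * e⁻¹) * f⁻¹ := by group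
        rw [this, heb]
        have : f * b⁻¹ * f⁻¹ = (f * b * f⁻¹)⁻¹ := by group
        rw [this, hfb, inv_inv]
    · -- f e z
      apply hno (f * (e * z)) (Q.mul_mem hf (Q.mul_mem he hzQ)) hfez2
      · intro h
        apply hfez
        have : f = (f * (e * z)) * (e * z)⁻¹ := by group
        rw [this, h, one_mul]
        exact inv_eq_of_mul_eq_one_left hezez
      · intro h
        apply hfe
        have : f = (f * (e * z)) * z⁻¹ * e⁻¹ := by group
        rw [this, h, mul_inv_cancel, one_mul, heinv]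
      · have : (f * (e * z)) * a * (f * (e * z))⁻¹ = f * (e * (z * a * z⁻¹) * e⁻¹) * f⁻¹ := by group
        rw [this, hza]
        have : e * a⁻¹ * e⁻¹ = (e * a * e⁻¹)⁻¹ := by group
        rw [this, hea]
        have : f * a⁻¹ * f⁻¹ = (f * a * f⁻¹)⁻¹ := by group
        rw [this, hfa, inv_inv]
      · have : (f * (e * z)) * b * (f * (e * z))⁻¹ = f * (e * (z * b * z⁻¹) * e⁻¹) * f⁻¹ := by group
        rw [this, hzb]
        have : e * b⁻¹ * e⁻¹ = (e * b * e⁻¹)⁻¹ := by group
        rw [this, heb, inv_inv, hfb]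
    · -- f z
      apply hno (f * z) (Q.mul_mem hf hzQ) hfz2
      · intro h
        apply hfz
        have : f = (f * z) * z⁻¹ := by group
        rw [this, h, one_mul, hzinv]
      · intro h
        apply hf1
        have : f = (f * z) * z⁻¹ := by group
        rw [this, h, mul_inv_cancel]
      · have : (f * z) * a * (f * z)⁻¹ = f * (z * a * z⁻¹) * f⁻¹ := by group
        rw [this, hza]
        have : f * a⁻¹ * f⁻¹ = (f * a * f⁻¹)⁻¹ := by group
        rw [this, hfa, inv_inv]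
      · have : (f * z) * b * (f * z)⁻¹ = f * (z * b * z⁻¹) * f⁻¹ := by group
        rw [this, hzb]
        have : f * b⁻¹ * f⁻¹ = (f * b * f⁻¹)⁻¹ := by group
        rw [this, hfb, inv_inv]

end Cfsg.Agent.Lib.H14.LargeOdd
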