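import Mathlib
import Cfsg.Prelude.Def_MonsterType
import Cfsg.Agent.Lib.H1.PCore
import Cfsg.Agent.Lib.H27.Extraspecial
import Cfsg.Agent.Lib.H14.LargeOdd

set_option autoImplicit false

namespace Cfsg.Agent.Lib.H14.LargeTransport

open Cfsg
open scoped commutatorElement

/-- `p`-core is preserved by isomorphisms -/
theorem pCore_map_equiv_le {A B : Type*} [Group A] [Group B] (p : ℕ) [Fact p.Prime] (f : A ≃* B) :
    (pCore p A).map f.toMonoidHom ≤ pCore p B :=
  Cfsg.Agent.Lib.H1.le_pCore ((Cfsg.Agent.Lib.H1.pCore_normal p A).map _ f.surjective)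
    ((Cfsg.Agent.Lib.H1.pCore_isPGroup p A).map _)

theorem pCore_map_equiv {A B : Type*} [Group A] [Group B] (p : ℕ) [Fact p.Prime] (e : A ≃* B) :
    (pCore p A).map e.toMonoidHom = pCore p B := by
  apply le_antisymm (pCore_map_equiv_le p e)
  intro b hb
  have h1 := pCore_map_equiv_le p e.symm ⟨b, hb, rfl⟩
  exact ⟨e.symm b, h1, e.apply_symm_apply b⟩

/-- extraspecial groups are preserved by isomorphisms -/
theorem isExtraspecial_of_mulEquiv {A B : Type*} [Group A] [Group B] [Finite A] (p : ℕ)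
    [Fact p.Prime] (e : A ≃* B) (h : IsExtraspecial p A) : IsExtraspecial p B := by
  have : Finite B := Finite.of_equiv A e.toEquiv
  obtain ⟨⟨hp, hfr, hcomm⟩, hcard⟩ := h
  have hcen : ∀ b : B, b ∈ Subgroup.center B ↔ e.symm b ∈ Subgroup.center A := by
    intro b
    rw [Subgroup.mem_center_iff, Subgroup.mem_center_iff]
    constructor
    · intro hb a
      have := hb (e a)
      apply e.injective
      rw [map_mul, map_mul, e.apply_symm_apply]
      exact this
    · intro ha b'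
      have := ha (e.symm b')
      apply e.symm.injective
      rw [map_mul, map_mul]
      exact this
  have hcenmap : (Subgroup.center A).map e.toMonoidHom = Subgroup.center B := by
    ext b
    rw [hcen]
    constructor
    · rintro ⟨a, ha, rfl⟩
      show e.symm (e a) ∈ _
      rw [e.symm_apply_apply]; exact ha
    · intro hb
      exact ⟨e.symm b, hb, e.apply_symm_apply b⟩
  apply Cfsg.Agent.Lib.H27.isExtraspecial_of_center p (hp.of_equiv e)
  · rw [← hcenmap, Subgroup.card_map_of_injective e.injective, hcard]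
  · rw [← hcenmap, ← hcomm, commutator_def, commutator_def, Subgroup.map_commutator,
      Subgroup.map_top_of_surjective _ e.surjective]
  · intro b
    rw [hcen, map_pow]
    have h1 := Cfsg.Agent.Lib.H1.isPGroup_pow_mem_frattini hp (e.symm b)
    rwa [hfr] at h1

/-- intrinsic data of a group `H` (to be a transvection-type involution centralizer) -/
def Data (H : Type*) [Group H] (n : ℕ) (R : Type*) [Group R] : Prop :=
  IsExtraspecial 2 ↥(pCore 2 H) ∧ Nat.card ↥(pCore 2 H) = 2 ^ (2 * n + 1) ∧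
  (∃ E : Subgroup H, E ≤ pCore 2 H ∧ IsElementaryAbelian 2 E ∧ Nat.card E = 2 ^ (n + 1)) ∧
  (∀ y : H, (∀ q ∈ pCore 2 H, y * q = q * y) → y ∈ pCore 2 H) ∧
  ∃ K : Subgroup H, pCore 2 H ⊓ K = ⊥ ∧ pCore 2 H ⊔ K = ⊤ ∧ Nonempty (K ≃* R)

theorem pull {G' : Type*} [Group G'] [Finite G'] (C' : Subgroup G') (n : ℕ) {R : Type*} [Group R]
    (h : IsExtraspecial 2 ↥((pCore 2 ↥C').map C'.subtype) ∧
      Nat.card ↥((pCore 2 ↥C').map C'.subtype) = 2 ^ (2 * n + 1) ∧
      (∃ E : Subgroup G', E ≤ (pCore 2 ↥C').map C'.subtype ∧ IsElementaryAbelian 2 E ∧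
        Nat.card E = 2 ^ (n + 1)) ∧
      IsLargeExtraspecial ((pCore 2 ↥C').map C'.subtype) ∧
      ∃ K : Subgroup G', K ≤ C' ∧ (pCore 2 ↥C').map C'.subtype ⊓ K = ⊥ ∧
        (pCore 2 ↥C').map C'.subtype ⊔ K = C' ∧ Nonempty (K ≃* R)) : Data ↥C' n R := by
  have : Fact (Nat.Prime 2) := ⟨Nat.prime_two⟩
  obtain ⟨hext, hcard, ⟨E, hEQ, hEel, hEcard⟩, hlarge, K, hKC, hQK, hQK', ⟨eK⟩⟩ := h
  set P' := pCore 2 ↥C' with hP'
  set Q' := P'.map C'.subtype with hQ'
  have hQC : Q' ≤ C' := Subgroup.map_subtype_le _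
  have memQ : ∀ y : ↥C', y.1 ∈ Q' ↔ y ∈ P' := by
    intro y
    constructor
    · rintro ⟨y', hy', hyy⟩
      have : y' = y := Subtype.ext hyy
      rw [← this]; exact hy'
    · intro hy
      exact ⟨y, hy, rfl⟩
  have e₀ : ↥P' ≃* ↥Q' := P'.equivMapOfInjective C'.subtype C'.subtype_injective
  refine ⟨isExtraspecial_of_mulEquiv 2 e₀.symm hext, ?_, ?_, ?_, ?_⟩
  · rw [Nat.card_congr e₀.toEquiv, hcard]
  · refine ⟨E.subgroupOf C', ?_, ⟨?_, ?_⟩, ?_⟩
    · intro y hy
      rw [Subgroup.mem_subgroupOf] at hy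
      exact (memQ y).1 (hEQ hy)
    · rw [isMulCommutative_iff]
      rintro ⟨a, ha⟩ ⟨b, hb⟩
      rw [Subgroup.mem_subgroupOf] at ha hb
      have h1 := (isMulCommutative_iff.1 hEel.1) ⟨a.1, ha⟩ ⟨b.1, hb⟩
      apply Subtype.ext
      apply Subtype.ext
      have h2 : a.1 * b.1 = b.1 * a.1 := congrArg Subtype.val h1
      exact h2
    · intro a ha
      rw [Subgroup.mem_subgroupOf] at ha
      apply Subtype.ext
      have := hEel.2 a.1 ha
      simpa using this
    · rw [Nat.card_congr (Subgroup.subgroupOfEquivOfLe (hEQ.trans hQC)).toEquiv, hEcard]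
  · intro y hy
    rw [← memQ]
    have h1 : y.1 ∈ Subgroup.centralizer (Q' : Set G') := by
      rw [Subgroup.mem_centralizer_iff]
      rintro x ⟨q, hq, rfl⟩
      exact (congrArg Subtype.val (hy q hq)).symm
    rw [hlarge.2.1] at h1
    exact Subgroup.map_subtype_le _ h1
  · refine ⟨K.subgroupOf C', ?_, ?_, ⟨(Subgroup.subgroupOfEquivOfLe hKC).trans eK⟩⟩
    · rw [Subgroup.eq_bot_iff_forall]
      intro y hy
      rw [Subgroup.mem_inf, Subgroup.mem_subgroupOf, ← memQ] at hy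
      have : y.1 ∈ Q' ⊓ K := Subgroup.mem_inf.2 hy
      rw [hQK, Subgroup.mem_bot] at this
      exact Subtype.ext this
    · have hPQ : P' = Q'.subgroupOf C' := by
        ext y
        rw [Subgroup.mem_subgroupOf, memQ]
      show P' ⊔ K.subgroupOf C' = ⊤
      rw [hPQ, ← Subgroup.subgroupOf_sup hQC hKC, hQK', Subgroup.subgroupOf_self]


theorem card_two_mem {G : Type*} [Group G] (Z : Subgroup G) (hZ : Nat.card Z = 2) (z : G)
    (hz : z ∈ Z) (hz1 : z ≠ 1) : ∀ w ∈ Z, w = 1 ∨ w = z := by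
  intro w hw
  by_cases hw1 : w = 1
  · exact Or.inl hw1
  · right
    obtain ⟨y, -, hy⟩ := (Nat.card_eq_two_iff' (1 : Z)).1 hZ
    have h1 : (⟨w, hw⟩ : Z) = y := hy _ (fun h => hw1 (congrArg Subtype.val h))
    have h2 : (⟨z, hz⟩ : Z) = y := hy _ (fun h => hz1 (congrArg Subtype.val h))
    exact congrArg Subtype.val (h1.trans h2.symm)

theorem exists_not_mem_finset {G : Type*} [Group G] [Finite G] (E : Subgroup G) (S : Finset G)
    (h : S.card < Nat.card E) : ∃ x ∈ E, x ∉ S := by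
  by_contra hcon
  push Not at hcon
  have hsub : (E : Set G) ⊆ (S : Set G) := fun x hx => Finset.mem_coe.2 (hcon x hx)
  have h1 := Set.ncard_le_ncard hsub (Finset.finite_toSet S)
  rw [Set.ncard_coe_finset] at h1
  have h2 : (E : Set G).ncard = Nat.card E := (Nat.card_coe_set_eq (E : Set G)).symm
  omega

theorem push {G H : Type*} [Group G] [Finite G] [Group H] (z : G) (hz2 : z * z = 1) (hz1 : z ≠ 1)
    (ι : H →* G) (hι : Function.Injective ι)
    (hrange : ι.range = Subgroup.centralizer ({z} : Set G))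
    (n : ℕ) (hn : 2 ≤ n) {R : Type*} [Group R] (hD : Data H n R)
    (hnum : ∀ m : ℕ, Odd m → m * m ∣ Nat.card G → m = 1 ∨ m = 3) :
    IsExtraspecial 2 ↥((pCore 2 ↥(Subgroup.centralizer ({z} : Set G))).map
        (Subgroup.centralizer ({z} : Set G)).subtype) ∧
      Nat.card ↥((pCore 2 ↥(Subgroup.centralizer ({z} : Set G))).map
        (Subgroup.centralizer ({z} : Set G)).subtype) = 2 ^ (2 * n + 1) ∧
      (∃ E : Subgroup G, E ≤ (pCore 2 ↥(Subgroup.centralizer ({z} : Set G))).map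
        (Subgroup.centralizer ({z} : Set G)).subtype ∧ IsElementaryAbelian 2 E ∧
        Nat.card E = 2 ^ (n + 1)) ∧
      IsLargeExtraspecial ((pCore 2 ↥(Subgroup.centralizer ({z} : Set G))).map
        (Subgroup.centralizer ({z} : Set G)).subtype) ∧
      ∃ K : Subgroup G, K ≤ Subgroup.centralizer ({z} : Set G) ∧
        (pCore 2 ↥(Subgroup.centralizer ({z} : Set G))).map
          (Subgroup.centralizer ({z} : Set G)).subtype ⊓ K = ⊥ ∧
        (pCore 2 ↥(Subgroup.centralizer ({z} : Set G))).map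
          (Subgroup.centralizer ({z} : Set G)).subtype ⊔ K = Subgroup.centralizer ({z} : Set G) ∧
        Nonempty (K ≃* R) := by
  have : Fact (Nat.Prime 2) := ⟨Nat.prime_two⟩
  have : Finite H := Finite.of_injective ι hι
  obtain ⟨hext, hcard, ⟨E, hEP, hEel, hEcard⟩, hcent, K, hPK, hPK', ⟨eK⟩⟩ := hD
  set C := Subgroup.centralizer ({z} : Set G) with hC
  set P := pCore 2 H with hP
  -- the isomorphism H ≃* C
  let ψ : H ≃* ↥C := (MonoidHom.ofInjective hι).trans (MulEquiv.subgroupCongr hrange)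
  have hψ : ∀ h : H, ((ψ h : ↥C) : G) = ι h := fun h => rfl
  have hQ : (pCore 2 ↥C).map C.subtype = P.map ι := by
    rw [← pCore_map_equiv 2 ψ, Subgroup.map_map]
    rfl
  rw [hQ]
  set Q := P.map ι with hQdef
  have memC : ∀ x : G, x ∈ C ↔ x * z = z * x := by
    intro x
    rw [hC, Subgroup.mem_centralizer_singleton_iff]
  have hιC : ∀ h : H, ι h ∈ C := by
    intro h
    rw [← hrange]; exact ⟨h, rfl⟩
  have hCι : ∀ x ∈ C, ∃ h : H, ι h = x := by
    intro x hx
    rw [← hrange] at hx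
    exact hx
  have memQ : ∀ h : H, ι h ∈ Q ↔ h ∈ P := by
    intro h
    constructor
    · rintro ⟨h', hh', hh⟩
      rw [← hι hh]; exact hh'
    · intro hh
      exact ⟨h, hh, rfl⟩
  have hQC : Q ≤ C := by
    rintro _ ⟨h, -, rfl⟩
    exact hιC h
  have e₁ : ↥P ≃* ↥Q := P.equivMapOfInjective ι hι
  have hQext : IsExtraspecial 2 ↥Q := isExtraspecial_of_mulEquiv 2 e₁ hext
  -- z lies in Q
  obtain ⟨z₀, hz₀⟩ := hCι z (by rw [memC])
  have hz₀c : ∀ h : H, h * z₀ = z₀ * h := by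
    intro h
    apply hι
    rw [map_mul, map_mul, hz₀]
    exact (memC _).1 (hιC h)
  have hz₀2 : z₀ * z₀ = 1 := by
    apply hι
    rw [map_mul, hz₀, hz2, map_one]
  have hz₀P : z₀ ∈ P := by
    have hN : (Subgroup.zpowers z₀).Normal := by
      constructor
      intro x hx g
      have hxc : g * x = x * g := by
        rw [Subgroup.mem_zpowers_iff] at hx
        obtain ⟨k, rfl⟩ := hx
        exact ((Commute.zpow_right (show Commute g z₀ from hz₀c g) k)).eq
      rw [hxc, mul_inv_cancel_right]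
      exact hx
    have hp : IsPGroup 2 (Subgroup.zpowers z₀) := by
      intro x
      refine ⟨1, ?_⟩
      obtain ⟨x, hx⟩ := x
      rw [Subgroup.mem_zpowers_iff] at hx
      obtain ⟨k, rfl⟩ := hx
      apply Subtype.ext
      show (z₀ ^ k) ^ 2 ^ 1 = 1
      rw [pow_one, ← zpow_natCast, ← zpow_mul, mul_comm, zpow_mul, zpow_natCast, pow_two, hz₀2,
        one_zpow]
    exact Cfsg.Agent.Lib.H1.le_pCore hN hp (Subgroup.mem_zpowers z₀)
  have hzQ : z ∈ Q := by rw [← hz₀]; exact (memQ z₀).2 hz₀P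
  have hzc : ∀ q ∈ Q, q * z = z * q := fun q hq => (memC q).1 (hQC hq)
  -- C normalizes Q
  have hPn : P.Normal := Cfsg.Agent.Lib.H1.pCore_normal 2 H
  have hnorm : ∀ x : G, x * z = z * x → ∀ q ∈ Q, x * q * x⁻¹ ∈ Q := by
    intro x hx q hq
    obtain ⟨y, rfl⟩ := hCι x ((memC x).2 hx)
    obtain ⟨q₀, hq₀, rfl⟩ := hq
    rw [← map_inv, ← map_mul, ← map_mul, memQ]
    exact hPn.conj_mem q₀ hq₀ y
  -- C_G(Q) ≤ Q
  have hcentG : ∀ x : G, (∀ q ∈ Q, x * q = q * x) → x ∈ Q := by
    intro x hx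
    have hxC : x ∈ C := (memC x).2 (hx z hzQ)
    obtain ⟨y, rfl⟩ := hCι x hxC
    rw [memQ]
    apply hcent
    intro q hq
    apply hι
    rw [map_mul, map_mul]
    exact hx _ ((memQ q).2 hq)
  -- extraspecial data
  obtain ⟨hQ2, -, hZcard, hZeq, hcomm, -⟩ := Cfsg.Agent.Lib.H27.extraspecial_data 2 Q hQext
  set Z := (Subgroup.center Q).map Q.subtype with hZ
  have hzZ : z ∈ Z := by
    rw [← hZeq, Subgroup.mem_inf, Subgroup.mem_centralizer_iff]
    exact ⟨hzQ, fun q hq => hzc q hq⟩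
  have hZmem := card_two_mem Z hZcard z hzZ hz1
  have hconj : ∀ e ∈ Q, e * e = 1 → e ≠ 1 → e ≠ z → ∃ q ∈ Q, q * e * q⁻¹ = e * z := by
    intro e he he2 he1 hez
    have heZ : e ∉ Z := by
      intro h
      rcases hZmem e h with h | h
      · exact he1 h
      · exact hez h
    have : ¬ (∀ q ∈ Q, q * e = e * q) := by
      intro hall
      apply heZ
      rw [← hZeq, Subgroup.mem_inf, Subgroup.mem_centralizer_iff]
      exact ⟨he, hall⟩
    push Not at this
    obtain ⟨q, hq, hqe⟩ := this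
    refine ⟨q, hq, ?_⟩
    have hc : ⁅q, e⁆ ∈ Z := by
      rw [← hcomm]
      exact Subgroup.commutator_mem_commutator hq he
    rw [commutatorElement_def] at hc
    rcases hZmem _ hc with h | h
    · exfalso
      apply hqe
      have : q * e = (q * e * q⁻¹ * e⁻¹) * (e * q) := by group
      rw [this, h, one_mul]
    · have : q * e * q⁻¹ = (q * e * q⁻¹ * e⁻¹) * e := by group
      rw [this, h]
      exact (hzc e he).symm
  -- the elementary abelian subgroup
  set E₁ := E.map ι with hE₁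
  have hE₁Q : E₁ ≤ Q := Subgroup.map_mono hEP
  have hE₁card : Nat.card E₁ = 2 ^ (n + 1) := by
    rw [hE₁, Subgroup.card_map_of_injective hι, hEcard]
  have hE₁comm : ∀ a ∈ E₁, ∀ b ∈ E₁, a * b = b * a := by
    rintro _ ⟨a, ha, rfl⟩ _ ⟨b, hb, rfl⟩
    have h1 := (isMulCommutative_iff.1 hEel.1) ⟨a, ha⟩ ⟨b, hb⟩
    have h2 : a * b = b * a := congrArg Subtype.val h1
    rw [← map_mul, ← map_mul, h2]
  have hE₁sq : ∀ a ∈ E₁, a * a = 1 := by
    rintro _ ⟨a, ha, rfl⟩
    have := hEel.2 a ha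
    rw [← map_mul, ← pow_two, this, map_one]
  have hE₁el : IsElementaryAbelian 2 E₁ := by
    refine ⟨?_, ?_⟩
    · rw [isMulCommutative_iff]
      rintro ⟨a, ha⟩ ⟨b, hb⟩
      exact Subtype.ext (hE₁comm a ha b hb)
    · intro a ha
      rw [pow_two]; exact hE₁sq a ha
  have h8 : 8 ≤ Nat.card E₁ := by
    rw [hE₁card]
    calc 8 = 2 ^ 3 := by norm_num
      _ ≤ 2 ^ (n + 1) := Nat.pow_le_pow_right (by norm_num) (by omega)
  classical
  obtain ⟨e, heE, heS⟩ := exists_not_mem_finset E₁ {1, z} (by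
    have : ({1, z} : Finset G).card ≤ 2 := Finset.card_le_two
    omega)
  obtain ⟨f, hfE, hfS⟩ := exists_not_mem_finset E₁ {1, z, e, e * z} (by
    have : ({1, z, e, e * z} : Finset G).card ≤ 4 := Finset.card_le_four
    omega)
  simp only [Finset.mem_insert, Finset.mem_singleton, not_or] at heS hfS
  refine ⟨hQext, ?_, ⟨E₁, hE₁Q, hE₁el, hE₁card⟩, ⟨hQext, ?_, ?_, ?_⟩, ?_⟩
  · rw [← Nat.card_congr e₁.toEquiv, hcard]
  · -- centralizer of Q
    apply le_antisymm
    · intro x hx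
      rw [Subgroup.mem_centralizer_iff] at hx
      have hxQ : x ∈ Q := hcentG x (fun q hq => (hx q hq).symm)
      show x ∈ Z
      rw [← hZeq, Subgroup.mem_inf, Subgroup.mem_centralizer_iff]
      exact ⟨hxQ, hx⟩
    · show Z ≤ _
      rw [← hZeq]; exact inf_le_right
  · -- normalizer
    intro x hx
    rw [Subgroup.mem_centralizer_iff] at hx
    have hxz : x * z = z * x := (hx z hzZ).symm
    have hxz' : x⁻¹ * z = z * x⁻¹ := by
      have : x⁻¹ * z = x⁻¹ * (z * x) * x⁻¹ := by group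
      rw [this, ← hxz]; group
    rw [Subgroup.mem_normalizer_iff]
    intro q
    constructor
    · exact hnorm x hxz q
    · intro hq
      have := hnorm x⁻¹ hxz' _ hq
      simpa [mul_assoc] using this
  · -- odd order subgroups
    intro K₁ hK₁ hQK₁
    exact LargeOdd.odd_normalized_eq_bot Q z hzQ hz2 hQ2 hcentG hnorm hzc hconj e f (hE₁Q heE)
      (hE₁Q hfE) (hE₁sq e heE) (hE₁sq f hfE) (hE₁comm e heE f hfE) heS.1 heS.2 hfS.1 hfS.2.1
      hfS.2.2.1 hfS.2.2.2 hnum K₁ hK₁ hQK₁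
  · -- the complement
    refine ⟨K.map ι, ?_, ?_, ?_, ⟨(K.equivMapOfInjective ι hι).symm.trans eK⟩⟩
    · rintro _ ⟨k, -, rfl⟩
      exact hιC k
    · rw [hQdef, ← Subgroup.map_inf _ _ ι hι, hPK, Subgroup.map_bot]
    · rw [hQdef, ← Subgroup.map_sup, hPK', ← MonoidHom.range_eq_map, hrange]

end Cfsg.Agent.Lib.H14.LargeTransport
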