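import Mathlib

set_option autoImplicit false
set_option maxRecDepth 100000

/-! # Fast matrix–vector products over `ZMod 3` in dimension 14 by lists of natural numbers -/

namespace Cfsg.Agent.Lib.H14.ListMat

open Matrix

/-- the index type `2 + 12` -/
abbrev J14 : Type := Fin 2 ⊕ Fin 12

/-- numbering of the indices -/
def code : J14 → ℕ := Sum.elim (fun a => a.val) (fun b => 2 + b.val)

/-- the vector of a list -/
def l2v (l : List ℕ) : J14 → ZMod 3 := fun a => ((l.getD (code a) 0 : ℕ) : ZMod 3)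

/-- dot product of lists -/
def dotL : List ℕ → List ℕ → ℕ
  | a :: as, b :: bs => a * b + dotL as bs
  | _, _ => 0

/-- matrix times vector, reduced mod 3 -/
def mvL (rows : List (List ℕ)) (l : List ℕ) : List ℕ := rows.map (fun row => dotL row l % 3)

/-- the matrix of a list of rows -/
def matL (rows : List (List ℕ)) : Matrix J14 J14 (ZMod 3) :=
  fun a b => (((rows.getD (code a) []).getD (code b) 0 : ℕ) : ZMod 3)

theorem code_lt (a : J14) : code a < 14 := by
  rcases a with a | b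
  · have := a.isLt
    simp only [code, Sum.elim_inl]
    omega
  · have := b.isLt
    simp only [code, Sum.elim_inr]
    omega

theorem dot_eq (row l : List ℕ) (hr : row.length = 14) (hl : l.length = 14) :
    ∑ b : J14, ((row.getD (code b) 0 : ℕ) : ZMod 3) * ((l.getD (code b) 0 : ℕ) : ZMod 3)
      = ((dotL row l : ℕ) : ZMod 3) := by
  rcases row with _ | ⟨r0, _ | ⟨r1, _ | ⟨r2, _ | ⟨r3, _ | ⟨r4, _ | ⟨r5, _ | ⟨r6, _ | ⟨r7, _ | ⟨r8,
    _ | ⟨r9, _ | ⟨r10, _ | ⟨r11, _ | ⟨r12, _ | ⟨r13, _ | ⟨r14, row⟩⟩⟩⟩⟩⟩⟩⟩⟩⟩⟩⟩⟩⟩⟩ <;>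
    simp at hr
  rcases l with _ | ⟨l0, _ | ⟨l1, _ | ⟨l2, _ | ⟨l3, _ | ⟨l4, _ | ⟨l5, _ | ⟨l6, _ | ⟨l7, _ | ⟨l8,
    _ | ⟨l9, _ | ⟨l10, _ | ⟨l11, _ | ⟨l12, _ | ⟨l13, _ | ⟨l14, l⟩⟩⟩⟩⟩⟩⟩⟩⟩⟩⟩⟩⟩⟩⟩ <;>
    simp at hl
  simp only [Fintype.sum_sum_type, Fin.sum_univ_succ, Fin.sum_univ_zero, code,
    Sum.elim_inl, Sum.elim_inr, dotL]
  simp
  ring

theorem matL_mulVec (rows : List (List ℕ)) (l : List ℕ) (hrows : rows.length = 14)
    (hrow : ∀ row ∈ rows, row.length = 14) (hl : l.length = 14) :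
    matL rows *ᵥ l2v l = l2v (mvL rows l) := by
  funext a
  have ha := code_lt a
  have h1 : (rows.getD (code a) []).length = 14 := by
    apply hrow
    rw [List.getD_eq_getElem _ _ (by omega)]
    exact List.getElem_mem _
  show ∑ b : J14, matL rows a b * l2v l b = _
  unfold matL l2v
  rw [dot_eq _ _ h1 hl]
  have h2 : (List.map (fun row => dotL row l % 3) rows).getD (code a) 0
      = dotL (rows.getD (code a) []) l % 3 := by
    have h3 : code a < (List.map (fun row => dotL row l % 3) rows).length := by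
      rw [List.length_map]; omega
    rw [List.getD_eq_getElem _ _ h3, List.getElem_map, List.getD_eq_getElem _ _ (by omega)]
  unfold mvL
  rw [h2, ZMod.natCast_mod]

theorem length_mvL (rows : List (List ℕ)) (l : List ℕ) : (mvL rows l).length = rows.length := by
  unfold mvL
  rw [List.length_map]

end Cfsg.Agent.Lib.H14.ListMat
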