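import Mathlib
import Cfsg.Agent.Lib.H1.M11U.Defs
import Cfsg.Agent.Lib.H1.M11U.Base

/-!
# S0420, piece LP (twin, helper14), part a: orbits of `P`, the group `B = P Q`, counting transport
-/

set_option autoImplicit false
set_option linter.unusedSectionVars false
open scoped Pointwise

universe u

namespace Cfsg.Agent.Lib.H14.M11U

open Cfsg.Agent.Lib.H1.M11U

variable {G : Type u} [Group G] [Finite G]

theorem mem_nrm_of_mem {P : Sylow 3 G} {u : G} (hu : u ∈ (P : Subgroup G)) : u ∈ Nrm P :=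
  Subgroup.le_normalizer hu

theorem smul_self_of_mem_nrm {P : Sylow 3 G} {n : G} (hn : n ∈ Nrm P) : n • P = P :=
  (smul_eq_iff n P).mpr hn

theorem smul_self_of_mem {P : Sylow 3 G} {u : G} (hu : u ∈ (P : Subgroup G)) : u • P = P :=
  smul_self_of_mem_nrm (mem_nrm_of_mem hu)

theorem conj_mem_of_mem_nrm {P : Sylow 3 G} {n u : G} (hn : n ∈ Nrm P)
    (hu : u ∈ (P : Subgroup G)) : n * u * n⁻¹ ∈ (P : Subgroup G) :=
  (Subgroup.mem_normalizer_iff.mp hn u).mp hu

theorem conj_inv_mem_of_mem_nrm {P : Sylow 3 G} {n u : G} (hn : n ∈ Nrm P)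
    (hu : u ∈ (P : Subgroup G)) : n⁻¹ * u * n ∈ (P : Subgroup G) := by
  have := conj_mem_of_mem_nrm (inv_mem hn) hu
  rwa [inv_inv] at this

/-- `Adj P ·` is invariant under `N(P)` -/
theorem adj_smul_of_mem_nrm {P : Sylow 3 G} {n : G} (hn : n ∈ Nrm P) (y : Sylow 3 G) :
    Adj P (n • y) ↔ Adj P y := by
  have h1 : Adj (n • P) (n • y) ↔ Adj P y := adj_smul n
  rwa [smul_self_of_mem_nrm hn] at h1

/-- moving both arguments -/
theorem adj_smul_smul (g : G) (x y : Sylow 3 G) : Adj (g • x) (g • y) ↔ Adj x y := adj_smul g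

theorem adj_iff_smul_inv (g : G) (x y : Sylow 3 G) : Adj (g • x) y ↔ Adj x (g⁻¹ • y) := by
  have h1 : Adj (g⁻¹ • (g • x)) (g⁻¹ • y) ↔ Adj (g • x) y := adj_smul g⁻¹
  rw [inv_smul_smul] at h1
  exact h1.symm

/-! ### orbits of `P` -/

theorem mem_orb_iff {P x y : Sylow 3 G} : y ∈ orb P x ↔ ∃ u ∈ (P : Subgroup G), u • x = y := Iff.rfl

theorem mem_orb_self (P x : Sylow 3 G) : x ∈ orb P x := ⟨1, one_mem _, one_smul _ _⟩

theorem smul_mem_orb {P x : Sylow 3 G} {u : G} (hu : u ∈ (P : Subgroup G)) : u • x ∈ orb P x :=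
  ⟨u, hu, rfl⟩

theorem smul_mem_orb_of_mem {P x y : Sylow 3 G} (hy : y ∈ orb P x) {v : G}
    (hv : v ∈ (P : Subgroup G)) : v • y ∈ orb P x := by
  obtain ⟨u, hu, rfl⟩ := hy
  exact ⟨v * u, mul_mem hv hu, mul_smul _ _ _⟩

/-- elements of `N(P)` map `P`-orbits to `P`-orbits -/
theorem smul_mem_orb_smul {P x y : Sylow 3 G} (hy : y ∈ orb P x) {n : G} (hn : n ∈ Nrm P) :
    n • y ∈ orb P (n • x) := by
  obtain ⟨u, hu, rfl⟩ := hy
  refine ⟨n * u * n⁻¹, conj_mem_of_mem_nrm hn hu, ?_⟩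
  rw [← mul_smul, ← mul_smul]
  congr 1
  group

theorem ne_of_mem_orb {P x y : Sylow 3 G} (hx : x ≠ P) (hy : y ∈ orb P x) : y ≠ P := by
  obtain ⟨u, hu, rfl⟩ := hy
  intro h
  apply hx
  have : u⁻¹ • (u • x) = u⁻¹ • P := congrArg _ h
  rw [inv_smul_smul, smul_self_of_mem (inv_mem hu)] at this
  exact this

section semireg

variable (hsemireg : ∀ {P P' : Sylow 3 G}, P' ≠ P → ∀ {u : G}, u ∈ (P : Subgroup G) → u ≠ 1 →
  u • P' ≠ P')
include hsemireg

theorem smul_inj_of_semireg {P x : Sylow 3 G} (hx : x ≠ P) {u v : G}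
    (hu : u ∈ (P : Subgroup G)) (hv : v ∈ (P : Subgroup G)) (h : u • x = v • x) : u = v := by
  by_contra hne
  have h1 : v⁻¹ * u ≠ 1 := by
    intro h1
    apply hne
    have : u = v * (v⁻¹ * u) := by group
    rw [this, h1, mul_one]
  have h2 : (v⁻¹ * u) • x = x := by
    rw [mul_smul, h, inv_smul_smul]
  exact hsemireg hx (mul_mem (inv_mem hv) hu) h1 h2

/-- the `P`-orbit of a point `x ≠ P` is in bijection with `P` -/
theorem card_orb_of_semireg (h : Hyp G) {P x : Sylow 3 G} (hx : x ≠ P) :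
    Nat.card (orb P x) = 9 := by
  rw [← card_sylow3_sub h P]
  symm
  refine Nat.card_congr (Equiv.ofBijective
    (fun u : (P : Subgroup G) => (⟨(u : G) • x, smul_mem_orb u.2⟩ : orb P x)) ⟨?_, ?_⟩)
  · intro u v huv
    have h1 : (u : G) • x = (v : G) • x := congrArg Subtype.val huv
    exact Subtype.ext (smul_inj_of_semireg hsemireg hx u.2 v.2 h1)
  · rintro ⟨y, u, hu, rfl⟩
    exact ⟨⟨u, hu⟩, rfl⟩

end semireg

/-! ### the group `B = P Q` -/

theorem mem_Bsub_iff {P P' : Sylow 3 G} (n : G) :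
    n ∈ Bsub P P' ↔ ∃ v ∈ (P : Subgroup G), ∃ q ∈ Nrm P ⊓ Nrm P', v * q = n := by
  have hBcoe : ((Bsub P P' : Subgroup G) : Set G) =
      ((P : Subgroup G) : Set G) * ((Nrm P ⊓ Nrm P' : Subgroup G) : Set G) := by
    unfold Bsub
    exact Subgroup.coe_mul_of_right_le_normalizer_left (P : Subgroup G) (Nrm P ⊓ Nrm P')
      inf_le_left
  rw [← SetLike.mem_coe, hBcoe, Set.mem_mul]
  simp only [SetLike.mem_coe]

theorem Bsub_le_nrm (P P' : Sylow 3 G) : Bsub P P' ≤ Nrm P :=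
  sup_le Subgroup.le_normalizer inf_le_left

/-- `b • P' ∈ orb P P'` for `b ∈ B` -/
theorem Bsub_smul_base {P P' : Sylow 3 G} {b : G} (hb : b ∈ Bsub P P') : b • P' ∈ orb P P' := by
  obtain ⟨v, hv, q, hq, rfl⟩ := (mem_Bsub_iff b).mp hb
  refine ⟨v, hv, ?_⟩
  rw [mul_smul, smul_self_of_mem_nrm (Subgroup.mem_inf.mp hq).2]

/-- `B` preserves the `P`-orbit of any point fixed by `Q` -/
theorem Bsub_smul_mem_orb {P P' x y : Sylow 3 G}
    (hQx : ∀ q ∈ Nrm P ⊓ Nrm P', q • x = x) (hy : y ∈ orb P x) {b : G}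
    (hb : b ∈ Bsub P P') : b • y ∈ orb P x := by
  have h1 : b • y ∈ orb P (b • x) := smul_mem_orb_smul hy (Bsub_le_nrm P P' hb)
  obtain ⟨v, hv, q, hq, rfl⟩ := (mem_Bsub_iff b).mp hb
  rw [mul_smul v q x, hQx q hq] at h1
  obtain ⟨w, hw, hw'⟩ := h1
  exact ⟨w * v, mul_mem hw hv, by rw [mul_smul, hw']⟩

/-! ### transport of neighbour counts -/

/-- if `g` maps the finset `D` into `D'` and both have the same size, then the number of neighbours
of `g • w` in `D'` equals the number of neighbours of `w` in `D` -/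
theorem card_filter_adj_smul [DecidableEq (Sylow 3 G)] [DecidableRel (Adj (G := G))]
    (g : G) (D D' : Finset (Sylow 3 G)) (hcard : D.card = D'.card)
    (hmap : ∀ x ∈ D, g • x ∈ D') (w : Sylow 3 G) :
    (D'.filter (fun x => Adj (g • w) x)).card = (D.filter (fun x => Adj w x)).card := by
  have hinj : Function.Injective (fun x : Sylow 3 G => g • x) := MulAction.injective g
  have himg : D.image (fun x => g • x) = D' := by
    apply Finset.eq_of_subset_of_card_le
    · intro y hy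
      obtain ⟨x, hx, rfl⟩ := Finset.mem_image.mp hy
      exact hmap x hx
    · rw [Finset.card_image_of_injective _ hinj, hcard]
  have hfil : D'.filter (fun x => Adj (g • w) x) =
      (D.filter (fun x => Adj w x)).image (fun x => g • x) := by
    ext y
    simp only [Finset.mem_filter, Finset.mem_image]
    constructor
    · rintro ⟨hy, hadj⟩
      rw [← himg] at hy
      obtain ⟨x, hx, rfl⟩ := Finset.mem_image.mp hy
      exact ⟨x, ⟨hx, (adj_smul g).mp hadj⟩, rfl⟩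
    · rintro ⟨x, ⟨hx, hadj⟩, rfl⟩
      exact ⟨hmap x hx, (adj_smul g).mpr hadj⟩
  rw [hfil, Finset.card_image_of_injective _ hinj]

end Cfsg.Agent.Lib.H14.M11U
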