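import Mathlib
import Cfsg.Agent.Lib.H14.M11LPa
import Cfsg.Agent.Lib.H5.M11ABS
import Cfsg.Agent.Lib.H18.M11ST

/-!
# S0420, piece LP (twin, helper14), part b: `local_prop` from the earlier pieces (explicit hypotheses)
and the landed `abs_graph` (helper5), `exists_s` (helper18)
-/

set_option autoImplicit false
set_option linter.unusedSectionVars false
set_option maxHeartbeats 800000
open scoped Pointwise

universe u

namespace Cfsg.Agent.Lib.H14.M11U

open Cfsg.Agent.Lib.H1.M11U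

variable {G : Type u} [Group G] [Finite G]

theorem eq_one_of_conj_inv_eq_one {s w : G} (e : s⁻¹ * w * s = 1) : w = 1 := by
  have h1 : w = s * (s⁻¹ * w * s) * s⁻¹ := by group
  rw [h1, e]
  group

/-- (LP, core) `local_prop` with the earlier pieces as explicit hypotheses. -/
theorem local_prop_core (h : Hyp G)
    (hsemireg : ∀ {P P' : Sylow 3 G}, P' ≠ P → ∀ {u : G}, u ∈ (P : Subgroup G) → u ≠ 1 →
      u • P' ≠ P')
    (hcard_inf : ∀ {P P' : Sylow 3 G}, P ≠ P' →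
      Nat.card ↥(Nrm P ⊓ Nrm P') = 8 ∨ Nat.card ↥(Nrm P ⊓ Nrm P') = 4)
    (hcard_adj : ∀ P : Sylow 3 G, Nat.card {P' : Sylow 3 G // Adj P P'} = 18)
    (hadj_trans : ∀ {P P₁ P₂ : Sylow 3 G}, Adj P P₁ → Adj P P₂ → ∃ n ∈ Nrm P, n • P₁ = P₂)
    (hnonadj_trans : ∀ {P P₁ P₂ : Sylow 3 G}, P₁ ≠ P → ¬ Adj P P₁ → P₂ ≠ P → ¬ Adj P P₂ →
      ∃ n ∈ Nrm P, n • P₁ = P₂)
    (hQ_trans : ∀ {P P' : Sylow 3 G}, Adj P P' → ∀ {u u' : G}, u ∈ (P : Subgroup G) → u ≠ 1 →
      u' ∈ (P : Subgroup G) → u' ≠ 1 → ∃ q ∈ Nrm P ⊓ Nrm P', q * u * q⁻¹ = u')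
    (hmu : ∃ μ : ℕ, ∀ x y : Sylow 3 G, x ≠ y → ¬ Adj x y →
      Nat.card {w : Sylow 3 G // Adj x w ∧ Adj y w} = μ)
    {P P' : Sylow 3 G} (hadj : Adj P P') :
    (∀ u ∈ (P : Subgroup G), u ≠ 1 → Adj P' (u • P')) ∧
    (∀ y, Adj P y → y ∉ orb P P' → ∃! x, x ∈ orb P P' ∧ Adj y x) ∧
    (∀ x ∈ orb P P', ∃! y, Adj P y ∧ y ∉ orb P P' ∧ Adj x y) := by
  classical
  haveI : Fintype (Sylow 3 G) := Fintype.ofFinite _
  obtain ⟨s, hsN, hsB, hsQ, hcover⟩ := Cfsg.Agent.Lib.H18.M11U.exists_s h hadj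
  obtain ⟨μ, hμ⟩ := hmu
  -- basic facts
  have hP'ne : P' ≠ P := by
    intro e
    rw [e] at hadj
    exact adj_irrefl h P hadj
  have hQP' : ∀ q ∈ Nrm P ⊓ Nrm P', q • P' = P' := fun q hq =>
    smul_self_of_mem_nrm (Subgroup.mem_inf.mp hq).2
  have hQleB : ∀ q ∈ Nrm P ⊓ Nrm P', q ∈ Bsub P P' := fun q hq =>
    (le_sup_right : Nrm P ⊓ Nrm P' ≤ Bsub P P') hq
  have hPleB : ∀ u ∈ (P : Subgroup G), u ∈ Bsub P P' := fun u hu =>
    (le_sup_left : (P : Subgroup G) ≤ Bsub P P') hu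
  have hsP' : s ∉ Nrm P' := fun hs => hsB (hQleB s (Subgroup.mem_inf.mpr ⟨hsN, hs⟩))
  -- the second base point
  obtain ⟨P'', hP''⟩ : ∃ P'' : Sylow 3 G, P'' = s • P' := ⟨_, rfl⟩
  have hP''neP' : P'' ≠ P' := by
    intro e
    rw [hP''] at e
    exact hsP' ((smul_eq_iff s P').mp e)
  have hP''ne : P'' ≠ P := by
    intro e
    apply hP'ne
    have h1 : s⁻¹ • (s • P') = s⁻¹ • P := by rw [← hP'', e]
    rwa [inv_smul_smul, smul_self_of_mem_nrm (inv_mem hsN)] at h1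
  have hQP'' : ∀ q ∈ Nrm P ⊓ Nrm P', q • P'' = P'' := by
    intro q hq
    have h1 : s⁻¹ * q * s ∈ Nrm P ⊓ Nrm P' := (hsQ q hq).2
    have h2 : q • (s • P') = s • ((s⁻¹ * q * s) • P') := by
      rw [← mul_smul, ← mul_smul]
      congr 1
      group
    rw [hP'', h2, hQP' _ h1]
  have hadj' : Adj P' P'' := by
    have hle : Nrm P ⊓ Nrm P' ≤ Nrm P' ⊓ Nrm P'' := by
      intro q hq
      exact Subgroup.mem_inf.mpr ⟨(Subgroup.mem_inf.mp hq).2,
        (smul_eq_iff q P'').mp (hQP'' q hq)⟩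
    have h8 : Nat.card ↥(Nrm P ⊓ Nrm P') = 8 := hadj
    have hle' : Nat.card ↥(Nrm P ⊓ Nrm P') ≤ Nat.card ↥(Nrm P' ⊓ Nrm P'') :=
      Nat.card_le_card_of_injective (Subgroup.inclusion hle) (Subgroup.inclusion_injective hle)
    rcases hcard_inf (P := P') (P' := P'') (Ne.symm hP''neP') with h1 | h1
    · exact h1
    · omega
  -- the two `P`-orbits
  obtain ⟨D1, hD1def⟩ : ∃ D1 : Finset (Sylow 3 G),
      D1 = Finset.univ.filter (fun y => y ∈ orb P P') := ⟨_, rfl⟩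
  obtain ⟨D2, hD2def⟩ : ∃ D2 : Finset (Sylow 3 G),
      D2 = Finset.univ.filter (fun y => y ∈ orb P P'') := ⟨_, rfl⟩
  have memD1 : ∀ y, y ∈ D1 ↔ y ∈ orb P P' := fun y => by
    rw [hD1def, Finset.mem_filter]
    simp
  have memD2 : ∀ y, y ∈ D2 ↔ y ∈ orb P P'' := fun y => by
    rw [hD2def, Finset.mem_filter]
    simp
  have hD1 : D1.card = 9 := by
    have h1 := card_orb_of_semireg hsemireg h hP'ne
    rw [Nat.card_eq_fintype_card] at h1
    rw [← h1]
    exact (Fintype.card_of_subtype D1 (fun y => memD1 y)).symm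
  have hD2 : D2.card = 9 := by
    have h1 := card_orb_of_semireg hsemireg h hP''ne
    rw [Nat.card_eq_fintype_card] at h1
    rw [← h1]
    exact (Fintype.card_of_subtype D2 (fun y => memD2 y)).symm
  have hdisj : Disjoint D1 D2 := by
    rw [Finset.disjoint_left]
    intro y hy1 hy2
    rw [memD1] at hy1
    rw [memD2] at hy2
    obtain ⟨u, hu, rfl⟩ := hy1
    obtain ⟨v, hv, hv'⟩ := hy2
    have h1 : (u⁻¹ * v * s) • P' = P' := by
      rw [mul_smul, mul_smul, ← hP'', hv', inv_smul_smul]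
    have h2 : u⁻¹ * v * s ∈ Nrm P ⊓ Nrm P' :=
      Subgroup.mem_inf.mpr ⟨mul_mem (mul_mem (mem_nrm_of_mem (inv_mem hu)) (mem_nrm_of_mem hv)) hsN,
        (smul_eq_iff _ _).mp h1⟩
    apply hsB
    have h3 : s = (v⁻¹ * u) * (u⁻¹ * v * s) := by group
    rw [h3]
    exact mul_mem (hPleB _ (mul_mem (inv_mem hv) hu)) (hQleB _ h2)
  have hΔ : ∀ x, Adj P x ↔ x ∈ D1 ∨ x ∈ D2 := by
    intro x
    rw [memD1, memD2]
    constructor
    · intro hx
      obtain ⟨n, hn, rfl⟩ := hadj_trans hadj hx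
      rcases hcover n hn with hb | hb
      · left
        exact Bsub_smul_base hb
      · right
        have h1 : (s⁻¹ * n) • P' ∈ orb P P' := Bsub_smul_base hb
        have h2 : s • ((s⁻¹ * n) • P') ∈ orb P (s • P') := smul_mem_orb_smul h1 hsN
        rw [← mul_smul, mul_inv_cancel_left, ← hP''] at h2
        exact h2
    · rintro (⟨u, hu, rfl⟩ | ⟨u, hu, rfl⟩)
      · exact (adj_smul_of_mem_nrm (mem_nrm_of_mem hu) P').mpr hadj
      · rw [adj_smul_of_mem_nrm (mem_nrm_of_mem hu) P'', hP'', adj_smul_of_mem_nrm hsN P']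
        exact hadj
  -- the matching
  have key : ∀ x : Sylow 3 G, x ∈ orb P P' → ∃ u, u ∈ (P : Subgroup G) ∧ u • P' = x :=
    fun x hx => hx
  obtain ⟨m, hmdef⟩ : ∃ m : Sylow 3 G → Sylow 3 G, m = fun x =>
      if hx : x ∈ orb P P' then (Classical.choose (key x hx)) • P'' else x := ⟨_, rfl⟩
  have hm_spec : ∀ u ∈ (P : Subgroup G), m (u • P') = u • P'' := by
    intro u hu
    have hx : u • P' ∈ orb P P' := smul_mem_orb hu
    have h1 : m (u • P') = (Classical.choose (key _ hx)) • P'' := by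
      rw [hmdef]
      simp only [dif_pos hx]
    obtain ⟨hc, hc'⟩ := Classical.choose_spec (key _ hx)
    rw [h1, smul_inj_of_semireg hsemireg hP'ne hc hu hc']
  have hm : ∀ x ∈ D1, m x ∈ D2 := by
    intro x hx
    rw [memD1] at hx
    obtain ⟨u, hu, rfl⟩ := hx
    rw [hm_spec u hu, memD2]
    exact smul_mem_orb hu
  have hminj : ∀ x ∈ D1, ∀ y ∈ D1, m x = m y → x = y := by
    intro x hx y hy hxy
    rw [memD1] at hx hy
    obtain ⟨u, hu, rfl⟩ := hx
    obtain ⟨v, hv, rfl⟩ := hy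
    rw [hm_spec u hu, hm_spec v hv] at hxy
    rw [smul_inj_of_semireg hsemireg hP''ne hu hv hxy]
  have hmadj : ∀ x ∈ D1, Adj x (m x) := by
    intro x hx
    rw [memD1] at hx
    obtain ⟨u, hu, rfl⟩ := hx
    rw [hm_spec u hu]
    exact (adj_smul u).mpr hadj'
  -- the two bits are well defined
  have L1 : ∀ w ∈ (P : Subgroup G), w ≠ 1 → ∀ w' ∈ (P : Subgroup G), w' ≠ 1 →
      (Adj P' (w • P') ↔ Adj P' (w' • P')) := by
    intro w hw hw1 w' hw' hw'1
    obtain ⟨q, hq, hqw⟩ := hQ_trans hadj hw hw1 hw' hw'1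
    have h1 : q • (w • P') = w' • P' := by
      have h2 : q • (w • P') = (q * w * q⁻¹) • (q • P') := by
        rw [← mul_smul, ← mul_smul]
        congr 1
        group
      rw [h2, hqw, hQP' q hq]
    have h2 : Adj (q • P') (q • (w • P')) ↔ Adj P' (w • P') := adj_smul q
    rw [hQP' q hq, h1] at h2
    exact h2.symm
  have L2 : ∀ w ∈ (P : Subgroup G), w ≠ 1 → ∀ w' ∈ (P : Subgroup G), w' ≠ 1 →
      (Adj P' (w • P'') ↔ Adj P' (w' • P'')) := by
    intro w hw hw1 w' hw' hw'1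
    obtain ⟨q, hq, hqw⟩ := hQ_trans hadj hw hw1 hw' hw'1
    have h1 : q • (w • P'') = w' • P'' := by
      have h2 : q • (w • P'') = (q * w * q⁻¹) • (q • P'') := by
        rw [← mul_smul, ← mul_smul]
        congr 1
        group
      rw [h2, hqw, hQP'' q hq]
    have h2 : Adj (q • P') (q • (w • P'')) ↔ Adj P' (w • P'') := adj_smul q
    rw [hQP' q hq, h1] at h2
    exact h2.symm
  have red1 : ∀ (u v : G) (X Y : Sylow 3 G), Adj (u • X) (v • Y) ↔ Adj X ((u⁻¹ * v) • Y) := by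
    intro u v X Y
    rw [adj_iff_smul_inv u X (v • Y), ← mul_smul]
  have red2 : ∀ w : G, Adj P'' (w • P'') ↔ Adj P' ((s⁻¹ * w * s) • P') := by
    intro w
    have e : (s⁻¹ * w * s) • P' = s⁻¹ • (w • (s • P')) := by rw [mul_smul, mul_smul]
    rw [e, hP'', adj_iff_smul_inv s P' (w • s • P')]
  have ha : ∀ x ∈ D1, ∀ y ∈ D1, ∀ x' ∈ D1, ∀ y' ∈ D1, x ≠ y → x' ≠ y' →
      (Adj x y ↔ Adj x' y') := by
    intro x hx y hy x' hx' y' hy' hxy hxy'
    rw [memD1] at hx hy hx' hy'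
    obtain ⟨u, hu, rfl⟩ := hx
    obtain ⟨v, hv, rfl⟩ := hy
    obtain ⟨u', hu', rfl⟩ := hx'
    obtain ⟨v', hv', rfl⟩ := hy'
    rw [red1 u v P' P', red1 u' v' P' P']
    refine L1 _ (mul_mem (inv_mem hu) hv) ?_ _ (mul_mem (inv_mem hu') hv') ?_
    · intro e
      apply hxy
      rw [inv_mul_eq_one.mp e]
    · intro e
      apply hxy'
      rw [inv_mul_eq_one.mp e]
  have ha' : ∀ x ∈ D1, ∀ y ∈ D1, ∀ x' ∈ D2, ∀ y' ∈ D2, x ≠ y → x' ≠ y' →
      (Adj x y ↔ Adj x' y') := by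
    intro x hx y hy x' hx' y' hy' hxy hxy'
    rw [memD1] at hx hy
    rw [memD2] at hx' hy'
    obtain ⟨u, hu, rfl⟩ := hx
    obtain ⟨v, hv, rfl⟩ := hy
    obtain ⟨u', hu', rfl⟩ := hx'
    obtain ⟨v', hv', rfl⟩ := hy'
    rw [red1 u v P' P', red1 u' v' P'' P'', red2]
    refine L1 _ (mul_mem (inv_mem hu) hv) ?_ _
      (conj_inv_mem_of_mem_nrm hsN (mul_mem (inv_mem hu') hv')) ?_
    · intro e
      apply hxy
      rw [inv_mul_eq_one.mp e]
    · intro e
      apply hxy'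
      rw [inv_mul_eq_one.mp (eq_one_of_conj_inv_eq_one e)]
  have hb : ∀ x ∈ D1, ∀ y ∈ D2, ∀ x' ∈ D1, ∀ y' ∈ D2, y ≠ m x → y' ≠ m x' →
      (Adj x y ↔ Adj x' y') := by
    intro x hx y hy x' hx' y' hy' hym hym'
    rw [memD1] at hx hx'
    rw [memD2] at hy hy'
    obtain ⟨u, hu, rfl⟩ := hx
    obtain ⟨v, hv, rfl⟩ := hy
    obtain ⟨u', hu', rfl⟩ := hx'
    obtain ⟨v', hv', rfl⟩ := hy'
    rw [hm_spec u hu] at hym
    rw [hm_spec u' hu'] at hym'
    rw [red1 u v P' P'', red1 u' v' P' P'']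
    refine L2 _ (mul_mem (inv_mem hu) hv) ?_ _ (mul_mem (inv_mem hu') hv') ?_
    · intro e
      apply hym
      rw [inv_mul_eq_one.mp e]
    · intro e
      apply hym'
      rw [inv_mul_eq_one.mp e]
  -- `B` preserves `D1`, `D2`; `s` swaps them
  have hBD1 : ∀ b ∈ Bsub P P', ∀ x ∈ D1, b • x ∈ D1 := fun b hb x hx =>
    (memD1 _).mpr (Bsub_smul_mem_orb hQP' ((memD1 x).mp hx) hb)
  have hBD2 : ∀ b ∈ Bsub P P', ∀ x ∈ D2, b • x ∈ D2 := fun b hb x hx =>
    (memD2 _).mpr (Bsub_smul_mem_orb hQP'' ((memD2 x).mp hx) hb)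
  have hsD1 : ∀ x ∈ D1, s • x ∈ D2 := by
    intro x hx
    rw [memD2, hP'']
    exact smul_mem_orb_smul ((memD1 x).mp hx) hsN
  have hs2 : (s * s) • P' ∈ orb P P' := by
    rcases hcover (s * s) (mul_mem hsN hsN) with hb | hb
    · exact Bsub_smul_base hb
    · exfalso
      apply hsB
      rwa [inv_mul_cancel_left] at hb
  have hsD2 : ∀ x ∈ D2, s • x ∈ D1 := by
    intro x hx
    rw [memD2] at hx
    rw [memD1]
    have h1 : s • x ∈ orb P (s • P'') := smul_mem_orb_smul hx hsN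
    obtain ⟨w, hw, hw'⟩ := h1
    have h2 : s • P'' = (s * s) • P' := by rw [hP'', mul_smul]
    rw [h2] at hw'
    rw [← hw']
    exact smul_mem_orb_of_mem hs2 hw
  have hΓ : ∀ w w', w ≠ P → ¬ Adj P w → w' ≠ P → ¬ Adj P w' →
      ((D1.filter (fun x => Adj w x)).card = (D1.filter (fun x => Adj w' x)).card ∧
       (D2.filter (fun x => Adj w x)).card = (D2.filter (fun x => Adj w' x)).card) ∨
      ((D1.filter (fun x => Adj w x)).card = (D2.filter (fun x => Adj w' x)).card ∧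
       (D2.filter (fun x => Adj w x)).card = (D1.filter (fun x => Adj w' x)).card) := by
    intro w w' hw hwa hw' hwa'
    obtain ⟨n, hn, rfl⟩ := hnonadj_trans hw hwa hw' hwa'
    rcases hcover n hn with hb | hb
    · left
      exact ⟨(card_filter_adj_smul n D1 D1 rfl (hBD1 n hb) w).symm,
        (card_filter_adj_smul n D2 D2 rfl (hBD2 n hb) w).symm⟩
    · right
      have hn1 : ∀ x ∈ D1, n • x ∈ D2 := by
        intro x hx
        have e : n • x = s • ((s⁻¹ * n) • x) := by rw [← mul_smul, mul_inv_cancel_left]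
        rw [e]
        exact hsD1 _ (hBD1 _ hb x hx)
      have hn2 : ∀ x ∈ D2, n • x ∈ D1 := by
        intro x hx
        have e : n • x = s • ((s⁻¹ * n) • x) := by rw [← mul_smul, mul_inv_cancel_left]
        rw [e]
        exact hsD2 _ (hBD2 _ hb x hx)
      exact ⟨(card_filter_adj_smul n D1 D2 (hD1.trans hD2.symm) hn1 w).symm,
        (card_filter_adj_smul n D2 D1 (hD2.trans hD1.symm) hn2 w).symm⟩
  -- the numerical data
  have hcard : Fintype.card (Sylow 3 G) = 55 := by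
    rw [← Nat.card_eq_fintype_card]
    exact card_sylow3 h
  have hdeg : ∀ x : Sylow 3 G, (Finset.univ.filter (fun y => Adj x y)).card = 18 := by
    intro x
    have h1 := hcard_adj x
    rw [Nat.card_eq_fintype_card] at h1
    rw [← h1]
    exact (Fintype.card_of_subtype _ (fun y => by simp)).symm
  have hμ' : ∀ x y : Sylow 3 G, x ≠ y → ¬ Adj x y →
      (Finset.univ.filter (fun w => Adj x w ∧ Adj y w)).card = μ := by
    intro x y hxy hna
    have h1 := hμ x y hxy hna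
    rw [Nat.card_eq_fintype_card] at h1
    rw [← h1]
    exact (Fintype.card_of_subtype _ (fun w => by simp)).symm
  obtain ⟨C1, C2⟩ := Cfsg.Agent.Lib.H5.M11U.abs_graph (Adj (G := G))
    (fun x y hxy => adj_comm.mp hxy) (adj_irrefl h) hcard hdeg μ hμ' P D1 D2 hD1 hD2 hdisj hΔ m hm
    hminj hmadj ha ha' hb hΓ
  refine ⟨?_, ?_, ?_⟩
  · intro u hu hu1
    have h1 : P' ∈ D1 := (memD1 _).mpr (mem_orb_self P P')
    have h2 : u • P' ∈ D1 := (memD1 _).mpr (smul_mem_orb hu)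
    exact C1 P' h1 (u • P') h2 (Ne.symm (hsemireg hP'ne hu hu1))
  · intro y hy hy1
    have hy2 : y ∈ D2 := by
      rcases (hΔ y).mp hy with h1 | h1
      · exact absurd ((memD1 y).mp h1) hy1
      · exact h1
    obtain ⟨v, hv, rfl⟩ := (memD2 y).mp hy2
    refine ⟨v • P', ⟨smul_mem_orb hv, (adj_smul v).mpr (adj_comm.mp hadj')⟩, ?_⟩
    rintro x' ⟨hx'1, hx'2⟩
    by_contra hne
    have hx'D : x' ∈ D1 := (memD1 _).mpr hx'1
    have h3 : v • P'' ≠ m x' := by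
      intro e
      apply hne
      have e2 : m x' = m (v • P') := by rw [← e, hm_spec v hv]
      exact hminj x' hx'D (v • P') ((memD1 _).mpr (smul_mem_orb hv)) e2
    exact C2 x' hx'D (v • P'') hy2 h3 (adj_comm.mp hx'2)
  · intro x hx
    have hxD : x ∈ D1 := (memD1 _).mpr hx
    refine ⟨m x, ⟨(hΔ _).mpr (Or.inr (hm x hxD)), ?_, hmadj x hxD⟩, ?_⟩
    · intro hmem
      exact Finset.disjoint_left.mp hdisj ((memD1 _).mpr hmem) (hm x hxD)
    · rintro y' ⟨hy'1, hy'2, hy'3⟩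
      by_contra hne
      have hy'D : y' ∈ D2 := by
        rcases (hΔ y').mp hy'1 with h1 | h1
        · exact absurd ((memD1 y').mp h1) hy'2
        · exact h1
      exact C2 x hxD y' hy'D hne hy'3

end Cfsg.Agent.Lib.H14.M11U
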