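import Mathlib
import Cfsg.Agent.Lib.H1.M11U.Defs
import Cfsg.Agent.Lib.H1.M11U.Base
import Cfsg.Agent.Lib.H9.M11SUB
import Cfsg.Agent.Lib.H15.M11MU
import Cfsg.Agent.Lib.H18.M11ST
import Cfsg.Agent.Lib.H19.M11LOCsig
import Cfsg.Agent.Lib.H19.M11CLOSElp
import Cfsg.Agent.Lib.H20.M11QC
import Cfsg.Agent.Lib.H26.M11QFIXsig
import Cfsg.Agent.Lib.H14.M11LPb

/-!
# S0420: integration chain (helper14)

Exact-signature versions (statements of `tools/blueprints/S0420_sigs.lean`) of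
`invol_count`, `Q_semiregular`, `Q_trans`, `local_prop`, `exists_clique`, `eq_one_of_fix_three`,
assembled from the landed cores of helpers 9, 15, 18, 19, 20, 26 and my `local_prop_core`.
-/

set_option autoImplicit false
open scoped Pointwise

universe u

namespace Cfsg.Agent.Lib.H14.M11U

open Cfsg.Agent.Lib.H1.M11U

variable {G : Type u} [Group G] [Finite G]

/-- (P3d) -/
theorem invol_count (h : Hyp G) {P P' : Sylow 3 G} (hadj : Adj P P') :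
    (∃! z, z ∈ Nrm P ⊓ Nrm P' ∧ orderOf z = 2) ∨ (∀ q ∈ Nrm P ⊓ Nrm P', q * q = 1) :=
  Cfsg.Agent.Lib.H20.M11U.invol_count_core h hadj
    (Cfsg.Agent.Lib.H26.M11U.exists_order3_normalizing h hadj)

/-- (P3 = QREG) -/
theorem Q_semiregular (h : Hyp G) {P P' : Sylow 3 G} (hadj : Adj P P') {q : G}
    (hq : q ∈ Nrm P ⊓ Nrm P') (hq1 : q ≠ 1) {v : G} (hv : v ∈ (P : Subgroup G)) (hv1 : v ≠ 1) :
    q * v * q⁻¹ ≠ v :=
  Cfsg.Agent.Lib.H20.M11U.Q_semiregular_core h hadj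
    (Cfsg.Agent.Lib.H18.M11U.exists_sylow2_ge h hadj) (invol_count h hadj)
    (Cfsg.Agent.Lib.H19.M11U.centralizer_eq h P)
    (fun S hS hS16 _ hzS hz2 hzc _ hv' hzv =>
      Cfsg.Agent.Lib.H19.M11U.central_invol_fpf h P S hS hS16 hzS hz2 hzc hv' hzv)
    hq hq1 hv hv1

/-- (QTRANS) -/
theorem Q_trans (h : Hyp G) {P P' : Sylow 3 G} (hadj : Adj P P') {u u' : G}
    (hu : u ∈ (P : Subgroup G)) (hu1 : u ≠ 1) (hu' : u' ∈ (P : Subgroup G)) (hu'1 : u' ≠ 1) :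
    ∃ q ∈ Nrm P ⊓ Nrm P', q * u * q⁻¹ = u' :=
  Cfsg.Agent.Lib.H20.M11U.Q_trans_core h hadj
    (fun hq hq1 _ hv hv1 => Q_semiregular h hadj hq hq1 hv hv1) hu hu1 hu' hu'1

/-- (LP = BRIDGE) -/
theorem local_prop (h : Hyp G) {P P' : Sylow 3 G} (hadj : Adj P P') :
    (∀ u ∈ (P : Subgroup G), u ≠ 1 → Adj P' (u • P')) ∧
    (∀ y, Adj P y → y ∉ orb P P' → ∃! x, x ∈ orb P P' ∧ Adj y x) ∧
    (∀ x ∈ orb P P', ∃! y, Adj P y ∧ y ∉ orb P P' ∧ Adj x y) :=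
  local_prop_core h
    (fun hne _ hu hu1 => Cfsg.Agent.Lib.H9.M11U.semireg h hne hu hu1)
    (fun hne => Cfsg.Agent.Lib.H9.M11U.card_inf_nrm h hne)
    (fun P => Cfsg.Agent.Lib.H9.M11U.card_adj h P)
    (fun h1 h2 => Cfsg.Agent.Lib.H9.M11U.adj_trans h h1 h2)
    (fun h1 h1' h2 h2' => Cfsg.Agent.Lib.H9.M11U.nonadj_trans h h1 h1' h2 h2')
    (fun hadj' _ _ hu hu1 hu' hu'1 => Q_trans h hadj' hu hu1 hu' hu'1)
    (Cfsg.Agent.Lib.H15.M11U.mu_const h) hadj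

/-- (CLOSE) -/
theorem exists_clique (h : Hyp G) :
    ∃ C : Set (Sylow 3 G), C.ncard = 10 ∧ (∀ x ∈ C, ∀ y ∈ C, x ≠ y → Adj x y) ∧
      ∀ x ∈ C, ∀ u ∈ (x : Subgroup G), ∀ y ∈ C, u • y ∈ C :=
  Cfsg.Agent.Lib.H19.M11U.exists_clique_of_local_prop h (fun hadj => local_prop h hadj)

/-- (ACT2) -/
theorem eq_one_of_fix_three (h : Hyp G) {x y : Sylow 3 G} (hadj : Adj x y) {u : G}
    (hu : u ∈ (x : Subgroup G)) (hu1 : u ≠ 1) {g : G} (hgx : g • x = x) (hgy : g • y = y)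
    (hguy : g • (u • y) = u • y) : g = 1 :=
  Cfsg.Agent.Lib.H18.M11U.eq_one_of_fix_three_core
    (fun hne _ hu' hu1' => Cfsg.Agent.Lib.H9.M11U.semireg h hne hu' hu1')
    (fun hadj' _ hq hq1 _ hv hv1 => Q_semiregular h hadj' hq hq1 hv hv1)
    (adj_irrefl h) hadj hu hu1 hgx hgy hguy

end Cfsg.Agent.Lib.H14.M11U
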