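import Mathlib
import Cfsg.Agent.S0434
import Cfsg.Agent.Lib.H14.M7920STRUCT
import Cfsg.Agent.Lib.H23.PermIrrA
import Cfsg.Agent.Lib.H24.CharOrth
import Cfsg.Agent.Lib.L0.CharOps

/-!
# S0420, piece R (helper14): a simple group of order 7920 has rank 3 on its 55 Sylow 3-subgroups

`π` = permutation character on `Sylow 3 G` (conjugation action).  From `structure_7920` (degrees
`1, 10, 10, 10, 45, 16, 16, 11, 44, 55` and the column of an element `y` of order 5), `π 1 = 55`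
(landed S0434), `π y = 0` (5 does not divide 144) and `⟨π, 1⟩ = 1` one gets `π = 1 + ψ_i + θ'`,
hence `⟨π, π⟩ = 3`: three orbits on pairs, i.e. three orbits of `N_G(P)` on `Sylow 3 G`.
-/

set_option autoImplicit false

namespace Cfsg.Agent.Lib.H14.M11

open Cfsg MulAction Cfsg.Agent.Lib.H23 Cfsg.Agent.Lib.H23.PermIrr Cfsg.Agent.Lib.H24
  Cfsg.Agent.Lib.L0
open scoped BigOperators ComplexConjugate
universe u

/-- Orbits of a transitive group on pairs correspond to orbits of a point stabiliser. -/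
theorem card_orbits_prod_eq {G X : Type*} [Group G] [MulAction G X] [IsPretransitive G X]
    (x₀ : X) :
    Nat.card (orbitRel.Quotient G (X × X)) =
      Nat.card (orbitRel.Quotient (stabilizer G x₀) X) := by
  symm
  refine Nat.card_congr (Equiv.ofBijective (Quotient.lift
    (fun y : X => (Quotient.mk'' (x₀, y) : orbitRel.Quotient G (X × X))) ?_) ⟨?_, ?_⟩)
  · intro y y' hyy'
    obtain ⟨h, rfl⟩ := (orbitRel_apply).mp hyy'
    apply Quotient.sound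
    refine (orbitRel_apply).mpr ⟨(h : G), ?_⟩
    have h1 : (h : G) • x₀ = x₀ := h.2
    change ((h : G) • x₀, (h : G) • y') = (x₀, h • y')
    rw [h1]
    rfl
  · intro q q' hqq'
    induction q using Quotient.inductionOn with | _ y => ?_
    induction q' using Quotient.inductionOn with | _ y' => ?_
    have h1 := Quotient.exact hqq'
    obtain ⟨g, hg⟩ := (orbitRel_apply).mp h1
    have hg' : (g • x₀, g • y') = (x₀, y) := hg
    have hg1 : g • x₀ = x₀ := congrArg Prod.fst hg'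
    have hg2 : g • y' = y := congrArg Prod.snd hg'
    apply Quotient.sound
    refine (orbitRel_apply).mpr ⟨⟨g, hg1⟩, ?_⟩
    exact hg2
  · intro q
    induction q using Quotient.inductionOn with | _ ab => ?_
    obtain ⟨a, b⟩ := ab
    obtain ⟨g, hg⟩ := exists_smul_eq G x₀ a
    refine ⟨Quotient.mk'' (g⁻¹ • b), ?_⟩
    apply Quotient.sound
    refine (orbitRel_apply).mpr ⟨g⁻¹, ?_⟩
    change (g⁻¹ • a, g⁻¹ • b) = (x₀, g⁻¹ • b)
    rw [← hg, inv_smul_smul]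

section perm
variable {G : Type*} [Group G]

theorem permChar_one_eq (X : Type*) [MulAction G X] :
    permChar (G := G) X 1 = (Nat.card X : ℂ) := by
  unfold permChar
  congr 1
  refine Nat.card_congr ⟨fun z => z.1, fun x => ⟨x, ?_⟩, fun _ => rfl, fun _ => rfl⟩
  rw [mem_fixedBy, one_smul]

theorem permChar_eq_zero (X : Type*) [MulAction G X] (g : G) (h : ∀ x : X, g • x ≠ x) :
    permChar (G := G) X g = 0 := by
  unfold permChar
  have : IsEmpty (fixedBy X g) := ⟨fun z => h z.1 (mem_fixedBy.mp z.2)⟩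
  rw [Nat.card_of_isEmpty, Nat.cast_zero]

end perm

/-- the sum over all ten irreducible characters, written out -/
theorem sum_irr_7920 {G : Type u} [Group G] [Fintype G] [Fintype (IrrCharacter G)]
    (T : IrrCharacter G) (hT : (T : G → ℂ) = 1)
    (ψ : Fin 3 → IrrCharacter G) (ψ₄ χ₁ χ₂ θ θ' φ : IrrCharacter G)
    (hall : ∀ ξ : IrrCharacter G, (ξ : G → ℂ) = 1 ∨ (∃ i, ξ = ψ i) ∨ ξ = ψ₄ ∨ ξ = χ₁ ∨ ξ = χ₂ ∨
      ξ = θ ∨ ξ = θ' ∨ ξ = φ)
    (hinj : Function.Injective ψ)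
    (hdist : (∀ i, ψ i ≠ ψ₄ ∧ ψ i ≠ χ₁ ∧ ψ i ≠ χ₂ ∧ ψ i ≠ θ ∧ ψ i ≠ θ' ∧ ψ i ≠ φ) ∧
        ψ₄ ≠ χ₁ ∧ ψ₄ ≠ χ₂ ∧ ψ₄ ≠ θ ∧ ψ₄ ≠ θ' ∧ ψ₄ ≠ φ ∧ χ₁ ≠ χ₂ ∧ χ₁ ≠ θ ∧ χ₁ ≠ θ' ∧ χ₁ ≠ φ ∧
        χ₂ ≠ θ ∧ χ₂ ≠ θ' ∧ χ₂ ≠ φ ∧ θ ≠ θ' ∧ θ ≠ φ ∧ θ' ≠ φ)
    (hne1 : (∀ i, (ψ i : G → ℂ) ≠ 1) ∧ (ψ₄ : G → ℂ) ≠ 1 ∧ (χ₁ : G → ℂ) ≠ 1 ∧ (χ₂ : G → ℂ) ≠ 1 ∧
        (θ : G → ℂ) ≠ 1 ∧ (θ' : G → ℂ) ≠ 1 ∧ (φ : G → ℂ) ≠ 1)
    {M : Type*} [AddCommMonoid M] (f : IrrCharacter G → M) :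
    ∑ ξ, f ξ = f T + (f (ψ 0) + (f (ψ 1) + (f (ψ 2) + (f ψ₄ + (f χ₁ + (f χ₂ + (f θ + (f θ' +
      f φ)))))))) := by
  classical
  obtain ⟨hd0, h45, h46, h47, h48, h49, h56, h57, h58, h59, h67, h68, h69, h78, h79, h89⟩ := hdist
  obtain ⟨hn0, hn4, hn5, hn6, hn7, hn8, hn9⟩ := hne1
  have hTne : ∀ ξ : IrrCharacter G, (ξ : G → ℂ) ≠ 1 → T ≠ ξ := by
    intro ξ hξ h
    apply hξ
    rw [← h, hT]
  have h01 : ψ 0 ≠ ψ 1 := hinj.ne (by decide)
  have h02 : ψ 0 ≠ ψ 2 := hinj.ne (by decide)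
  have h12 : ψ 1 ≠ ψ 2 := hinj.ne (by decide)
  have hnd : [T, ψ 0, ψ 1, ψ 2, ψ₄, χ₁, χ₂, θ, θ', φ].Nodup := by
    simp only [List.nodup_cons, List.mem_cons, List.not_mem_nil, or_false, not_or, List.nodup_nil,
      and_true, not_false_eq_true]
    exact ⟨⟨hTne _ (hn0 0), hTne _ (hn0 1), hTne _ (hn0 2), hTne _ hn4, hTne _ hn5, hTne _ hn6,
        hTne _ hn7, hTne _ hn8, hTne _ hn9⟩,
      ⟨h01, h02, (hd0 0).1, (hd0 0).2.1, (hd0 0).2.2.1, (hd0 0).2.2.2.1, (hd0 0).2.2.2.2.1,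
        (hd0 0).2.2.2.2.2⟩,
      ⟨h12, (hd0 1).1, (hd0 1).2.1, (hd0 1).2.2.1, (hd0 1).2.2.2.1, (hd0 1).2.2.2.2.1,
        (hd0 1).2.2.2.2.2⟩,
      ⟨(hd0 2).1, (hd0 2).2.1, (hd0 2).2.2.1, (hd0 2).2.2.2.1, (hd0 2).2.2.2.2.1,
        (hd0 2).2.2.2.2.2⟩,
      ⟨h45, h46, h47, h48, h49⟩, ⟨h56, h57, h58, h59⟩, ⟨h67, h68, h69⟩, ⟨h78, h79⟩, h89⟩
  have huniv : (Finset.univ : Finset (IrrCharacter G)) =
      [T, ψ 0, ψ 1, ψ 2, ψ₄, χ₁, χ₂, θ, θ', φ].toFinset := by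
    symm
    rw [Finset.eq_univ_iff_forall]
    intro ξ
    rw [List.mem_toFinset]
    rcases hall ξ with h | ⟨i, h⟩ | h | h | h | h | h | h
    · have : ξ = T := Subtype.ext (by rw [h, hT])
      simp [this]
    · fin_cases i <;> simp [h]
    all_goals simp [h]
  rw [huniv, List.sum_toFinset f hnd]
  simp only [List.map_cons, List.map_nil, List.sum_cons, List.sum_nil, add_zero]

/-- **Piece R**: a simple group of order 7920 has exactly three orbits on pairs of Sylow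
3-subgroups. -/
theorem rank3_sylow3 {G : Type u} [Group G] [Fintype G] [IsSimpleGroup G]
    (hG : Nat.card G = 7920) :
    Nat.card (orbitRel.Quotient G (Sylow 3 G × Sylow 3 G)) = 3 := by
  classical
  haveI : Fact (Nat.Prime 3) := ⟨by norm_num⟩
  haveI : Fintype (IrrCharacter G) := Fintype.ofFinite _
  haveI : Fintype (Sylow 3 G) := Fintype.ofFinite _
  obtain ⟨x, y, ψ, ψ₄, χ₁, χ₂, θ, θ', φ, hx, hCx, hCy, hall, hinj, hdist, hne1, hdeg, hvalx, hF5,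
    hvaly⟩ := Cfsg.Agent.Lib.H14.M7920.structure_7920 hG
  have hM11 : Cfsg.IsM11 G := ⟨inferInstance, hG⟩
  -- the permutation character
  set π : G → ℂ := fun g => permChar (Sylow 3 G) g with hπdef
  have hπ : IsCharacter G π := isCharacter_permChar (Sylow 3 G)
  -- number of Sylow 3-subgroups
  have hcard : Nat.card (Sylow 3 G) = 55 := by
    obtain ⟨P⟩ : Nonempty (Sylow 3 G) := inferInstance
    have hN := Cfsg.Agent.S0434.result hM11 P
    have hidx : Nat.card (Sylow 3 G) = (Subgroup.normalizer ((P : Subgroup G) : Set G)).index :=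
      Sylow.card_eq_index_normalizer P
    have hmul : Nat.card (Subgroup.normalizer ((P : Subgroup G) : Set G)) *
        (Subgroup.normalizer ((P : Subgroup G) : Set G)).index = 7920 := by
      rw [Subgroup.card_mul_index, hG]
    rw [hN] at hmul
    rw [hidx]
    omega
  have hπ1 : π 1 = 55 := by
    rw [hπdef]
    change permChar (Sylow 3 G) (1 : G) = 55
    rw [permChar_one_eq, hcard]
    norm_num
  -- y has order 5
  have hy1 : y ≠ 1 := by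
    intro h
    rw [h] at hCy
    have : Subgroup.centralizer ({1} : Set G) = ⊤ := by
      ext g
      simp [Subgroup.mem_centralizer_iff]
    rw [this, Subgroup.card_top, hG] at hCy
    norm_num at hCy
  have hoy : orderOf y = 5 := by
    have hmem : y ∈ Subgroup.centralizer ({y} : Set G) := by
      rw [Subgroup.mem_centralizer_iff]
      intro z hz
      rw [Set.mem_singleton_iff.mp hz]
    have h1 : orderOf (⟨y, hmem⟩ : Subgroup.centralizer ({y} : Set G)) ∣ 5 := by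
      rw [← hCy]
      exact orderOf_dvd_natCard _
    rw [Subgroup.orderOf_mk] at h1
    rcases (Nat.dvd_prime (by norm_num : Nat.Prime 5)).mp h1 with h | h
    · exact absurd (orderOf_eq_one_iff.mp h) hy1
    · exact h
  have hπy : π y = 0 := by
    rw [hπdef]
    change permChar (Sylow 3 G) y = 0
    apply permChar_eq_zero
    intro P hP
    have hmem : y ∈ stabilizer G P := mem_stabilizer_iff.mpr hP
    rw [Sylow.stabilizer_eq_normalizer] at hmem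
    have hN := Cfsg.Agent.S0434.result hM11 P
    have h1 : orderOf (⟨y, hmem⟩ : Subgroup.normalizer ((P : Subgroup G) : Set G)) ∣ 144 := by
      rw [← hN]
      exact orderOf_dvd_natCard _
    rw [Subgroup.orderOf_mk, hoy] at h1
    norm_num at h1
  -- multiplicities
  have hmex : ∀ ξ : IrrCharacter G, ∃ k : ℕ, classInner π (ξ : G → ℂ) = k := fun ξ =>
    classInner_char_irr_nat hπ ξ.2
  choose m hm using hmex
  have hexp : π = ∑ ξ : IrrCharacter G, classInner π (ξ : G → ℂ) • (ξ : G → ℂ) :=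
    classFunction_expansion π (isClassFunction_of_isCharacter hπ)
  -- the trivial character
  set T : IrrCharacter G := ⟨1, Cfsg.Agent.Lib.L0.isIrrCharacter_one⟩ with hTdef
  have hT : (T : G → ℂ) = 1 := rfl
  have hsplit : ∀ {M : Type} [AddCommMonoid M] (f : IrrCharacter G → M),
      ∑ ξ, f ξ = f T + (f (ψ 0) + (f (ψ 1) + (f (ψ 2) + (f ψ₄ + (f χ₁ + (f χ₂ + (f θ + (f θ' +
        f φ)))))))) := fun f =>
    sum_irr_7920 T hT ψ ψ₄ χ₁ χ₂ θ θ' φ hall hinj hdist hne1 f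
  -- ⟨π, 1⟩ = 1
  have hmT : m T = 1 := by
    have h1 : classInner π (1 : G → ℂ) = (Nat.card (orbitRel.Quotient G (Sylow 3 G)) : ℂ) :=
      classInner_permChar_one (Sylow 3 G)
    have h2 : Nat.card (orbitRel.Quotient G (Sylow 3 G)) = 1 := by
      haveI : Subsingleton (orbitRel.Quotient G (Sylow 3 G)) :=
        (pretransitive_iff_subsingleton_quotient G (Sylow 3 G)).mp inferInstance
      haveI : Nonempty (orbitRel.Quotient G (Sylow 3 G)) := by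
        obtain ⟨P⟩ : Nonempty (Sylow 3 G) := inferInstance
        exact ⟨Quotient.mk'' P⟩
      exact Nat.card_unique
    have h3 := hm T
    rw [hT, h1, h2] at h3
    exact_mod_cast h3.symm
  -- evaluation at 1 and at y
  obtain ⟨hdψ, hdψ₄, hdχ₁, hdχ₂, hdθ, hdθ', hdφ⟩ := hdeg
  obtain ⟨hyψ, hyψ₄, hyχ₁, hyχ₂, hyθ, hyθ', hyφ⟩ := hvaly
  have e1 : (55 : ℂ) = (m T : ℂ) * 1 + ((m (ψ 0) : ℂ) * 10 + ((m (ψ 1) : ℂ) * 10 +
      ((m (ψ 2) : ℂ) * 10 + ((m ψ₄ : ℂ) * 45 + ((m χ₁ : ℂ) * 16 + ((m χ₂ : ℂ) * 16 +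
      ((m θ : ℂ) * 11 + ((m θ' : ℂ) * 44 + (m φ : ℂ) * 55)))))))) := by
    have h := congrFun hexp 1
    rw [Finset.sum_apply, hπ1] at h
    simp only [Pi.smul_apply, smul_eq_mul, hm] at h
    rw [hsplit (fun ξ => (m ξ : ℂ) * (ξ : G → ℂ) 1)] at h
    simp only [hdψ, hdψ₄, hdχ₁, hdχ₂, hdθ, hdθ', hdφ] at h
    rw [hT, Pi.one_apply] at h
    exact h
  have ey : (0 : ℂ) = (m T : ℂ) * 1 + ((m (ψ 0) : ℂ) * 0 + ((m (ψ 1) : ℂ) * 0 +
      ((m (ψ 2) : ℂ) * 0 + ((m ψ₄ : ℂ) * 0 + ((m χ₁ : ℂ) * 1 + ((m χ₂ : ℂ) * 1 +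
      ((m θ : ℂ) * 1 + ((m θ' : ℂ) * (-1) + (m φ : ℂ) * 0)))))))) := by
    have h := congrFun hexp y
    rw [Finset.sum_apply, hπy] at h
    simp only [Pi.smul_apply, smul_eq_mul, hm] at h
    rw [hsplit (fun ξ => (m ξ : ℂ) * (ξ : G → ℂ) y)] at h
    simp only [hyψ, hyψ₄, hyχ₁, hyχ₂, hyθ, hyθ', hyφ] at h
    rw [hT, Pi.one_apply] at h
    exact h
  have e1' : 55 = m T + (m (ψ 0) * 10 + (m (ψ 1) * 10 + (m (ψ 2) * 10 + (m ψ₄ * 45 +
      (m χ₁ * 16 + (m χ₂ * 16 + (m θ * 11 + (m θ' * 44 + m φ * 55)))))))) := by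
    have : ((55 : ℕ) : ℂ) = ((m T + (m (ψ 0) * 10 + (m (ψ 1) * 10 + (m (ψ 2) * 10 + (m ψ₄ * 45 +
      (m χ₁ * 16 + (m χ₂ * 16 + (m θ * 11 + (m θ' * 44 + m φ * 55)))))))) : ℕ) : ℂ) := by
      push_cast
      rw [mul_one] at e1
      exact e1
    exact_mod_cast this
  have ey' : m θ' = m T + m χ₁ + m χ₂ + m θ := by
    have : ((m θ' : ℕ) : ℂ) = ((m T + m χ₁ + m χ₂ + m θ : ℕ) : ℂ) := by
      push_cast
      linear_combination ey
    exact_mod_cast this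
  -- solve
  have s8 : m θ' = 1 := by omega
  have s5 : m χ₁ = 0 := by omega
  have s6 : m χ₂ = 0 := by omega
  have s7 : m θ = 0 := by omega
  have s4 : m ψ₄ = 0 := by omega
  have s9 : m φ = 0 := by omega
  have s0 : m (ψ 0) + m (ψ 1) + m (ψ 2) = 1 := by omega
  have ssq : m (ψ 0) * m (ψ 0) + m (ψ 1) * m (ψ 1) + m (ψ 2) * m (ψ 2) = 1 := by
    have a1 : m (ψ 0) ≤ 1 := by omega
    have a2 : m (ψ 1) ≤ 1 := by omega
    have a3 : m (ψ 2) ≤ 1 := by omega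
    interval_cases h0 : m (ψ 0) <;> interval_cases h1 : m (ψ 1) <;>
      interval_cases h2 : m (ψ 2) <;> omega
  -- ⟨π, π⟩ = Σ m²
  have hpp : classInner π π = ∑ ξ : IrrCharacter G, (m ξ : ℂ) * (m ξ : ℂ) := by
    have hsym : ∀ ξ : IrrCharacter G, classInner (ξ : G → ℂ) π = (m ξ : ℂ) := by
      intro ξ
      rw [← classInner_conj_symm, hm ξ, Complex.conj_natCast]
    calc classInner π π
        = classInner (∑ ξ : IrrCharacter G, classInner π (ξ : G → ℂ) • (ξ : G → ℂ)) π :=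
          congrArg (fun f => classInner f π) hexp
      _ = ∑ ξ : IrrCharacter G, (m ξ : ℂ) * (m ξ : ℂ) := by
          rw [classInner_sum_left]
          refine Finset.sum_congr rfl fun ξ _ => ?_
          rw [classInner_smul_left, hm ξ, hsym ξ]
  have hpp' : classInner π π = (Nat.card (orbitRel.Quotient G (Sylow 3 G × Sylow 3 G)) : ℂ) :=
    classInner_permChar_permChar (Sylow 3 G) (Sylow 3 G)
  have hfin : ((Nat.card (orbitRel.Quotient G (Sylow 3 G × Sylow 3 G)) : ℕ) : ℂ) = ((3 : ℕ) : ℂ) := by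
    rw [← hpp', hpp, hsplit (fun ξ => (m ξ : ℂ) * (m ξ : ℂ))]
    have : ((m T : ℂ) * (m T : ℂ) + ((m (ψ 0) : ℂ) * (m (ψ 0) : ℂ) + ((m (ψ 1) : ℂ) * (m (ψ 1) : ℂ) +
        ((m (ψ 2) : ℂ) * (m (ψ 2) : ℂ) + ((m ψ₄ : ℂ) * (m ψ₄ : ℂ) + ((m χ₁ : ℂ) * (m χ₁ : ℂ) +
        ((m χ₂ : ℂ) * (m χ₂ : ℂ) + ((m θ : ℂ) * (m θ : ℂ) + ((m θ' : ℂ) * (m θ' : ℂ) +
        (m φ : ℂ) * (m φ : ℂ)))))))))) =
        ((m T * m T + (m (ψ 0) * m (ψ 0) + m (ψ 1) * m (ψ 1) + m (ψ 2) * m (ψ 2)) + m ψ₄ * m ψ₄ +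
          m χ₁ * m χ₁ + m χ₂ * m χ₂ + m θ * m θ + m θ' * m θ' + m φ * m φ : ℕ) : ℂ) := by
      push_cast
      ring
    rw [this, ssq, hmT, s4, s5, s6, s7, s8, s9]
  exact_mod_cast hfin

/-- Stabiliser form: `N_G(P)` has exactly three orbits on `Sylow 3 G`. -/
theorem card_orbits_stabilizer_sylow3 {G : Type u} [Group G] [Fintype G] [IsSimpleGroup G]
    (hG : Nat.card G = 7920) (P : Sylow 3 G) :
    Nat.card (orbitRel.Quotient (stabilizer G P) (Sylow 3 G)) = 3 := by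
  haveI : Fact (Nat.Prime 3) := ⟨by norm_num⟩
  rw [← card_orbits_prod_eq P]
  exact rank3_sylow3 hG

end Cfsg.Agent.Lib.H14.M11
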