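import Mathlib
import Cfsg.Prelude.Def_Sporadic
import Cfsg.Agent.Lib.H14.M11R

/-!
# S0420, piece R in the exact signature of `tools/blueprints/S0420_sigs.lean` (helper14)
-/

set_option autoImplicit false

universe u

namespace Cfsg.Agent.Lib.H14.M11U

variable {G : Type u} [Group G] [Finite G]

/-- (R) a simple group of order 7920 has rank 3 on its Sylow 3-subgroups. -/
theorem rank3_of_isM11 (hG : Cfsg.IsM11 G) :
    Nat.card (MulAction.orbitRel.Quotient G (Sylow 3 G × Sylow 3 G)) = 3 := by
  obtain ⟨hs, hcard⟩ := hG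
  haveI := hs
  haveI : Fintype G := Fintype.ofFinite G
  exact Cfsg.Agent.Lib.H14.M11.rank3_sylow3 hcard

end Cfsg.Agent.Lib.H14.M11U
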