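import Cfsg.Agent.Lib.H28.M24OctadA8
import Cfsg.Agent.Lib.H28.M24Simple
import Cfsg.Agent.Lib.H14.A8Sylow

set_option autoImplicit false

namespace Cfsg.Agent.Lib.H14.M24Sylow

open Cfsg Cfsg.Agent.Lib.H28
open scoped Pointwise

theorem le_normalizer_of_conj {H : Type*} [Group H] {L N : Subgroup H}
    (h : ∀ l ∈ L, ∀ n ∈ N, l * n * l⁻¹ ∈ N) : L ≤ Subgroup.normalizer (N : Set H) := by
  intro l hl
  rw [Subgroup.mem_normalizer_iff]
  intro n
  constructor
  · exact h l hl n
  · intro hn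
    have := h l⁻¹ (L.inv_mem hl) _ hn
    simpa [mul_assoc] using this

theorem card_sylow (S : Sylow 2 ↥M24) : Nat.card (S : Subgroup ↥M24) = 1024 := by
  rw [Sylow.card_eq_multiplicity, card_M24]
  have h : (244823040 : ℕ) = 2 ^ 10 * 239085 := by norm_num
  rw [h, Nat.factorization_mul (by norm_num) (by norm_num), Nat.Prime.factorization_pow Nat.prime_two]
  have h2 : (239085 : ℕ).factorization 2 = 0 := Nat.factorization_eq_zero_of_not_dvd (by norm_num)
  simp [h2]

theorem exists_fixed_octad (S : Sylow 2 ↥M24) :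
    ∃ o ∈ octads, ∀ s ∈ (S : Subgroup ↥M24), (s : Equiv.Perm GolayPt) • o = o := by
  have hS : IsPGroup 2 (S : Subgroup ↥M24) := S.isPGroup'
  have hcard : Nat.card octSub = 759 := by
    have := ncard_octads
    rw [← Nat.card_coe_set_eq] at this
    exact this
  obtain ⟨⟨o, ho⟩, hfix⟩ := hS.nonempty_fixed_point_of_prime_not_dvd_card octSub
    (by rw [hcard]; norm_num)
  refine ⟨o, ho, fun s hs => ?_⟩
  have := hfix ⟨s, hs⟩
  exact congrArg Subtype.val this

theorem conj_mem_fixing {o : Finset GolayPt} {h k : Equiv.Perm GolayPt} (hh : h • o = o)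
    (hk : k ∈ fixingSubgroup (Equiv.Perm GolayPt) (o : Set GolayPt)) :
    h * k * h⁻¹ ∈ fixingSubgroup (Equiv.Perm GolayPt) (o : Set GolayPt) := by
  rw [mem_fixingSubgroup_iff] at hk ⊢
  intro x hx
  rw [Equiv.Perm.smul_def, Equiv.Perm.mul_apply, Equiv.Perm.mul_apply]
  have hx' : h⁻¹ x ∈ (o : Set GolayPt) := by
    rw [Finset.mem_coe]
    have h1 : h (h⁻¹ x) ∈ o := by
      rw [Equiv.Perm.inv_def, Equiv.apply_symm_apply]; exact Finset.mem_coe.1 hx
    exact (mem_iff_of_smul_finset_eq hh _).1 h1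
  have := hk _ hx'
  rw [Equiv.Perm.smul_def] at this
  rw [this, Equiv.Perm.inv_def, Equiv.apply_symm_apply]

/-- The pointwise stabilizer of an octad fixed by a Sylow 2-subgroup lies in that subgroup. -/
theorem fixing_le_sylow (S : Sylow 2 ↥M24) {o : Finset GolayPt} (ho : o ∈ octads)
    (hfix : ∀ s ∈ (S : Subgroup ↥M24), (s : Equiv.Perm GolayPt) • o = o)
    (k : Equiv.Perm GolayPt) (hk : k ∈ M24 ⊓ fixingSubgroup (Equiv.Perm GolayPt) (o : Set GolayPt)) :
    (⟨k, (Subgroup.mem_inf.1 hk).1⟩ : ↥M24) ∈ (S : Subgroup ↥M24) := by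
  set K' : Subgroup ↥M24 := (fixingSubgroup (Equiv.Perm GolayPt) (o : Set GolayPt)).comap M24.subtype
    with hK'
  have hK2 : IsPGroup 2 K' := by
    intro x
    refine ⟨1, ?_⟩
    have hx : (x : ↥M24).1 ∈ M24 ⊓ fixingSubgroup (Equiv.Perm GolayPt) (o : Set GolayPt) :=
      Subgroup.mem_inf.2 ⟨x.1.2, x.2⟩
    have := (octad_pointwise_stabilizer ho).2 _ hx
    apply Subtype.ext
    apply Subtype.ext
    simpa [pow_two] using this
  have hSN : (S : Subgroup ↥M24) ≤ Subgroup.normalizer (K' : Set ↥M24) := by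
    apply le_normalizer_of_conj
    intro l hl n hn
    rw [hK', Subgroup.mem_comap] at hn ⊢
    have := conj_mem_fixing (hfix l hl) hn
    simpa using this
  have hsup : IsPGroup 2 ((S : Subgroup ↥M24) ⊔ K' : Subgroup ↥M24) :=
    IsPGroup.to_sup_of_normal_right' S.isPGroup' hK2 hSN
  have heq := S.is_maximal' hsup le_sup_left
  have : K' ≤ (S : Subgroup ↥M24) := by
    rw [← heq]; exact le_sup_right
  apply this
  rw [hK', Subgroup.mem_comap]
  exact (Subgroup.mem_inf.1 hk).2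


/-- The octad fixed by a Sylow 2-subgroup is unique. -/
theorem fixed_octad_unique (S : Sylow 2 ↥M24) {o o' : Finset GolayPt} (ho : o ∈ octads) (ho' : o' ∈ octads)
    (hfix : ∀ s ∈ (S : Subgroup ↥M24), (s : Equiv.Perm GolayPt) • o = o)
    (hfix' : ∀ s ∈ (S : Subgroup ↥M24), (s : Equiv.Perm GolayPt) • o' = o') : o' = o := by
  by_contra hne
  have hnsub : ¬ o' ⊆ o := by
    intro hsub
    apply hne
    apply Finset.eq_of_subset_of_card_le hsub
    rw [ho.2, ho'.2]
  rw [Finset.not_subset] at hnsub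
  obtain ⟨p, hp', hp⟩ := hnsub
  have hsub : oᶜ ⊆ o' := by
    intro q hq
    rw [Finset.mem_compl] at hq
    obtain ⟨k, hk, hkp⟩ := octad_K_trans ho hp hq
    have hkS := fixing_le_sylow S ho hfix k hk
    have h1 : k • o' = o' := hfix' _ hkS
    rw [← hkp]
    exact (mem_iff_of_smul_finset_eq h1 p).2 hp'
  have hc := Finset.card_le_card hsub
  rw [Finset.card_compl, card_GolayPt, ho.2, ho'.2] at hc
  omega


/-- The normalizer of a Sylow 2-subgroup fixes the octad fixed by the subgroup. -/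
theorem normalizer_fixes_octad (S : Sylow 2 ↥M24) {o : Finset GolayPt} (ho : o ∈ octads)
    (hfix : ∀ s ∈ (S : Subgroup ↥M24), (s : Equiv.Perm GolayPt) • o = o)
    (n : ↥M24) (hn : n ∈ Subgroup.normalizer ((S : Subgroup ↥M24) : Set ↥M24)) :
    (n : Equiv.Perm GolayPt) • o = o := by
  apply fixed_octad_unique S ho (smul_mem_octads n.2 ho) hfix
  intro s hs
  rw [Subgroup.mem_normalizer_iff] at hn
  have h1 : n⁻¹ * s * n ∈ (S : Subgroup ↥M24) := by
    rw [hn]
    have : n * (n⁻¹ * s * n) * n⁻¹ = s := by group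
    rw [this]; exact hs
  have h2 := hfix _ h1
  have h3 : ((n⁻¹ * s * n : ↥M24) : Equiv.Perm GolayPt) =
      (n : Equiv.Perm GolayPt)⁻¹ * (s : Equiv.Perm GolayPt) * (n : Equiv.Perm GolayPt) := by
    simp
  rw [h3, mul_smul, mul_smul] at h2
  rw [inv_smul_eq_iff] at h2
  exact h2

theorem self_normalizing (S : Sylow 2 ↥M24) :
    Subgroup.normalizer ((S : Subgroup ↥M24) : Set ↥M24) = (S : Subgroup ↥M24) := by
  apply le_antisymm _ Subgroup.le_normalizer
  obtain ⟨o, ho, hfix⟩ := exists_fixed_octad S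
  intro n hn
  have hno := normalizer_fixes_octad S ho hfix n hn
  -- the octad stabilizer and the restriction map
  set Hs : Subgroup (Equiv.Perm GolayPt) := M24 ⊓ MulAction.stabilizer (Equiv.Perm GolayPt) o with hHs
  set ρ := restrictHom M24 o with hρ
  let ι : ↥Hs →* ↥M24 := Subgroup.inclusion (inf_le_left : Hs ≤ M24)
  have hι : Function.Injective ι := Subgroup.inclusion_injective _
  set SH : Subgroup ↥Hs := (S : Subgroup ↥M24).comap ι with hSH
  -- every element of S comes from SH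
  have hlift : ∀ s : ↥M24, (s : Equiv.Perm GolayPt) • o = o → ∃ x : ↥Hs, ι x = s := by
    intro s hs
    exact ⟨⟨s.1, Subgroup.mem_inf.2 ⟨s.2, MulAction.mem_stabilizer_iff.2 hs⟩⟩, rfl⟩
  have hcardSH : Nat.card SH = 1024 := by
    rw [← card_sylow S]
    apply Nat.card_congr
    refine Equiv.ofBijective (fun x => ⟨ι x.1, x.2⟩) ⟨?_, ?_⟩
    · intro x y hxy
      apply Subtype.ext
      apply hι
      exact congrArg Subtype.val hxy
    · intro s
      obtain ⟨x, hx⟩ := hlift s.1 (hfix _ s.2)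
      refine ⟨⟨x, ?_⟩, Subtype.ext hx⟩
      rw [hSH, Subgroup.mem_comap, hx]; exact s.2
  -- the kernel lies in SH
  have hker : ρ.ker ≤ SH := by
    intro x hx
    rw [mem_ker_restrictHom] at hx
    have hxK : x.1 ∈ M24 ⊓ fixingSubgroup (Equiv.Perm GolayPt) (o : Set GolayPt) := by
      rw [Subgroup.mem_inf, mem_fixingSubgroup_iff]
      exact ⟨(Subgroup.mem_inf.1 x.2).1, fun y hy => hx y (Finset.mem_coe.1 hy)⟩
    have := fixing_le_sylow S ho hfix x.1 hxK
    rw [hSH, Subgroup.mem_comap]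
    exact this
  have hcardker : Nat.card ρ.ker = 16 := by
    rw [card_ker_restrictHom, (octad_pointwise_stabilizer ho).1]
  -- the image
  set Q : Subgroup (Equiv.Perm ↥o) := SH.map ρ with hQ
  have hQalt : Q ≤ alternatingGroup ↥o := by
    rw [← range_restrictHom_octad ho]
    rintro _ ⟨x, -, rfl⟩
    exact ⟨x, rfl⟩
  have hcardQ : Nat.card Q = 64 := by
    have h1 := card_eq_card_range_mul_card_ker (ρ.comp SH.subtype)
    have h2 : (ρ.comp SH.subtype).range = Q := by
      rw [MonoidHom.range_comp, Subgroup.range_subtype]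
    have h3 : Nat.card (ρ.comp SH.subtype).ker = 16 := by
      rw [← hcardker]
      have : (ρ.comp SH.subtype).ker = ρ.ker.subgroupOf SH := rfl
      rw [this]
      exact Nat.card_congr (Subgroup.subgroupOfEquivOfLe hker).toEquiv
    rw [h2, h3, hcardSH] at h1
    omega
  -- the element n
  obtain ⟨n', hn'⟩ := hlift n hno
  have hnalt : ρ n' ∈ alternatingGroup ↥o := by
    rw [← range_restrictHom_octad ho]
    exact ⟨n', rfl⟩
  have hconj : ∀ m : ↥Hs, ι m ∈ Subgroup.normalizer ((S : Subgroup ↥M24) : Set ↥M24) →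
      ∀ q ∈ Q, ρ m * q * (ρ m)⁻¹ ∈ Q := by
    rintro m hm _ ⟨x, hx, rfl⟩
    refine ⟨m * x * m⁻¹, ?_, by simp⟩
    change ι x ∈ (S : Subgroup ↥M24) at hx
    change ι (m * x * m⁻¹) ∈ (S : Subgroup ↥M24)
    rw [map_mul, map_mul, map_inv]
    exact (Subgroup.mem_normalizer_iff.1 hm _).1 hx
  have hnorm : ρ n' ∈ Subgroup.normalizer (Q : Set (Equiv.Perm ↥o)) := by
    rw [Subgroup.mem_normalizer_iff]
    intro q
    constructor
    · exact hconj n' (by rw [hn']; exact hn) q
    · intro hq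
      have h1 := hconj n'⁻¹ (by rw [map_inv, hn']; exact Subgroup.inv_mem _ hn) _ hq
      rw [map_inv] at h1
      have : (ρ n')⁻¹ * (ρ n' * q * (ρ n')⁻¹) * (ρ n')⁻¹⁻¹ = q := by group
      rwa [this] at h1
  have h8 : Fintype.card ↥o = 8 := by rw [Fintype.card_coe]; exact ho.2
  have hmem := Cfsg.Agent.Lib.H14.A8Sylow.alt_card8_self_normalizing h8 Q hQalt hcardQ (ρ n') hnalt hnorm
  obtain ⟨x, hx, hxn⟩ := hmem
  have hk : x⁻¹ * n' ∈ ρ.ker := by
    rw [MonoidHom.mem_ker, map_mul, map_inv, hxn, inv_mul_cancel]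
  have h1 : x * (x⁻¹ * n') ∈ SH := SH.mul_mem hx (hker hk)
  rw [mul_inv_cancel_left, hSH, Subgroup.mem_comap, hn'] at h1
  exact h1

end Cfsg.Agent.Lib.H14.M24Sylow
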