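import Cfsg.Agent.Lib.H28.M24OctadA8
import Cfsg.Agent.Lib.H28.M24Simple
import Cfsg.Agent.Lib.H14.A8Sylow
import Cfsg.Agent.Lib.H14.M24Sylow
import Cfsg.Agent.Lib.H14.AGL4

set_option autoImplicit false

namespace Cfsg.Agent.Lib.H14.M24Transv

open Cfsg Cfsg.Agent.Lib.H28
open scoped Pointwise

/-- every octad has a disjoint octad -/
theorem exists_disjoint_octad {o : Finset GolayPt} (ho : o ∈ octads) :
    ∃ o' ∈ octads, o ∩ o' = ∅ := by
  have h := card_octads_meet_card_zero golayCode_isAbsGolay ho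
  have hne : ((blocksF octads).filter (fun o' => (o ∩ o').card = 0)).Nonempty := by
    rw [← Finset.card_pos]
    unfold octads
    rw [h]; norm_num
  obtain ⟨o', ho'⟩ := hne
  rw [Finset.mem_filter, mem_blocksF, Finset.card_eq_zero] at ho'
  exact ⟨o', ho'.1, ho'.2⟩

/-- the stabilizer of an outside point in the octad stabilizer acts faithfully on the pointwise
stabilizer -/
theorem faithful {o : Finset GolayPt} (ho : o ∈ octads) {p : GolayPt} (hp : p ∉ o)
    (l : Equiv.Perm GolayPt) (hl : l ∈ M24) (hlp : l p = p)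
    (hcomm : ∀ k ∈ M24 ⊓ fixingSubgroup (Equiv.Perm GolayPt) (o : Set GolayPt), l * k = k * l) :
    l = 1 := by
  have hfix : ∀ q, q ∉ o → l q = q := by
    intro q hq
    obtain ⟨k, hk, hkp⟩ := octad_K_trans ho hp hq
    have h1 := congrArg (fun f : Equiv.Perm GolayPt => f p) (hcomm k hk)
    simp only [Equiv.Perm.mul_apply] at h1
    rw [hkp, hlp, hkp] at h1
    exact h1
  obtain ⟨o', ho', hdisj⟩ := exists_disjoint_octad ho
  have hmem : ∀ x, x ∈ o' → x ∉ o := by
    intro x hx hxo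
    have : x ∈ o ∩ o' := Finset.mem_inter.2 ⟨hxo, hx⟩
    rw [hdisj] at this
    exact absurd this (Finset.notMem_empty x)
  -- a point outside both
  have hex : ∃ r, r ∉ o ∧ r ∉ o' := by
    by_contra hcon
    push Not at hcon
    have hsub : (Finset.univ : Finset GolayPt) ⊆ o ∪ o' := by
      intro r _
      by_cases hr : r ∈ o
      · exact Finset.mem_union_left _ hr
      · exact Finset.mem_union_right _ (hcon r hr)
    have h1 := Finset.card_le_card hsub
    have h2 := Finset.card_union_le o o'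
    rw [Finset.card_univ, card_GolayPt] at h1
    rw [ho.2, ho'.2] at h2
    omega
  obtain ⟨r, hro, hro'⟩ := hex
  apply octad_K_free ho' _ hro' (hfix r hro)
  rw [Subgroup.mem_inf, mem_fixingSubgroup_iff]
  refine ⟨hl, fun x hx => ?_⟩
  rw [Equiv.Perm.smul_def]
  exact hfix x (hmem x (Finset.mem_coe.1 hx))

/-- an element of `M24` commuting with a nonidentity element of the pointwise stabilizer of an octad
stabilizes the octad -/
theorem centralizer_le_stabilizer {o : Finset GolayPt} (ho : o ∈ octads)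
    (z : Equiv.Perm GolayPt)
    (hz : z ∈ M24 ⊓ fixingSubgroup (Equiv.Perm GolayPt) (o : Set GolayPt)) (hz1 : z ≠ 1)
    (g : Equiv.Perm GolayPt) (hg : g * z = z * g) : g • o = o := by
  have hzfix : ∀ x, x ∈ o → z x = x := by
    intro x hx
    have := (mem_fixingSubgroup_iff _).1 (Subgroup.mem_inf.1 hz).2 x (Finset.mem_coe.2 hx)
    rwa [Equiv.Perm.smul_def] at this
  have hzfree : ∀ x, z x = x → x ∈ o := by
    intro x hx
    by_contra hxo
    exact hz1 (octad_K_free ho hz hxo hx)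
  have key : ∀ g : Equiv.Perm GolayPt, g * z = z * g → ∀ x, x ∈ o → g x ∈ o := by
    intro g hg x hx
    apply hzfree
    have h1 := congrArg (fun f : Equiv.Perm GolayPt => f x) hg
    simp only [Equiv.Perm.mul_apply] at h1
    rw [hzfix x hx] at h1
    exact h1.symm
  apply smul_finset_eq_of_mem_iff
  intro x
  constructor
  · intro hx
    have hg' : g⁻¹ * z = z * g⁻¹ := by
      have : g⁻¹ * (g * z) * g⁻¹ = g⁻¹ * (z * g) * g⁻¹ := by rw [hg]
      simpa [mul_assoc] using this.symm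
    have := key g⁻¹ hg' _ hx
    rwa [Equiv.Perm.inv_def, Equiv.symm_apply_apply] at this
  · exact key g hg x


/-- the centralizer in `M24` of a nonidentity element of the pointwise stabilizer of an octad is
isomorphic to the centralizer of a transvection in `SL₅(2)` -/
theorem centralizer_equiv {o : Finset GolayPt} (ho : o ∈ octads) (z : Equiv.Perm GolayPt)
    (hzK : z ∈ M24 ⊓ fixingSubgroup (Equiv.Perm GolayPt) (o : Set GolayPt)) (hz1' : z ≠ 1)
    (s : Matrix.SpecialLinearGroup (Fin 5) (ZMod 2))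
    (hs : (s : Matrix (Fin 5) (Fin 5) (ZMod 2)) = Matrix.transvection 0 1 1) :
    Nonempty (↥(Subgroup.centralizer ({⟨z, (Subgroup.mem_inf.1 hzK).1⟩} : Set ↥M24)) ≃*
      ↥(Subgroup.centralizer ({s} : Set (Matrix.SpecialLinearGroup (Fin 5) (ZMod 2))))) := by
  obtain ⟨p, hp⟩ : ∃ p, p ∉ o := by
    by_contra h
    push Not at h
    have h1 : (Finset.univ : Finset GolayPt) ⊆ o := fun x _ => h x
    have h2 := Finset.card_le_card h1
    rw [Finset.card_univ, card_GolayPt, ho.2] at h2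
    omega
  obtain ⟨hbot, hsup, ⟨eL⟩⟩ := octad_stabilizer_splits ho hp
  obtain ⟨hK16, hK2⟩ := octad_pointwise_stabilizer ho
  set K := M24 ⊓ fixingSubgroup (Equiv.Perm GolayPt) (o : Set GolayPt) with hK
  set H := M24 ⊓ MulAction.stabilizer (Equiv.Perm GolayPt) o with hH
  set L := H ⊓ MulAction.stabilizer (Equiv.Perm GolayPt) p with hL
  have hKH : K ≤ H := inf_le_inf_left _ (fixing_le_stabilizer o)
  have hLH : L ≤ H := inf_le_left
  have : Finite ↥H := inferInstance
  set K' : Subgroup ↥H := K.subgroupOf H with hK'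
  set L' : Subgroup ↥H := L.subgroupOf H with hL'
  have hKn : K'.Normal := by
    constructor
    intro n hn g
    rw [hK', Subgroup.mem_subgroupOf] at hn ⊢
    have hg : (g : Equiv.Perm GolayPt) ∈ M24 ∧ (g : Equiv.Perm GolayPt) • o = o := by
      have hg0 := g.2
      rw [Subgroup.mem_inf, MulAction.mem_stabilizer_iff] at hg0
      exact hg0
    have h1 := M24Sylow.conj_mem_fixing hg.2 (Subgroup.mem_inf.1 hn).2
    have h2 : ((g * n * g⁻¹ : ↥H) : Equiv.Perm GolayPt) = (g : Equiv.Perm GolayPt) * n * (g : Equiv.Perm GolayPt)⁻¹ := by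
      simp
    rw [h2, hK, Subgroup.mem_inf]
    exact ⟨M24.mul_mem (M24.mul_mem hg.1 (Subgroup.mem_inf.1 hn).1) (M24.inv_mem hg.1), h1⟩
  have hbot' : K' ⊓ L' = ⊥ := by
    rw [Subgroup.eq_bot_iff_forall]
    intro x hx
    rw [Subgroup.mem_inf, hK', hL', Subgroup.mem_subgroupOf, Subgroup.mem_subgroupOf] at hx
    have : (x : Equiv.Perm GolayPt) ∈ K ⊓ L := Subgroup.mem_inf.2 hx
    rw [hbot, Subgroup.mem_bot] at this
    exact Subtype.ext this
  have hsup' : K' ⊔ L' = ⊤ := by
    rw [hK', hL', ← Subgroup.subgroupOf_sup hKH hLH, hsup, Subgroup.subgroupOf_self]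
  have hK16' : Nat.card K' = 16 := by
    rw [← hK16]
    exact Nat.card_congr (Subgroup.subgroupOfEquivOfLe hKH).toEquiv
  have hK2' : ∀ k ∈ K', k * k = 1 := by
    intro k hk
    rw [hK', Subgroup.mem_subgroupOf] at hk
    apply Subtype.ext
    simpa using hK2 _ hk
  have hL20160 : Nat.card L' = 20160 := by
    rw [← A8Sylow.card_alt8]
    exact Nat.card_congr ((Subgroup.subgroupOfEquivOfLe hLH).trans eL).toEquiv
  have hfaith : ∀ l ∈ L', (∀ k ∈ K', l * k = k * l) → l = 1 := by
    intro l hl hcomm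
    rw [hL', Subgroup.mem_subgroupOf, hL, Subgroup.mem_inf, MulAction.mem_stabilizer_iff,
      Equiv.Perm.smul_def] at hl
    apply Subtype.ext
    apply faithful ho hp l.1 (Subgroup.mem_inf.1 hl.1).1 hl.2
    intro k hk
    have := hcomm ⟨k, hKH hk⟩ (by rw [hK', Subgroup.mem_subgroupOf]; exact hk)
    exact congrArg Subtype.val this
  obtain ⟨e⟩ := AGL4.centralizer_equiv_transvection K' L' hbot' hsup' hK16' hK2' hfaith hL20160
    ⟨z, hKH hzK⟩ (by rw [hK', Subgroup.mem_subgroupOf]; exact hzK)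
    (fun h => hz1' (congrArg Subtype.val h)) s hs
  let f : ↥H →* ↥M24 := Subgroup.inclusion (inf_le_left : H ≤ M24)
  have hf : Function.Injective f := Subgroup.inclusion_injective _
  have hsurj : ∀ y ∈ Subgroup.centralizer ({f ⟨z, hKH hzK⟩} : Set ↥M24), ∃ x, f x = y := by
    intro y hy
    rw [Subgroup.mem_centralizer_singleton_iff] at hy
    have hy' : (y : Equiv.Perm GolayPt) * z = z * (y : Equiv.Perm GolayPt) :=
      congrArg Subtype.val hy
    have hyo := centralizer_le_stabilizer ho z hzK hz1' y.1 hy'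
    exact ⟨⟨y.1, Subgroup.mem_inf.2 ⟨y.2, MulAction.mem_stabilizer_iff.2 hyo⟩⟩, rfl⟩
  have e1 := AGL4.centralizerEquiv f hf ⟨z, hKH hzK⟩ hsurj
  exact ⟨e1.symm.trans e⟩

theorem main (s : Matrix.SpecialLinearGroup (Fin 5) (ZMod 2))
    (hs : (s : Matrix (Fin 5) (Fin 5) (ZMod 2)) = Matrix.transvection 0 1 1) :
    ∃ z : ↥M24, orderOf z = 2 ∧ Nonempty (↥(Subgroup.centralizer ({z} : Set ↥M24)) ≃*
      ↥(Subgroup.centralizer ({s} : Set (Matrix.SpecialLinearGroup (Fin 5) (ZMod 2))))) := by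
  have ho := oct0_mem_octads
  obtain ⟨hK16, hK2⟩ := octad_pointwise_stabilizer ho
  have hKnt : Nontrivial ↥(M24 ⊓ fixingSubgroup (Equiv.Perm GolayPt) (oct0 : Set GolayPt)) := by
    rw [← Finite.one_lt_card_iff_nontrivial, hK16]; norm_num
  obtain ⟨⟨z, hzK⟩, hz1⟩ := exists_ne
    (1 : ↥(M24 ⊓ fixingSubgroup (Equiv.Perm GolayPt) (oct0 : Set GolayPt)))
  have hz1' : z ≠ 1 := fun h => hz1 (Subtype.ext h)
  have hzM : z ∈ M24 := (Subgroup.mem_inf.1 hzK).1
  refine ⟨⟨z, hzM⟩, ?_, centralizer_equiv ho z hzK hz1' s hs⟩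
  apply orderOf_eq_prime
  · apply Subtype.ext
    simpa [pow_two] using hK2 z hzK
  · intro h
    exact hz1' (congrArg Subtype.val h)

end Cfsg.Agent.Lib.H14.M24Transv
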