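import Cfsg.Agent.Lib.H14.M24SylGen
import Cfsg.Agent.Lib.H14.M24Transv
import Cfsg.Agent.Lib.H14.FusSimple
import Cfsg.Agent.Lib.H27.InvClasses
import Cfsg.Agent.Lib.H26.GroupSaturated
import Cfsg.Agent.Lib.H1.NilpotentBasic

set_option autoImplicit false

/-!
The 2-fusion system of `M24` is simple (helper14).
-/

namespace Cfsg.Agent.Lib.H14.M24Fus

open Cfsg Cfsg.Agent.Lib.H28
open scoped Pointwise

/-- two involutions of `M24` having fixed points are conjugate -/
theorem inv_conj {a b : ↥M24} (ha : a * a = 1) (ha1 : a ≠ 1) (hap : ∃ p, (a : Equiv.Perm GolayPt) p = p)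
    (hb : b * b = 1) (hb1 : b ≠ 1) (hbp : ∃ p, (b : Equiv.Perm GolayPt) p = p) :
    ∃ g : ↥M24, g * a * g⁻¹ = b := by
  have oa : orderOf (a : Equiv.Perm GolayPt) = 2 := by
    apply orderOf_eq_prime
    · rw [sq]; exact congrArg Subtype.val ha
    · intro h; exact ha1 (Subtype.ext h)
  have ob : orderOf (b : Equiv.Perm GolayPt) = 2 := by
    apply orderOf_eq_prime
    · rw [sq]; exact congrArg Subtype.val hb
    · intro h; exact hb1 (Subtype.ext h)
  obtain ⟨k, hk, hkab⟩ := Cfsg.Agent.Lib.H27.InvNF.main.2.2.2 a.1 a.2 b.1 b.2 oa ob (by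
    constructor
    · intro h; obtain ⟨p, hp⟩ := hap; exact absurd hp (h p)
    · intro h; obtain ⟨p, hp⟩ := hbp; exact absurd hp (h p))
  exact ⟨⟨k, hk⟩, Subtype.ext hkab⟩

theorem exists_notMem_octad {o : Finset GolayPt} (ho : o ∈ octads) : ∃ p, p ∉ o := by
  by_contra h
  push Not at h
  have h1 : (Finset.univ : Finset GolayPt) ⊆ o := fun x _ => h x
  have h2 := Finset.card_le_card h1
  rw [Finset.card_univ, card_GolayPt, ho.2] at h2
  omega

theorem exists_mem_octad {o : Finset GolayPt} (ho : o ∈ octads) : ∃ p, p ∈ o := by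
  have : o.Nonempty := by
    rw [← Finset.card_pos, ho.2]; norm_num
  exact this

/-- A nontrivial subgroup of a Sylow 2-subgroup of `M24` closed under fusion is the whole Sylow subgroup. -/
theorem closed_eq (S : Sylow 2 ↥M24) (T : Subgroup ↥M24) (hTS : T ≤ (S : Subgroup ↥M24)) (hT : T ≠ ⊥)
    (hcl : ∀ t ∈ T, ∀ g : ↥M24, g * t * g⁻¹ ∈ (S : Subgroup ↥M24) → g * t * g⁻¹ ∈ T) :
    T = (S : Subgroup ↥M24) := by
  apply le_antisymm hTS
  obtain ⟨o, ho, hfix⟩ := Cfsg.Agent.Lib.H14.M24Sylow.exists_fixed_octad S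
  have hKS := Cfsg.Agent.Lib.H14.M24Sylow.fixing_le_sylow S ho hfix
  obtain ⟨hK16, hK2⟩ := octad_pointwise_stabilizer ho
  -- a central element of `S` inside `T`
  have : (T.subgroupOf (S : Subgroup ↥M24)).Normal := by
    constructor
    intro n hn s
    rw [Subgroup.mem_subgroupOf] at hn ⊢
    have := hcl _ hn s.1 (by
      exact (S : Subgroup ↥M24).mul_mem ((S : Subgroup ↥M24).mul_mem s.2 n.2) ((S : Subgroup ↥M24).inv_mem s.2))
    simpa using this
  have : Group.IsNilpotent ↥(S : Subgroup ↥M24) := S.isPGroup'.isNilpotent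
  have hne : T.subgroupOf (S : Subgroup ↥M24) ≠ ⊥ := by
    intro h
    apply hT
    rw [Subgroup.eq_bot_iff_forall]
    intro t ht
    have : (⟨t, hTS ht⟩ : ↥(S : Subgroup ↥M24)) ∈ T.subgroupOf (S : Subgroup ↥M24) := by
      rw [Subgroup.mem_subgroupOf]; exact ht
    rw [h, Subgroup.mem_bot] at this
    exact congrArg Subtype.val this
  have hz := Cfsg.Agent.Lib.H1.normal_inf_center_ne_bot (T.subgroupOf (S : Subgroup ↥M24)) hne
  rw [Ne, Subgroup.eq_bot_iff_forall] at hz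
  push Not at hz
  obtain ⟨z', hz', hz'1⟩ := hz
  rw [Subgroup.mem_inf, Subgroup.mem_subgroupOf, Subgroup.mem_center_iff] at hz'
  obtain ⟨hzT, hzc⟩ := hz'
  set z : ↥M24 := z'.1 with hzdef
  have hz1 : z ≠ 1 := by
    intro h
    apply hz'1
    exact Subtype.ext h
  have hzS : z ∈ (S : Subgroup ↥M24) := z'.2
  have hzcomm : ∀ s ∈ (S : Subgroup ↥M24), s * z = z * s := by
    intro s hs
    have := hzc ⟨s, hs⟩
    exact congrArg Subtype.val this
  -- `z` lies in the pointwise stabilizer of the octad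
  obtain ⟨p, hp⟩ := exists_notMem_octad ho
  have hzo : (z : Equiv.Perm GolayPt) • o = o := hfix z hzS
  have hzp : (z : Equiv.Perm GolayPt) p ∉ o := by
    intro h
    exact hp ((mem_iff_of_smul_finset_eq hzo p).1 h)
  obtain ⟨k0, hk0, hk0p⟩ := octad_K_trans ho hzp hp
  have hKcomm : ∀ k ∈ M24 ⊓ fixingSubgroup (Equiv.Perm GolayPt) (o : Set GolayPt),
      ∀ k' ∈ M24 ⊓ fixingSubgroup (Equiv.Perm GolayPt) (o : Set GolayPt), k * k' = k' * k := by
    intro k hk k' hk'
    have h1 := hK2 k hk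
    have h2 := hK2 k' hk'
    have h3 := hK2 (k * k') (Subgroup.mul_mem _ hk hk')
    have e1 : k⁻¹ = k := by rw [inv_eq_iff_mul_eq_one]; exact h1
    have e2 : k'⁻¹ = k' := by rw [inv_eq_iff_mul_eq_one]; exact h2
    have e3 : (k * k')⁻¹ = k * k' := by rw [inv_eq_iff_mul_eq_one]; exact h3
    rw [mul_inv_rev, e1, e2] at e3
    exact e3.symm
  have hw : k0 * (z : Equiv.Perm GolayPt) = 1 := by
    apply Cfsg.Agent.Lib.H14.M24Transv.faithful ho hp _ (M24.mul_mem (Subgroup.mem_inf.1 hk0).1 z.2)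
    · rw [Equiv.Perm.mul_apply, hk0p]
    · intro k hk
      have h1 : (z : Equiv.Perm GolayPt) * k = k * (z : Equiv.Perm GolayPt) := by
        have := hzcomm ⟨k, (Subgroup.mem_inf.1 hk).1⟩ (hKS k hk)
        exact (congrArg Subtype.val this).symm
      rw [mul_assoc, h1, ← mul_assoc, hKcomm k0 hk0 k hk, mul_assoc]
  have hzK : (z : Equiv.Perm GolayPt) ∈ M24 ⊓ fixingSubgroup (Equiv.Perm GolayPt) (o : Set GolayPt) := by
    have : (z : Equiv.Perm GolayPt) = k0⁻¹ := by
      rw [eq_inv_iff_mul_eq_one, ← hw]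
      have := hK2 k0 hk0
      have e1 : k0⁻¹ = k0 := by rw [inv_eq_iff_mul_eq_one]; exact this
      have h1 : (z : Equiv.Perm GolayPt) = k0⁻¹ := by
        rw [eq_inv_iff_mul_eq_one]
        have h2 : (z : Equiv.Perm GolayPt) = k0⁻¹ * (k0 * z) := by group
        rw [h2, hw, mul_one, e1]; exact this
      rw [h1, e1]
    rw [this]
    exact Subgroup.inv_mem _ hk0
  have hzz : z * z = 1 := Subtype.ext (hK2 _ hzK)
  obtain ⟨q, hq⟩ := exists_mem_octad ho
  have hzq : (z : Equiv.Perm GolayPt) q = q := by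
    have := (mem_fixingSubgroup_iff _).1 (Subgroup.mem_inf.1 hzK).2 q (Finset.mem_coe.2 hq)
    rwa [Equiv.Perm.smul_def] at this
  -- every involution of `S` with a fixed point lies in `T`
  apply Cfsg.Agent.Lib.H14.M24SylGen.sylow_le_of_inv S T
  intro t ht htt ht1 htp
  obtain ⟨g, hg⟩ := inv_conj hzz hz1 ⟨q, hzq⟩ htt ht1 htp
  rw [← hg]
  apply hcl z hzT g
  rw [hg]; exact ht

theorem norm_in (S : Sylow 2 ↥M24) (n : ↥M24) (hn : ∀ x ∈ (S : Subgroup ↥M24), n * x * n⁻¹ ∈ (S : Subgroup ↥M24)) :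
    ∃ s ∈ (S : Subgroup ↥M24), ∀ x ∈ (S : Subgroup ↥M24), n * x * n⁻¹ = s * x * s⁻¹ := by
  refine ⟨n, ?_, fun x _ => rfl⟩
  rw [← Cfsg.Agent.Lib.H14.M24Sylow.self_normalizing S, Subgroup.mem_normalizer_iff]
  intro x
  refine ⟨hn x, fun hx => ?_⟩
  let f : ↥(S : Subgroup ↥M24) → ↥(S : Subgroup ↥M24) := fun y => ⟨n * y.1 * n⁻¹, hn y.1 y.2⟩
  have hf : Function.Injective f := by
    intro a b hab
    have := congrArg Subtype.val hab
    simp only [f] at this
    exact Subtype.ext (mul_left_cancel (mul_right_cancel this))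
  obtain ⟨y, hy⟩ := (Finite.injective_iff_surjective.1 hf) ⟨n * x * n⁻¹, hx⟩
  have := congrArg Subtype.val hy
  simp only [f] at this
  have e : y.1 = x := mul_left_cancel (mul_right_cancel this)
  rw [← e]; exact y.2

theorem isSimple (S : Sylow 2 ↥M24) :
    (groupFusionSystem (S : Subgroup ↥M24)).IsSimple 2 := by
  apply Cfsg.Agent.Lib.H14.FusSimple.isSimple_of
  · exact Cfsg.Agent.Lib.H26.groupFusionSystem_isSaturated S
  · intro h
    have := Cfsg.Agent.Lib.H14.M24Sylow.card_sylow S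
    rw [h, Subgroup.card_bot] at this
    norm_num at this
  · exact closed_eq S
  · exact norm_in S

end Cfsg.Agent.Lib.H14.M24Fus
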