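import Cfsg.Agent.Lib.H14.M24Transv
import Cfsg.Agent.Lib.H14.LargeTransport
import Cfsg.Agent.S5424

set_option autoImplicit false

namespace Cfsg.Agent.Lib.H14.M24Large

open Cfsg Cfsg.Agent.Lib.H28

set_option maxRecDepth 100000 in
theorem hnum_M24 : ∀ m : ℕ, Odd m → m * m ∣ Nat.card ↥M24 → m = 1 ∨ m = 3 := by
  intro m hm hd
  rw [card_M24] at hd
  have h : (244823040 : ℕ) = 239085 * 1024 := by norm_num
  have hcop : Nat.Coprime (m * m) 1024 := by
    have h2 : Nat.Coprime m 2 := Nat.coprime_two_right.2 hm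
    have h1024 : (1024 : ℕ) = 2 ^ 10 := by norm_num
    rw [h1024]
    exact Nat.Coprime.pow_right 10 (Nat.Coprime.mul_left h2 h2)
  rw [h] at hd
  have hd' : m * m ∣ 239085 := hcop.dvd_of_dvd_mul_right hd
  have hle : m * m ≤ 239085 := Nat.le_of_dvd (by norm_num) hd'
  have hm489 : m < 489 := by nlinarith
  have key : ∀ m < 489, m * m ∣ 239085 → m % 2 = 1 → m = 1 ∨ m = 3 := by decide
  exact key m hm489 hd' (Nat.odd_iff.1 hm)


theorem main (z : ↥M24) (hz : orderOf z = 2)
    (hfix : (Finset.univ.filter fun p : GolayPt => (z : Equiv.Perm GolayPt) p = p) ∈ octads) :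
    IsExtraspecial 2 ↥((pCore 2 ↥(Subgroup.centralizer ({z} : Set ↥M24))).map
        (Subgroup.centralizer ({z} : Set ↥M24)).subtype) ∧
      Nat.card ↥((pCore 2 ↥(Subgroup.centralizer ({z} : Set ↥M24))).map
        (Subgroup.centralizer ({z} : Set ↥M24)).subtype) = 2 ^ 7 ∧
      (∃ E : Subgroup ↥M24, E ≤ (pCore 2 ↥(Subgroup.centralizer ({z} : Set ↥M24))).map
        (Subgroup.centralizer ({z} : Set ↥M24)).subtype ∧ IsElementaryAbelian 2 E ∧
        Nat.card E = 2 ^ 4) ∧
      IsLargeExtraspecial ((pCore 2 ↥(Subgroup.centralizer ({z} : Set ↥M24))).map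
        (Subgroup.centralizer ({z} : Set ↥M24)).subtype) ∧
      ∃ K : Subgroup ↥M24, K ≤ Subgroup.centralizer ({z} : Set ↥M24) ∧
        (pCore 2 ↥(Subgroup.centralizer ({z} : Set ↥M24))).map
          (Subgroup.centralizer ({z} : Set ↥M24)).subtype ⊓ K = ⊥ ∧
        (pCore 2 ↥(Subgroup.centralizer ({z} : Set ↥M24))).map
          (Subgroup.centralizer ({z} : Set ↥M24)).subtype ⊔ K =
          Subgroup.centralizer ({z} : Set ↥M24) ∧
        Nonempty (K ≃* Matrix.SpecialLinearGroup (Fin 3) (ZMod 2)) := by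
  set o := Finset.univ.filter fun p : GolayPt => (z : Equiv.Perm GolayPt) p = p with ho
  have hzK : (z : Equiv.Perm GolayPt) ∈
      M24 ⊓ fixingSubgroup (Equiv.Perm GolayPt) (o : Set GolayPt) := by
    rw [Subgroup.mem_inf, mem_fixingSubgroup_iff]
    refine ⟨z.2, fun x hx => ?_⟩
    rw [Finset.mem_coe, ho, Finset.mem_filter] at hx
    rw [Equiv.Perm.smul_def]
    exact hx.2
  have hz1 : z ≠ 1 := by
    intro h
    rw [h, orderOf_one] at hz
    omega
  have hz1' : (z : Equiv.Perm GolayPt) ≠ 1 := fun h => hz1 (Subtype.ext h)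
  have hz2 : z * z = 1 := by
    rw [← pow_two, ← hz]; exact pow_orderOf_eq_one z
  -- the transvection
  let s : Matrix.SpecialLinearGroup (Fin (3 + 2)) (ZMod 2) :=
    ⟨Matrix.transvection 0 1 1, Matrix.det_transvection_of_ne 0 1 (by decide) 1⟩
  have hs : (s : Matrix (Fin (3 + 2)) (Fin (3 + 2)) (ZMod 2)) = Matrix.transvection 0 1 1 := rfl
  obtain ⟨φ⟩ := M24Transv.centralizer_equiv hfix (z : Equiv.Perm GolayPt) hzK hz1' s hs
  have hD := LargeTransport.pull (Subgroup.centralizer ({s} : Set _)) 3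
    (Cfsg.Agent.S5424.result 3 (by norm_num) s hs _ rfl)
  let ι : ↥(Subgroup.centralizer ({s} : Set (Matrix.SpecialLinearGroup (Fin (3 + 2)) (ZMod 2)))) →*
      ↥M24 := (Subgroup.centralizer ({z} : Set ↥M24)).subtype.comp φ.symm.toMonoidHom
  have hι : Function.Injective ι :=
    (Subgroup.subtype_injective _).comp φ.symm.injective
  have hrange : ι.range = Subgroup.centralizer ({z} : Set ↥M24) := by
    ext x
    constructor
    · rintro ⟨y, rfl⟩
      exact (φ.symm y).2
    · intro hx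
      exact ⟨φ ⟨x, hx⟩, by simp [ι]⟩
  exact LargeTransport.push z hz2 hz1 ι hι hrange 3 (by norm_num) hD hnum_M24

end Cfsg.Agent.Lib.H14.M24Large
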