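import Cfsg.Agent.Lib.H28.WordChain
import Cfsg.Agent.Lib.H28.KeyOrbit
import Cfsg.Agent.Lib.H28.M24Octad
import Cfsg.Agent.Lib.H28.M24OctadOrbits
import Cfsg.Agent.Lib.H14.M24Sylow

set_option autoImplicit false

namespace Cfsg.Agent.Lib.H14.M24SylGen

open Cfsg Cfsg.Agent.Lib.H28
open scoped Pointwise

def sylGens : List (List ℕ) := [
  [3, 3, 1, 4, 4, 0, 3, 0, 0, 2, 1, 3, 1, 2, 4, 0, 3, 2, 1, 3, 1, 2, 4, 0, 3, 3, 3, 1, 4, 4, 0, 3, 0, 0, 3, 3, 1, 4, 4, 0, 3, 0, 0, 2, 1, 3, 1, 2, 4, 0, 3, 1, 1, 4, 1, 3, 3, 0, 4, 4, 4, 1, 3, 2, 0, 4, 0, 2, 4, 1, 3, 2, 0, 4, 0, 2, 4, 1, 3, 2, 0, 4, 0, 2],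
  [2, 1, 3, 1, 2, 4, 0, 3, 3, 3, 1, 4, 4, 0, 3, 0, 0, 3, 3, 1, 4, 4, 0, 3, 0, 0, 3, 3, 1, 4, 4, 0, 3, 0, 0, 3, 3, 1, 4, 4, 0, 3, 0, 0, 4, 1, 3, 2, 0, 4, 0, 2],
  [4, 1, 3, 2, 0, 4, 0, 2, 1, 1, 4, 1, 3, 3, 0, 4, 4, 2, 1, 3, 1, 2, 4, 0, 3, 1, 1, 4, 1, 3, 3, 0, 4, 4, 4, 1, 3, 2, 0, 4, 0, 2, 3, 3, 1, 4, 4, 0, 3, 0, 0, 3, 3, 1, 4, 4, 0, 3, 0, 0],
  [4, 1, 3, 2, 0, 4, 0, 2, 4, 1, 3, 2, 0, 4, 0, 2, 3, 3, 1, 4, 4, 0, 3, 0, 0, 4, 1, 3, 2, 0, 4, 0, 2, 3, 3, 1, 4, 4, 0, 3, 0, 0, 4, 1, 3, 2, 0, 4, 0, 2, 3, 3, 1, 4, 4, 0, 3, 0, 0, 2, 1, 3, 1, 2, 4, 0, 3]]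

def sylChain : List (ℕ × List (List ℕ)) := [
  (15, [[3, 0, 3], [3, 1, 0, 3], [3, 2, 1, 0, 3], [2, 3, 1, 3], [1, 0, 3], [2, 1, 0, 3], [0, 2, 3], [0, 3], [1, 3], [], [1, 2, 3], [3, 1, 3], [3], [3, 2, 3], [2, 3], [2, 3, 0, 3]]),
  (21, [[2, 1, 0], [1, 0], [0], [0, 2], [1, 2], [1], [2], []]),
  (6, [[], [0, 2, 0], [1, 2, 0, 1], [1, 0, 1]]),
  (17, [[1, 2, 1], []])]

/-! ### a subgroup of order at least 1024 generated by four involutions with fixed points -/

theorem sylChain_ok : chainCheck [] (metaChain sylGens sylChain) = true := by decide +kernel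

theorem sylChain_prod : ((metaChain sylGens sylChain).map (fun c => c.2.length)).prod = 1024 := by
  decide +kernel

/-- the subgroup generated by the four words -/
noncomputable def S0 : Subgroup (Equiv.Perm GolayPt) := wordsClosure sylGens

theorem card_S0_ge : 1024 ≤ Nat.card ↥S0 := by
  have := card_ge_of_chainCheck (wordsClosure sylGens) (metaChain sylGens sylChain) [] ?_ sylChain_ok
  · rwa [fixSub_nil, sylChain_prod] at this
  · intro c hc w hw
    unfold metaChain at hc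
    rw [List.mem_map] at hc
    obtain ⟨c0, _, rfl⟩ := hc
    rw [List.mem_map] at hw
    obtain ⟨m, _, rfl⟩ := hw
    exact wordPerm_metaFlat_mem sylGens m

theorem S0_le_M24 : S0 ≤ M24 := wordsClosure_le (fun w _ => wordPerm_mem_M24 w)

/-- the generators are involutions with a fixed point -/
def invFixB (w : List ℕ) : Bool :=
  (List.range 24).all (fun k => evalPt w (evalPt w k) == k) &&
  (List.range 24).any (fun k => evalPt w k == k) && (List.range 24).any (fun k => evalPt w k != k)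

theorem sylGens_inv : sylGens.all invFixB = true := by decide +kernel

theorem gen_spec (w : List ℕ) (hw : w ∈ sylGens) :
    wordPerm w * wordPerm w = 1 ∧ wordPerm w ≠ 1 ∧ ∃ p, wordPerm w p = p := by
  have h := List.all_eq_true.1 sylGens_inv w hw
  unfold invFixB at h
  rw [Bool.and_eq_true, Bool.and_eq_true, List.all_eq_true, List.any_eq_true, List.any_eq_true] at h
  obtain ⟨⟨h1, k, hk, h2⟩, j, hj, h3⟩ := h
  rw [List.mem_range] at hk hj
  rw [beq_iff_eq] at h2
  rw [bne_iff_ne] at h3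
  refine ⟨?_, ?_, gPt k, wordPerm_gPt hk h2⟩
  · apply Equiv.ext
    intro p
    apply gIdx_injective
    rw [Equiv.Perm.mul_apply, gIdx_wordPerm, gIdx_wordPerm, Equiv.Perm.one_apply]
    have := h1 (gIdx p) (List.mem_range.2 (gIdx_lt p))
    rwa [beq_iff_eq] at this
  · intro h
    apply h3
    have := congrArg (fun f : Equiv.Perm GolayPt => gIdx (f (gPt j))) h
    simp only [Equiv.Perm.one_apply] at this
    rw [gIdx_wordPerm, gIdx_gPt hj] at this
    exact this

/-! ### the generated subgroup is a 2-group -/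

/-- the two tetrads -/
def pi4 : Finset (Finset GolayPt) := decL [45, 8536066]
/-- the four pairs -/
def pi2 : Finset (Finset GolayPt) := decL [9, 36, 131074, 8404992]

/-- the eight singletons -/
def pi1 : Finset (Finset GolayPt) := decL [1, 2, 4, 8, 32, 16384, 131072, 8388608]

/-- the stabilizer of the flag `oct0`, `pi4`, `pi2`, `pi1` -/
def flagStab : Subgroup (Equiv.Perm GolayPt) :=
  MulAction.stabilizer (Equiv.Perm GolayPt) oct0 ⊓ MulAction.stabilizer (Equiv.Perm GolayPt) pi4 ⊓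
    MulAction.stabilizer (Equiv.Perm GolayPt) pi2 ⊓ MulAction.stabilizer (Equiv.Perm GolayPt) pi1

def flagB (w : List ℕ) : Bool :=
  pullMask (wordTab (invWord w)) baseOctad == baseOctad &&
  sameL ([45, 8536066].map (pullMask (wordTab (invWord w)))) [45, 8536066] &&
  sameL ([9, 36, 131074, 8404992].map (pullMask (wordTab (invWord w)))) [9, 36, 131074, 8404992] &&
  sameL ([1, 2, 4, 8, 32, 16384, 131072, 8388608].map (pullMask (wordTab (invWord w))))
    [1, 2, 4, 8, 32, 16384, 131072, 8388608]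

theorem sylGens_flag : sylGens.all flagB = true := by decide +kernel

theorem wsmul_ptsMask (w : List ℕ) (m : ℕ) :
    wordPerm w • ptsMask m = ptsMask (pullMask (wordTab (invWord w)) m) :=
  smul_ptsMask (wordPerm w) (wordTab (invWord w)) (fun p => by
    rw [← wordTab_spec, wordPerm_invWord, Equiv.Perm.inv_def]) m

theorem S0_le_flagStab : S0 ≤ flagStab := by
  apply wordsClosure_le
  intro w hw
  have h := List.all_eq_true.1 sylGens_flag w hw
  unfold flagB at h
  rw [Bool.and_eq_true, Bool.and_eq_true, Bool.and_eq_true, beq_iff_eq] at h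
  obtain ⟨⟨⟨h1, h2⟩, h3⟩, h4⟩ := h
  refine Subgroup.mem_inf.2 ⟨Subgroup.mem_inf.2 ⟨Subgroup.mem_inf.2 ⟨?_, ?_⟩, ?_⟩, ?_⟩
  · rw [MulAction.mem_stabilizer_iff]
    show wordPerm w • ptsMask baseOctad = ptsMask baseOctad
    rw [wsmul_ptsMask, h1]
  · rw [MulAction.mem_stabilizer_iff]
    exact wordPerm_smul_decL_of_sameL h2
  · rw [MulAction.mem_stabilizer_iff]
    exact wordPerm_smul_decL_of_sameL h3
  · rw [MulAction.mem_stabilizer_iff]
    exact wordPerm_smul_decL_of_sameL h4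

/-- squaring kills the action on a pair closed under the element -/
theorem sq_smul_of_pair {G α : Type*} [Group G] [MulAction G α] (g : G) (a b : α)
    (hab : g • a = a ∨ g • a = b) (hba : g • b = b ∨ g • b = a) : (g * g) • a = a := by
  rw [mul_smul]
  rcases hab with h | h
  · rw [h, h]
  · rcases hba with h' | h'
    · have : a = b := smul_left_cancel g (h.trans h'.symm)
      rw [h, h', this]
    · rw [h, h']

theorem ptsMask_subset_of_and {m om : ℕ} (h : m &&& om = m) : ptsMask m ⊆ ptsMask om := by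
  intro p hp
  rw [mem_ptsMask] at hp ⊢
  rw [← h, Nat.testBit_and, Bool.and_eq_true] at hp
  exact hp.2

theorem and_of_ptsMask_subset {m om : ℕ} (hm : m < 2 ^ 24) (h : ptsMask m ⊆ ptsMask om) :
    m &&& om = m := by
  apply Nat.eq_of_testBit_eq
  intro i
  rw [Nat.testBit_and]
  by_cases hi : i < 24
  · by_cases hb : m.testBit i = true
    · have : gPt i ∈ ptsMask m := by rw [mem_ptsMask, gIdx_gPt hi]; exact hb
      have := h this
      rw [mem_ptsMask, gIdx_gPt hi] at this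
      rw [hb, this]; rfl
    · rw [Bool.not_eq_true] at hb
      rw [hb]; rfl
  · have : m.testBit i = false := by
      apply Nat.testBit_eq_false_of_lt
      exact lt_of_lt_of_le hm (Nat.pow_le_pow_right (by norm_num) (by omega))
    rw [this]; rfl

/-- the splitting condition: every block of `B` lies in a block `a` of `A`, and the blocks of `B` inside `a`
are exactly `b` and `a xor b` -/
def splitB (A B : List ℕ) : Bool :=
  B.all (fun b => decide (b < 2 ^ 24) && A.any (fun a => (b &&& a == b) && B.contains (a ^^^ b) &&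
    ((a ^^^ b) &&& a == (a ^^^ b)) &&
    B.all (fun b' => !(b' &&& a == b') || b' == b || b' == (a ^^^ b))))

theorem step (σ : Equiv.Perm GolayPt) (A B : List ℕ) (hA : ∀ a ∈ A, σ • ptsMask a = ptsMask a)
    (hB : σ • decL B = decL B) (hs : splitB A B = true) :
    ∀ b ∈ B, (σ * σ) • ptsMask b = ptsMask b := by
  unfold splitB at hs
  rw [List.all_eq_true] at hs
  have hlt : ∀ b ∈ B, b < 2 ^ 24 := by
    intro b hb
    have := hs b hb
    rw [Bool.and_eq_true, decide_eq_true_eq] at this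
    exact this.1
  have key : ∀ a ∈ A, ∀ c ∈ B, c &&& a = c → ∃ c' ∈ B, σ • ptsMask c = ptsMask c' ∧ c' &&& a = c' := by
    intro a ha c hc hca
    have h1 : σ • ptsMask c ∈ σ • decL B := Finset.smul_mem_smul_finset (mem_decL.2 ⟨c, hc, rfl⟩)
    rw [hB] at h1
    obtain ⟨c', hc', e⟩ := mem_decL.1 h1
    refine ⟨c', hc', e.symm, ?_⟩
    apply and_of_ptsMask_subset (hlt c' hc')
    rw [e, ← hA a ha]
    exact Finset.smul_finset_subset_smul_finset (ptsMask_subset_of_and hca)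
  intro b hb
  have h := hs b hb
  rw [Bool.and_eq_true, List.any_eq_true] at h
  obtain ⟨-, a, ha, h⟩ := h
  simp only [Bool.and_eq_true, beq_iff_eq, List.all_eq_true, Bool.or_eq_true, Bool.not_eq_true',
    List.contains_iff_mem, beq_eq_false_iff_ne, ne_eq] at h
  obtain ⟨⟨⟨hba, hb'⟩, hb'a⟩, hall⟩ := h
  apply sq_smul_of_pair σ (ptsMask b) (ptsMask (a ^^^ b))
  · obtain ⟨c', hc', e, hc'a⟩ := key a ha b hb hba
    rcases hall c' hc' with (h1 | h1) | h1
    · exact absurd hc'a h1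
    · left; rw [e, h1]
    · right; rw [e, h1]
  · obtain ⟨c', hc', e, hc'a⟩ := key a ha _ hb' hb'a
    rcases hall c' hc' with (h1 | h1) | h1
    · exact absurd hc'a h1
    · right; rw [e, h1]
    · left; rw [e, h1]

theorem split0 : splitB [baseOctad] [45, 8536066] = true := by decide +kernel
theorem split1 : splitB [45, 8536066] [9, 36, 131074, 8404992] = true := by decide +kernel
theorem split2 : splitB [9, 36, 131074, 8404992] [1, 2, 4, 8, 32, 16384, 131072, 8388608] = true := by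
  decide +kernel

theorem single_ok : ∀ k ∈ octPts, (2 ^ k) ∈ [1, 2, 4, 8, 32, 16384, 131072, 8388608] := by decide

theorem mem_ptsMask_two_pow {k : ℕ} {p : GolayPt} : p ∈ ptsMask (2 ^ k) ↔ gIdx p = k := by
  rw [mem_ptsMask, Nat.testBit_two_pow, decide_eq_true_eq, eq_comm]

/-- elements of the flag stabilizer lying in `M24` have order dividing 16 -/
theorem pow_sixteen {g : Equiv.Perm GolayPt} (hg : g ∈ flagStab) (hM : g ∈ M24) : g ^ 16 = 1 := by
  unfold flagStab at hg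
  rw [Subgroup.mem_inf, Subgroup.mem_inf, Subgroup.mem_inf] at hg
  obtain ⟨⟨⟨h0, h4⟩, h2⟩, h1⟩ := hg
  rw [MulAction.mem_stabilizer_iff] at h0 h4 h2 h1
  have hst : ∀ (X : Finset (Finset GolayPt)) (σ : Equiv.Perm GolayPt), σ • X = X → (σ * σ) • X = X := by
    intro X σ h
    rw [mul_smul, h, h]
  have s0 := step g [baseOctad] [45, 8536066] (by
    intro a ha
    rw [List.mem_singleton] at ha
    rw [ha]; exact h0) h4 split0
  have s1 := step (g * g) [45, 8536066] [9, 36, 131074, 8404992] s0 (hst _ _ h2) split1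
  have s2 := step (g * g * (g * g)) [9, 36, 131074, 8404992] [1, 2, 4, 8, 32, 16384, 131072, 8388608] s1
    (hst _ _ (hst _ _ h1)) split2
  set h8 := g * g * (g * g) * (g * g * (g * g)) with hh8
  have hfix : ∀ x ∈ oct0, h8 x = x := by
    intro x hx
    rw [mem_oct0_iff] at hx
    have h := s2 (2 ^ gIdx x) (single_ok _ hx)
    have hx' : x ∈ ptsMask (2 ^ gIdx x) := mem_ptsMask_two_pow.2 rfl
    have : h8 x ∈ h8 • ptsMask (2 ^ gIdx x) := Finset.smul_mem_smul_finset hx'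
    rw [h, mem_ptsMask_two_pow] at this
    exact gIdx_injective this
  have hK : h8 ∈ M24 ⊓ fixingSubgroup (Equiv.Perm GolayPt) ((oct0 : Finset GolayPt) : Set GolayPt) := by
    refine Subgroup.mem_inf.2 ⟨?_, ?_⟩
    · rw [hh8]
      exact M24.mul_mem (M24.mul_mem (M24.mul_mem hM hM) (M24.mul_mem hM hM))
        (M24.mul_mem (M24.mul_mem hM hM) (M24.mul_mem hM hM))
    · rw [mem_fixingSubgroup_iff]
      intro y hy
      exact hfix y hy
  have := (octad_pointwise_stabilizer oct0_mem_octads).2 h8 hK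
  rw [hh8] at this
  have e : g ^ 16 = g * g * (g * g) * (g * g * (g * g)) * (g * g * (g * g) * (g * g * (g * g))) := by
    rw [show (16:ℕ) = 2*2*2*2 from rfl, pow_mul, pow_mul, pow_mul]
    simp only [sq]
  rw [e]
  exact this

theorem isPGroup_S0 : IsPGroup 2 ↥S0 := by
  intro g
  refine ⟨4, ?_⟩
  apply Subtype.ext
  have := pow_sixteen (S0_le_flagStab g.2) (S0_le_M24 g.2)
  rw [Subgroup.coe_pow]
  exact this

/-! ### the generated subgroup is a Sylow 2-subgroup -/

/-- the generated subgroup inside `M24` -/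
noncomputable def S0' : Subgroup ↥M24 := S0.subgroupOf M24

theorem card_S0' : Nat.card ↥S0' = Nat.card ↥S0 :=
  Nat.card_congr (Subgroup.subgroupOfEquivOfLe S0_le_M24).toEquiv

theorem isPGroup_S0' : IsPGroup 2 ↥S0' :=
  isPGroup_S0.of_equiv (Subgroup.subgroupOfEquivOfLe S0_le_M24).symm

theorem exists_sylow0 : ∃ P : Sylow 2 ↥M24, (P : Subgroup ↥M24) = S0' := by
  obtain ⟨P, hP⟩ := isPGroup_S0'.exists_le_sylow
  refine ⟨P, ?_⟩
  symm
  apply Subgroup.eq_of_le_of_card_ge hP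
  rw [Cfsg.Agent.Lib.H14.M24Sylow.card_sylow P, card_S0']
  exact card_S0_ge

theorem mem_smul_sylow_iff (P : Sylow 2 ↥M24) (g x : ↥M24) :
    x ∈ ((g • P : Sylow 2 ↥M24) : Subgroup ↥M24) ↔ g⁻¹ * x * g ∈ (P : Subgroup ↥M24) := by
  rw [Sylow.coe_subgroup_smul, Subgroup.mem_pointwise_smul_iff_inv_smul_mem, MulAut.smul_def,
    ← map_inv, MulAut.conj_apply, inv_inv]

/-- A Sylow 2-subgroup of `M24` is generated by its involutions having a fixed point. -/
theorem sylow_le_of_inv (S : Sylow 2 ↥M24) (T : Subgroup ↥M24)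
    (h : ∀ t ∈ (S : Subgroup ↥M24), t * t = 1 → t ≠ 1 → (∃ p, (t : Equiv.Perm GolayPt) p = p) → t ∈ T) :
    (S : Subgroup ↥M24) ≤ T := by
  obtain ⟨P, hP⟩ := exists_sylow0
  obtain ⟨g, hg⟩ := MulAction.exists_smul_eq ↥M24 P S
  have key : S0 ≤ (T.comap (MulAut.conj g).toMonoidHom).map M24.subtype := by
    apply wordsClosure_le
    intro w hw
    refine ⟨⟨wordPerm w, wordPerm_mem_M24 w⟩, ?_, rfl⟩
    rw [SetLike.mem_coe, Subgroup.mem_comap]
    obtain ⟨h1, h2, p, hp⟩ := gen_spec w hw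
    show g * ⟨wordPerm w, wordPerm_mem_M24 w⟩ * g⁻¹ ∈ T
    apply h
    · rw [← hg, mem_smul_sylow_iff, hP]
      have e : g⁻¹ * (g * ⟨wordPerm w, wordPerm_mem_M24 w⟩ * g⁻¹) * g = ⟨wordPerm w, wordPerm_mem_M24 w⟩ := by
        group
      rw [e]
      show wordPerm w ∈ S0
      exact wordPerm_mem_wordsClosure hw
    · have e : g * ⟨wordPerm w, wordPerm_mem_M24 w⟩ * g⁻¹ * (g * ⟨wordPerm w, wordPerm_mem_M24 w⟩ * g⁻¹) =
          g * (⟨wordPerm w, wordPerm_mem_M24 w⟩ * ⟨wordPerm w, wordPerm_mem_M24 w⟩) * g⁻¹ := by group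
      rw [e]
      have : (⟨wordPerm w, wordPerm_mem_M24 w⟩ * ⟨wordPerm w, wordPerm_mem_M24 w⟩ : ↥M24) = 1 :=
        Subtype.ext h1
      rw [this]; group
    · intro hc
      apply h2
      have : (⟨wordPerm w, wordPerm_mem_M24 w⟩ : ↥M24) = 1 := by
        have e : (⟨wordPerm w, wordPerm_mem_M24 w⟩ : ↥M24) =
            g⁻¹ * (g * ⟨wordPerm w, wordPerm_mem_M24 w⟩ * g⁻¹) * g := by group
        rw [e, hc]; group
      exact congrArg Subtype.val this
    · refine ⟨(g : Equiv.Perm GolayPt) p, ?_⟩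
      show ((g : Equiv.Perm GolayPt) * wordPerm w * (g : Equiv.Perm GolayPt)⁻¹) ((g : Equiv.Perm GolayPt) p) = _
      rw [Equiv.Perm.mul_apply, Equiv.Perm.mul_apply, Equiv.Perm.inv_def, Equiv.symm_apply_apply, hp]
  intro s hs
  rw [← hg, mem_smul_sylow_iff, hP] at hs
  have hs' : ((g⁻¹ * s * g : ↥M24) : Equiv.Perm GolayPt) ∈ S0 := hs
  obtain ⟨y, hy, hys⟩ := key hs'
  have : y = g⁻¹ * s * g := Subtype.ext hys
  rw [SetLike.mem_coe, Subgroup.mem_comap, this] at hy
  have e : (MulAut.conj g).toMonoidHom (g⁻¹ * s * g) = s := by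
    show g * (g⁻¹ * s * g) * g⁻¹ = s
    group
  rw [e] at hy
  exact hy

end Cfsg.Agent.Lib.H14.M24SylGen
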