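import Mathlib
import Cfsg.Agent.Lib.H5.SimpleTools
import Cfsg.Agent.Lib.H20.FrobeniusDiv

/-!
S0434, piece (FINAL144), first half: from the count `#{g | g ^ 9 = 1} = 1 + 8 n₃` to `|N_G(P)| = 144`
in a simple group of order 7920 (Frobenius: `9 ∣ 1 + 8 n₃`; `n₃ ∣ 880`; `n₃ ∈ {1, 10, 55}`).
-/

set_option autoImplicit false

namespace Cfsg.Agent.Lib.H14.M7920

universe u

set_option maxRecDepth 100000 in
theorem sylow3_count_cases (n : ℕ) (h1 : n ∣ 880) (h2 : 9 ∣ 1 + 8 * n) : n = 1 ∨ n = 10 ∨ n = 55 := by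
  have hmem : n ∈ (Nat.divisors 880).filter (fun n => 9 ∣ 1 + 8 * n) := by
    rw [Finset.mem_filter, Nat.mem_divisors]
    exact ⟨⟨h1, by norm_num⟩, h2⟩
  have hset : (Nat.divisors 880).filter (fun n => 9 ∣ 1 + 8 * n) = {1, 10, 55} := by decide
  rw [hset] at hmem
  simpa using hmem

theorem card_normalizer_sylow3_of_count {G : Type u} [Group G] [Finite G] [IsSimpleGroup G]
    (hG : Nat.card G = 7920)
    (hcount : Nat.card {g : G // g ^ 9 = 1} = 1 + 8 * Nat.card (Sylow 3 G)) (P : Sylow 3 G) :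
    Nat.card (Subgroup.normalizer ((P : Subgroup G) : Set G)) = 144 := by
  have : Fact (Nat.Prime 3) := ⟨by norm_num⟩
  have h9 : 9 ∣ 1 + 8 * Nat.card (Sylow 3 G) := by
    rw [← hcount]
    exact Cfsg.Agent.Lib.H20.frobenius_dvd 9 (by rw [hG]; norm_num)
  have hidx : Nat.card (Sylow 3 G) = (Subgroup.normalizer ((P : Subgroup G) : Set G)).index :=
    Sylow.card_eq_index_normalizer P
  have hmul : Nat.card (Subgroup.normalizer ((P : Subgroup G) : Set G)) *
      (Subgroup.normalizer ((P : Subgroup G) : Set G)).index = 7920 := by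
    rw [Subgroup.card_mul_index, hG]
  have hP : Nat.card (P : Subgroup G) = 9 := by
    have := (Cfsg.Agent.Lib.H5.sylow_card_and_index P (k := 2) (m := 880)
      (by rw [hG]; norm_num) (by norm_num)).1
    rw [this]; norm_num
  have h9N : 9 ∣ Nat.card (Subgroup.normalizer ((P : Subgroup G) : Set G)) := by
    rw [← hP]
    exact Subgroup.card_dvd_of_le Subgroup.le_normalizer
  set n := Nat.card (Sylow 3 G) with hn
  set N := Nat.card (Subgroup.normalizer ((P : Subgroup G) : Set G)) with hN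
  rw [← hidx] at hmul
  obtain ⟨k, hk⟩ := h9N
  have hdvd : n ∣ 880 := by
    refine ⟨k, ?_⟩
    rw [hk] at hmul
    nlinarith
  rcases sylow3_count_cases n hdvd h9 with h | h | h
  · exfalso
    have hnp : ¬ IsPGroup 3 G :=
      Cfsg.Agent.Lib.H5.not_isPGroup_of_prime_dvd (p := 3) (q := 5) (by norm_num) (by norm_num)
        (by rw [hG]; norm_num)
    exact Cfsg.Agent.Lib.H5.card_sylow_ne_one_of_simple (p := 3) (by rw [hG]; norm_num) hnp h
  · exfalso
    have hne : Subgroup.normalizer ((P : Subgroup G) : Set G) ≠ ⊤ := by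
      intro htop
      have : (Subgroup.normalizer ((P : Subgroup G) : Set G)).index = 1 := by
        rw [htop]; exact Subgroup.index_top
      omega
    have := Cfsg.Agent.Lib.H5.card_dvd_factorial_index _ hne
    rw [← hidx, h, hG] at this
    revert this
    decide
  · rw [h] at hmul
    omega

end Cfsg.Agent.Lib.H14.M7920
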