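import Mathlib
import Cfsg.Prelude.Def_Blocks
import Cfsg.Prelude.Def_Characters
import Cfsg.Agent.Lib.H23.DefectZero

/-!
# S4756 piece DZ (architect helper23)

An irreducible character of `s`-defect zero vanishes on the `s`-singular elements: wrapper of
`Cfsg.Agent.Lib.H23.char_eq_zero_of_defect_zero`.
-/

set_option autoImplicit false

namespace Cfsg.Agent.Lib.H14.MUL

open Cfsg

/-- **DZ** -/
theorem irr_eq_zero_of_pow_factorization_dvd {G : Type*} [Group G] [Finite G] (s : ℕ) (hs : s.Prime)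
    (χ : IrrCharacter G) (hd : s ^ (Nat.card G).factorization s ∣ charDegree (χ : G → ℂ))
    (g : G) (hg : s ∣ orderOf g) : (χ : G → ℂ) g = 0 := by
  classical
  let _ : Fintype G := Fintype.ofFinite G
  obtain ⟨n, ρ, hirr, hχ⟩ := χ.2
  have : ρ.IsIrreducible := hirr
  have h1 : (χ : G → ℂ) 1 = (n : ℂ) := by
    rw [← hχ, Representation.char_one, Module.finrank_fin_fun]
  have hdeg : charDegree (χ : G → ℂ) = n := Cfsg.Agent.Lib.H23.charDegree_eq_of_apply_one h1
  rw [hdeg] at hd
  have hcard : Nat.card G ≠ 0 := Nat.card_pos.ne'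
  have hn' : ¬ s ^ ((Nat.card G).factorization s + 1) ∣ Nat.card G :=
    Nat.pow_succ_factorization_not_dvd hcard hs
  rw [← hχ]
  refine Cfsg.Agent.Lib.H23.char_eq_zero_of_defect_zero ρ s ((Nat.card G).factorization s) hs hn' ?_ g hg
  rw [Module.finrank_fin_fun]
  exact hd

end Cfsg.Agent.Lib.H14.MUL
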