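import Mathlib

set_option autoImplicit false
set_option linter.unusedSectionVars false

namespace Cfsg.Agent.Lib.H14.MinDeg

open Equiv Equiv.Perm

/-- If the supports of `σ` and `τ` meet in exactly one point, the commutator is a 3-cycle. -/
theorem isThreeCycle_comm {α : Type*} [Fintype α] [DecidableEq α] (σ τ : Perm α) (a : α)
    (h : ∀ x, σ x ≠ x → τ x ≠ x → x = a) (ha1 : σ a ≠ a) (ha2 : τ a ≠ a) :
    (σ⁻¹ * τ⁻¹ * σ * τ).IsThreeCycle := by
  have hinv : ∀ (f : Perm α) (x : α), f⁻¹ (f x) = x := fun f x => Perm.inv_eq_iff_eq.mpr rfl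
  set q := σ⁻¹ a with hq
  set r := τ⁻¹ a with hr
  have hσq : σ q = a := by simp [hq]
  have hτr : τ r = a := by simp [hr]
  have hqa : q ≠ a := fun e => ha1 (by rw [← e] at hσq ⊢; exact hσq)
  have hra : r ≠ a := fun e => ha2 (by rw [← e] at hτr ⊢; exact hτr)
  have hσq' : σ q ≠ q := by rw [hσq]; exact hqa.symm
  have hτr' : τ r ≠ r := by rw [hτr]; exact hra.symm
  have hτq : τ q = q := by
    by_contra e; exact hqa (h q hσq' e)
  have hσr : σ r = r := by
    by_contra e; exact hra (h r e hτr')
  have hqr : q ≠ r := fun e => hσq' (by rw [e]; exact hσr)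
  have hτinv : ∀ y, τ y = y → τ⁻¹ y = y := fun y hy => by
    rw [Perm.inv_eq_iff_eq]; exact hy.symm
  have hσinv : ∀ y, σ y = y → σ⁻¹ y = y := fun y hy => by
    rw [Perm.inv_eq_iff_eq]; exact hy.symm
  -- values
  have hca : (σ⁻¹ * τ⁻¹ * σ * τ) a = q := by
    have h1 : σ (τ a) = τ a := by
      by_contra e
      have : τ (τ a) ≠ τ a := fun e' => ha2 (τ.injective e')
      exact ha2 (h _ e this)
    simp only [Perm.mul_apply, h1, hinv]
    exact hq.symm
  have hcq : (σ⁻¹ * τ⁻¹ * σ * τ) q = r := by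
    simp only [Perm.mul_apply, hτq, hσq]
    rw [← hr]; exact hσinv r hσr
  have hcr : (σ⁻¹ * τ⁻¹ * σ * τ) r = a := by
    have h1 : τ (σ a) = σ a := by
      by_contra e
      have : σ (σ a) ≠ σ a := fun e' => ha1 (σ.injective e')
      exact ha1 (h _ this e)
    simp only [Perm.mul_apply, hτr, hτinv _ h1, hinv]
  have hcx : ∀ x, x ≠ a → x ≠ q → x ≠ r → (σ⁻¹ * τ⁻¹ * σ * τ) x = x := by
    intro x hxa hxq hxr
    by_cases hτx : τ x = x
    · by_cases hσx : σ x = x
      · simp only [Perm.mul_apply, hτx, hσx, hτinv x hτx, hσinv x hσx]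
      · have h1 : τ (σ x) = σ x := by
          by_contra e
          have h2 : σ (σ x) ≠ σ x := fun e' => hσx (σ.injective e')
          have h3 : σ x = a := h _ h2 e
          apply hxq
          rw [hq, ← h3, hinv]
        simp only [Perm.mul_apply, hτx, hτinv _ h1, hinv]
    · have hσx : σ x = x := by
        by_contra e; exact hxa (h x e hτx)
      have h1 : σ (τ x) = τ x := by
        by_contra e
        have h2 : τ (τ x) ≠ τ x := fun e' => hτx (τ.injective e')
        have h3 : τ x = a := h _ e h2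
        apply hxr
        rw [hr, ← h3, hinv]
      simp only [Perm.mul_apply, h1, hinv]
      exact hσinv x hσx
  rw [← card_support_eq_three_iff]
  have hsupp : (σ⁻¹ * τ⁻¹ * σ * τ).support = {a, q, r} := by
    ext x
    simp only [Perm.mem_support, Finset.mem_insert, Finset.mem_singleton]
    constructor
    · intro hx
      by_contra hne
      push Not at hne
      exact hx (hcx x hne.1 hne.2.1 hne.2.2)
    · rintro (rfl | rfl | rfl)
      · rw [hca]; exact hqa
      · rw [hcq]; exact hqr.symm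
      · rw [hcr]; exact hra.symm
  rw [hsupp]
  rw [Finset.card_eq_three]
  exact ⟨a, q, r, hqa.symm, hra.symm, hqr, rfl⟩

variable {G Ω : Type*} [Group G] [Fintype G] [MulAction G Ω] [Fintype Ω] [DecidableEq Ω]

/-- 2-transitive averaging: a small set `S` has a translate meeting it in exactly one
prescribed point. -/
theorem exists_inter_singleton
    (h2 : ∀ a b c d : Ω, a ≠ b → c ≠ d → ∃ h : G, h • a = c ∧ h • b = d)
    (S : Finset Ω) (a : Ω) (ha : a ∈ S) (n' m' : ℕ) (hn : Fintype.card Ω = n' + 1)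
    (hm : S.card = m' + 1) (hlt : m' ^ 2 < n') :
    ∃ u : G, u • a ∈ S ∧ ∀ b ∈ S, u • b ∈ S → b = a := by
  classical
  by_contra hcon
  push Not at hcon
  set N : Ω → ℕ := fun b => ∑ u : G, if (u • a ∈ S ∧ u • b ∈ S) then 1 else 0 with hN
  have hNa : N a = ∑ u : G, if u • a ∈ S then 1 else 0 := by simp [hN]
  have hNa_pos : 1 ≤ N a := by
    rw [hNa]
    calc 1 = (if (1:G) • a ∈ S then 1 else 0) := by simp [ha]
      _ ≤ _ := Finset.single_le_sum (f := fun u : G => if u • a ∈ S then 1 else 0)
          (by intros; positivity) (Finset.mem_univ 1)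
  have hconst : ∀ b b', b ≠ a → b' ≠ a → N b = N b' := by
    intro b b' hb hb'
    obtain ⟨v, hva, hvb⟩ := h2 a b' a b hb'.symm hb.symm
    simp only [hN]
    apply Fintype.sum_equiv (Equiv.mulRight v)
    intro u
    simp only [Equiv.coe_mulRight, mul_smul, hva, hvb]
  have hcard : ∀ u : G, (Finset.univ.filter (fun b : Ω => u • b ∈ S)).card = m' + 1 := by
    intro u
    rw [← hm]
    exact Finset.card_bijective (fun b => u • b) (MulAction.bijective u) (by simp)
  have htot : ∑ b, N b = N a * (m' + 1) := by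
    simp only [hN]
    rw [Finset.sum_comm]
    simp only [and_self]
    rw [Finset.sum_mul]
    apply Finset.sum_congr rfl
    intro u _
    by_cases hu : u • a ∈ S
    · simp only [hu, true_and, if_true, one_mul]
      rw [← hcard u, Finset.card_filter]
    · simp [hu]
  have hn1 : 1 ≤ n' := by
    rcases Nat.eq_zero_or_pos n' with h | h
    · subst h; simp at hlt
    · exact h
  obtain ⟨b0, hb0⟩ : ∃ b0 : Ω, b0 ≠ a := by
    apply Fintype.exists_ne_of_one_lt_card
    omega
  have hsum1 : ∑ b, N b = N a + n' * N b0 := by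
    rw [← Finset.add_sum_erase Finset.univ N (Finset.mem_univ a)]
    congr 1
    rw [Finset.sum_congr rfl (fun b hb => hconst b b0 (Finset.ne_of_mem_erase hb) hb0)]
    rw [Finset.sum_const, Finset.card_erase_of_mem (Finset.mem_univ a), Finset.card_univ, hn]
    simp
  have hsum2 : ∑ b ∈ S, N b = N a + m' * N b0 := by
    rw [← Finset.add_sum_erase S N ha]
    congr 1
    rw [Finset.sum_congr rfl (fun b hb => hconst b b0 (Finset.ne_of_mem_erase hb) hb0)]
    rw [Finset.sum_const, Finset.card_erase_of_mem ha, hm]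
    simp
  have hsum3 : 2 * N a ≤ ∑ b ∈ S, N b := by
    simp only [hN]
    rw [Finset.sum_comm]
    simp only [and_self]
    rw [Finset.mul_sum]
    apply Finset.sum_le_sum
    intro u _
    by_cases hu : u • a ∈ S
    · obtain ⟨b, hbS, hub, hba⟩ := hcon u hu
      simp only [hu, true_and, if_true, mul_one]
      have hsub : ({a, b} : Finset Ω) ⊆ S := by
        intro x hx
        simp only [Finset.mem_insert, Finset.mem_singleton] at hx
        rcases hx with rfl | rfl
        · exact ha
        · exact hbS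
      calc 2 = ∑ x ∈ ({a, b} : Finset Ω), (if u • x ∈ S then 1 else 0) := by
            rw [Finset.sum_pair hba.symm]; simp [hu, hub]
        _ ≤ _ := Finset.sum_le_sum_of_subset hsub
    · simp [hu]
  -- arithmetic
  have e1 : n' * N b0 = N a * m' := by
    have := htot.symm.trans hsum1
    nlinarith
  have e2 : N a ≤ m' * N b0 := by
    rw [hsum2] at hsum3; omega
  have e3 : n' * N a ≤ m' ^ 2 * N a := by
    calc n' * N a ≤ n' * (m' * N b0) := Nat.mul_le_mul_left _ e2
      _ = m' * (n' * N b0) := by ring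
      _ = m' * (N a * m') := by rw [e1]
      _ = m' ^ 2 * N a := by ring
  have e4 : m' ^ 2 * N a < n' * N a := Nat.mul_lt_mul_of_pos_right hlt hNa_pos
  omega

/-- The permutation group induced by a preprimitive action is preprimitive. -/
theorem isPreprimitive_range (hprim : MulAction.IsPreprimitive G Ω) :
    MulAction.IsPreprimitive (MulAction.toPermHom G Ω).range Ω := by
  let φ : G → (MulAction.toPermHom G Ω).range := fun g => ⟨MulAction.toPermHom G Ω g, ⟨g, rfl⟩⟩
  let f : Ω →ₑ[φ] Ω := ⟨id, fun g x => rfl⟩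
  exact MulAction.IsPreprimitive.of_surjective (f := f) Function.surjective_id

/-- Two-transitive case of the minimal degree bound. -/
theorem two_trans_bound (hprim : MulAction.IsPreprimitive G Ω)
    (hA : ¬ alternatingGroup Ω ≤ (MulAction.toPermHom G Ω).range)
    (h2 : ∀ a b c d : Ω, a ≠ b → c ≠ d → ∃ h : G, h • a = c ∧ h • b = d)
    (g : G) (S : Finset Ω) (hS : ∀ x, x ∈ S ↔ g • x ≠ x) (n' m' : ℕ)
    (hn : Fintype.card Ω = n' + 1) (hm : S.card = m' + 1) : n' ≤ m' ^ 2 := by
  by_contra hlt
  push Not at hlt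
  obtain ⟨a, ha⟩ : S.Nonempty := by
    rw [← Finset.card_pos]; omega
  obtain ⟨u, hua, hu⟩ := exists_inter_singleton h2 S a ha n' m' hn hm hlt
  apply hA
  set σ : Perm Ω := MulAction.toPermHom G Ω g with hσ
  set τ : Perm Ω := MulAction.toPermHom G Ω (u⁻¹ * g * u) with hτ
  have hσx : ∀ x, σ x = g • x := fun x => rfl
  have hτx : ∀ x, τ x ≠ x ↔ u • x ∈ S := by
    intro x
    rw [hS]
    have : τ x = u⁻¹ • g • u • x := by
      simp only [hτ, MulAction.toPermHom_apply, MulAction.toPerm_apply, mul_smul]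
    rw [this, not_iff_not, inv_smul_eq_iff]
  have h3 : (σ⁻¹ * τ⁻¹ * σ * τ).IsThreeCycle := by
    apply isThreeCycle_comm σ τ a
    · intro x h1 h2'
      rw [hσx, ← hS] at h1
      exact hu x h1 ((hτx x).1 h2')
    · rw [hσx, ← hS]; exact ha
    · rw [hτx]; exact hua
  have hmem : σ⁻¹ * τ⁻¹ * σ * τ ∈ (MulAction.toPermHom G Ω).range := by
    refine ⟨g⁻¹ * (u⁻¹ * g * u)⁻¹ * g * (u⁻¹ * g * u), ?_⟩
    simp only [map_mul, map_inv, hσ, hτ]
  exact Equiv.Perm.alternatingGroup_le_of_isPreprimitive_of_isThreeCycle_mem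
    (isPreprimitive_range hprim) h3 hmem

end Cfsg.Agent.Lib.H14.MinDeg
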