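import Mathlib

set_option autoImplicit false
set_option linter.unusedSectionVars false

namespace Cfsg.Agent.Lib.H14.MinDeg

open scoped Pointwise

section Conn

variable {G Ω : Type*} [Group G] [MulAction G Ω] [Finite Ω]

/-- In a preprimitive action, a set closed under the out-neighbours of a nontrivial invariant
relation is everything. -/
theorem closed_eq_univ (hprim : MulAction.IsPreprimitive G Ω) (r : Ω → Ω → Prop)
    (hr : ∀ (h : G) u v, r u v → r (h • u) (h • v))
    (a b : Ω) (hab : a ≠ b) (hrab : r a b) (B : Set Ω) (x : Ω) (hx : x ∈ B)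
    (hB : ∀ u ∈ B, ∀ v, r u v → v ∈ B) : B = Set.univ := by
  classical
  have := hprim.toIsPretransitive
  set R : Ω → Set Ω := fun x => {y | Relation.ReflTransGen r x y} with hR
  have hlift : ∀ (h : G) u v, Relation.ReflTransGen r u v →
      Relation.ReflTransGen r (h • u) (h • v) := by
    intro h u v huv
    exact Relation.ReflTransGen.lift (fun w => h • w) (fun p q => hr h p q) _ _ huv
  have hRsmul : ∀ (h : G) u, R (h • u) = h • R u := by
    intro h u
    ext y
    simp only [hR, Set.mem_ofPred_eq, Set.mem_smul_set_iff_inv_smul_mem]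
    constructor
    · intro hy
      have := hlift h⁻¹ _ _ hy
      rwa [inv_smul_smul] at this
    · intro hy
      have := hlift h _ _ hy
      rwa [smul_inv_smul] at this
  have hcard : ∀ u v, (R u).ncard = (R v).ncard := by
    intro u v
    obtain ⟨h, rfl⟩ := MulAction.exists_smul_eq G u v
    rw [hRsmul, Set.ncard_smul_set]
  have hsub : ∀ u v, v ∈ R u → R v ⊆ R u := by
    intro u v hv w hw
    exact Relation.ReflTransGen.trans hv hw
  have heq : ∀ u v, v ∈ R u → R v = R u := by
    intro u v hv
    exact Set.eq_of_subset_of_ncard_le (hsub u v hv) (hcard u v).le (Set.toFinite _)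
  have hself : ∀ u, u ∈ R u := fun u => Relation.ReflTransGen.refl
  have hblock : MulAction.IsBlock G (R x) := by
    rw [MulAction.isBlock_iff_smul_eq_or_disjoint]
    intro h
    rw [← hRsmul]
    by_cases hd : Disjoint (R (h • x)) (R x)
    · right; exact hd
    · left
      rw [Set.not_disjoint_iff] at hd
      obtain ⟨w, hw1, hw2⟩ := hd
      rw [← heq _ _ hw1, ← heq _ _ hw2]
  have htriv := hprim.isTrivialBlock_of_isBlock hblock
  have hRB : R x ⊆ B := by
    intro y hy
    induction hy with
    | refl => exact hx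
    | tail _ h2 ih => exact hB _ ih _ h2
  obtain ⟨h, rfl⟩ := MulAction.exists_smul_eq G a x
  rcases htriv with hs | ht
  · exfalso
    have h1 : h • b ∈ R (h • a) := Relation.ReflTransGen.single (hr h a b hrab)
    have := hs (hself _) h1
    exact hab (smul_left_cancel h this)
  · rw [← Set.univ_subset_iff, ← ht]
    exact hRB

end Conn

section Orbital

variable (G : Type*) {Ω : Type*} [Group G] [MulAction G Ω]

/-- `(x, y)` and `(x', y')` lie in the same orbital. -/
def SO (x y x' y' : Ω) : Prop := ∃ h : G, h • x = x' ∧ h • y = y'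

variable {G}

theorem SO.refl (x y : Ω) : SO G x y x y := ⟨1, one_smul _ _, one_smul _ _⟩

theorem SO.symm {x y x' y' : Ω} (h : SO G x y x' y') : SO G x' y' x y := by
  obtain ⟨u, h1, h2⟩ := h
  exact ⟨u⁻¹, by rw [← h1, inv_smul_smul], by rw [← h2, inv_smul_smul]⟩

theorem SO.trans {x y x' y' x'' y'' : Ω} (h : SO G x y x' y') (h' : SO G x' y' x'' y'') :
    SO G x y x'' y'' := by
  obtain ⟨u, h1, h2⟩ := h
  obtain ⟨v, h3, h4⟩ := h'
  exact ⟨v * u, by rw [mul_smul, h1, h3], by rw [mul_smul, h2, h4]⟩

theorem SO.smul (h : G) (x y : Ω) : SO G x y (h • x) (h • y) := ⟨h, rfl, rfl⟩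

theorem SO.swap {x y x' y' : Ω} (h : SO G x y x' y') : SO G y x y' x' := by
  obtain ⟨u, h1, h2⟩ := h
  exact ⟨u, h2, h1⟩

theorem SO.ne {x y x' y' : Ω} (h : SO G x y x' y') (hxy : x ≠ y) : x' ≠ y' := by
  obtain ⟨u, rfl, rfl⟩ := h
  exact fun e => hxy (smul_left_cancel u e)

theorem SO_right_smul_iff (h : G) (a b x y : Ω) : SO G a b (h • x) (h • y) ↔ SO G a b x y :=
  ⟨fun H => H.trans (SO.smul h x y).symm, fun H => H.trans (SO.smul h x y)⟩

theorem SO_smul_iff (h : G) (x z y w : Ω) :
    SO G (h • x) (h • z) (h • y) (h • w) ↔ SO G x z y w :=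
  ⟨fun H => ((SO.smul h x z).trans H).trans (SO.smul h y w).symm,
   fun H => ((SO.smul h x z).symm.trans H).trans (SO.smul h y w)⟩

end Orbital

section Dset

variable (G : Type*) {Ω : Type*} [Group G] [MulAction G Ω] [Fintype Ω] [DecidableEq Ω]

open Classical in
/-- The points distinguishing `x` from `y`. -/
noncomputable def Dset (x y : Ω) : Finset Ω := Finset.univ.filter (fun z => ¬ SO G x z y z)

open Classical in
/-- The out-neighbours of `x` in the orbital of `(a, b)`. -/
noncomputable def Nb (a b x : Ω) : Finset Ω := Finset.univ.filter (fun w => SO G a b x w)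

open Classical in
/-- The in-neighbours of `w` in the orbital of `(a, b)`. -/
noncomputable def NbI (a b w : Ω) : Finset Ω := Finset.univ.filter (fun x => SO G a b x w)

variable {G}

theorem mem_Dset {x y z : Ω} : z ∈ Dset G x y ↔ ¬ SO G x z y z := by
  simp [Dset]

theorem mem_Nb {a b x w : Ω} : w ∈ Nb G a b x ↔ SO G a b x w := by
  simp [Nb]

theorem mem_NbI {a b x w : Ω} : x ∈ NbI G a b w ↔ SO G a b x w := by
  simp [NbI]

theorem Dset_comm (x y : Ω) : Dset G x y = Dset G y x := by
  ext z
  rw [mem_Dset, mem_Dset]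
  exact not_congr ⟨SO.symm, SO.symm⟩

theorem Dset_self (x : Ω) : Dset G x x = ∅ := by
  ext z
  rw [mem_Dset]
  simp [SO.refl]

theorem Dset_triangle (x y z : Ω) : Dset G x z ⊆ Dset G x y ∪ Dset G y z := by
  intro w hw
  rw [Finset.mem_union, mem_Dset, mem_Dset]
  rw [mem_Dset] at hw
  by_contra hcon
  push Not at hcon
  exact hw (hcon.1.trans hcon.2)

theorem card_Dset_triangle (x y z : Ω) :
    (Dset G x z).card ≤ (Dset G x y).card + (Dset G y z).card :=
  (Finset.card_le_card (Dset_triangle x y z)).trans (Finset.card_union_le _ _)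

theorem card_Dset_smul (h : G) (x y : Ω) :
    (Dset G (h • x) (h • y)).card = (Dset G x y).card := by
  symm
  apply Finset.card_bijective (fun z => h • z) (MulAction.bijective h)
  intro z
  rw [mem_Dset, mem_Dset, SO_smul_iff]

theorem card_Dset_of_SO {x y x' y' : Ω} (h : SO G x y x' y') :
    (Dset G x' y').card = (Dset G x y).card := by
  obtain ⟨u, rfl, rfl⟩ := h
  exact card_Dset_smul u x y

theorem Dset_subset_supp (h : G) (x : Ω) (S : Finset Ω) (hS : ∀ z, z ∈ S ↔ h • z ≠ z) :
    Dset G x (h • x) ⊆ S := by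
  intro z hz
  rw [hS]
  rw [mem_Dset] at hz
  intro hfix
  exact hz ⟨h, rfl, hfix⟩

theorem card_Nb_smul (h : G) (a b x : Ω) :
    (Nb G a b (h • x)).card = (Nb G a b x).card := by
  symm
  apply Finset.card_bijective (fun z => h • z) (MulAction.bijective h)
  intro z
  rw [mem_Nb, mem_Nb, SO_right_smul_iff]

theorem card_NbI_smul (h : G) (a b w : Ω) :
    (NbI G a b (h • w)).card = (NbI G a b w).card := by
  symm
  apply Finset.card_bijective (fun z => h • z) (MulAction.bijective h)
  intro z
  rw [mem_NbI, mem_NbI, SO_right_smul_iff]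

theorem card_Nb_eq [MulAction.IsPretransitive G Ω] (a b x y : Ω) :
    (Nb G a b x).card = (Nb G a b y).card := by
  obtain ⟨h, rfl⟩ := MulAction.exists_smul_eq G y x
  exact card_Nb_smul h a b y

theorem card_NbI_eq' [MulAction.IsPretransitive G Ω] (a b x y : Ω) :
    (NbI G a b x).card = (NbI G a b y).card := by
  obtain ⟨h, rfl⟩ := MulAction.exists_smul_eq G y x
  exact card_NbI_smul h a b y

theorem card_NbI_eq [MulAction.IsPretransitive G Ω] (a b x w : Ω) :
    (NbI G a b w).card = (Nb G a b x).card := by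
  classical
  have h1 : ∑ x' : Ω, (Nb G a b x').card = ∑ w' : Ω, (NbI G a b w').card := by
    simp only [Nb, NbI, Finset.card_filter]
    rw [Finset.sum_comm]
  rw [Finset.sum_congr rfl (fun x' _ => card_Nb_eq a b x' x),
    Finset.sum_congr rfl (fun w' _ => card_NbI_eq' a b w' w)] at h1
  simp only [Finset.sum_const, Finset.card_univ, smul_eq_mul] at h1
  have hpos : 0 < Fintype.card Ω := Fintype.card_pos_iff.2 ⟨x⟩
  exact (Nat.eq_of_mul_eq_mul_left hpos h1).symm

theorem Nb_sdiff_subset_Dset (a b x y : Ω) : Nb G a b x \ Nb G a b y ⊆ Dset G x y := by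
  intro w hw
  rw [Finset.mem_sdiff, mem_Nb, mem_Nb] at hw
  rw [mem_Dset]
  intro h
  exact hw.2 (hw.1.trans h)

theorem card_Dset_ge (a b x y : Ω) :
    (Nb G a b x).card + (Nb G a b y).card ≤
      (Dset G x y).card + 2 * (Nb G a b x ∩ Nb G a b y).card := by
  have h1 := Nb_sdiff_subset_Dset (G := G) a b x y
  have h2 := Nb_sdiff_subset_Dset (G := G) a b y x
  rw [Dset_comm] at h2
  have hd : Disjoint (Nb G a b x \ Nb G a b y) (Nb G a b y \ Nb G a b x) := by
    rw [Finset.disjoint_left]
    intro w hw1 hw2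
    rw [Finset.mem_sdiff] at hw1 hw2
    exact hw1.2 hw2.1
  have h3 := Finset.card_le_card (Finset.union_subset h1 h2)
  rw [Finset.card_union_of_disjoint hd] at h3
  have h4 := Finset.card_sdiff_add_card_inter (Nb G a b x) (Nb G a b y)
  have h5 := Finset.card_sdiff_add_card_inter (Nb G a b y) (Nb G a b x)
  rw [Finset.inter_comm] at h5
  omega

end Dset

end Cfsg.Agent.Lib.H14.MinDeg
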