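import Cfsg.Agent.Lib.H14.MinDegB

set_option autoImplicit false
set_option linter.unusedSectionVars false

namespace Cfsg.Agent.Lib.H14.MinDeg

variable {G : Type*} {Ω : Type*} [Group G] [MulAction G Ω] [Fintype Ω] [DecidableEq Ω]

theorem sum_card_inter_Nb [MulAction.IsPretransitive G Ω] (a b x : Ω) :
    ∑ y : Ω, (Nb G a b x ∩ Nb G a b y).card = (Nb G a b x).card * (Nb G a b x).card := by
  classical
  have h1 : ∀ y : Ω, (Nb G a b x ∩ Nb G a b y).card =
      ∑ w : Ω, if (SO G a b x w ∧ SO G a b y w) then 1 else 0 := by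
    intro y
    rw [← Finset.card_filter]
    congr 1
    ext w
    simp [mem_Nb]
  simp only [h1]
  rw [Finset.sum_comm]
  have h2 : ∀ w : Ω, (∑ y : Ω, if (SO G a b x w ∧ SO G a b y w) then 1 else 0) =
      if SO G a b x w then (Nb G a b x).card else 0 := by
    intro w
    by_cases hw : SO G a b x w
    · simp only [hw, true_and, if_true]
      rw [← Finset.card_filter, ← card_NbI_eq a b x w]
      rfl
    · simp [hw]
  simp only [h2]
  rw [← Finset.sum_filter, Finset.sum_const, smul_eq_mul]
  rfl

theorem exists_far [MulAction.IsPretransitive G Ω] (a b x : Ω) (n' : ℕ)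
    (hn : Fintype.card Ω = n' + 1) (hn1 : 1 ≤ n') :
    ∃ y, y ≠ x ∧
      2 * (Nb G a b x).card * n' + 2 * (Nb G a b x).card ≤
        n' * (Dset G x y).card + 2 * (Nb G a b x).card * (Nb G a b x).card := by
  classical
  set k := (Nb G a b x).card with hk
  have htot := sum_card_inter_Nb (G := G) a b x
  rw [← Finset.add_sum_erase Finset.univ _ (Finset.mem_univ x), Finset.inter_self, ← hk] at htot
  set T := ∑ y ∈ Finset.univ.erase x, (Nb G a b x ∩ Nb G a b y).card with hT
  have hcard : (Finset.univ.erase x : Finset Ω).card = n' := by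
    rw [Finset.card_erase_of_mem (Finset.mem_univ x), Finset.card_univ, hn]; simp
  have hne : (Finset.univ.erase x : Finset Ω).Nonempty := by
    rw [← Finset.card_pos, hcard]; exact hn1
  obtain ⟨y, hy, hle⟩ := Finset.exists_le_of_sum_le hne
    (f := fun y => n' * (Nb G a b x ∩ Nb G a b y).card) (g := fun _ => T) (by
      rw [← Finset.mul_sum, Finset.sum_const, hcard, smul_eq_mul])
  refine ⟨y, Finset.ne_of_mem_erase hy, ?_⟩
  have h3 := card_Dset_ge (G := G) a b x y
  rw [card_Nb_eq a b y x, ← hk] at h3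
  have h4 : n' * (k + k) ≤ n' * ((Dset G x y).card + 2 * (Nb G a b x ∩ Nb G a b y).card) :=
    Nat.mul_le_mul_left _ h3
  have hle' : n' * (Nb G a b x ∩ Nb G a b y).card ≤ T := hle
  nlinarith

open Classical in
/-- number of edges of the orbital of `(a,b)` distinguished by `z` -/
noncomputable def cnt (G : Type*) {Ω : Type*} [Group G] [MulAction G Ω] [Fintype Ω]
    (a b z : Ω) : ℕ :=
  ∑ x : Ω, ∑ y : Ω, if (SO G a b x y ∧ ¬ SO G x z y z) then 1 else 0

theorem cnt_smul (h : G) (a b z : Ω) : cnt G a b (h • z) = cnt G a b z := by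
  classical
  unfold cnt
  symm
  apply Fintype.sum_equiv (MulAction.toPerm h)
  intro x
  apply Fintype.sum_equiv (MulAction.toPerm h)
  intro y
  simp only [MulAction.toPerm_apply]
  rw [SO_smul_iff, SO_right_smul_iff]

theorem sum_cnt [MulAction.IsPretransitive G Ω] (a b : Ω) :
    ∑ z : Ω, cnt G a b z = Fintype.card Ω * ((Nb G a b a).card * (Dset G a b).card) := by
  classical
  unfold cnt
  rw [Finset.sum_comm]
  have h1 : ∀ x : Ω, (∑ z : Ω, ∑ y : Ω, if (SO G a b x y ∧ ¬ SO G x z y z) then 1 else 0) =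
      (Nb G a b a).card * (Dset G a b).card := by
    intro x
    rw [Finset.sum_comm]
    have h2 : ∀ y : Ω, (∑ z : Ω, if (SO G a b x y ∧ ¬ SO G x z y z) then 1 else 0) =
        if SO G a b x y then (Dset G a b).card else 0 := by
      intro y
      by_cases hxy : SO G a b x y
      · simp only [hxy, true_and, if_true]
        rw [← Finset.card_filter, ← card_Dset_of_SO hxy]
        rfl
      · simp [hxy]
    simp only [h2]
    rw [← Finset.sum_filter, Finset.sum_const, smul_eq_mul, ← card_Nb_eq a b x a]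
    rfl
  simp only [h1]
  rw [Finset.sum_const, Finset.card_univ, smul_eq_mul]

theorem cnt_eq [MulAction.IsPretransitive G Ω] (a b z : Ω) :
    cnt G a b z = (Nb G a b a).card * (Dset G a b).card := by
  have h1 := sum_cnt (G := G) a b
  have h2 : ∀ z' : Ω, cnt G a b z' = cnt G a b z := by
    intro z'
    obtain ⟨h, rfl⟩ := MulAction.exists_smul_eq G z z'
    exact cnt_smul h a b z
  rw [Finset.sum_congr rfl (fun z' _ => h2 z'), Finset.sum_const, Finset.card_univ,
    smul_eq_mul] at h1
  have hpos : 0 < Fintype.card Ω := Fintype.card_pos_iff.2 ⟨z⟩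
  exact Nat.eq_of_mul_eq_mul_left hpos h1

theorem cnt_ge (hprim : MulAction.IsPreprimitive G Ω) (a b : Ω) (hab : a ≠ b) (z : Ω) (n' : ℕ)
    (hn : Fintype.card Ω = n' + 1) :
    n' + (Nb G a b a).card ≤ cnt G a b z := by
  classical
  have := hprim.toIsPretransitive
  unfold cnt
  rw [← Finset.add_sum_erase Finset.univ _ (Finset.mem_univ z)]
  have hz : (∑ y : Ω, if (SO G a b z y ∧ ¬ SO G z z y z) then 1 else 0) = (Nb G a b a).card := by
    rw [card_Nb_eq a b a z, Nb, Finset.card_filter]
    apply Finset.sum_congr rfl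
    intro y _
    have : SO G a b z y → ¬ SO G z z y z := by
      intro h1 h2
      obtain ⟨u, hu1, hu2⟩ := h2
      exact (h1.ne hab) (hu2.symm.trans hu1)
    by_cases h1 : SO G a b z y
    · simp [h1, this h1]
    · simp [h1]
  rw [hz, add_comm]
  apply Nat.add_le_add_left
  have hcard : (Finset.univ.erase z : Finset Ω).card = n' := by
    rw [Finset.card_erase_of_mem (Finset.mem_univ z), Finset.card_univ, hn]; simp
  calc n' = ∑ x ∈ Finset.univ.erase z, 1 := by rw [Finset.sum_const, hcard]; simp
    _ ≤ _ := ?_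
  apply Finset.sum_le_sum
  intro x hx
  have hxz : x ≠ z := Finset.ne_of_mem_erase hx
  -- some neighbour of x is distinguished from x by z
  by_contra hcon
  push Not at hcon
  have hzero : (∑ y : Ω, if (SO G a b x y ∧ ¬ SO G x z y z) then 1 else 0) = 0 := by omega
  rw [Finset.sum_eq_zero_iff] at hzero
  have hall : ∀ y, SO G a b x y → SO G x z y z := by
    intro y hy
    by_contra hne
    have := hzero y (Finset.mem_univ y)
    simp [hy, hne] at this
  -- the orbit of x under the stabiliser of z is closed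
  have hB := closed_eq_univ hprim (fun u v => SO G a b u v)
    (fun h u v huv => (SO_right_smul_iff h a b u v).2 huv) a b hab (SO.refl a b)
    {u | SO G x z u z} x (SO.refl x z) (by
      intro u hu v huv
      obtain ⟨h, rfl, hhz⟩ := hu
      have h1 : SO G a b x (h⁻¹ • v) := by
        have := (SO_right_smul_iff h⁻¹ a b (h • x) v).2 huv
        rwa [inv_smul_smul] at this
      have h2 := hall _ h1
      have h3 := (SO_smul_iff h x z (h⁻¹ • v) z).2 h2
      rw [smul_inv_smul, hhz] at h3
      exact (show SO G x z (h • x) z from ⟨h, rfl, hhz⟩).trans h3)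
  have hzB : z ∈ {u | SO G x z u z} := by rw [hB]; exact Set.mem_univ z
  obtain ⟨u, hu1, hu2⟩ := hzB
  exact hxz (smul_left_cancel u (hu1.trans hu2.symm))

theorem val_mul_delta_ge (hprim : MulAction.IsPreprimitive G Ω) (a b : Ω) (hab : a ≠ b) (n' : ℕ)
    (hn : Fintype.card Ω = n' + 1) :
    n' + (Nb G a b a).card ≤ (Nb G a b a).card * (Dset G a b).card := by
  have := hprim.toIsPretransitive
  rw [← cnt_eq a b a]
  exact cnt_ge hprim a b hab a n' hn

end Cfsg.Agent.Lib.H14.MinDeg
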