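import Cfsg.Agent.Lib.H14.MinDegC

set_option autoImplicit false
set_option linter.unusedSectionVars false

namespace Cfsg.Agent.Lib.H14.MinDeg

variable {G : Type*} {Ω : Type*} [Group G] [MulAction G Ω] [Fintype Ω] [DecidableEq Ω]

/-- two different nondiagonal orbitals: one of them has valency at most `(n-1)/2` -/
theorem exists_small_val [MulAction.IsPretransitive G Ω] (a b c d : Ω) (hab : a ≠ b) (hcd : c ≠ d)
    (hne : ¬ SO G a b c d) (n' : ℕ) (hn : Fintype.card Ω = n' + 1) :
    ∃ a' b' : Ω, a' ≠ b' ∧ 2 * (Nb G a' b' a').card ≤ n' := by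
  classical
  have hdisj : Disjoint (Nb G a b a) (Nb G c d a) := by
    rw [Finset.disjoint_left]
    intro w h1 h2
    rw [mem_Nb] at h1 h2
    exact hne (h1.trans h2.symm)
  have hsub : Nb G a b a ∪ Nb G c d a ⊆ Finset.univ.erase a := by
    intro w hw
    rw [Finset.mem_erase]
    refine ⟨?_, Finset.mem_univ w⟩
    rw [Finset.mem_union, mem_Nb, mem_Nb] at hw
    rcases hw with h | h
    · exact (h.ne hab).symm
    · exact (h.ne hcd).symm
  have h1 := Finset.card_le_card hsub
  rw [Finset.card_union_of_disjoint hdisj, Finset.card_erase_of_mem (Finset.mem_univ a),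
    Finset.card_univ, hn, card_Nb_eq c d a c] at h1
  by_cases hle : (Nb G a b a).card ≤ (Nb G c d c).card
  · exact ⟨a, b, hab, by omega⟩
  · exact ⟨c, d, hcd, by omega⟩

/-- The uniprimitive case: every pair of distinct points is distinguished by at least
`√n / 2` points. -/
theorem uniprim_delta (hprim : MulAction.IsPreprimitive G Ω)
    (hn2 : ∃ a b c d : Ω, a ≠ b ∧ c ≠ d ∧ ¬ SO G a b c d)
    (x0 y0 : Ω) (hxy0 : x0 ≠ y0)
    (hmin : ∀ x y : Ω, x ≠ y → (Dset G x0 y0).card ≤ (Dset G x y).card) :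
    Fintype.card Ω ≤ (2 * (Dset G x0 y0).card) ^ 2 := by
  classical
  have := hprim.toIsPretransitive
  obtain ⟨n', hn⟩ : ∃ n', Fintype.card Ω = n' + 1 :=
    Nat.exists_eq_succ_of_ne_zero (Fintype.card_pos_iff.2 ⟨x0⟩).ne'
  have hn1 : 1 ≤ n' := by
    have : 1 < Fintype.card Ω := Fintype.one_lt_card_iff.2 ⟨x0, y0, hxy0⟩
    omega
  set δ := (Dset G x0 y0).card with hδ
  set k := (Nb G x0 y0 x0).card with hk
  have hkδ : n' + k ≤ k * δ := val_mul_delta_ge hprim x0 y0 hxy0 n' hn
  -- the symmetrised orbital graph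
  set r : Ω → Ω → Prop := fun u v => SO G x0 y0 u v ∨ SO G x0 y0 v u with hr
  have hrδ : ∀ u v, r u v → (Dset G u v).card = δ := by
    intro u v huv
    rcases huv with h | h
    · exact card_Dset_of_SO h
    · rw [Dset_comm]; exact card_Dset_of_SO h
  have hrinv : ∀ (h : G) u v, r u v → r (h • u) (h • v) := by
    intro h u v huv
    rcases huv with h1 | h1
    · left; exact (SO_right_smul_iff h x0 y0 u v).2 h1
    · right; exact (SO_right_smul_iff h x0 y0 v u).2 h1
  set B : Set Ω := {y | y = x0 ∨ r x0 y ∨ ∃ w, r x0 w ∧ r w y} with hB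
  have hB2 : ∀ y ∈ B, (Dset G x0 y).card ≤ 2 * δ := by
    intro y hy
    rcases hy with rfl | h | ⟨w, h1, h2⟩
    · rw [Dset_self]; simp
    · rw [hrδ _ _ h]; omega
    · have := card_Dset_triangle (G := G) x0 w y
      rw [hrδ _ _ h1, hrδ _ _ h2] at this
      omega
  by_cases hBu : B = Set.univ
  · -- everything within distance two
    have hall : ∀ u v : Ω, (Dset G u v).card ≤ 2 * δ := by
      intro u v
      obtain ⟨h, rfl⟩ := MulAction.exists_smul_eq G x0 u
      have h1 : h⁻¹ • v ∈ B := by rw [hBu]; exact Set.mem_univ _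
      have h2 := hB2 _ h1
      rw [← card_Dset_smul h, smul_inv_smul] at h2
      exact h2
    obtain ⟨a, b, c, d, hab, hcd, hne⟩ := hn2
    obtain ⟨a', b', hab', hval⟩ := exists_small_val a b c d hab hcd hne n' hn
    set k' := (Nb G a' b' a').card with hk'
    have hk'δ : n' + k' ≤ k' * (Dset G a' b').card := val_mul_delta_ge hprim a' b' hab' n' hn
    obtain ⟨y, hy, hfar⟩ := exists_far (G := G) a' b' a' n' hn hn1
    rw [← hk'] at hfar
    have h1 := hall a' y
    have h2 := hall a' b'
    have h3 : k' ≤ 2 * δ := by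
      by_contra hcon
      push Not at hcon
      have h4 : n' * (Dset G a' y).card ≤ n' * (2 * δ) := Nat.mul_le_mul_left _ h1
      have h5 : n' * (2 * δ) < n' * k' := Nat.mul_lt_mul_of_pos_left hcon hn1
      nlinarith
    have h4 : k' * (Dset G a' b').card ≤ (2 * δ) * (2 * δ) := Nat.mul_le_mul h3 h2
    have hk'1 : 1 ≤ k' := by
      rw [hk', Finset.one_le_card]
      exact ⟨b', mem_Nb.2 (SO.refl a' b')⟩
    rw [hn, pow_two]
    omega
  · -- some point at distance three
    have hex : ∃ w ∈ B, ∃ y, r w y ∧ y ∉ B := by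
      by_contra hcon
      push Not at hcon
      apply hBu
      exact closed_eq_univ hprim r hrinv x0 y0 hxy0 (Or.inl (SO.refl x0 y0)) B x0 (Or.inl rfl) hcon
    obtain ⟨w, hw, y, hwy, hyB⟩ := hex
    have h3 : (Dset G x0 y).card ≤ 3 * δ := by
      have h1 := card_Dset_triangle (G := G) x0 w y
      have h2 := hB2 w hw
      rw [hrδ _ _ hwy] at h1
      omega
    have hdisj : Nb G x0 y0 x0 ∩ Nb G x0 y0 y = ∅ := by
      rw [Finset.eq_empty_iff_forall_notMem]
      intro u hu
      rw [Finset.mem_inter, mem_Nb, mem_Nb] at hu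
      apply hyB
      right; right
      exact ⟨u, Or.inl hu.1, Or.inr hu.2⟩
    have h4 := card_Dset_ge (G := G) x0 y0 x0 y
    rw [hdisj, card_Nb_eq x0 y0 y x0, ← hk] at h4
    simp only [Finset.card_empty, mul_zero, add_zero] at h4
    have h5 : 2 * k ≤ 3 * δ := by omega
    rw [hn, pow_two]
    nlinarith

end Cfsg.Agent.Lib.H14.MinDeg
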