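import Cfsg.Agent.Lib.L0.NPCReduction

/-!
# Minimal-counterexample reduction for normal `p`-complement theorems, with a side condition
(helper14; a variant of lead's `Lib/L0/NPCReduction.lean`)

`LocalHypG p Good Hyp` : as `L0.LocalHyp`, but the groups are restricted by a predicate `Good`
inherited by subgroups and quotients, and `of_normalizers` may use `Good X`.
`npc_of_localHypG` : the reduction to `L0.FinalConfig` under the side condition.
-/

set_option autoImplicit false

universe u

namespace Cfsg.Agent.Lib.H14.NPCG

open Cfsg.Agent.Lib Cfsg.Agent.Lib.L0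

/-- An abstract `p`-local hypothesis for the groups satisfying `Good`. -/
structure LocalHypG (p : ℕ) (Good : ∀ (X : Type u) [Group X], Prop)
    (Hyp : ∀ (X : Type u) [Group X], Subgroup X → Prop) : Prop where
  good_injective : ∀ {X Y : Type u} [Group X] [Group Y] [Finite Y] (f : X →* Y),
    Function.Injective f → Good Y → Good X
  good_quotient : ∀ {X : Type u} [Group X] [Finite X] (N : Subgroup X) [N.Normal],
    Good X → Good (X ⧸ N)
  of_injective : ∀ {X Y : Type u} [Group X] [Group Y] [Finite Y] (f : X →* Y),
    Function.Injective f → ∀ T : Subgroup X, Hyp Y (T.map f) → Hyp X T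
  quotient : ∀ {X : Type u} [Group X] [Finite X] (N : Subgroup X) [N.Normal],
    (Nat.card N).Coprime p → ∀ T : Subgroup X, IsPGroup p T → Hyp X T →
      Hyp (X ⧸ N) (T.map (QuotientGroup.mk' N))
  of_normalizers : ∀ {X : Type u} [Group X] [Finite X], Good X → ∀ T : Subgroup X,
    IsPGroup p T → T ≠ ⊥ →
    (∀ U : Subgroup X, U ≤ T → U ≠ ⊥ →
      Subgroup.normalizer (T : Set X) ≤ Subgroup.normalizer (U : Set X) →
      Cfsg.HasNormalPComplement p (Subgroup.normalizer (U : Set X))) → Hyp X T

section main

variable {p : ℕ} [hp : Fact p.Prime] {Good : ∀ (X : Type u) [Group X], Prop}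
  {Hyp : ∀ (X : Type u) [Group X], Subgroup X → Prop}

theorem LocalHypG.sylow_conj (hH : LocalHypG p Good Hyp) {G : Type u} [Group G] [Finite G]
    (P : Sylow p G) (hP : Hyp G (P : Subgroup G)) (P' : Sylow p G) :
    Hyp G (P' : Subgroup G) := by
  obtain ⟨g, hg⟩ := MulAction.exists_smul_eq G P' P
  apply hH.of_injective (MulAut.conj g).toMonoidHom (MulAut.conj g).injective
  have h1 : ((P' : Subgroup G).map (MulAut.conj g).toMonoidHom) = (P : Subgroup G) := by
    rw [← hg, Sylow.coe_subgroup_smul, Subgroup.pointwise_smul_def]
    rfl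
  rw [h1]; exact hP

theorem LocalHypG.sylow_subgroup (hH : LocalHypG p Good Hyp) {G : Type u} [Group G] [Finite G]
    (L : Subgroup G) (P : Sylow p G) (hPL : (P : Subgroup G) ≤ L) (hP : Hyp G (P : Subgroup G)) :
    Hyp L ((P.subtype hPL : Sylow p L) : Subgroup L) := by
  apply hH.of_injective L.subtype L.subtype_injective
  rw [Sylow.coe_subtype, Subgroup.map_subgroupOf_eq_of_le hPL]
  exact hP

theorem npc_of_localHypG_aux (hH : LocalHypG p Good Hyp)
    (final : ∀ (X : Type u) [Group X] [Finite X], Good X → FinalConfig p Hyp X → False) :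
    ∀ (n : ℕ) (G : Type u) [Group G] [Finite G], Nat.card G = n → Good G →
      ∀ P : Sylow p G, Hyp G (P : Subgroup G) → Cfsg.HasNormalPComplement p G := by
  intro n
  induction n using Nat.strong_induction_on with
  | _ n ih =>
  intro G _ _ hn hGood P hP
  by_contra hnot
  have hall : ∀ P' : Sylow p G, Hyp G (P' : Subgroup G) := hH.sylow_conj P hP
  -- proper subgroups containing a Sylow subgroup
  have hproper : ∀ L : Subgroup G, L ≠ ⊤ → (∃ P' : Sylow p G, (P' : Subgroup G) ≤ L) →
      Cfsg.HasNormalPComplement p L := by
    rintro L hL ⟨P', hP'⟩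
    have hlt : Nat.card L < n := by rw [← hn]; exact card_lt_card_of_ne_top hL
    exact ih _ hlt L rfl (hH.good_injective L.subtype L.subtype_injective hGood) (P'.subtype hP')
      (hH.sylow_subgroup L P' hP' (hall P'))
  -- trivial p'-core
  have hpprime : ∀ N : Subgroup G, N.Normal → (Nat.card N).Coprime p → N = ⊥ := by
    intro N hN hcop
    by_contra hNb
    have hlt : Nat.card (G ⧸ N) < n := by rw [← hn]; exact card_quotient_lt_of_ne_bot hNb
    have h1 := ih _ hlt (G ⧸ N) rfl (hH.good_quotient N hGood)
      (P.mapSurjective (QuotientGroup.mk'_surjective N))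
      (by rw [Sylow.coe_mapSurjective]; exact hH.quotient N hcop P P.2 hP)
    exact hnot (hasNormalPComplement_of_quotient N
      ((Nat.Prime.coprime_iff_not_dvd hp.out).mp hcop.symm) h1)
  -- extremal choice
  obtain ⟨Q₀, hQ₀p, hQ₀ne, hQ₀n⟩ := exists_normalizer_not_npc hnot
  obtain ⟨H, ⟨hHp, hHne, hHn⟩, hM1, hM2⟩ := exists_extremal
    {Q : Subgroup G | IsPGroup p Q ∧ Q ≠ ⊥ ∧
      ¬ Cfsg.HasNormalPComplement p (Subgroup.normalizer (Q : Set G))} ⟨Q₀, hQ₀p, hQ₀ne, hQ₀n⟩
    (fun Q => (Nat.card (Subgroup.normalizer (Q : Set G))).factorization p)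
  simp only [Set.mem_setOf_eq, and_imp] at hM1 hM2
  -- `H` is normal
  have hNtop : Subgroup.normalizer (H : Set G) = ⊤ := by
    by_contra hNtop
    set N := Subgroup.normalizer (H : Set G) with hNdef
    let T' : Sylow p N := Classical.arbitrary _
    set T : Subgroup G := (T' : Subgroup N).map N.subtype with hTdef
    have hTp : IsPGroup p T := T'.2.map _
    have hTcard : Nat.card T = p ^ (Nat.card N).factorization p := by
      rw [hTdef, Subgroup.card_map_of_injective N.subtype_injective, T'.card_eq_multiplicity]
    have heH : 1 ≤ (Nat.card N).factorization p := by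
      obtain ⟨k, hk⟩ := IsPGroup.iff_card.mp hHp
      have h1 : k ≤ (Nat.card N).factorization p :=
        le_factorization_of_isPGroup (Subgroup.le_normalizer) hk
      have h2 : 1 < Nat.card H := (Subgroup.one_lt_card_iff_ne_bot H).mpr hHne
      rcases Nat.eq_zero_or_pos k with h0 | h0
      · rw [h0, pow_zero] at hk; omega
      · omega
    have hTne : T ≠ ⊥ := by
      rw [← Subgroup.one_lt_card_iff_ne_bot, hTcard]
      exact Nat.one_lt_pow (by omega) hp.out.one_lt
    have hTN : T ≤ N := Subgroup.map_subtype_le _
    have hHypT : Hyp G T := by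
      by_cases hTs : Nat.card T = p ^ (Nat.card G).factorization p
      · have := hall (Sylow.ofCard T hTs)
        rwa [Sylow.coe_ofCard] at this
      · apply hH.of_normalizers hGood T hTp hTne
        intro U hUT hUne hNTU
        obtain ⟨P'', hTP''⟩ := hTp.exists_le_sylow
        have hlt : T < (P'' : Subgroup G) := by
          refine lt_of_le_of_ne hTP'' ?_
          intro heq
          apply hTs
          rw [heq]; exact P''.card_eq_multiplicity
        have h1 := H10.lt_inf_normalizer_of_lt P''.2 hlt
        have hSp : IsPGroup p ((P'' : Subgroup G) ⊓ Subgroup.normalizer (T : Set G) :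
            Subgroup G) := P''.2.to_le inf_le_left
        obtain ⟨k, hk⟩ := IsPGroup.iff_card.mp hSp
        have h2 : k ≤ (Nat.card (Subgroup.normalizer (U : Set G))).factorization p :=
          le_factorization_of_isPGroup (inf_le_right.trans hNTU) hk
        have h3 : (Nat.card N).factorization p < k := by
          have h4 : Nat.card T < Nat.card ((P'' : Subgroup G) ⊓
              Subgroup.normalizer (T : Set G) : Subgroup G) := by
            by_contra h5
            push Not at h5
            exact absurd (Subgroup.eq_of_le_of_card_ge h1.le h5) h1.ne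
          rw [hTcard, hk] at h4
          exact (Nat.pow_lt_pow_iff_right hp.out.one_lt).mp h4
        by_contra hU
        have h5 := hM1 U (hTp.to_le hUT) hUne hU
        omega
    have hHypT' : Hyp N (T' : Subgroup N) := by
      apply hH.of_injective N.subtype N.subtype_injective
      exact hHypT
    have hlt : Nat.card N < n := by rw [← hn]; exact card_lt_card_of_ne_top hNtop
    exact hHn (ih _ hlt N rfl (hH.good_injective N.subtype N.subtype_injective hGood) T' hHypT')
  have hHnormal : H.Normal := Subgroup.normalizer_eq_top_iff.mp hNtop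
  have heH : (Nat.card (Subgroup.normalizer (H : Set G))).factorization p =
      (Nat.card G).factorization p := by
    rw [hNtop, Subgroup.card_top]
  -- normal `p`-subgroups lie in `H`
  have hmaxH : ∀ H' : Subgroup G, H'.Normal → IsPGroup p H' → H' ≤ H := by
    intro H' hH'n hH'p
    have hQn : (H ⊔ H').Normal := Subgroup.sup_normal H H'
    have hQtop : Subgroup.normalizer ((H ⊔ H' : Subgroup G) : Set G) = ⊤ :=
      Subgroup.normalizer_eq_top_iff.mpr hQn
    have hQp : IsPGroup p (H ⊔ H' : Subgroup G) := IsPGroup.to_sup_of_normal_right hHp hH'p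
    have hQne : H ⊔ H' ≠ ⊥ := fun h => hHne (le_bot_iff.mp (h ▸ le_sup_left))
    have hQn' : ¬ Cfsg.HasNormalPComplement p
        (Subgroup.normalizer ((H ⊔ H' : Subgroup G) : Set G)) := by
      rw [hQtop, hasNormalPComplement_top_iff]; exact hnot
    have h1 := hM2 (H ⊔ H') hQp hQne hQn' (by rw [hQtop, hNtop])
    have h2 : H = H ⊔ H' := Subgroup.eq_of_le_of_card_ge le_sup_left h1
    rw [h2]; exact le_sup_right
  -- the quotient by `H`
  have hquot : Cfsg.HasNormalPComplement p (G ⧸ H) := by
    have hlt : Nat.card (G ⧸ H) < n := by rw [← hn]; exact card_quotient_lt_of_ne_bot hHne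
    have hsurj := QuotientGroup.mk'_surjective H
    set π := QuotientGroup.mk' H with hπ
    by_cases hPb : (P : Subgroup G).map π = ⊥
    · apply hasNormalPComplement_of_not_dvd
      have h1 := (P.mapSurjective hsurj).not_dvd_index
      rwa [Sylow.coe_mapSurjective, hPb, Subgroup.index_bot] at h1
    · apply ih _ hlt (G ⧸ H) rfl (hH.good_quotient H hGood) (P.mapSurjective hsurj)
      rw [Sylow.coe_mapSurjective]
      apply hH.of_normalizers (hH.good_quotient H hGood) _ (P.2.map π) hPb
      intro Ubar hUbarP hUbarne hNN
      have hker : π.ker = H := QuotientGroup.ker_mk' H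
      have hHP : H ≤ P := normal_le_sylow hHp P
      have hHU : H ≤ Ubar.comap π := hker.ge.trans (Subgroup.ker_le_comap π Ubar)
      have hUP : Ubar.comap π ≤ P := by
        calc Ubar.comap π ≤ ((P : Subgroup G).map π).comap π := Subgroup.comap_mono hUbarP
          _ = (P : Subgroup G) ⊔ π.ker := Subgroup.comap_map_eq π _
          _ = P := by rw [hker]; exact sup_eq_left.mpr hHP
      have hUp : IsPGroup p (Ubar.comap π) := P.2.to_le hUP
      have hUne : Ubar.comap π ≠ ⊥ := fun h => hHne (le_bot_iff.mp (h ▸ hHU))
      have hNU : Subgroup.normalizer ((Ubar.comap π : Subgroup G) : Set G) =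
          (Subgroup.normalizer (Ubar : Set (G ⧸ H))).comap π :=
        (Subgroup.comap_normalizer_eq_of_surjective Ubar hsurj).symm
      have hPN : (P : Subgroup G) ≤ Subgroup.normalizer ((Ubar.comap π : Subgroup G) : Set G) := by
        rw [hNU]
        calc (P : Subgroup G) ≤ ((P : Subgroup G).map π).comap π := Subgroup.le_comap_map π _
          _ ≤ (Subgroup.normalizer (((P : Subgroup G).map π : Subgroup (G ⧸ H)) :
                Set (G ⧸ H))).comap π := Subgroup.comap_mono Subgroup.le_normalizer
          _ ≤ _ := Subgroup.comap_mono hNN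
      have heU : (Nat.card (Subgroup.normalizer ((Ubar.comap π : Subgroup G) : Set G))).factorization p
          = (Nat.card (Subgroup.normalizer (H : Set G))).factorization p := by
        rw [heH]
        apply le_antisymm
        · have := factorization_card_le p (le_top : Subgroup.normalizer
            ((Ubar.comap π : Subgroup G) : Set G) ≤ ⊤)
          rwa [Subgroup.card_top] at this
        · exact le_factorization_of_isPGroup hPN P.card_eq_multiplicity
      have hnpcU : Cfsg.HasNormalPComplement p
          (Subgroup.normalizer ((Ubar.comap π : Subgroup G) : Set G)) := by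
        by_contra hU
        have h1 := hM2 _ hUp hUne hU heU
        have h2 : H = Ubar.comap π := Subgroup.eq_of_le_of_card_ge hHU h1
        apply hUbarne
        have h3 : (Ubar.comap π).map π = Ubar := Subgroup.map_comap_eq_self_of_surjective hsurj _
        rw [← h3, ← h2]
        exact (Subgroup.map_eq_bot_iff _).mpr hker.ge
      have hmapN : (Subgroup.normalizer ((Ubar.comap π : Subgroup G) : Set G)).map π =
          Subgroup.normalizer (Ubar : Set (G ⧸ H)) := by
        rw [hNU]; exact Subgroup.map_comap_eq_self_of_surjective hsurj _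
      have h4 := HasNormalPComplement.of_surjective
        (π.subgroupMap (Subgroup.normalizer ((Ubar.comap π : Subgroup G) : Set G)))
        (π.subgroupMap_surjective _) hnpcU
      rwa [hmapN] at h4
  exact final G hGood ⟨hnot, hall, hproper, hpprime, H, hHnormal, hHp, hHne, hquot, hmaxH⟩

/-- **Generic reduction**: a `LocalHyp` for which the final configuration is impossible forces a
normal `p`-complement. -/
theorem npc_of_localHypG (hH : LocalHypG p Good Hyp)
    (final : ∀ (X : Type u) [Group X] [Finite X], Good X → FinalConfig p Hyp X → False)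
    (G : Type u) [Group G] [Finite G] (hG : Good G) (P : Sylow p G)
    (hP : Hyp G (P : Subgroup G)) : Cfsg.HasNormalPComplement p G :=
  npc_of_localHypG_aux hH final _ G rfl hG P hP

end main

end Cfsg.Agent.Lib.H14.NPCG
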