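import Cfsg.Agent.Lib.H14.NPCG1
import Cfsg.Agent.Lib.H14.SFour7
import Cfsg.Agent.Lib.L0.GlaubermanNPC

/-!
# The hypothesis of Thompson's normal `p`-complement theorem, abelian `J`, `S₄`-free at `p = 2`
(helper14)
-/

set_option autoImplicit false

universe u

namespace Cfsg.Agent.Lib.H14.NPCG

open Cfsg.Agent.Lib Cfsg.Agent.Lib.L0

/-- `N_X(J(T))` and `C_X(Z(T))` have normal `p`-complements (`J` generated by the abelian
subgroups of largest order). -/
def ThompsonAHyp (p : ℕ) : ∀ (X : Type u) [Group X], Subgroup X → Prop := fun X _ T =>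
  Cfsg.HasNormalPComplement p (Subgroup.normalizer (Cfsg.thompsonSubgroupAOf T : Set X)) ∧
  Cfsg.HasNormalPComplement p (Subgroup.centralizer (zOf T : Set X))

/-- `p` is odd or `S₄` is not involved. -/
def SFourGood (p : ℕ) : ∀ (X : Type u) [Group X], Prop := fun X _ =>
  p ≠ 2 ∨ ¬ Cfsg.Involves (Equiv.Perm (Fin 4)) X

theorem thompsonSubgroupAOf_map {X Y : Type*} [Group X] [Group Y] (f : X →* Y) (T : Subgroup X)
    (hf : Set.InjOn f (T : Set X)) :
    Cfsg.thompsonSubgroupAOf (T.map f) = (Cfsg.thompsonSubgroupAOf T).map f := by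
  rw [← H4.ZJ.J_abClass, ← H4.ZJ.J_abClass]
  exact H4.ZJ.J_map_of_injOn (H4.ZJ.abClass X) (H4.ZJ.abClass Y) f T hf
    (H4.ZJ.abClass_compat f T hf)

theorem thompsonSubgroupAOf_le {X : Type*} [Group X] (T : Subgroup X) :
    Cfsg.thompsonSubgroupAOf T ≤ T := by
  rw [← H4.ZJ.J_abClass]; exact H4.ZJ.J_le T

theorem centerThompsonAOf_le_thompsonSubgroupAOf {X : Type*} [Group X] (T : Subgroup X) :
    Cfsg.centerThompsonAOf T ≤ Cfsg.thompsonSubgroupAOf T := inf_le_left

theorem thompsonSubgroupAOf_ne_bot {X : Type*} [Group X] [Finite X] {p : ℕ} [Fact p.Prime]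
    (T : Subgroup X) (hT : IsPGroup p T) (hne : T ≠ ⊥) : Cfsg.thompsonSubgroupAOf T ≠ ⊥ := by
  intro hbot
  apply zOf_ne_bot T hT hne
  rw [eq_bot_iff, ← hbot]
  exact (zOf_le_centerThompsonAOf T).trans (centerThompsonAOf_le_thompsonSubgroupAOf T)

theorem normalizer_le_normalizer_thompsonSubgroupAOf {X : Type*} [Group X] (T : Subgroup X) :
    Subgroup.normalizer (T : Set X) ≤
      Subgroup.normalizer (Cfsg.thompsonSubgroupAOf T : Set X) := by
  rw [← H4.ZJ.J_abClass]; exact H4.ZJ.normalizer_le_normalizer_J T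

variable {p : ℕ} [hp : Fact p.Prime]

theorem thompsonAHyp_localHypG : LocalHypG.{u} p (SFourGood p) (ThompsonAHyp p) where
  good_injective := by
    intro X Y _ _ _ f hf hY
    rcases hY with h | h
    · exact Or.inl h
    · exact Or.inr (fun hX => h (H26.involves_of_injective f hf hX))
  good_quotient := by
    intro X _ _ N _ hX
    rcases hX with h | h
    · exact Or.inl h
    · exact Or.inr (fun hQ => h (SFour.involves_of_surj (QuotientGroup.mk' N)
        (QuotientGroup.mk'_surjective N) hQ))
  of_injective := by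
    intro X Y _ _ _ f hf T hT
    have hinj : Set.InjOn f (T : Set X) := fun a _ b _ hab => hf hab
    obtain ⟨h1, h2⟩ := hT
    rw [thompsonSubgroupAOf_map f T hinj] at h1
    rw [zOf_map f T hinj] at h2
    constructor
    · have h3 := HasNormalPComplement.of_le (Subgroup.le_normalizer_map f) h1
      exact HasNormalPComplement.of_mulEquiv
        (Subgroup.equivMapOfInjective _ f hf).symm h3
    · have h3 := HasNormalPComplement.of_le (map_centralizer_le f _) h2
      exact HasNormalPComplement.of_mulEquiv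
        (Subgroup.equivMapOfInjective _ f hf).symm h3
  quotient := by
    intro X _ _ N _ hN T hT hHyp
    have hinj := injOn_mk_of_coprime N hN T hT
    obtain ⟨h1, h2⟩ := hHyp
    have hJp : IsPGroup p (Cfsg.thompsonSubgroupAOf T) := hT.to_le (thompsonSubgroupAOf_le T)
    have hZp : IsPGroup p (zOf T) := hT.to_le (zOf_le T)
    constructor
    · show Cfsg.HasNormalPComplement p (Subgroup.normalizer
        ((Cfsg.thompsonSubgroupAOf (T.map (QuotientGroup.mk' N)) : Subgroup (X ⧸ N)) :
          Set (X ⧸ N)))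
      rw [thompsonSubgroupAOf_map _ T hinj, ← H7.map_normalizer_of_coprime p hN hJp]
      exact HasNormalPComplement.of_surjective ((QuotientGroup.mk' N).subgroupMap _)
        ((QuotientGroup.mk' N).subgroupMap_surjective _) h1
    · show Cfsg.HasNormalPComplement p (Subgroup.centralizer
        ((zOf (T.map (QuotientGroup.mk' N)) : Subgroup (X ⧸ N)) : Set (X ⧸ N)))
      rw [zOf_map _ T hinj, ← H7.map_centralizer_of_coprime p hN hZp]
      exact HasNormalPComplement.of_surjective ((QuotientGroup.mk' N).subgroupMap _)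
        ((QuotientGroup.mk' N).subgroupMap_surjective _) h2
  of_normalizers := by
    intro X _ _ _ T hT hTne hU
    constructor
    · exact hU _ (thompsonSubgroupAOf_le T) (thompsonSubgroupAOf_ne_bot T hT hTne)
        (normalizer_le_normalizer_thompsonSubgroupAOf T)
    · have h1 := hU _ (zOf_le T) (zOf_ne_bot T hT hTne) (normalizer_le_normalizer_zOf T)
      exact HasNormalPComplement.of_le (Subgroup.centralizer_le_normalizer _) h1

end Cfsg.Agent.Lib.H14.NPCG
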