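import Cfsg.Agent.Lib.H14.NPCG2
import Cfsg.Agent.Lib.H15.Replacement

/-!
# The quadratic-action consequence of Thompson's replacement theorem, abelian version (helper14)
-/

set_option autoImplicit false

universe u

namespace Cfsg.Agent.Lib.H14.NPCG

open Cfsg.Agent.Lib Cfsg.Agent.Lib.L0

/-- an `A ∈ 𝒜(Y)` acting nontrivially on the abelian normal subgroup `V` can be replaced by one
acting quadratically and nontrivially. -/
def QuadReplA (Y : Type u) [Group Y] : Prop :=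
  ∀ V : Subgroup Y, V.Normal → IsMulCommutative V →
    ∀ A ∈ Cfsg.maxAbelianSubgroups Y, ⁅V, A⁆ ≠ ⊥ →
      ∃ A₀ ∈ Cfsg.maxAbelianSubgroups Y, ⁅⁅V, A₀⁆, A₀⁆ = ⊥ ∧ ⁅V, A₀⁆ ≠ ⊥

theorem le_of_mem_maxAbelian_of_commutator_eq_bot {Y : Type*} [Group Y] [Finite Y]
    {A V : Subgroup Y} (hA : A ∈ Cfsg.maxAbelianSubgroups Y) (hV : IsMulCommutative V)
    (h : ⁅V, A⁆ = ⊥) : V ≤ A := by
  rw [Subgroup.commutator_eq_bot_iff_le_centralizer] at h
  have hAc := (H4.ZJ.isMulCommutative_iff A).mp hA.1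
  have hVc := (H4.ZJ.isMulCommutative_iff V).mp hV
  have hsup : IsMulCommutative (A ⊔ V : Subgroup Y) := by
    rw [H4.ZJ.isMulCommutative_iff]
    apply H4.ZJ.comm_sup hAc hVc
    intro x hx y hy
    exact Subgroup.mem_centralizer_iff.mp (h hy) x hx
  have hcard := hA.2 (A ⊔ V) hsup
  have heq : A = A ⊔ V := Subgroup.eq_of_le_of_card_ge le_sup_left hcard
  rw [heq]; exact le_sup_right

theorem quadReplA {Y : Type u} [Group Y] [Finite Y] [Group.IsNilpotent Y] : QuadReplA Y := by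
  intro V hVn hVc A hA hne
  obtain ⟨A₀, ⟨hA₀, hA₀ne⟩, hmax⟩ := Set.exists_max_image
    {A : Subgroup Y | A ∈ Cfsg.maxAbelianSubgroups Y ∧ ⁅V, A⁆ ≠ ⊥}
    (fun A => Nat.card (A ⊓ V : Subgroup Y)) (Set.toFinite _) ⟨A, hA, hne⟩
  refine ⟨A₀, hA₀, ?_, hA₀ne⟩
  by_cases hVN : V ≤ Subgroup.normalizer (A₀ : Set Y)
  · have h1 : ⁅V, A₀⁆ ≤ A₀ := Subgroup.le_normalizer_iff_commutator_le_right.mp hVN
    have h2 : ⁅⁅V, A₀⁆, A₀⁆ ≤ ⁅A₀, A₀⁆ := Subgroup.commutator_mono h1 le_rfl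
    have h3 : ⁅A₀, A₀⁆ = ⊥ := by
      rw [Subgroup.commutator_eq_bot_iff_le_centralizer]
      intro x hx
      rw [Subgroup.mem_centralizer_iff]
      intro y hy
      exact (H4.ZJ.isMulCommutative_iff A₀).mp hA₀.1 y hy x hx
    exact le_bot_iff.mp (h3 ▸ h2)
  · exfalso
    have hAV : A₀ ≤ Subgroup.normalizer (V : Set Y) := by
      rw [Subgroup.normalizer_eq_top_iff.mpr hVn]; exact le_top
    obtain ⟨A', hA', hlt, hA'N⟩ := H15.thompson_replacement hA₀ hVc hAV hVN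
    have hcard : Nat.card (A₀ ⊓ V : Subgroup Y) < Nat.card (A' ⊓ V : Subgroup Y) :=
      card_lt_card_of_lt hlt
    have hA'c : ⁅V, A'⁆ = ⊥ := by
      by_contra h
      have := hmax A' ⟨hA', h⟩
      omega
    exact hVN ((le_of_mem_maxAbelian_of_commutator_eq_bot hA' hVc hA'c).trans hA'N)

end Cfsg.Agent.Lib.H14.NPCG
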