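import Cfsg.Agent.S3755

/-!
# The offender lemma of S3755 for an abstract faithful action (helper14)

`exists_S3_gens_of_action` : a group `Q` acting faithfully on a `2`-group `V` (via `φ`), with
subgroups `K ≤ M` as in `Cfsg.Agent.S3755.exists_S3_gens` and an elementary abelian `2`-subgroup
`A ≤ M` whose fixed points have index `< |A|²`: `M` contains an element of order `3` inverted by an
involution. Proved through the semidirect product `V ⋊ Q`.
-/

set_option autoImplicit false

namespace Cfsg.Agent.Lib.H14.NPCG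

/-- fixed points of a subgroup `A ≤ Q` acting on `V` via `φ` -/
def fixedSub {V Q : Type*} [Group V] [Group Q] (φ : Q →* MulAut V) (A : Subgroup Q) :
    Subgroup V where
  carrier := {v | ∀ a ∈ A, φ a v = v}
  one_mem' := fun a _ => map_one _
  mul_mem' := fun hx hy a ha => by rw [map_mul, hx a ha, hy a ha]
  inv_mem' := fun hx a ha => by rw [map_inv, hx a ha]

theorem mem_fixedSub {V Q : Type*} [Group V] [Group Q] (φ : Q →* MulAut V) (A : Subgroup Q)
    (v : V) : v ∈ fixedSub φ A ↔ ∀ a ∈ A, φ a v = v := Iff.rfl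

open SemidirectProduct in
theorem exists_S3_gens_of_action {V Q : Type*} [Group V] [Group Q] [Finite V] [Finite Q]
    (φ : Q →* MulAut V) (hφ : Function.Injective φ) (hV2 : IsPGroup 2 V)
    (M K A : Subgroup Q) (hKM : K ≤ M) (hMK : M ≤ Subgroup.normalizer (K : Set Q))
    (hKodd : (Nat.card K).Coprime 2) (hcon : M ⊓ Subgroup.centralizer (K : Set Q) ≤ K)
    (hAM : A ≤ M) (hAc : ∀ a ∈ A, ∀ b ∈ A, a * b = b * a) (hA2 : ∀ a ∈ A, a ^ 2 = 1)
    (hsmall : (fixedSub φ A).index < Nat.card A ^ 2) :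
    ∃ x a : Q, x ∈ M ∧ a ∈ M ∧ orderOf x = 3 ∧ orderOf a = 2 ∧ a * x * a⁻¹ = x⁻¹ := by
  have : Finite (V ⋊[φ] Q) := Finite.of_equiv _ (equivProd (φ := φ)).symm
  have hinl : Function.Injective (inl : V →* V ⋊[φ] Q) := inl_injective
  have hinr : Function.Injective (inr : Q →* V ⋊[φ] Q) := inr_injective
  have hVn : ((inl : V →* V ⋊[φ] Q).range).Normal := by
    rw [range_inl_eq_ker_rightHom]; infer_instance
  have hcomm : ∀ (q : Q) (v : V), (inr q : V ⋊[φ] Q) * inl v = inl v * inr q ↔ φ q v = v := by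
    intro q v
    rw [← inl_inj (φ := φ), inl_aut]
    constructor
    · intro h
      rw [h, mul_assoc, ← map_mul, mul_inv_cancel, map_one, mul_one]
    · intro h
      calc (inr q : V ⋊[φ] Q) * inl v = (inr q * inl v * inr q⁻¹) * inr q := by
            rw [map_inv]; group
        _ = inl v * inr q := by rw [h]
  obtain ⟨x', a', hx'M, ha'M, hx'o, ha'o, hinv'⟩ := Cfsg.Agent.S3755.exists_S3_gens
    (M.map (inr : Q →* V ⋊[φ] Q)) (inl : V →* V ⋊[φ] Q).range (K.map (inr : Q →* V ⋊[φ] Q))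
    (by
      have h1 : IsPGroup 2 ((⊤ : Subgroup V).map (inl : V →* V ⋊[φ] Q)) :=
        (hV2.to_subgroup ⊤).map _
      rwa [← MonoidHom.range_eq_map] at h1)
    (by rw [Subgroup.normalizer_eq_top_iff.mpr hVn]; exact le_top)
    (by
      rw [eq_bot_iff]
      rintro _ ⟨⟨q, hq, rfl⟩, hc⟩
      rw [Subgroup.mem_bot]
      have h1 : φ q = 1 := by
        ext v
        have := Subgroup.mem_centralizer_iff.mp hc (inl v) ⟨v, rfl⟩
        exact (hcomm q v).mp this.symm
      have h2 : q = 1 := hφ (h1.trans (map_one φ).symm)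
      rw [h2, map_one])
    (Subgroup.map_mono hKM)
    ((Subgroup.map_mono hMK).trans (Subgroup.le_normalizer_map _))
    (by rw [Subgroup.card_map_of_injective hinr]; exact hKodd)
    (by
      rintro _ ⟨⟨q, hq, rfl⟩, hc⟩
      refine ⟨q, hcon ⟨hq, ?_⟩, rfl⟩
      show q ∈ Subgroup.centralizer (K : Set Q)
      rw [Subgroup.mem_centralizer_iff]
      intro k hk
      have := Subgroup.mem_centralizer_iff.mp hc (inr k) ⟨k, hk, rfl⟩
      rw [← map_mul, ← map_mul] at this
      exact hinr this)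
    _ (A.map (inr : Q →* V ⋊[φ] Q)) rfl (Subgroup.map_mono hAM)
    (by
      rintro _ ⟨a, ha, rfl⟩ _ ⟨b, hb, rfl⟩
      rw [← map_mul, ← map_mul, hAc a ha b hb])
    (by
      rintro _ ⟨a, ha, rfl⟩
      rw [← map_pow, hA2 a ha, map_one])
    (by
      rw [Subgroup.card_map_of_injective hinr]
      have h1 : (inl : V →* V ⋊[φ] Q).range ⊓
          Subgroup.centralizer ((A.map (inr : Q →* V ⋊[φ] Q) : Subgroup (V ⋊[φ] Q)) :
            Set (V ⋊[φ] Q)) = (fixedSub φ A).map (inl : V →* V ⋊[φ] Q) := by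
        ext y
        constructor
        · rintro ⟨⟨v, rfl⟩, hc⟩
          refine ⟨v, ?_, rfl⟩
          intro a ha
          have := Subgroup.mem_centralizer_iff.mp hc (inr a) ⟨a, ha, rfl⟩
          exact (hcomm a v).mp this
        · rintro ⟨v, hv, rfl⟩
          refine ⟨⟨v, rfl⟩, ?_⟩
          show inl v ∈ Subgroup.centralizer
            ((A.map (inr : Q →* V ⋊[φ] Q) : Subgroup (V ⋊[φ] Q)) : Set (V ⋊[φ] Q))
          rw [Subgroup.mem_centralizer_iff]
          rintro _ ⟨a, ha, rfl⟩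
          exact (hcomm a v).mpr (hv a ha)
      rw [h1, MonoidHom.range_eq_map, Subgroup.relIndex_map_map_of_injective _ _ hinl,
        Subgroup.relIndex_top_right]
      exact hsmall)
  obtain ⟨x, hxM, rfl⟩ := hx'M
  obtain ⟨a, haM, rfl⟩ := ha'M
  refine ⟨x, a, hxM, haM, ?_, ?_, ?_⟩
  · rw [← hx'o]; exact (orderOf_injective _ hinr x).symm
  · rw [← ha'o]; exact (orderOf_injective _ hinr a).symm
  · apply hinr
    rw [map_mul, map_mul, map_inv, map_inv]
    exact hinv'

end Cfsg.Agent.Lib.H14.NPCG
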