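import Cfsg.Agent.Lib.H14.NPCG4
import Cfsg.Agent.Lib.H14.NPCG3

/-!
# The `p = 2` core of Thompson's normal `2`-complement theorem for `S₄`-free groups (helper14)
-/

set_option autoImplicit false

open scoped Pointwise commutatorElement

namespace Cfsg.Agent.Lib.H14.NPCG

open Cfsg.Agent.Lib Cfsg.Agent.Lib.L0

variable {X : Type*} [Group X]

/-- an element acting quadratically on a normal elementary abelian `2`-subgroup has its square in
the centralizer -/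
theorem sq_mem_centralizer_of_quadratic (V : Subgroup X) [hVn : V.Normal]
    (hV2 : ∀ v ∈ V, v * v = 1) (a : X)
    (hq : ∀ v ∈ V, ⁅v, a⁆ * a = a * ⁅v, a⁆) : a * a ∈ Subgroup.centralizer (V : Set X) := by
  rw [Subgroup.mem_centralizer_iff]
  intro v hv
  obtain ⟨w, hw⟩ : ∃ w, w = ⁅v, a⁆ := ⟨_, rfl⟩
  have hwV : w ∈ V := by
    rw [hw, commutatorElement_def]
    have : v * a * v⁻¹ * a⁻¹ = v * (a * v⁻¹ * a⁻¹) := by group
    rw [this]; exact V.mul_mem hv (hVn.conj_mem _ (V.inv_mem hv) a)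
  have hwa : w * a = a * w := by rw [hw]; exact hq v hv
  have hww : w * w = 1 := hV2 w hwV
  have h1 : a * v * a⁻¹ = w⁻¹ * v := by
    rw [hw, commutatorElement_def]; group
  have h2 : a * w⁻¹ * a⁻¹ = w⁻¹ := by
    have : a * w⁻¹ = w⁻¹ * a := by
      calc a * w⁻¹ = w⁻¹ * (w * a) * w⁻¹ := by group
        _ = w⁻¹ * (a * w) * w⁻¹ := by rw [hwa]
        _ = w⁻¹ * a := by group
    rw [this]; group
  have h3 : (a * a) * v * (a * a)⁻¹ = v := by
    calc (a * a) * v * (a * a)⁻¹ = a * (a * v * a⁻¹) * a⁻¹ := by group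
      _ = a * (w⁻¹ * v) * a⁻¹ := by rw [h1]
      _ = (a * w⁻¹ * a⁻¹) * (a * v * a⁻¹) := by group
      _ = w⁻¹ * (w⁻¹ * v) := by rw [h2, h1]
      _ = (w * w)⁻¹ * v := by group
      _ = v := by rw [hww, inv_one, one_mul]
  calc v * (a * a) = ((a * a) * v * (a * a)⁻¹) * (a * a) := by rw [h3]
    _ = a * a * v := by group

/-- the offender inequality for a largest abelian subgroup -/
theorem offender_le [Finite X] (V C P A₀ : Subgroup X) [hVn : V.Normal]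
    (hVc : ∀ a ∈ V, ∀ b ∈ V, a * b = b * a) (hC : C = Subgroup.centralizer (V : Set X))
    (hVP : V ≤ P) (hA₀P : A₀ ≤ P) (hA₀c : ∀ a ∈ A₀, ∀ b ∈ A₀, a * b = b * a)
    (hA₀max : ∀ B : Subgroup X, B ≤ P → (∀ a ∈ B, ∀ b ∈ B, a * b = b * a) →
      Nat.card B ≤ Nat.card A₀) :
    (V ⊓ Subgroup.centralizer (A₀ : Set X)).relIndex V ≤ (A₀ ⊓ C).relIndex A₀ := by
  have hVC : V ≤ C := by
    rw [hC]
    intro v hv
    rw [Subgroup.mem_centralizer_iff]
    intro w hw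
    exact hVc w hw v hv
  -- (i)
  have h1 : A₀ ⊓ V ≤ V ⊓ Subgroup.centralizer (A₀ : Set X) := by
    intro x hx
    obtain ⟨hxA, hxV⟩ := Subgroup.mem_inf.mp hx
    refine Subgroup.mem_inf.mpr ⟨hxV, ?_⟩
    rw [Subgroup.mem_centralizer_iff]
    intro a ha
    exact hA₀c a ha x hxA
  have hi : (V ⊓ Subgroup.centralizer (A₀ : Set X)).relIndex V ≤ (A₀ ⊓ V).relIndex V :=
    Subgroup.relIndex_le_of_le_left h1 Subgroup.index_ne_zero_of_finite
  refine hi.trans ?_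
  -- (ii)
  obtain ⟨B, hB⟩ : ∃ B, B = (A₀ ⊓ C) ⊔ V := ⟨_, rfl⟩
  have hBP : B ≤ P := hB ▸ sup_le (inf_le_left.trans hA₀P) hVP
  have hBc : ∀ a ∈ B, ∀ b ∈ B, a * b = b * a := by
    rw [hB]
    apply H4.ZJ.comm_sup (fun a ha b hb => hA₀c a (Subgroup.mem_inf.mp ha).1 b
      (Subgroup.mem_inf.mp hb).1) hVc
    intro x hx y hy
    have := (Subgroup.mem_inf.mp hx).2
    rw [hC, Subgroup.mem_centralizer_iff] at this
    exact (this y hy).symm
  have hBcard := hA₀max B hBP hBc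
  have hset : ((A₀ ⊓ C ⊔ V : Subgroup X) : Set X) = ((A₀ ⊓ C : Subgroup X) : Set X) * (V : Set X) :=
    Subgroup.mul_normal _ V
  have hmul := H15.card_mul_card_eq_of_coe_sup_eq_mul (A₀ ⊓ C) V hset
  have hinf : A₀ ⊓ C ⊓ V = A₀ ⊓ V := by
    rw [inf_assoc, inf_eq_right.mpr hVC]
  rw [hinf, ← hB] at hmul
  have hV : Nat.card V = (A₀ ⊓ V).relIndex V * Nat.card (A₀ ⊓ V : Subgroup X) := by
    rw [mul_comm]
    exact (H15.card_mul_relIndex (inf_le_right : A₀ ⊓ V ≤ V)).symm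
  have hA : Nat.card A₀ = (A₀ ⊓ C).relIndex A₀ * Nat.card (A₀ ⊓ C : Subgroup X) := by
    rw [mul_comm]
    exact (H15.card_mul_relIndex (inf_le_left : A₀ ⊓ C ≤ A₀)).symm
  have hpos1 : 0 < Nat.card (A₀ ⊓ C : Subgroup X) := Nat.card_pos
  have hpos2 : 0 < Nat.card (A₀ ⊓ V : Subgroup X) := Nat.card_pos
  by_contra hcon
  push Not at hcon
  have h5 : Nat.card (A₀ ⊓ C : Subgroup X) * Nat.card V ≤
      Nat.card (A₀ ⊓ V : Subgroup X) * Nat.card A₀ := by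
    rw [hmul]; exact Nat.mul_le_mul_left _ hBcard
  rw [hV, hA] at h5
  have h6 : Nat.card (A₀ ⊓ C : Subgroup X) * Nat.card (A₀ ⊓ V : Subgroup X) *
      (A₀ ⊓ C).relIndex A₀ < Nat.card (A₀ ⊓ C : Subgroup X) * Nat.card (A₀ ⊓ V : Subgroup X) *
      (A₀ ⊓ V).relIndex V := Nat.mul_lt_mul_of_pos_left hcon (Nat.mul_pos hpos1 hpos2)
  nlinarith

end Cfsg.Agent.Lib.H14.NPCG
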