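import Cfsg.Agent.Lib.H14.NPCG5

/-!
# The `p = 2` core of Thompson's normal `2`-complement theorem for `S₄`-free groups, II (helper14)
-/

set_option autoImplicit false

open scoped Pointwise commutatorElement

namespace Cfsg.Agent.Lib.H14.NPCG

open Cfsg.Agent.Lib Cfsg.Agent.Lib.L0

variable {X : Type*} [Group X]

theorem involves_sfour_of_offender [Finite X] (V H K P A₀ : Subgroup X) [hVn : V.Normal]
    [hKn : K.Normal]
    (hVc : ∀ a ∈ V, ∀ b ∈ V, a * b = b * a) (hV2 : ∀ v ∈ V, v * v = 1)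
    (hHC : H ≤ Subgroup.centralizer (V : Set X))
    (hCK : Subgroup.centralizer (V : Set X) ⊓ K ≤ H) (hHK : H ≤ K) (hKK : ⁅K, K⁆ ≤ H)
    (hrel : (H.relIndex K).Coprime 2) (hVP : V ≤ P)
    (hDP : ∀ a ∈ P, (∀ k ∈ K, ⁅k, a⁆ ∈ H) → a ∈ H)
    (hA₀P : A₀ ≤ P) (hA₀c : ∀ a ∈ A₀, ∀ b ∈ A₀, a * b = b * a)
    (hA₀max : ∀ B : Subgroup X, B ≤ P → (∀ a ∈ B, ∀ b ∈ B, a * b = b * a) →
      Nat.card B ≤ Nat.card A₀)
    (hquad : ∀ v ∈ V, ∀ a ∈ A₀, ∀ b ∈ A₀, ⁅v, a⁆ * b = b * ⁅v, a⁆)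
    (hA₀C : ¬ A₀ ≤ Subgroup.centralizer (V : Set X)) :
    Cfsg.Involves (Equiv.Perm (Fin 4)) X := by
  obtain ⟨C, hC⟩ : ∃ C, C = Subgroup.centralizer (V : Set X) := ⟨_, rfl⟩
  have hCn : C.Normal := hC ▸ inferInstance
  rw [← hC] at hHC hCK hA₀C
  obtain ⟨π, hπ⟩ : ∃ π, π = QuotientGroup.mk' C := ⟨_, rfl⟩
  have hπs : Function.Surjective π := hπ ▸ QuotientGroup.mk'_surjective C
  have hπker : ∀ x : X, π x = 1 ↔ x ∈ C := by
    intro x; rw [hπ, QuotientGroup.mk'_apply, QuotientGroup.eq_one_iff]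
  -- the action
  have hφ₀ : C ≤ (MulAut.conjNormal : X →* MulAut V).ker := by
    intro x hx
    rw [MonoidHom.mem_ker]
    ext v
    rw [MulAut.conjNormal_apply, MulAut.one_apply]
    rw [hC, Subgroup.mem_centralizer_iff] at hx
    rw [← hx v v.2]; group
  obtain ⟨φ, hφdef⟩ : ∃ φ : X ⧸ C →* MulAut V, φ = QuotientGroup.lift C MulAut.conjNormal hφ₀ :=
    ⟨_, rfl⟩
  have hφπ : ∀ (x : X) (v : V), ((φ (π x) v : V) : X) = x * v * x⁻¹ := by
    intro x v
    rw [hφdef, hπ, QuotientGroup.mk'_apply, QuotientGroup.lift_mk, MulAut.conjNormal_apply]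
  have hφinj : Function.Injective φ := by
    rw [injective_iff_map_eq_one]
    intro q hq
    obtain ⟨x, rfl⟩ := hπs q
    rw [hπker, hC, Subgroup.mem_centralizer_iff]
    intro v hv
    have h1 := hφπ x ⟨v, hv⟩
    rw [hq, MulAut.one_apply] at h1
    calc v * x = (x * v * x⁻¹) * x := by rw [← h1]
      _ = x * v := by group
  obtain ⟨Kb, hKb⟩ : ∃ Kb, Kb = K.map π := ⟨_, rfl⟩
  obtain ⟨Ab, hAb⟩ : ∃ Ab, Ab = A₀.map π := ⟨_, rfl⟩
  have hKbn : Kb.Normal := hKb ▸ Subgroup.Normal.map hKn π hπs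
  have hCKeq : C ⊓ K = H := le_antisymm hCK (le_inf hHC hHK)
  have hKbcard : Nat.card Kb = H.relIndex K := by
    rw [hKb, ← Subgroup.relIndex_ker, hπ, QuotientGroup.ker_mk', ← Subgroup.inf_relIndex_right,
      hCKeq]
  have hKbc : ∀ a ∈ Kb, ∀ b ∈ Kb, a * b = b * a := by
    rw [hKb]
    rintro _ ⟨a, ha, rfl⟩ _ ⟨b, hb, rfl⟩
    have h1 : ⁅a, b⁆ ∈ C := hHC (hKK (Subgroup.commutator_mem_commutator ha hb))
    have h2 : π ⁅a, b⁆ = 1 := (hπker _).mpr h1
    rw [map_commutatorElement, commutatorElement_eq_one_iff_mul_comm] at h2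
    exact h2
  have hAbc : ∀ a ∈ Ab, ∀ b ∈ Ab, a * b = b * a := by
    rw [hAb]
    rintro _ ⟨a, ha, rfl⟩ _ ⟨b, hb, rfl⟩
    rw [← map_mul, ← map_mul, hA₀c a ha b hb]
  have hAb2 : ∀ a ∈ Ab, a ^ 2 = 1 := by
    rw [hAb]
    rintro _ ⟨a, ha, rfl⟩
    rw [← map_pow, hπker, pow_two, hC]
    exact sq_mem_centralizer_of_quadratic V hV2 a (fun v hv => hquad v hv a ha a ha)
  have hAbne : Ab ≠ ⊥ := by
    intro hb
    apply hA₀C
    intro a ha
    have : π a ∈ Ab := hAb ▸ Subgroup.mem_map_of_mem π ha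
    rw [hb, Subgroup.mem_bot, hπker] at this
    exact this
  have hAbcard : Nat.card Ab = (A₀ ⊓ C).relIndex A₀ := by
    rw [hAb, ← Subgroup.relIndex_ker, hπ, QuotientGroup.ker_mk', ← Subgroup.inf_relIndex_right,
      inf_comm]
  -- the condition on centralizers
  have hcon : (Kb ⊔ Ab) ⊓ Subgroup.centralizer (Kb : Set (X ⧸ C)) ≤ Kb := by
    intro q hq
    obtain ⟨hq1, hq2⟩ := Subgroup.mem_inf.mp hq
    have hmul : (↑(Kb ⊔ Ab) : Set (X ⧸ C)) = (Kb : Set (X ⧸ C)) * (Ab : Set (X ⧸ C)) :=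
      Subgroup.normal_mul Kb Ab
    have hq1' : q ∈ (Kb : Set (X ⧸ C)) * (Ab : Set (X ⧸ C)) := hmul ▸ hq1
    obtain ⟨kb, hkb, ab, hab, rfl⟩ := Set.mem_mul.mp hq1'
    have habc : ab ∈ Subgroup.centralizer (Kb : Set (X ⧸ C)) := by
      have hkbc : kb ∈ Subgroup.centralizer (Kb : Set (X ⧸ C)) := by
        rw [Subgroup.mem_centralizer_iff]
        intro y hy
        exact hKbc y hy kb hkb
      have : ab = kb⁻¹ * (kb * ab) := by group
      rw [this]
      exact Subgroup.mul_mem _ (Subgroup.inv_mem _ hkbc) hq2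
    have hab' : ab ∈ Ab := hab
    rw [hAb] at hab'
    obtain ⟨a, ha, rfl⟩ := hab'
    have haH : a ∈ H := by
      apply hDP a (hA₀P ha)
      intro k hk
      apply hCK
      refine Subgroup.mem_inf.mpr ⟨?_, ?_⟩
      · rw [← hπker, map_commutatorElement, commutatorElement_eq_one_iff_mul_comm]
        exact (Subgroup.mem_centralizer_iff.mp habc (π k) (hKb ▸ Subgroup.mem_map_of_mem π hk))
      · rw [commutatorElement_def]
        have : k * a * k⁻¹ * a⁻¹ = k * (a * k⁻¹ * a⁻¹) := by group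
        rw [this]
        exact K.mul_mem hk (hKn.conj_mem _ (K.inv_mem hk) a)
    have : π a = 1 := (hπker a).mpr (hHC haH)
    rw [this, mul_one]
    exact hkb
  -- the fixed points
  have hfix : (fixedSub φ Ab).index = (V ⊓ Subgroup.centralizer (A₀ : Set X)).relIndex V := by
    have : fixedSub φ Ab = (V ⊓ Subgroup.centralizer (A₀ : Set X)).subgroupOf V := by
      ext v
      rw [mem_fixedSub, Subgroup.mem_subgroupOf, Subgroup.mem_inf]
      constructor
      · intro h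
        refine ⟨v.2, ?_⟩
        rw [Subgroup.mem_centralizer_iff]
        intro a ha
        have h1 := h (π a) (hAb ▸ Subgroup.mem_map_of_mem π ha)
        have h2 := hφπ a v
        rw [h1] at h2
        calc a * (v : X) = (a * v * a⁻¹) * a := by group
          _ = v * a := by rw [← h2]
      · rintro ⟨-, h⟩ ab hab
        rw [hAb] at hab
        obtain ⟨a, ha, rfl⟩ := hab
        apply Subtype.ext
        rw [hφπ]
        have := Subgroup.mem_centralizer_iff.mp h a ha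
        rw [this]; group
    rw [this]; rfl
  have hsmall : (fixedSub φ Ab).index < Nat.card Ab ^ 2 := by
    rw [hfix]
    have h1 := offender_le V C P A₀ hVc hC hVP hA₀P hA₀c hA₀max
    rw [← hAbcard] at h1
    have h2 : 1 < Nat.card Ab := (Subgroup.one_lt_card_iff_ne_bot Ab).mpr hAbne
    nlinarith
  have hV2' : IsPGroup 2 V := by
    intro v
    refine ⟨1, ?_⟩
    apply Subtype.ext
    rw [Subgroup.coe_pow, pow_one, pow_two]
    exact hV2 v.1 v.2
  have : Finite (X ⧸ C) := Finite.of_surjective π hπs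
  obtain ⟨xb, ab, -, -, hxo, hao, hinvb⟩ := exists_S3_gens_of_action φ hφinj hV2' (Kb ⊔ Ab) Kb Ab
    le_sup_left (by rw [Subgroup.normalizer_eq_top_iff.mpr hKbn]; exact le_top)
    (hKbcard ▸ hrel) hcon le_sup_right hAbc hAb2 hsmall
  obtain ⟨e, t, he3, ht2, hinv, heC⟩ := SFour.exists_pair_of_map_pair π hπs xb ab
    ⟨1, by rw [pow_one, ← hxo, pow_orderOf_eq_one]⟩
    (by intro h1; rw [h1, orderOf_one] at hxo; omega) hinvb
  apply SFour.involves_of_pair V hV2' e t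
    (by rw [Subgroup.normalizer_eq_top_iff.mpr hVn]; exact Subgroup.mem_top e)
    (by rw [Subgroup.normalizer_eq_top_iff.mpr hVn]; exact Subgroup.mem_top t) he3 ht2 hinv
  intro h1
  exact heC ((hπker e).mpr (hC ▸ h1))

end Cfsg.Agent.Lib.H14.NPCG
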