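import Cfsg.Agent.Lib.H14.NPCG6

/-!
# Thompson's normal `p`-complement theorem, abelian `J`, `p` odd or `S₄`-free (helper14)
-/

set_option autoImplicit false

universe u

open scoped commutatorElement

namespace Cfsg.Agent.Lib.H14.NPCG

open Cfsg.Agent.Lib Cfsg.Agent.Lib.L0

/-- If `J(P) ≤ H ≤ P` then `J(H) = J(P)` (abelian version). -/
theorem thompsonSubgroupAOf_eq_of_le {X : Type*} [Group X] [Finite X] {H P : Subgroup X}
    (hHP : H ≤ P) (hJ : Cfsg.thompsonSubgroupAOf P ≤ H) :
    Cfsg.thompsonSubgroupAOf H = Cfsg.thompsonSubgroupAOf P := by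
  rw [← H4.ZJ.J_abClass] at hJ ⊢
  rw [← H4.ZJ.J_abClass]
  have hsub : ∀ A ∈ H4.ZJ.maxSet (H4.ZJ.abClass X) P, A ≤ H := fun A hA => (le_sSup hA).trans hJ
  obtain ⟨A₀, hA₀⟩ := H4.ZJ.maxSet_nonempty (𝒞 := H4.ZJ.abClass X) P
  have hset : H4.ZJ.maxSet (H4.ZJ.abClass X) H = H4.ZJ.maxSet (H4.ZJ.abClass X) P := by
    ext A
    constructor
    · rintro ⟨hAH, hA, hmax⟩
      exact ⟨hAH.trans hHP, hA, fun B hBP hB =>
        (hA₀.2.2 B hBP hB).trans (hmax A₀ (hsub A₀ hA₀) hA₀.2.1)⟩
    · intro hA
      exact ⟨hsub A hA, hA.2.1, fun B hBH hB => hA.2.2 B (hBH.trans hHP) hB⟩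
  unfold H4.ZJ.J
  rw [hset]

/-- the quadratic replacement in ambient form -/
theorem exists_quadratic_of_not_le {X : Type*} [Group X] [Finite X] {p : ℕ} [Fact p.Prime]
    (P V : Subgroup X) (hP : IsPGroup p P) [hVn : V.Normal] (hVP : V ≤ P)
    (hVc : ∀ a ∈ V, ∀ b ∈ V, a * b = b * a) {A : Subgroup X}
    (hA : A ∈ H4.ZJ.maxSet (H4.ZJ.abClass X) P)
    (hAC : ¬ A ≤ Subgroup.centralizer (V : Set X)) :
    ∃ A₁ ∈ H4.ZJ.maxSet (H4.ZJ.abClass X) P,
      (∀ v ∈ V, ∀ a ∈ A₁, ∀ b ∈ A₁, ⁅v, a⁆ * b = b * ⁅v, a⁆) ∧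
      ¬ A₁ ≤ Subgroup.centralizer (V : Set X) := by
  have : Group.IsNilpotent P := hP.isNilpotent
  rw [H4.ZJ.maxSet_abClass] at hA
  obtain ⟨A', hA', rfl⟩ := hA
  have hV'n : (V.subgroupOf P).Normal := Subgroup.normal_subgroupOf
  have hV'c : IsMulCommutative (V.subgroupOf P) := by
    rw [H4.ZJ.isMulCommutative_iff]
    intro a ha b hb
    exact Subtype.ext (hVc a (Subgroup.mem_subgroupOf.mp ha) b (Subgroup.mem_subgroupOf.mp hb))
  have hne : ⁅V.subgroupOf P, A'⁆ ≠ ⊥ := by
    intro hbot
    apply hAC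
    rintro _ ⟨a, ha, rfl⟩
    rw [Subgroup.mem_centralizer_iff]
    intro v hv
    have h1 : ⁅(⟨v, hVP hv⟩ : P), a⁆ ∈ ⁅V.subgroupOf P, A'⁆ :=
      Subgroup.commutator_mem_commutator (Subgroup.mem_subgroupOf.mpr hv) ha
    rw [hbot, Subgroup.mem_bot, commutatorElement_eq_one_iff_mul_comm] at h1
    exact congrArg Subtype.val h1
  obtain ⟨A₁', hA₁', hquad, hne₁⟩ := quadReplA (Y := P) (V.subgroupOf P) hV'n hV'c A' hA' hne
  refine ⟨A₁'.map P.subtype, ?_, ?_, ?_⟩
  · rw [H4.ZJ.maxSet_abClass]; exact ⟨A₁', hA₁', rfl⟩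
  · rintro v hv _ ⟨a, ha, rfl⟩ _ ⟨b, hb, rfl⟩
    have h1 : ⁅(⟨v, hVP hv⟩ : P), a⁆ ∈ ⁅V.subgroupOf P, A₁'⁆ :=
      Subgroup.commutator_mem_commutator (Subgroup.mem_subgroupOf.mpr hv) ha
    have h2 := Subgroup.commutator_mem_commutator h1 hb
    rw [hquad, Subgroup.mem_bot, commutatorElement_eq_one_iff_mul_comm] at h2
    exact congrArg Subtype.val h2
  · intro hle
    apply hne₁
    rw [eq_bot_iff, Subgroup.commutator_le]
    intro v hv a ha
    rw [Subgroup.mem_bot, commutatorElement_eq_one_iff_mul_comm]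
    apply Subtype.ext
    have h1 := hle (Subgroup.mem_map_of_mem P.subtype ha)
    rw [Subgroup.mem_centralizer_iff] at h1
    exact h1 v (Subgroup.mem_subgroupOf.mp hv)

variable {p : ℕ} [hp : Fact p.Prime]

theorem thompsonA_final (X : Type u) [Group X] [Finite X] (hGood : SFourGood p X)
    (hF : FinalConfig p (ThompsonAHyp p) X) : False := by
  obtain ⟨H, K, hS⟩ := hF.exists_struct
  obtain ⟨hHn, hKn, hHp, hHne, hmax, hHK, hidx, hrel, hcent, hirr, hcomm⟩ := hS
  obtain ⟨P⟩ : Nonempty (Sylow p X) := inferInstance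
  obtain ⟨hJ, hZ⟩ := hF.hyp P
  have hHP : H ≤ P := normal_le_sylow hHp P
  have hKP : K ⊔ (P : Subgroup X) = ⊤ := sup_sylow_eq_top hidx P
  set V := omegaCenter p H with hVdef
  have hVn : V.Normal := omegaCenter_normal p H
  have hVH : V ≤ H := omegaCenter_le p H
  set C := Subgroup.centralizer (V : Set X) with hCdef
  have hCn : C.Normal := inferInstance
  have hHC : H ≤ C := Subgroup.le_centralizer_iff.mpr (omegaCenter_le_centralizer p H)
  have hZPle : zOf (P : Subgroup X) ≤ Subgroup.centralizer (H : Set X) :=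
    inf_le_right.trans (Subgroup.centralizer_le hHP)
  have hCHn : (Subgroup.centralizer (H : Set X)).Normal := inferInstance
  rcases hirr C hCn hHC with hKC | hCK
  · -- `K` centralizes `Ω₁(Z(H))`, hence `Z(H) ≥ Z(P)`
    apply hF.not_npc
    have htop : Subgroup.centralizer ((zOf (P : Subgroup X) : Subgroup X) : Set X) = ⊤ := by
      rw [eq_top_iff, ← hKP]
      apply sup_le
      · intro x hx
        have hcz := conj_eq_of_centralizes_omega hp.out (Subgroup.centralizer (H : Set X))
          (fun u hu v hv => (Subgroup.mem_centralizer_iff.mp hu v (hcent hv)).symm)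
          (hHp.to_le hcent) x (fun z hz => hCHn.conj_mem z hz x)
          (fun z hz hzp => by
            have hzV : z ∈ V := ⟨hcent hz, hz, hzp⟩
            have := Subgroup.mem_centralizer_iff.mp (hKC hx) z hzV
            rw [← this]; group)
          hrel
          (fun z hz => by
            have h1 : x ^ H.relIndex K ∈ H := pow_relIndex_mem hx
            have := Subgroup.mem_centralizer_iff.mp hz _ h1
            rw [this]; group)
        rw [Subgroup.mem_centralizer_iff]
        intro z hz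
        have := hcz z (hZPle hz)
        calc z * x = (x * z * x⁻¹) * x := by rw [this]
          _ = x * z := by group
      · exact Subgroup.le_centralizer_iff.mp inf_le_right
    rw [htop, hasNormalPComplement_top_iff] at hZ
    exact hZ
  · -- `C_K(V) = H`
    set D := centralizerMod H K with hDdef
    have hCD : C ≤ D := by
      intro y hy
      rw [mem_centralizerMod]
      intro k hk
      apply hCK
      constructor
      · have : ⁅k, y⁆ = (k * y * k⁻¹) * y⁻¹ := by rw [commutatorElement_def]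
        rw [this]; exact C.mul_mem (hCn.conj_mem y hy k) (C.inv_mem hy)
      · have : ⁅k, y⁆ = k * (y * k⁻¹ * y⁻¹) := by rw [commutatorElement_def]; group
        rw [this]; exact K.mul_mem hk (hKn.conj_mem _ (K.inv_mem hk) y)
    have hDP : D ⊓ (P : Subgroup X) ≤ H := centralizerMod_inf_sylow_le hmax P hHP hKP
    have hAC : ∀ A ∈ H4.ZJ.maxSet (H4.ZJ.abClass X) (P : Subgroup X), A ≤ C := by
      intro A hA
      by_contra hAC
      obtain ⟨A₁, hA₁, hquad, hA₁C⟩ := exists_quadratic_of_not_le (P : Subgroup X) V P.2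
        (hVH.trans hHP) (omegaCenter_comm p H) hA hAC
      by_cases hp2 : p = 2
      · -- the `S₄`-free case
        rcases hGood with h | h
        · exact h hp2
        · apply h
          subst hp2
          exact involves_sfour_of_offender V H K (P : Subgroup X) A₁ (omegaCenter_comm 2 H)
            (fun v hv => by rw [← pow_two]; exact omegaCenter_pow 2 H v hv) hHC hCK hHK hcomm hrel
            (hVH.trans hHP)
            (fun a haP ha => hDP ⟨mem_centralizerMod.mpr ha, haP⟩)
            hA₁.1 hA₁.2.1 hA₁.2.2 hquad hA₁C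
      · -- `p` odd
        obtain ⟨a, haA, haC⟩ := SetLike.not_le_iff_exists.mp hA₁C
        have haP : a ∈ (P : Subgroup X) := hA₁.1 haA
        have hquad' : ∀ v ∈ V, a * ⁅a, v⁆ = ⁅a, v⁆ * a := by
          intro v hv
          have h3 : ⁅v, a⁆ * a = a * ⁅v, a⁆ := hquad v hv a haA a haA
          rw [← commutatorElement_inv v a]
          calc a * ⁅v, a⁆⁻¹
              = ⁅v, a⁆⁻¹ * (⁅v, a⁆ * a) * ⁅v, a⁆⁻¹ := by group
            _ = ⁅v, a⁆⁻¹ * (a * ⁅v, a⁆) * ⁅v, a⁆⁻¹ := by rw [h3]
            _ = ⁅v, a⁆⁻¹ * a := by group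
        have hmem : ∀ x ∈ K, ⁅x, a⁆ ∈ H := by
          intro x hx
          apply hCK
          constructor
          · apply commutator_mem_centralizer_of_quadratic hp.out hp2 V (omegaCenter_comm p H)
              (omegaCenter_pow p H) a x hquad' hrel
            · exact hHC (pow_relIndex_mem hx)
            · apply hHC; apply hcomm
              apply Subgroup.commutator_mem_commutator hx
              have := hKn.conj_mem x hx a⁻¹
              rwa [inv_inv] at this
            · apply hHC; apply hcomm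
              exact Subgroup.commutator_mem_commutator hx (hKn.conj_mem x hx a)
          · have : ⁅x, a⁆ = x * (a * x⁻¹ * a⁻¹) := by
              rw [commutatorElement_def]; group
            rw [this]; exact K.mul_mem hx (hKn.conj_mem _ (K.inv_mem hx) _)
        have haD : a ∈ D := mem_centralizerMod.mpr hmem
        have haH : a ∈ H := hDP ⟨haD, haP⟩
        exact haC (hHC haH)
    have hJH : Cfsg.thompsonSubgroupAOf (P : Subgroup X) ≤ H := by
      rw [← H4.ZJ.J_abClass]
      apply sSup_le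
      intro A hA
      exact (le_inf ((hAC A hA).trans hCD) hA.1).trans hDP
    have hJeq := thompsonSubgroupAOf_eq_of_le hHP hJH
    have htop : Subgroup.normalizer (Cfsg.thompsonSubgroupAOf (P : Subgroup X) : Set X) = ⊤ := by
      rw [← hJeq, eq_top_iff, ← Subgroup.normalizer_eq_top_iff.mpr hHn]
      exact normalizer_le_normalizer_thompsonSubgroupAOf H
    apply hF.not_npc
    rw [htop, hasNormalPComplement_top_iff] at hJ
    exact hJ

/-- **Thompson's normal `p`-complement theorem** (abelian version of `J`; `p` odd or `S₄` not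
involved). -/
theorem thompsonA_npc (G : Type u) [Group G] [Finite G] (P : Sylow p G)
    (h : p ≠ 2 ∨ ¬ Cfsg.Involves (Equiv.Perm (Fin 4)) G)
    (hJ : Cfsg.HasNormalPComplement p
      (Subgroup.normalizer (Cfsg.thompsonSubgroupAOf (P : Subgroup G) : Set G)))
    (hZ : Cfsg.HasNormalPComplement p (Subgroup.centralizer
      (((P : Subgroup G) ⊓ Subgroup.centralizer (P : Set G) : Subgroup G) : Set G))) :
    Cfsg.HasNormalPComplement p G :=
  npc_of_localHypG thompsonAHyp_localHypG thompsonA_final G h P ⟨hJ, hZ⟩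

end Cfsg.Agent.Lib.H14.NPCG
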