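import Cfsg.Agent.Lib.H14.NTHERCore
import Cfsg.Agent.Lib.H14.NTSOLF

/-!
# S4892, piece (HER) (helper14): exact-signature wrapper of `goodA_zpowers_core`
-/

set_option autoImplicit false
open Cfsg.Agent.Lib.H21.AD Cfsg.Agent.Lib.H28.NT

namespace Cfsg.Agent.Lib.H14.NT

variable {G : Type*} [Group G] [Finite G] {p : ℕ} {M : Ideal Cfsg.AlgInt} {N Q : Subgroup G}
  {θ : G → ℂ}

/-- (HER) a principal extension on `J` (`p ∤ |J : N|`) is principal on every `N⟨c⟩`, `c ∈ J`. -/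
theorem goodA_zpowers [N.Normal] (h : Hyp p M N Q θ) (J : Subgroup G) (hNJ : N ≤ J)
    (hpJ : ¬ p ∣ N.relIndex J) (f : G → ℂ) (hf : GoodA p N θ J f) (c : G) (hc : c ∈ J) :
    sSum p (N ⊔ Subgroup.zpowers c) f ≠ 0 :=
  goodA_zpowers_core h
    (fun J₁ J₂ hN1 h12 hp2 f₁ f₂ h₁ h₂ => Cfsg.Agent.Lib.H28.NT.keyF h J₁ J₂ hN1 h12 hp2 f₁ f₂ h₁ h₂)
    (fun J' hNJ' hpJ' hsol' => exists_goodA h J' hNJ' hpJ' hsol')
    J hNJ hpJ f hf c hc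

end Cfsg.Agent.Lib.H14.NT
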