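import Mathlib
import Cfsg.Prelude.Def_LocalEven
import Cfsg.Agent.Lib.H2.SL2Sylow

set_option autoImplicit false

namespace Cfsg.Agent.Lib.H14.NatMod

open Matrix Cfsg.Agent.Lib.H2.SL2

variable {F : Type*} [Field F]

/-- the functional `φ_g x = a x₁ - c x₀` and the vector `w_g = (a, c)` -/
def phi (g : SpecialLinearGroup (Fin 2) F) (x : Fin 2 → F) : F :=
  (g : Matrix (Fin 2) (Fin 2) F) 0 0 * x 1 - (g : Matrix (Fin 2) (Fin 2) F) 1 0 * x 0

def w0 (g : SpecialLinearGroup (Fin 2) F) : Fin 2 → F :=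
  ![(g : Matrix (Fin 2) (Fin 2) F) 0 0, (g : Matrix (Fin 2) (Fin 2) F) 1 0]

theorem conj_uSL_mulVec (g : SpecialLinearGroup (Fin 2) F) (τ : F) (x : Fin 2 → F) :
    ((g * uSL τ * g⁻¹ : SpecialLinearGroup (Fin 2) F) : Matrix (Fin 2) (Fin 2) F).mulVec x
      = x + (τ * phi g x) • w0 g := by
  have hdet := det_eq_one g
  ext k
  fin_cases k
  · simp [SpecialLinearGroup.coe_mul, SpecialLinearGroup.coe_inv, Matrix.adjugate_fin_two, uSL_val,
      Matrix.mulVec, dotProduct, Fin.sum_univ_two, Matrix.mul_apply, phi, w0]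
    linear_combination (x 0) * hdet
  · simp [SpecialLinearGroup.coe_mul, SpecialLinearGroup.coe_inv, Matrix.adjugate_fin_two, uSL_val,
      Matrix.mulVec, dotProduct, Fin.sum_univ_two, Matrix.mul_apply, phi, w0]
    linear_combination (x 1) * hdet


theorem phi_add (g : SpecialLinearGroup (Fin 2) F) (x y : Fin 2 → F) :
    phi g (x + y) = phi g x + phi g y := by
  simp only [phi, Pi.add_apply]; ring

theorem phi_neg (g : SpecialLinearGroup (Fin 2) F) (x : Fin 2 → F) :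
    phi g (-x) = - phi g x := by
  simp only [phi, Pi.neg_apply]; ring

theorem phi_zero (g : SpecialLinearGroup (Fin 2) F) : phi g 0 = 0 := by
  simp [phi]

theorem phi_smul (g : SpecialLinearGroup (Fin 2) F) (c : F) (x : Fin 2 → F) :
    phi g (c • x) = c * phi g x := by
  simp only [phi, Pi.smul_apply, smul_eq_mul]; ring

theorem phi_w0 (g : SpecialLinearGroup (Fin 2) F) : phi g (w0 g) = 0 := by
  simp [phi, w0]; ring

theorem w0_ne_zero (g : SpecialLinearGroup (Fin 2) F) : w0 g ≠ 0 := by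
  intro h
  have h0 : (g : Matrix (Fin 2) (Fin 2) F) 0 0 = 0 := by
    have := congrFun h 0; simpa [w0] using this
  have h1 : (g : Matrix (Fin 2) (Fin 2) F) 1 0 = 0 := by
    have := congrFun h 1; simpa [w0] using this
  have hdet := det_eq_one g
  rw [h0, h1] at hdet
  simp at hdet

theorem smul_w0_eq_zero (g : SpecialLinearGroup (Fin 2) F) (c : F) (h : c • w0 g = 0) : c = 0 := by
  rcases smul_eq_zero.mp h with h | h
  · exact h
  · exact absurd h (w0_ne_zero g)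

/-- the second column of `g` maps to `1` -/
def w1 (g : SpecialLinearGroup (Fin 2) F) : Fin 2 → F :=
  ![(g : Matrix (Fin 2) (Fin 2) F) 0 1, (g : Matrix (Fin 2) (Fin 2) F) 1 1]

theorem phi_w1 (g : SpecialLinearGroup (Fin 2) F) : phi g (w1 g) = 1 := by
  have hdet := det_eq_one g
  simp [phi, w1]
  linear_combination hdet

theorem eq_smul_w0_of_phi_eq_zero (g : SpecialLinearGroup (Fin 2) F) (x : Fin 2 → F)
    (h : phi g x = 0) : ∃ c : F, x = c • w0 g := by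
  have hdet := det_eq_one g
  simp only [phi] at h
  -- c = d x₀ - b x₁
  refine ⟨(g : Matrix (Fin 2) (Fin 2) F) 1 1 * x 0 - (g : Matrix (Fin 2) (Fin 2) F) 0 1 * x 1, ?_⟩
  ext k
  fin_cases k
  · simp [w0]
    linear_combination (-(x 0)) * hdet + ((g : Matrix (Fin 2) (Fin 2) F) 0 1) * h
  · simp [w0]
    linear_combination (-(x 1)) * hdet + ((g : Matrix (Fin 2) (Fin 2) F) 1 1) * h

/-- every vector decomposes along `w0`, `w1`. -/
theorem eq_smul_w0_add (g : SpecialLinearGroup (Fin 2) F) (x : Fin 2 → F) :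
    ∃ c : F, x = c • w0 g + (phi g x) • w1 g := by
  have h : phi g (x - (phi g x) • w1 g) = 0 := by
    rw [sub_eq_add_neg, phi_add, phi_neg, phi_smul, phi_w1]; ring
  obtain ⟨c, hc⟩ := eq_smul_w0_of_phi_eq_zero g _ h
  exact ⟨c, by rw [← hc]; abel⟩


/-- The model extracted from a faithful natural `SL₂(F)`-module and a Sylow `p`-subgroup. -/
theorem exists_model {G : Type*} [Group G] [Finite G] {p : ℕ} [Fact p.Prime] {F : Type*} [Field F]
    [Fintype F] (n : ℕ) (hF : Fintype.card F = p ^ n) (V L : Subgroup G)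
    (hnat : Cfsg.IsNaturalSL2Module F V L)
    (hf : L ⊓ Subgroup.centralizer (V : Set G) = ⊥) (S : Sylow p ↥L) :
    ∃ (ρ : L →* SpecialLinearGroup (Fin 2) F) (ψ : Additive V ≃+ (Fin 2 → F))
      (g : SpecialLinearGroup (Fin 2) F),
      Function.Bijective ρ ∧
      (∀ (l : L) (v : V), ∃ w : V, (w : G) = (l : G) * (v : G) * (l : G)⁻¹ ∧
          ψ (Additive.ofMul w) = ((ρ l : SpecialLinearGroup (Fin 2) F) : Matrix (Fin 2) (Fin 2) F).mulVec
            (ψ (Additive.ofMul v))) ∧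
      (∀ s ∈ S, ∃ τ : F, ρ s = g * uSL τ * g⁻¹) ∧
      (∀ τ : F, ∃ s ∈ S, ρ s = g * uSL τ * g⁻¹) := by
  obtain ⟨_, ρ, ψ, hρsurj, hker, hact⟩ := hnat
  have hcharP : CharP F p := charP_of_card_eq_prime_pow hF
  have hinj : Function.Injective ρ := by
    rw [← MonoidHom.ker_eq_bot_iff, hker, ← Subgroup.inf_subgroupOf_left, hf,
      Subgroup.bot_subgroupOf]
  obtain ⟨g, hg⟩ := MulAction.exists_smul_eq (SpecialLinearGroup (Fin 2) F) (USylow (F := F) p)
    (Sylow.mapSurjective hρsurj S)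
  refine ⟨ρ, ψ, g, ⟨hinj, hρsurj⟩, hact, ?_, ?_⟩
  · intro s hs
    have h1 : ρ s ∈ ((Sylow.mapSurjective hρsurj S : Sylow p _) : Subgroup _) := by
      rw [Sylow.coe_mapSurjective]; exact ⟨s, hs, rfl⟩
    rw [← hg, mem_sylow_smul_iff, coe_USylow, mem_U_iff] at h1
    obtain ⟨τ, hτ⟩ := h1
    exact ⟨τ, by rw [hτ]; group⟩
  · intro τ
    have h1 : g * uSL τ * g⁻¹ ∈ ((g • USylow (F := F) p : Sylow p _) : Subgroup _) := by
      rw [mem_sylow_smul_iff, coe_USylow, mem_U_iff]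
      exact ⟨τ, by group⟩
    rw [hg, Sylow.coe_mapSurjective] at h1
    obtain ⟨s, hs, hρs⟩ := h1
    exact ⟨s, hs, hρs⟩


section PsiSec

variable {F : Type*} [Field F] {G : Type*} [Group G] {V : Subgroup G}

open Classical in
/-- `ψ` extended by zero to all of `G`. -/
noncomputable def Psi (ψ : Additive V ≃+ (Fin 2 → F)) (v : G) : Fin 2 → F :=
  if hv : v ∈ V then ψ (Additive.ofMul ⟨v, hv⟩) else 0

variable (ψ : Additive V ≃+ (Fin 2 → F))

theorem Psi_of_mem {v : G} (hv : v ∈ V) : Psi ψ v = ψ (Additive.ofMul ⟨v, hv⟩) := by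
  unfold Psi; rw [dif_pos hv]

theorem Psi_mul {v v' : G} (hv : v ∈ V) (hv' : v' ∈ V) : Psi ψ (v * v') = Psi ψ v + Psi ψ v' := by
  rw [Psi_of_mem ψ hv, Psi_of_mem ψ hv', Psi_of_mem ψ (V.mul_mem hv hv'), ← map_add]
  rfl

theorem Psi_one : Psi ψ (1 : G) = 0 := by
  rw [Psi_of_mem ψ V.one_mem]
  exact map_zero ψ

theorem Psi_inv {v : G} (hv : v ∈ V) : Psi ψ v⁻¹ = - Psi ψ v := by
  have h := Psi_mul ψ hv (V.inv_mem hv)
  rw [mul_inv_cancel, Psi_one] at h
  exact (neg_eq_of_add_eq_zero_right h.symm).symm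

theorem Psi_inj {v v' : G} (hv : v ∈ V) (hv' : v' ∈ V) (h : Psi ψ v = Psi ψ v') : v = v' := by
  rw [Psi_of_mem ψ hv, Psi_of_mem ψ hv'] at h
  have := ψ.injective h
  exact congrArg Subtype.val (Additive.ofMul.injective this)

theorem Psi_eq_zero {v : G} (hv : v ∈ V) (h : Psi ψ v = 0) : v = 1 :=
  Psi_inj ψ hv V.one_mem (by rw [h, Psi_one])

theorem Psi_surj (x : Fin 2 → F) : ∃ v ∈ V, Psi ψ v = x := by
  obtain ⟨a, ha⟩ := ψ.surjective x
  refine ⟨(Additive.toMul a : V), (Additive.toMul a : V).2, ?_⟩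
  rw [Psi_of_mem ψ (Additive.toMul a : V).2, ← ha]
  rfl


end PsiSec


section ActSec

variable {F : Type*} [Field F] {G : Type*} [Group G] {V L : Subgroup G}
  (ρ : L →* SpecialLinearGroup (Fin 2) F) (ψ : Additive V ≃+ (Fin 2 → F))
  (g : SpecialLinearGroup (Fin 2) F)

/-- The action hypothesis. -/
def Act (ρ : L →* SpecialLinearGroup (Fin 2) F) (ψ : Additive V ≃+ (Fin 2 → F)) : Prop :=
  ∀ (l : L) (v : V), ∃ w : V, (w : G) = (l : G) * (v : G) * (l : G)⁻¹ ∧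
    ψ (Additive.ofMul w) = ((ρ l : SpecialLinearGroup (Fin 2) F) : Matrix (Fin 2) (Fin 2) F).mulVec
      (ψ (Additive.ofMul v))

variable {ρ ψ}

theorem Act.conj_mem (hact : Act ρ ψ) (l : L) {v : G} (hv : v ∈ V) :
    (l : G) * v * (l : G)⁻¹ ∈ V := by
  obtain ⟨w, hw, _⟩ := hact l ⟨v, hv⟩
  rw [← hw]; exact w.2

theorem Act.Psi_conj (hact : Act ρ ψ) (l : L) {v : G} (hv : v ∈ V) :
    Psi ψ ((l : G) * v * (l : G)⁻¹) =
      ((ρ l : SpecialLinearGroup (Fin 2) F) : Matrix (Fin 2) (Fin 2) F).mulVec (Psi ψ v) := by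
  obtain ⟨w, hw, hψ⟩ := hact l ⟨v, hv⟩
  have hw' : (l : G) * v * (l : G)⁻¹ ∈ V := by rw [← hw]; exact w.2
  rw [Psi_of_mem ψ hw', Psi_of_mem ψ hv, ← hψ]
  congr 2
  exact Subtype.ext hw.symm

variable {g}

theorem Act.Psi_conj_u (hact : Act ρ ψ) (l : L) (τ : F) (hl : ρ l = g * uSL τ * g⁻¹) {v : G}
    (hv : v ∈ V) :
    Psi ψ ((l : G) * v * (l : G)⁻¹) = Psi ψ v + (τ * phi g (Psi ψ v)) • w0 g := by
  rw [hact.Psi_conj l hv, hl, conj_uSL_mulVec]


end ActSec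


section WSec

variable {F : Type*} [Field F] {G : Type*} [Group G] {V L : Subgroup G}
  {ρ : L →* SpecialLinearGroup (Fin 2) F} {ψ : Additive V ≃+ (Fin 2 → F)}
  {g : SpecialLinearGroup (Fin 2) F}

/-- The fixed line `W = ψ⁻¹(F w₀)` as a subgroup of `G`. -/
def Wsub (ψ : Additive V ≃+ (Fin 2 → F)) (g : SpecialLinearGroup (Fin 2) F) : Subgroup G where
  carrier := {v | v ∈ V ∧ phi g (Psi ψ v) = 0}
  mul_mem' := by
    rintro a b ⟨ha, ha0⟩ ⟨hb, hb0⟩
    exact ⟨V.mul_mem ha hb, by rw [Psi_mul ψ ha hb, phi_add, ha0, hb0, add_zero]⟩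
  one_mem' := ⟨V.one_mem, by rw [Psi_one, phi_zero]⟩
  inv_mem' := by
    rintro a ⟨ha, ha0⟩
    exact ⟨V.inv_mem ha, by rw [Psi_inv ψ ha, phi_neg, ha0, neg_zero]⟩

theorem mem_Wsub {v : G} : v ∈ Wsub ψ g ↔ v ∈ V ∧ phi g (Psi ψ v) = 0 := Iff.rfl

theorem Wsub_le : Wsub ψ g ≤ V := fun _ h => h.1

/-- (W1) commutators land in `W`. -/
theorem Act.comm_mem_W (hact : Act ρ ψ) (l : L) (τ : F) (hl : ρ l = g * uSL τ * g⁻¹) {v : G}
    (hv : v ∈ V) : v * (l : G) * v⁻¹ * (l : G)⁻¹ ∈ Wsub ψ g := by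
  have hc := hact.conj_mem l (V.inv_mem hv)
  have e : v * (l : G) * v⁻¹ * (l : G)⁻¹ = v * ((l : G) * v⁻¹ * (l : G)⁻¹) := by group
  rw [e, mem_Wsub]
  refine ⟨V.mul_mem hv hc, ?_⟩
  rw [Psi_mul ψ hv hc, hact.Psi_conj_u l τ hl (V.inv_mem hv), Psi_inv ψ hv, phi_add, phi_add,
    phi_neg, phi_smul, phi_w0]
  ring

/-- value of the commutator -/
theorem Act.Psi_comm (hact : Act ρ ψ) (l : L) (τ : F) (hl : ρ l = g * uSL τ * g⁻¹) {v : G}
    (hv : v ∈ V) : Psi ψ (v * (l : G) * v⁻¹ * (l : G)⁻¹) = (τ * phi g (Psi ψ v)) • (-(w0 g)) := by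
  have hc := hact.conj_mem l (V.inv_mem hv)
  have e : v * (l : G) * v⁻¹ * (l : G)⁻¹ = v * ((l : G) * v⁻¹ * (l : G)⁻¹) := by group
  rw [e, Psi_mul ψ hv hc, hact.Psi_conj_u l τ hl (V.inv_mem hv), Psi_inv ψ hv, phi_neg]
  rw [smul_neg, ← neg_smul]
  have : τ * -phi g (Psi ψ v) = -(τ * phi g (Psi ψ v)) := by ring
  rw [this]
  abel

/-- (W2) fixed points of a nontrivial element of `T`. -/
theorem Act.comm_iff_mem_W (hact : Act ρ ψ) (l : L) (τ : F) (hτ : τ ≠ 0)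
    (hl : ρ l = g * uSL τ * g⁻¹) {v : G} (hv : v ∈ V) :
    v * (l : G) = (l : G) * v ↔ v ∈ Wsub ψ g := by
  have hc := hact.conj_mem l hv
  rw [mem_Wsub]
  constructor
  · intro h
    refine ⟨hv, ?_⟩
    have h1 : (l : G) * v * (l : G)⁻¹ = v := by rw [← h]; group
    have h2 := hact.Psi_conj_u l τ hl hv
    rw [h1] at h2
    have h3 : (τ * phi g (Psi ψ v)) • w0 g = 0 := by
      have := congrArg (fun z => z - Psi ψ v) h2
      simpa using this.symm
    have h4 := smul_w0_eq_zero g _ h3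
    rcases mul_eq_zero.mp h4 with h | h
    · exact absurd h hτ
    · exact h
  · rintro ⟨_, h0⟩
    have h2 := hact.Psi_conj_u l τ hl hv
    rw [h0, mul_zero, zero_smul, add_zero] at h2
    have h3 := Psi_inj ψ hc hv h2
    calc v * (l : G) = ((l : G) * v * (l : G)⁻¹)  * (l : G) := by rw [h3]
      _ = (l : G) * v := by group

/-- (W3)/(W4): every element of `W` is a commutator `[v, l]` once `τ φ(v) ≠ 0` can be adjusted. -/
theorem Act.exists_comm_eq (hact : Act ρ ψ) {w : G} (hw : w ∈ Wsub ψ g) {v : G} (hv : v ∈ V)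
    (hφ : phi g (Psi ψ v) ≠ 0) :
    ∃ τ : F, ∀ l : L, ρ l = g * uSL τ * g⁻¹ → w = v * (l : G) * v⁻¹ * (l : G)⁻¹ := by
  obtain ⟨hwV, hw0⟩ := hw
  obtain ⟨c, hc⟩ := eq_smul_w0_of_phi_eq_zero g _ hw0
  refine ⟨-c / phi g (Psi ψ v), fun l hl => ?_⟩
  have hmem := (hact.comm_mem_W l _ hl hv).1
  apply Psi_inj ψ hwV hmem
  rw [hact.Psi_comm l _ hl hv, hc, div_mul_cancel₀ _ hφ, smul_neg, neg_smul, neg_neg]

theorem Act.exists_comm_eq' (hact : Act ρ ψ) {w : G} (hw : w ∈ Wsub ψ g) (l : L) (τ : F)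
    (hτ : τ ≠ 0) (hl : ρ l = g * uSL τ * g⁻¹) :
    ∃ v ∈ V, w = v * (l : G) * v⁻¹ * (l : G)⁻¹ := by
  obtain ⟨hwV, hw0⟩ := hw
  obtain ⟨c, hc⟩ := eq_smul_w0_of_phi_eq_zero g _ hw0
  obtain ⟨v, hv, hvx⟩ := Psi_surj ψ ((-c / τ) • w1 g)
  refine ⟨v, hv, ?_⟩
  have hmem := (hact.comm_mem_W l _ hl hv).1
  apply Psi_inj ψ hwV hmem
  rw [hact.Psi_comm l _ hl hv, hc, hvx, phi_smul, phi_w1, mul_one, mul_div_cancel₀ _ hτ, smul_neg,
    neg_smul, neg_neg]


end WSec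


section CardSec

variable {F : Type*} [Field F] {G : Type*} [Group G] {V L : Subgroup G}
  {ρ : L →* SpecialLinearGroup (Fin 2) F} {ψ : Additive V ≃+ (Fin 2 → F)}
  {g : SpecialLinearGroup (Fin 2) F}

theorem card_V [Finite F] (ψ : Additive V ≃+ (Fin 2 → F)) : Nat.card V = Nat.card F ^ 2 := by
  have h1 : Nat.card V = Nat.card (Additive V) := Nat.card_congr Additive.ofMul
  rw [h1, Nat.card_congr ψ.toEquiv, Nat.card_fun, Nat.card_fin]

theorem card_Wsub (ψ : Additive V ≃+ (Fin 2 → F)) (g : SpecialLinearGroup (Fin 2) F) :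
    Nat.card (Wsub ψ g) = Nat.card F := by
  have hex : ∀ c : F, ∃ v : G, v ∈ V ∧ Psi ψ v = c • w0 g := fun c => Psi_surj ψ _
  choose f hfV hf using hex
  have hfW : ∀ c, f c ∈ Wsub ψ g := fun c => ⟨hfV c, by rw [hf c, phi_smul, phi_w0, mul_zero]⟩
  let e : F → Wsub ψ g := fun c => ⟨f c, hfW c⟩
  have hbij : Function.Bijective e := by
    constructor
    · intro c c' h
      have h1 : f c = f c' := congrArg Subtype.val h
      have h2 : c • w0 g = c' • w0 g := by rw [← hf c, ← hf c', h1]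
      have h3 : (c - c') • w0 g = 0 := by rw [sub_smul, h2, sub_self]
      exact sub_eq_zero.mp (smul_w0_eq_zero g _ h3)
    · rintro ⟨w, hwV, hw0⟩
      obtain ⟨c, hc⟩ := eq_smul_w0_of_phi_eq_zero g _ hw0
      refine ⟨c, Subtype.ext ?_⟩
      exact Psi_inj ψ (hfV c) hwV (by rw [hf c, hc])
  exact (Nat.card_congr (Equiv.ofBijective e hbij)).symm


end CardSec

end Cfsg.Agent.Lib.H14.NatMod
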