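import Cfsg.Agent.Lib.H14.NatMod
import Cfsg.Agent.Lib.H14.Large
import Cfsg.Prelude.Def_TwoFusion

set_option autoImplicit false

namespace Cfsg.Agent.Lib.H14.NatMod

open Matrix Cfsg.Agent.Lib.H2.SL2

section MatSec

variable {F : Type*} [Field F]


/-- diagonal element -/
def dSL (α : Fˣ) : SpecialLinearGroup (Fin 2) F :=
  ⟨!![(α : F), 0; 0, ((α⁻¹ : Fˣ) : F)], by simp [Matrix.det_fin_two_of]⟩

theorem dSL_val (α : Fˣ) :
    ((dSL α : SpecialLinearGroup (Fin 2) F) : Matrix (Fin 2) (Fin 2) F)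
      = !![(α : F), 0; 0, ((α⁻¹ : Fˣ) : F)] := rfl

theorem dSL_mem_normalizer (α : Fˣ) :
    dSL α ∈ Subgroup.normalizer (U F : Set (SpecialLinearGroup (Fin 2) F)) :=
  mem_normalizer_U_of_upper (by simp [dSL_val])

theorem conj_dSL_mulVec_w0 (g : SpecialLinearGroup (Fin 2) F) (α : Fˣ) :
    ((g * dSL α * g⁻¹ : SpecialLinearGroup (Fin 2) F) : Matrix (Fin 2) (Fin 2) F).mulVec (w0 g)
      = (α : F) • w0 g := by
  have hdet := det_eq_one g
  ext k
  fin_cases k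
  · simp [SpecialLinearGroup.coe_inv, Matrix.adjugate_fin_two, dSL_val,
      Matrix.mulVec, dotProduct, Fin.sum_univ_two, Matrix.mul_apply, w0]
    linear_combination ((α : F) * (g : Matrix (Fin 2) (Fin 2) F) 0 0) * hdet
  · simp [SpecialLinearGroup.coe_inv, Matrix.adjugate_fin_two, dSL_val,
      Matrix.mulVec, dotProduct, Fin.sum_univ_two, Matrix.mul_apply, w0]
    linear_combination ((α : F) * (g : Matrix (Fin 2) (Fin 2) F) 1 0) * hdet

theorem phi_conj_dSL (g : SpecialLinearGroup (Fin 2) F) (α : Fˣ) (x : Fin 2 → F) :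
    phi g (((g * dSL α * g⁻¹ : SpecialLinearGroup (Fin 2) F) : Matrix (Fin 2) (Fin 2) F).mulVec x)
      = ((α⁻¹ : Fˣ) : F) * phi g x := by
  have hdet := det_eq_one g
  simp [SpecialLinearGroup.coe_inv, Matrix.adjugate_fin_two, dSL_val,
      Matrix.mulVec, dotProduct, Fin.sum_univ_two, Matrix.mul_apply, phi]
  linear_combination (((α : F)⁻¹) * ((g : Matrix (Fin 2) (Fin 2) F) 0 0 * x 1 - (g : Matrix (Fin 2) (Fin 2) F) 1 0 * x 0)) * hdet

theorem conj_entry (g A : SpecialLinearGroup (Fin 2) F) :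
    ((g⁻¹ * A * g : SpecialLinearGroup (Fin 2) F) : Matrix (Fin 2) (Fin 2) F) 1 0
      = phi g ((A : Matrix (Fin 2) (Fin 2) F).mulVec (w0 g)) := by
  rw [mul_val, mul_val]
  simp [SpecialLinearGroup.coe_inv, Matrix.adjugate_fin_two,
      Matrix.mulVec, Matrix.vecMul, dotProduct, Fin.sum_univ_two, phi, w0]
  ring


/-- An element of `SL₂(F)`, `char F = p`, fixing a nonzero vector has `p`-th power `1`. -/
theorem pow_char_eq_one_of_fixed {p : ℕ} [Fact p.Prime] [CharP F p]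
    (A : SpecialLinearGroup (Fin 2) F) (y : Fin 2 → F) (hy : y ≠ 0)
    (hA : (A : Matrix (Fin 2) (Fin 2) F).mulVec y = y) : A ^ p = 1 := by
  have hpp : p.Prime := Fact.out
  have hdet := det_eq_one A
  set a := (A : Matrix (Fin 2) (Fin 2) F) 0 0 with ha
  set b := (A : Matrix (Fin 2) (Fin 2) F) 0 1 with hb
  set c := (A : Matrix (Fin 2) (Fin 2) F) 1 0 with hc
  set d := (A : Matrix (Fin 2) (Fin 2) F) 1 1 with hd
  have e0 : a * y 0 + b * y 1 = y 0 := by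
    have := congrFun hA 0
    simpa [Matrix.mulVec, dotProduct, Fin.sum_univ_two] using this
  have e1 : c * y 0 + d * y 1 = y 1 := by
    have := congrFun hA 1
    simpa [Matrix.mulVec, dotProduct, Fin.sum_univ_two] using this
  -- trace = 2
  have htr : a + d = 2 := by
    have hy' : y 0 ≠ 0 ∨ y 1 ≠ 0 := by
      by_contra hcon
      push Not at hcon
      apply hy
      ext k; fin_cases k
      · exact hcon.1
      · exact hcon.2
    have key0 : (a + d - 2) * y 0 = 0 := by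
      linear_combination (-(d - 1)) * e0 + b * e1 + (y 0) * hdet
    have key1 : (a + d - 2) * y 1 = 0 := by
      linear_combination (-(a - 1)) * e1 + c * e0 + (y 1) * hdet
    rcases hy' with h | h
    · have := (mul_eq_zero.mp key0).resolve_right h
      linear_combination this
    · have := (mul_eq_zero.mp key1).resolve_right h
      linear_combination this
  -- N = A - 1 squares to zero
  set N : Matrix (Fin 2) (Fin 2) F := (A : Matrix (Fin 2) (Fin 2) F) - 1 with hN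
  have hNN : N * N = 0 := by
    ext i j
    fin_cases i <;> fin_cases j
    · simp [hN, Matrix.mul_apply, Fin.sum_univ_two]
      linear_combination a * htr - hdet
    · simp [hN, Matrix.mul_apply, Fin.sum_univ_two]
      linear_combination b * htr
    · simp [hN, Matrix.mul_apply, Fin.sum_univ_two]
      linear_combination c * htr
    · simp [hN, Matrix.mul_apply, Fin.sum_univ_two]
      linear_combination d * htr - hdet
  have hNp : N ^ p = 0 := by
    obtain ⟨k, hk⟩ : ∃ k, p = 2 + k := ⟨p - 2, by have := hpp.two_le; omega⟩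
    rw [hk, pow_add, pow_two, hNN, zero_mul]
  have hA1 : (A : Matrix (Fin 2) (Fin 2) F) = 1 + N := by rw [hN]; abel
  have hpow : ((A ^ p : SpecialLinearGroup (Fin 2) F) : Matrix (Fin 2) (Fin 2) F) = 1 := by
    have h1 := Matrix.SpecialLinearGroup.coe_pow A p
    rw [h1, hA1, add_pow_char_of_commute p (Commute.one_left N), one_pow, hNp, add_zero]
  exact Subtype.ext hpow


end MatSec


section ModSec

variable {F : Type*} [Field F] {G : Type*} [Group G] {V L : Subgroup G}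

/-- The model: `ρ : L ≃ SL₂(F)`, `ψ : V ≃ F²` equivariant, `ρ(S) = g U g⁻¹`. -/
structure Mod (S : Subgroup L) (ρ : L →* SpecialLinearGroup (Fin 2) F)
    (ψ : Additive V ≃+ (Fin 2 → F)) (g : SpecialLinearGroup (Fin 2) F) : Prop where
  bij : Function.Bijective ρ
  act : Act ρ ψ
  hS1 : ∀ s ∈ S, ∃ τ : F, ρ s = g * uSL τ * g⁻¹
  hS2 : ∀ τ : F, ∃ s ∈ S, ρ s = g * uSL τ * g⁻¹

variable {S : Subgroup L} {ρ : L →* SpecialLinearGroup (Fin 2) F}
  {ψ : Additive V ≃+ (Fin 2 → F)} {g : SpecialLinearGroup (Fin 2) F}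

theorem Mod.mem_T (M : Mod S ρ ψ g) {s : G} (hs : s ∈ S.map L.subtype) :
    ∃ (l : L) (τ : F), l ∈ S ∧ (l : G) = s ∧ ρ l = g * uSL τ * g⁻¹ ∧ (s ≠ 1 → τ ≠ 0) := by
  obtain ⟨l, hl, rfl⟩ := hs
  obtain ⟨τ, hτ⟩ := M.hS1 l hl
  refine ⟨l, τ, hl, rfl, hτ, ?_⟩
  intro hne h0
  apply hne
  rw [h0, uSL_zero, mul_one, mul_inv_cancel] at hτ
  have : l = 1 := M.bij.1 (by rw [hτ, map_one])
  rw [this]; rfl

theorem Mod.exists_T (M : Mod S ρ ψ g) (τ : F) :
    ∃ l : L, (l : G) ∈ S.map L.subtype ∧ ρ l = g * uSL τ * g⁻¹ := by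
  obtain ⟨l, hl, hρ⟩ := M.hS2 τ
  exact ⟨l, ⟨l, hl, rfl⟩, hρ⟩

theorem Mod.comm_mem (M : Mod S ρ ψ g) {s : G} (hs : s ∈ S.map L.subtype) {v : G} (hv : v ∈ V) :
    v * s * v⁻¹ * s⁻¹ ∈ Wsub ψ g := by
  obtain ⟨l, τ, _, rfl, hρ, _⟩ := M.mem_T hs
  exact M.act.comm_mem_W l τ hρ hv

theorem Mod.comm_of_mem (M : Mod S ρ ψ g) {s : G} (hs : s ∈ S.map L.subtype) {w : G}
    (hw : w ∈ Wsub ψ g) : w * s = s * w := by
  by_cases h1 : s = 1
  · rw [h1, mul_one, one_mul]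
  · obtain ⟨l, τ, _, rfl, hρ, hτ⟩ := M.mem_T hs
    exact (M.act.comm_iff_mem_W l τ (hτ h1) hρ hw.1).mpr hw

theorem Mod.exists_ne_one (M : Mod S ρ ψ g) : ∃ s ∈ S.map L.subtype, s ≠ 1 := by
  obtain ⟨l, hlT, hρ⟩ := M.exists_T 1
  refine ⟨l, hlT, ?_⟩
  intro h
  have hl1 : l = 1 := Subtype.ext h
  rw [hl1, map_one] at hρ
  have h2 : uSL (1 : F) = 1 := by
    have : g⁻¹ * (g * uSL (1 : F) * g⁻¹) * g = uSL 1 := by group
    rw [← this, ← hρ]; group
  rw [← uSL_zero] at h2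
  exact one_ne_zero (uSL_injective h2)

theorem Mod.W_le_centralizer (M : Mod S ρ ψ g) :
    Wsub ψ g ≤ Subgroup.centralizer ((S.map L.subtype : Subgroup G) : Set G) := by
  intro w hw
  rw [Subgroup.mem_centralizer_iff]
  intro s hs
  exact (M.comm_of_mem hs hw).symm

theorem Mod.inf_centralizer_singleton (M : Mod S ρ ψ g) {s : G} (hs : s ∈ S.map L.subtype)
    (hs1 : s ≠ 1) : V ⊓ Subgroup.centralizer ({s} : Set G) = Wsub ψ g := by
  obtain ⟨l, τ, _, rfl, hρ, hτ⟩ := M.mem_T hs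
  ext v
  rw [Subgroup.mem_inf, Subgroup.mem_centralizer_singleton_iff]
  constructor
  · rintro ⟨hv, hc⟩
    exact (M.act.comm_iff_mem_W l τ (hτ hs1) hρ hv).mp hc
  · intro hw
    exact ⟨hw.1, (M.act.comm_iff_mem_W l τ (hτ hs1) hρ hw.1).mpr hw⟩

theorem Mod.inf_centralizer (M : Mod S ρ ψ g) :
    V ⊓ Subgroup.centralizer ((S.map L.subtype : Subgroup G) : Set G) = Wsub ψ g := by
  obtain ⟨s₁, hs₁T, hs₁⟩ := M.exists_ne_one
  apply le_antisymm
  · rw [← M.inf_centralizer_singleton hs₁T hs₁]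
    apply inf_le_inf_left
    apply Subgroup.centralizer_le
    intro x hx
    rw [Set.mem_singleton_iff] at hx
    rw [hx]; exact hs₁T
  · exact le_inf Wsub_le M.W_le_centralizer

theorem Mod.mem_S_iff (M : Mod S ρ ψ g) (s : L) : s ∈ S ↔ g⁻¹ * ρ s * g ∈ U F := by
  constructor
  · intro hs
    obtain ⟨τ, hτ⟩ := M.hS1 s hs
    rw [hτ, mem_U_iff]
    exact ⟨τ, by group⟩
  · intro h
    obtain ⟨τ, hτ⟩ := (mem_U_iff _).mp h
    obtain ⟨s', hs', hρ⟩ := M.hS2 τ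
    have : ρ s = ρ s' := by
      rw [hρ, hτ]; group
    rw [M.bij.1 this]; exact hs'

theorem Mod.mem_nzr (M : Mod S ρ ψ g) (l : L)
    (hl : g⁻¹ * ρ l * g ∈ Subgroup.normalizer (U F : Set (SpecialLinearGroup (Fin 2) F))) :
    (l : G) ∈ Subgroup.normalizer ((S.map L.subtype : Subgroup G) : Set G) := by
  have key : ∀ s : L, s ∈ S ↔ l * s * l⁻¹ ∈ S := by
    intro s
    rw [M.mem_S_iff, M.mem_S_iff, Subgroup.mem_normalizer_iff.mp hl (g⁻¹ * ρ s * g)]
    have e : g⁻¹ * ρ l * g * (g⁻¹ * ρ s * g) * (g⁻¹ * ρ l * g)⁻¹ = g⁻¹ * ρ (l * s * l⁻¹) * g := by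
      rw [map_mul, map_mul, map_inv]; group
    rw [e]
  rw [Subgroup.mem_normalizer_iff]
  intro h
  constructor
  · rintro ⟨s, hs, rfl⟩
    exact ⟨l * s * l⁻¹, (key s).mp hs, by simp⟩
  · rintro ⟨s', hs', hss⟩
    have hh : h = ((l⁻¹ * s' * l : L) : G) := by
      have : (s' : G) = (l : G) * h * (l : G)⁻¹ := hss
      simp only [Subgroup.coe_mul, Subgroup.coe_inv, this]
      group
    refine ⟨l⁻¹ * s' * l, ?_, hh.symm⟩
    have e : l * (l⁻¹ * s' * l) * l⁻¹ = s' := by group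
    have h2 : l⁻¹ * s' * l ∈ S := (key _).mpr (by rw [e]; exact hs')
    exact h2

theorem Mod.phi_ne_zero_of_not_mem_nzr (M : Mod S ρ ψ g) (l : L)
    (hl : (l : G) ∉ Subgroup.normalizer ((S.map L.subtype : Subgroup G) : Set G)) :
    phi g (((ρ l : SpecialLinearGroup (Fin 2) F) : Matrix (Fin 2) (Fin 2) F).mulVec (w0 g)) ≠ 0 := by
  intro h0
  apply hl
  apply M.mem_nzr
  apply mem_normalizer_U_of_upper
  rw [conj_entry, h0]


end ModSec


section IrredSec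

variable {F : Type*} [Field F] {G : Type*} [Group G] {V L : Subgroup G}
variable {S : Subgroup L} {ρ : L →* SpecialLinearGroup (Fin 2) F}
  {ψ : Additive V ≃+ (Fin 2 → F)} {g : SpecialLinearGroup (Fin 2) F}

theorem Mod.exists_torus (M : Mod S ρ ψ g) (α : Fˣ) :
    ∃ l : L, (l : G) ∈ Subgroup.normalizer ((S.map L.subtype : Subgroup G) : Set G) ∧
      (∀ v ∈ V, (l : G) * v * (l : G)⁻¹ ∈ V ∧
        phi g (Psi ψ ((l : G) * v * (l : G)⁻¹)) = ((α⁻¹ : Fˣ) : F) * phi g (Psi ψ v)) ∧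
      (∀ w ∈ V, ∀ c : F, Psi ψ w = c • w0 g → Psi ψ ((l : G) * w * (l : G)⁻¹) = ((α : F) * c) • w0 g) := by
  obtain ⟨l, hl⟩ := M.bij.2 (g * dSL α * g⁻¹)
  refine ⟨l, ?_, ?_, ?_⟩
  · apply M.mem_nzr
    rw [hl]
    have e : g⁻¹ * (g * dSL α * g⁻¹) * g = dSL α := by group
    rw [e]
    exact dSL_mem_normalizer α
  · intro v hv
    refine ⟨M.act.conj_mem l hv, ?_⟩
    rw [M.act.Psi_conj l hv, hl, phi_conj_dSL]
  · intro w hw c hc
    rw [M.act.Psi_conj l hw, hl, hc, Matrix.mulVec_smul, conj_dSL_mulVec_w0, smul_smul, mul_comm]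

theorem Mod.comm_V (M : Mod S ρ ψ g) {a b : G} (ha : a ∈ V) (hb : b ∈ V) : a * b = b * a := by
  apply Psi_inj ψ (V.mul_mem ha hb) (V.mul_mem hb ha)
  rw [Psi_mul ψ ha hb, Psi_mul ψ hb ha, add_comm]

/-- (3): `C_V(S)` is irreducible under `N_L(S)`. -/
theorem Mod.irred_W (M : Mod S ρ ψ g) (U₀ : Subgroup G) (hU : U₀ ≤ Wsub ψ g)
    (hinv : L ⊓ Subgroup.normalizer ((S.map L.subtype : Subgroup G) : Set G) ≤
      Subgroup.normalizer (U₀ : Set G)) : U₀ = ⊥ ∨ U₀ = Wsub ψ g := by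
  by_cases hbot : U₀ = ⊥
  · left; exact hbot
  · right
    apply le_antisymm hU
    obtain ⟨u, hu, hu1⟩ := (Subgroup.ne_bot_iff_exists_ne_one.mp hbot : ∃ x : U₀, x ≠ 1)
      |> fun ⟨x, hx⟩ => (⟨(x : G), x.2, fun h' => hx (Subtype.ext h')⟩ : ∃ x : G, x ∈ U₀ ∧ x ≠ 1)
    have huW := hU hu
    obtain ⟨c, hc⟩ := eq_smul_w0_of_phi_eq_zero g _ huW.2
    have hc0 : c ≠ 0 := by
      intro h0
      rw [h0, zero_smul] at hc
      exact hu1 (Psi_eq_zero ψ huW.1 hc)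
    intro w hw
    obtain ⟨c', hc'⟩ := eq_smul_w0_of_phi_eq_zero g _ hw.2
    by_cases hc'0 : c' = 0
    · rw [hc'0, zero_smul] at hc'
      rw [Psi_eq_zero ψ hw.1 hc']; exact U₀.one_mem
    · obtain ⟨l, hlN, _, hl2⟩ := M.exists_torus (Units.mk0 (c' / c) (div_ne_zero hc'0 hc0))
      have hlU : (l : G) ∈ Subgroup.normalizer (U₀ : Set G) := hinv (Subgroup.mem_inf.mpr ⟨l.2, hlN⟩)
      have h1 : (l : G) * u * (l : G)⁻¹ ∈ U₀ := (Subgroup.mem_normalizer_iff.mp hlU u).mp hu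
      have h2 := hl2 u huW.1 c hc
      rw [Units.val_mk0, div_mul_cancel₀ _ hc0, ← hc'] at h2
      rw [← Psi_inj ψ (hU h1).1 hw.1 h2]
      exact h1

/-- (4): `V / C_V(S)` is irreducible under `N_L(S)`. -/
theorem Mod.irred_quot (M : Mod S ρ ψ g) (U₀ : Subgroup G) (hWU : Wsub ψ g ≤ U₀) (hUV : U₀ ≤ V)
    (hinv : L ⊓ Subgroup.normalizer ((S.map L.subtype : Subgroup G) : Set G) ≤
      Subgroup.normalizer (U₀ : Set G)) : U₀ = Wsub ψ g ∨ U₀ = V := by
  by_cases hle : U₀ ≤ Wsub ψ g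
  · left; exact le_antisymm hle hWU
  · right
    apply le_antisymm hUV
    obtain ⟨u, hu, huW⟩ := SetLike.not_le_iff_exists.mp hle
    have huV := hUV hu
    have hφu : phi g (Psi ψ u) ≠ 0 := fun h0 => huW ⟨huV, h0⟩
    intro v hv
    by_cases hφv : phi g (Psi ψ v) = 0
    · exact hWU ⟨hv, hφv⟩
    · obtain ⟨l, hlN, hl1, _⟩ := M.exists_torus (Units.mk0 (phi g (Psi ψ u) / phi g (Psi ψ v))
        (div_ne_zero hφu hφv))
      have hlU : (l : G) ∈ Subgroup.normalizer (U₀ : Set G) := hinv (Subgroup.mem_inf.mpr ⟨l.2, hlN⟩)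
      have h1 : (l : G) * u * (l : G)⁻¹ ∈ U₀ := (Subgroup.mem_normalizer_iff.mp hlU u).mp hu
      obtain ⟨h2V, h2⟩ := hl1 u huV
      have h3 : phi g (Psi ψ ((l : G) * u * (l : G)⁻¹)) = phi g (Psi ψ v) := by
        rw [h2]
        have : ((Units.mk0 (phi g (Psi ψ u) / phi g (Psi ψ v)) (div_ne_zero hφu hφv))⁻¹ : Fˣ)
            = Units.mk0 (phi g (Psi ψ v) / phi g (Psi ψ u)) (div_ne_zero hφv hφu) := by
          apply Units.ext
          simp
        rw [this, Units.val_mk0, div_mul_cancel₀ _ hφu]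
      have h4 : v * ((l : G) * u * (l : G)⁻¹)⁻¹ ∈ Wsub ψ g := by
        refine ⟨V.mul_mem hv (V.inv_mem h2V), ?_⟩
        rw [Psi_mul ψ hv (V.inv_mem h2V), Psi_inv ψ h2V, phi_add, phi_neg, h3, add_neg_cancel]
      have h5 := U₀.mul_mem (hWU h4) h1
      rwa [inv_mul_cancel_right] at h5


end IrredSec


section DirectSec

variable {F : Type*} [Field F] {G : Type*} [Group G] {V L : Subgroup G}
variable {S : Subgroup L} {ρ : L →* SpecialLinearGroup (Fin 2) F}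
  {ψ : Additive V ≃+ (Fin 2 → F)} {g : SpecialLinearGroup (Fin 2) F}

/-- (2): `p'`-elements act fixed-point-freely. -/
theorem Mod.fpf (M : Mod S ρ ψ g) {p : ℕ} [Fact p.Prime] [CharP F p] (x : G) (hxL : x ∈ L)
    (hx1 : x ≠ 1) (hcop : (orderOf x).Coprime p) :
    V ⊓ Subgroup.centralizer ({x} : Set G) = ⊥ := by
  rw [eq_bot_iff]
  intro v hv
  obtain ⟨hvV, hvC⟩ := Subgroup.mem_inf.mp hv
  rw [Subgroup.mem_centralizer_singleton_iff] at hvC
  rw [Subgroup.mem_bot]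
  by_contra hv1
  have hΨ : Psi ψ v ≠ 0 := fun h => hv1 (Psi_eq_zero ψ hvV h)
  have hconj : x * v * x⁻¹ = v := by rw [← hvC]; group
  have h1 := M.act.Psi_conj ⟨x, hxL⟩ hvV
  simp only [] at h1
  rw [hconj] at h1
  have h2 := pow_char_eq_one_of_fixed (p := p) (ρ ⟨x, hxL⟩) (Psi ψ v) hΨ h1.symm
  rw [← map_pow] at h2
  have h3 : (⟨x, hxL⟩ : L) ^ p = 1 := M.bij.1 (by rw [h2, map_one])
  have h4 : x ^ p = 1 := by
    have := congrArg Subtype.val h3
    simpa using this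
  have h5 : orderOf x ∣ p := orderOf_dvd_of_pow_eq_one h4
  have h6 : orderOf x = 1 := Nat.Coprime.eq_one_of_dvd hcop h5
  exact hx1 (orderOf_eq_one_iff.mp h6)

/-- (1): `V = C_V(S) × C_V(S^{g'})` for `g' ∈ L` not normalizing `S`. -/
theorem Mod.direct (M : Mod S ρ ψ g) (hLN : L ≤ Subgroup.normalizer (V : Set G)) (g' : G)
    (hg'L : g' ∈ L)
    (hg'N : g' ∉ Subgroup.normalizer ((S.map L.subtype : Subgroup G) : Set G)) :
    Cfsg.IsInternalDirectProduct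
      (V ⊓ Subgroup.centralizer ((S.map L.subtype : Subgroup G) : Set G))
      (V ⊓ Subgroup.centralizer
        (((S.map L.subtype).map (MulAut.conj g').toMonoidHom : Subgroup G) : Set G)) V := by
  have hW' : V ⊓ Subgroup.centralizer
      (((S.map L.subtype).map (MulAut.conj g').toMonoidHom : Subgroup G) : Set G)
      = (Wsub ψ g).map (cj g') := by
    have h1 := centralizer_map_cj (S.map L.subtype) g'
    have h2 := map_cj_eq_of_mem_nzr V g' (hLN hg'L)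
    change V ⊓ Subgroup.centralizer (((S.map L.subtype).map (cj g') : Subgroup G) : Set G) = _
    rw [h1, ← M.inf_centralizer, Subgroup.map_inf_eq _ _ _ (MulAut.conj g').injective, h2]
  rw [hW', M.inf_centralizer]
  set A : Matrix (Fin 2) (Fin 2) F := ((ρ ⟨g', hg'L⟩ : SpecialLinearGroup (Fin 2) F) : Matrix (Fin 2) (Fin 2) F) with hA
  have hκ : phi g (A.mulVec (w0 g)) ≠ 0 := M.phi_ne_zero_of_not_mem_nzr ⟨g', hg'L⟩ hg'N
  have hmapV : (Wsub ψ g).map (cj g') ≤ V := by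
    rintro _ ⟨w, hw, rfl⟩
    exact M.act.conj_mem ⟨g', hg'L⟩ hw.1
  have hΨconj : ∀ w ∈ V, Psi ψ (g' * w * g'⁻¹) = A.mulVec (Psi ψ w) := by
    intro w hw
    exact M.act.Psi_conj ⟨g', hg'L⟩ hw
  refine ⟨Wsub_le, hmapV, ?_, ?_, ?_⟩
  · intro a ha b hb
    exact M.comm_V ha.1 (hmapV hb)
  · rw [eq_bot_iff]
    rintro v ⟨hvW, w, hw, hwv⟩
    rw [Subgroup.mem_bot]
    have hwv' : g' * w * g'⁻¹ = v := hwv
    obtain ⟨c', hc'⟩ := eq_smul_w0_of_phi_eq_zero g _ hw.2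
    have h1 : Psi ψ v = c' • A.mulVec (w0 g) := by
      rw [← hwv', hΨconj w hw.1, hc', Matrix.mulVec_smul]
    have h2 : c' * phi g (A.mulVec (w0 g)) = 0 := by
      rw [← phi_smul, ← h1]; exact hvW.2
    have hc'0 : c' = 0 := (mul_eq_zero.mp h2).resolve_right hκ
    rw [hc'0, zero_smul] at h1
    exact Psi_eq_zero ψ hvW.1 h1
  · apply le_antisymm (sup_le Wsub_le hmapV)
    intro v hv
    obtain ⟨u₀, hu₀V, hu₀⟩ := Psi_surj ψ ((phi g (Psi ψ v) / phi g (A.mulVec (w0 g))) • w0 g)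
    have hu₀W : u₀ ∈ Wsub ψ g := ⟨hu₀V, by rw [hu₀, phi_smul, phi_w0, mul_zero]⟩
    have hu' : g' * u₀ * g'⁻¹ ∈ (Wsub ψ g).map (cj g') := ⟨u₀, hu₀W, rfl⟩
    have hu'V := hmapV hu'
    have h3 : phi g (Psi ψ (g' * u₀ * g'⁻¹)) = phi g (Psi ψ v) := by
      rw [hΨconj u₀ hu₀V, hu₀, Matrix.mulVec_smul, phi_smul, div_mul_cancel₀ _ hκ]
    have h4 : v * (g' * u₀ * g'⁻¹)⁻¹ ∈ Wsub ψ g := by
      refine ⟨V.mul_mem hv (V.inv_mem hu'V), ?_⟩
      rw [Psi_mul ψ hv (V.inv_mem hu'V), Psi_inv ψ hu'V, phi_add, phi_neg, h3, add_neg_cancel]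
    have h5 := Subgroup.mul_mem_sup h4 hu'
    rwa [inv_mul_cancel_right] at h5


end DirectSec

end Cfsg.Agent.Lib.H14.NatMod
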