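import Mathlib
import Cfsg.Prelude.Def_Characters
import Cfsg.Agent.Lib.L0.CharOps
import Cfsg.Agent.Lib.L0.CharBasic
import Cfsg.Agent.Lib.H5.Ord.SylPrime2

/-!
# S0977, piece (O4) `invol_values` (helper14)

Values of an irreducible character at an involution `t` normalizing a self-centralizing subgroup `K` of
order 5: restriction to the dihedral group `K ∪ K t` of order 10, inner products with the trivial and
the sign character.
-/

set_option autoImplicit false
namespace Cfsg.Agent.Lib.H14.O4320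
open Cfsg
open scoped BigOperators ComplexConjugate
universe u

section Dih
variable {G : Type u} [Group G]

/-- the subgroup `K ∪ K t` for an involution `t` normalizing `K` -/
def dih (K : Subgroup G) (t : G) (hc : ∀ k ∈ K, t * k * t ∈ K) (ht2 : t * t = 1) : Subgroup G where
  carrier := {g | g ∈ K ∨ g * t ∈ K}
  one_mem' := Or.inl K.one_mem
  mul_mem' := by
    intro a b ha hb
    have htt : ∀ x : G, t * (t * x) = x := fun x => by rw [← mul_assoc, ht2, one_mul]
    rcases ha with ha | ha <;> rcases hb with hb | hb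
    · exact Or.inl (K.mul_mem ha hb)
    · right
      have : a * b * t = a * (b * t) := by rw [mul_assoc]
      rw [this]; exact K.mul_mem ha hb
    · right
      have : a * b * t = (a * t) * (t * b * t) := by simp only [mul_assoc, htt]
      rw [this]; exact K.mul_mem ha (hc b hb)
    · left
      have : a * b = (a * t) * (t * (b * t) * t) := by
        simp only [mul_assoc, htt, ht2, mul_one]
      rw [this]; exact K.mul_mem ha (hc _ hb)
  inv_mem' := by
    intro a ha
    have hinv : t⁻¹ = t := inv_eq_of_mul_eq_one_right ht2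
    rcases ha with ha | ha
    · exact Or.inl (K.inv_mem ha)
    · right
      have : a⁻¹ * t = t * (a * t)⁻¹ * t := by
        rw [mul_inv_rev, hinv, ← mul_assoc, ht2, one_mul]
      rw [this]; exact hc _ (K.inv_mem ha)

theorem mem_dih (K : Subgroup G) (t : G) (hc : ∀ k ∈ K, t * k * t ∈ K) (ht2 : t * t = 1) (g : G) :
    g ∈ dih K t hc ht2 ↔ g ∈ K ∨ g * t ∈ K := Iff.rfl

/-- the elements of `dih` are the `k` and the `k t`, `k ∈ K` -/
noncomputable def dihEquiv (K : Subgroup G) (t : G) (hc : ∀ k ∈ K, t * k * t ∈ K) (ht2 : t * t = 1)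
    (htK : t ∉ K) : (K ⊕ K) ≃ dih K t hc ht2 := by
  refine Equiv.ofBijective
    (fun s => Sum.elim (fun k : K => (⟨(k : G), Or.inl k.2⟩ : dih K t hc ht2))
      (fun k : K => (⟨(k : G) * t, Or.inr (by
        have : (k : G) * t * t = k := by rw [mul_assoc, ht2, mul_one]
        rw [this]; exact k.2)⟩ : dih K t hc ht2)) s) ⟨?_, ?_⟩
  · rintro (a | a) (b | b) h
    · have : (a : G) = b := by simpa using Subtype.ext_iff.1 h
      rw [Subtype.ext this]
    · exfalso
      have h1 : (a : G) = (b : G) * t := by simpa using Subtype.ext_iff.1 h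
      apply htK
      have : t = (b : G)⁻¹ * a := by rw [h1]; group
      rw [this]; exact K.mul_mem (K.inv_mem b.2) a.2
    · exfalso
      have h1 : (a : G) * t = (b : G) := by simpa using Subtype.ext_iff.1 h
      apply htK
      have : t = (a : G)⁻¹ * b := by rw [← h1]; group
      rw [this]; exact K.mul_mem (K.inv_mem a.2) b.2
    · have h1 : (a : G) * t = (b : G) * t := by simpa using Subtype.ext_iff.1 h
      have : (a : G) = b := mul_right_cancel h1
      rw [Subtype.ext this]
  · rintro ⟨g, hg | hg⟩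
    · exact ⟨Sum.inl ⟨g, hg⟩, rfl⟩
    · refine ⟨Sum.inr ⟨g * t, hg⟩, ?_⟩
      apply Subtype.ext
      show g * t * t = g
      rw [mul_assoc, ht2, mul_one]

end Dih

/-- (O4) -/
theorem invol_values {G : Type u} [Group G] [Fintype G] (K : Subgroup G) (hK : Nat.card K = 5)
    (hC : Subgroup.centralizer (K : Set G) = K) {x : G} (hx : x ∈ K) (hx1 : x ≠ 1)
    (hconj : ∀ k ∈ K, k ≠ 1 → IsConj x k) {t : G} (htN : t ∈ Subgroup.normalizer (K : Set G))
    (ht : orderOf t = 2) (χ : IrrCharacter G) (d : ℕ) (hd : (χ : G → ℂ) 1 = d) (m : ℤ)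
    (hm : (χ : G → ℂ) x = m) :
    ∃ np nm : ℕ, (5 : ℤ) * ((np : ℤ) + nm) = d + 4 * m ∧ (χ : G → ℂ) t = (np : ℂ) - nm := by
  classical
  haveI : Fact (Nat.Prime 5) := ⟨by norm_num⟩
  have ht2 : t * t = 1 := by
    have := pow_orderOf_eq_one t
    rw [ht, pow_two] at this
    exact this
  have hinv : t⁻¹ = t := inv_eq_of_mul_eq_one_right ht2
  have htK : t ∉ K := by
    intro h
    have h1 : orderOf (⟨t, h⟩ : K) ∣ Nat.card K := orderOf_dvd_natCard _
    rw [Subgroup.orderOf_mk, ht, hK] at h1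
    omega
  have htC : t ∉ Subgroup.centralizer (K : Set G) := by rw [hC]; exact htK
  have ht2C : t * t ∈ Subgroup.centralizer (K : Set G) := by rw [ht2]; exact Subgroup.one_mem _
  have hinvK : ∀ k ∈ K, t * k * t⁻¹ = k⁻¹ :=
    Cfsg.Agent.Lib.H5.SylPrime.conj_eq_inv_of_not_mem_centralizer K hK htN ht2C htC
  have hc : ∀ k ∈ K, t * k * t ∈ K := by
    intro k hk
    have := hinvK k hk
    rw [hinv] at this
    rw [this]; exact K.inv_mem hk
  set H : Subgroup G := dih K t hc ht2 with hH
  haveI : Fintype H := Fintype.ofFinite _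
  haveI : Fintype K := Fintype.ofFinite _
  have hχchar : IsCharacter G (χ : G → ℂ) := Cfsg.Agent.Lib.L0.isCharacter_of_irr χ.2
  have hcf : IsClassFunction G (χ : G → ℂ) :=
    Cfsg.Agent.Lib.L0.isClassFunction_of_isCharacter hχchar
  have hresH : IsCharacter H (fun h : H => (χ : G → ℂ) h) :=
    Cfsg.Agent.Lib.L0.isCharacter_restrict H hχchar
  -- values on `K`
  have hvalK : ∀ k : K, (χ : G → ℂ) k = if (k : G) = 1 then (d : ℂ) else (m : ℂ) := by
    intro k
    by_cases hk1 : (k : G) = 1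
    · rw [if_pos hk1, hk1, hd]
    · rw [if_neg hk1]
      obtain ⟨c, hcx⟩ := isConj_iff.1 (hconj k k.2 hk1)
      rw [← hcx, hcf x c, hm]
  -- values on `K t`
  have hk5 : ∀ k : K, (k : G) ^ 5 = 1 := by
    intro k
    have := pow_card_eq_one' (G := K) (x := k)
    rw [hK] at this
    have h2 := congrArg Subtype.val this
    simpa using h2
  have hvalKt : ∀ k : K, (χ : G → ℂ) ((k : G) * t) = (χ : G → ℂ) t := by
    intro k
    set c : G := (k : G) ^ 3 with hcdef
    have hcK : c ∈ K := K.pow_mem k.2 3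
    have h1 : t * c⁻¹ * t⁻¹ = c := by
      have := hinvK c⁻¹ (K.inv_mem hcK)
      rw [inv_inv] at this
      exact this
    have h2 : c * t * c⁻¹ = (k : G) * t := by
      have h3 : c * t * c⁻¹ = c * (t * c⁻¹ * t⁻¹) * t := by group
      rw [h3, h1]
      have h4 : c * c = k := by
        rw [hcdef, ← pow_add]
        have : (k : G) ^ (3 + 3) = (k : G) ^ 5 * k := by rw [← pow_succ]
        rw [this, hk5 k, one_mul]
      rw [h4]
    rw [← h2, hcf t c]
  -- the sum over `H`
  have hsum : ∀ F : G → ℂ, ∑ h : H, F h = ∑ k : K, F k + ∑ k : K, F ((k : G) * t) := by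
    intro F
    rw [← Equiv.sum_comp (dihEquiv K t hc ht2 htK) (fun h : H => F h), Fintype.sum_sum_type]
    rfl
  have hcardK : Fintype.card K = 5 := by rw [← Nat.card_eq_fintype_card, hK]
  have hcardH : (Nat.card H : ℂ) = 10 := by
    have h1 := hsum (fun _ => (1 : ℂ))
    simp only [Finset.sum_const, Finset.card_univ, nsmul_eq_mul, mul_one, hcardK] at h1
    rw [Nat.card_eq_fintype_card]
    rw [h1]; norm_num
  have hsumK : ∑ k : K, (χ : G → ℂ) k = (d : ℂ) + 4 * (m : ℂ) := by
    have h1 : ∀ k : K, (χ : G → ℂ) k = (m : ℂ) + if k = 1 then ((d : ℂ) - m) else 0 := by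
      intro k
      rw [hvalK k]
      by_cases hk1 : k = 1
      · have : (k : G) = 1 := by rw [hk1]; rfl
        rw [if_pos this, if_pos hk1]; ring
      · have : (k : G) ≠ 1 := fun h => hk1 (Subtype.ext h)
        rw [if_neg this, if_neg hk1]; ring
    rw [Finset.sum_congr rfl (fun k _ => h1 k), Finset.sum_add_distrib, Finset.sum_const,
      Finset.card_univ, hcardK, Finset.sum_ite_eq' Finset.univ (1 : K)]
    simp only [Finset.mem_univ, if_true, nsmul_eq_mul]
    push_cast; ring
  have hsumKt : ∑ k : K, (χ : G → ℂ) ((k : G) * t) = 5 * (χ : G → ℂ) t := by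
    rw [Finset.sum_congr rfl (fun k _ => hvalKt k), Finset.sum_const, Finset.card_univ, hcardK]
    simp
  -- the sign character of `H`
  have hmemKt : ∀ k : K, (k : G) * t ∉ K := by
    intro k h
    apply htK
    have : t = (k : G)⁻¹ * ((k : G) * t) := by group
    rw [this]; exact K.mul_mem (K.inv_mem k.2) h
  let sgnFun : H → ℂˣ := fun h => if (h : G) ∈ K then 1 else -1
  have hsgn_mul : ∀ a b : H, sgnFun (a * b) = sgnFun a * sgnFun b := by
    intro a b
    show (if ((a * b : H) : G) ∈ K then (1 : ℂˣ) else -1) =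
      (if (a : G) ∈ K then (1 : ℂˣ) else -1) * (if (b : G) ∈ K then (1 : ℂˣ) else -1)
    have hab : ((a * b : H) : G) = (a : G) * b := rfl
    rw [hab]
    have htt : ∀ y : G, t * (t * y) = y := fun y => by rw [← mul_assoc, ht2, one_mul]
    by_cases ha : (a : G) ∈ K <;> by_cases hb : (b : G) ∈ K
    · rw [if_pos ha, if_pos hb, if_pos (K.mul_mem ha hb)]; simp
    · have : (a : G) * b ∉ K := fun h => hb (by
        have h2 : (b : G) = (a : G)⁻¹ * ((a : G) * b) := by group
        rw [h2]; exact K.mul_mem (K.inv_mem ha) h)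
      rw [if_pos ha, if_neg hb, if_neg this]; simp
    · have : (a : G) * b ∉ K := fun h => ha (by
        have h2 : (a : G) = ((a : G) * b) * (b : G)⁻¹ := by group
        rw [h2]; exact K.mul_mem h (K.inv_mem hb))
      rw [if_neg ha, if_pos hb, if_neg this]; simp
    · have ha' : (a : G) * t ∈ K := (a.2).resolve_left ha
      have hb' : (b : G) * t ∈ K := (b.2).resolve_left hb
      have : (a : G) * b ∈ K := by
        have h2 : (a : G) * b = ((a : G) * t) * (t * ((b : G) * t) * t) := by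
          simp only [mul_assoc, htt, ht2, mul_one]
        rw [h2]; exact K.mul_mem ha' (hc _ hb')
      rw [if_neg ha, if_neg hb, if_pos this]; simp
  let sgn : H →* ℂˣ := MonoidHom.mk' sgnFun hsgn_mul
  have hsgnirr : IsIrrCharacter H (fun h : H => ((sgn h : ℂˣ) : ℂ)) :=
    Cfsg.Agent.Lib.L0.isIrrCharacter_of_hom sgn
  have honeirr : IsIrrCharacter H (1 : H → ℂ) := Cfsg.Agent.Lib.L0.isIrrCharacter_one
  obtain ⟨np, hnp⟩ := Cfsg.Agent.Lib.L0.classInner_char_irr_nat hresH honeirr
  obtain ⟨nm, hnm⟩ := Cfsg.Agent.Lib.L0.classInner_char_irr_nat hresH hsgnirr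
  -- evaluate the two inner products
  have hnp' : (10 : ℂ) * np = (d : ℂ) + 4 * m + 5 * (χ : G → ℂ) t := by
    rw [← hnp]
    unfold classInner
    rw [hcardH]
    have h1 : ∑ h : H, (fun h : H => (χ : G → ℂ) h) h * conj ((1 : H → ℂ) h) =
        ∑ h : H, (χ : G → ℂ) h := by
      refine Finset.sum_congr rfl (fun h _ => ?_)
      simp
    rw [h1, hsum (fun g => (χ : G → ℂ) g), hsumK, hsumKt]
    field_simp
  have hnm' : (10 : ℂ) * nm = (d : ℂ) + 4 * m - 5 * (χ : G → ℂ) t := by
    rw [← hnm]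
    unfold classInner
    rw [hcardH]
    have hs1 : ∀ k : K, ((sgn ⟨(k : G), Or.inl k.2⟩ : ℂˣ) : ℂ) = 1 := by
      intro k
      show (((if (k : G) ∈ K then (1 : ℂˣ) else -1) : ℂˣ) : ℂ) = 1
      rw [if_pos k.2]; simp
    have h1 : ∑ h : H, (fun h : H => (χ : G → ℂ) h) h * conj ((fun h : H => ((sgn h : ℂˣ) : ℂ)) h) =
        ∑ h : H, (χ : G → ℂ) h * (if (h : G) ∈ K then (1 : ℂ) else -1) := by
      refine Finset.sum_congr rfl (fun h _ => ?_)
      show (χ : G → ℂ) h * conj (((if (h : G) ∈ K then (1 : ℂˣ) else -1 : ℂˣ) : ℂ)) =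
        (χ : G → ℂ) h * (if (h : G) ∈ K then (1 : ℂ) else -1)
      by_cases hh : (h : G) ∈ K
      · rw [if_pos hh, if_pos hh]; simp
      · rw [if_neg hh, if_neg hh]; simp
    rw [h1, hsum (fun g : G => (χ : G → ℂ) g * (if g ∈ K then (1 : ℂ) else -1))]
    have h2 : ∑ k : K, (χ : G → ℂ) k * (if (k : G) ∈ K then (1 : ℂ) else -1) =
        ∑ k : K, (χ : G → ℂ) k := by
      refine Finset.sum_congr rfl (fun k _ => ?_)
      rw [if_pos k.2, mul_one]
    have h3 : ∑ k : K, (χ : G → ℂ) ((k : G) * t) * (if (k : G) * t ∈ K then (1 : ℂ) else -1) =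
        - ∑ k : K, (χ : G → ℂ) ((k : G) * t) := by
      rw [← Finset.sum_neg_distrib]
      refine Finset.sum_congr rfl (fun k _ => ?_)
      rw [if_neg (hmemKt k)]; ring
    rw [h2, h3, hsumK, hsumKt]
    field_simp
    ring
  refine ⟨np, nm, ?_, ?_⟩
  · have h1 : (10 : ℂ) * np + 10 * nm = 2 * ((d : ℂ) + 4 * m) := by rw [hnp', hnm']; ring
    have h2 : (5 : ℂ) * ((np : ℂ) + nm) = (d : ℂ) + 4 * m := by linear_combination h1 / 2
    exact_mod_cast h2
  · have h1 : (10 : ℂ) * np - 10 * nm = 10 * (χ : G → ℂ) t := by rw [hnp', hnm']; ring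
    have h2 : (χ : G → ℂ) t = (np : ℂ) - nm := by linear_combination (-1 / 10 : ℂ) * h1
    exact h2

end Cfsg.Agent.Lib.H14.O4320
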