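import Mathlib
import Cfsg.Agent.S0215

set_option autoImplicit false

/-! # Consequences of Glauberman's Z*-theorem for nonabelian simple groups -/

namespace Cfsg.Agent.Lib.H14.O5040

open Subgroup

variable {G : Type*} [Group G] [Finite G]

/-- In a nonabelian simple group no involution is isolated in a Sylow 2-subgroup. -/
theorem not_isolated_of_simple [IsSimpleGroup G] (hnc : ¬ IsMulCommutative G) (P : Sylow 2 G)
    (u : G) (hu : orderOf u = 2) (huP : u ∈ P)
    (hiso : ∀ g : G, g * u * g⁻¹ ∈ P → g * u * g⁻¹ = u) : False := by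
  obtain ⟨N, hN, hodd, hcomm⟩ := Cfsg.Agent.S0215.result P u hu huP hiso
  rcases hN.eq_bot_or_eq_top with h | h
  · subst h
    have hcen : u ∈ center G := by
      rw [mem_center_iff]
      intro g
      have h1 := hcomm g
      rw [mem_bot] at h1
      have h2 : u * g * u⁻¹ * g⁻¹ * (g * u) = 1 * (g * u) := by rw [h1]
      have h3 : u * g * u⁻¹ * g⁻¹ * (g * u) = u * g := by group
      rw [h3, one_mul] at h2
      exact h2.symm
    have hZ : center G = ⊥ ∨ center G = ⊤ :=
      (inferInstance : (center G).Normal).eq_bot_or_eq_top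
    rcases hZ with hz | hz
    · rw [hz, mem_bot] at hcen
      rw [hcen, orderOf_one] at hu
      omega
    · apply hnc
      refine ⟨⟨fun a b => ?_⟩⟩
      have ha : a ∈ center G := hz ▸ mem_top a
      exact ((mem_center_iff.mp ha) b).symm
  · subst h
    have h2 : 2 ∣ Nat.card G := hu ▸ orderOf_dvd_natCard u
    rw [card_top] at hodd
    exact (Nat.not_even_iff_odd.mpr hodd) (even_iff_two_dvd.mpr h2)

/-- In a nonabelian simple group every involution commutes with another conjugate of itself. -/
theorem exists_conj_commute_of_simple [IsSimpleGroup G] (hnc : ¬ IsMulCommutative G)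
    (u : G) (hu : orderOf u = 2) :
    ∃ g : G, g * u * g⁻¹ ≠ u ∧ Commute u (g * u * g⁻¹) := by
  by_contra hcon
  push Not at hcon
  have huu : u * u = 1 := by rw [← pow_two, ← hu, pow_orderOf_eq_one]
  have hinv : u⁻¹ = u := inv_eq_of_mul_eq_one_right huu
  have : Fact (Nat.Prime 2) := ⟨Nat.prime_two⟩
  have hpg : IsPGroup 2 (zpowers u) :=
    IsPGroup.of_card (n := 1) (by rw [Nat.card_zpowers, hu, pow_one])
  obtain ⟨P, hP⟩ := hpg.exists_le_sylow
  have huP : u ∈ P := hP (mem_zpowers u)
  apply not_isolated_of_simple hnc P u hu huP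
  intro g hg
  by_contra hne
  set u' := g * u * g⁻¹ with hu'
  have hu'u' : u' * u' = 1 := by
    rw [hu']
    calc g * u * g⁻¹ * (g * u * g⁻¹) = g * (u * u) * g⁻¹ := by group
      _ = 1 := by rw [huu]; group
  have hinv' : u'⁻¹ = u' := inv_eq_of_mul_eq_one_right hu'u'
  set d := u * u' with hd
  have hdP : d ∈ (P : Subgroup G) := (P : Subgroup G).mul_mem huP hg
  obtain ⟨k, hk⟩ := (IsPGroup.iff_orderOf.mp P.2) ⟨d, hdP⟩
  rw [Subgroup.orderOf_mk] at hk
  have hconj : u * d * u⁻¹ = d⁻¹ := by
    rw [hd, mul_inv_rev, hinv, hinv']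
    calc u * (u * u') * u = (u * u) * u' * u := by group
      _ = u' * u := by rw [huu, one_mul]
  have hconjpow : ∀ n : ℕ, u * d ^ n * u⁻¹ = (d ^ n)⁻¹ := by
    intro n
    rw [← conj_pow, hconj, inv_pow]
  rcases Nat.eq_zero_or_pos k with hk0 | hk0
  · rw [hk0, pow_zero, orderOf_eq_one_iff] at hk
    apply hne
    have : u' = u⁻¹ := by
      rw [hd] at hk
      exact (inv_eq_of_mul_eq_one_right hk).symm
    rw [this, hinv]
  · set c := d ^ (2 ^ (k - 1)) with hc
    have hcc : c * c = 1 := by
      rw [hc, ← pow_add, ← two_mul, ← pow_succ', Nat.sub_add_cancel hk0, ← hk, pow_orderOf_eq_one]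
    have hc1 : c ≠ 1 := by
      rw [hc]
      apply pow_ne_one_of_lt_orderOf (by positivity)
      rw [hk]
      exact Nat.pow_lt_pow_right (by norm_num) (by omega)
    have hcinv : c⁻¹ = c := inv_eq_of_mul_eq_one_right hcc
    have hcu : u * c = c * u := by
      have h1 := hconjpow (2 ^ (k - 1))
      rw [← hc, hcinv] at h1
      calc u * c = u * c * u⁻¹ * u := by group
        _ = c * u := by rw [h1]
    rcases Nat.eq_or_lt_of_le hk0 with hk1 | hk1
    · -- k = 1 : c = d
      have hcd : c = d := by rw [hc, ← hk1]; simp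
      have hcom : Commute u u' := by
        have h1 : u * (u * u') = (u * u') * u := by rw [← hd, ← hcd]; exact hcu
        show u * u' = u' * u
        calc u * u' = u⁻¹ * (u * (u * u')) := by group
          _ = u⁻¹ * ((u * u') * u) := by rw [h1]
          _ = u' * u := by group
      exact hcon g hne hcom
    · -- k ≥ 2
      set j := 2 ^ (k - 2) with hj
      have h2j : j + j = 2 ^ (k - 1) := by
        rw [hj, ← two_mul, ← pow_succ']
        congr 1
        omega
      set g' := d ^ j with hg'
      have hw : g' * u * g'⁻¹ = c * u := by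
        have h1 := hconjpow j
        rw [← hg'] at h1
        -- u g' u⁻¹ = g'⁻¹  →  u g'⁻¹ = g' u
        have h2 : u * g'⁻¹ = g' * u := by
          have : g'⁻¹ = u * g' * u⁻¹ := h1.symm
          calc u * g'⁻¹ = u * (u * g' * u⁻¹) := by rw [← this]
            _ = (u * u) * g' * u⁻¹ := by group
            _ = g' * u := by rw [huu, one_mul, hinv]
        calc g' * u * g'⁻¹ = g' * (u * g'⁻¹) := by group
          _ = g' * (g' * u) := by rw [h2]
          _ = (g' * g') * u := by group
          _ = c * u := by rw [hg', ← pow_add, h2j, ← hc]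
      have hwne : g' * u * g'⁻¹ ≠ u := by
        rw [hw]
        intro h
        apply hc1
        calc c = c * u * u⁻¹ := by group
          _ = u * u⁻¹ := by rw [h]
          _ = 1 := by group
      have hwc : Commute u (g' * u * g'⁻¹) := by
        rw [hw]
        show u * (c * u) = c * u * u
        rw [← mul_assoc, hcu]
      exact hcon g' hwne hwc

end Cfsg.Agent.Lib.H14.O5040
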