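import Mathlib
import Cfsg.Agent.Lib.H14.O5040Z
import Cfsg.Agent.Lib.H5.Ord.GenTests
import Cfsg.Agent.Lib.H5.Ord.SylPrime2
import Cfsg.Agent.Lib.H5.Ord.SylChain
import Cfsg.Agent.Lib.H5.Ord.NCClass
import Cfsg.Agent.Lib.H5.Ord.NCInv
import Cfsg.Agent.Lib.H5.SylowIn
import Cfsg.Agent.S1010

set_option autoImplicit false

/-! # No simple group of order 5040: the case `n_5 = 126`, part A (set-up, central involution) -/

namespace Cfsg.Agent.Lib.H14.O5040

open Subgroup MulAction Cfsg.Agent.Lib.H5 Cfsg.Agent.Lib.H5.SylPrime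

variable {G : Type*} [Group G] [Finite G]

theorem factorization_two_pow_mul (k m : ℕ) (hm : ¬ 2 ∣ m) (hm0 : m ≠ 0) :
    (2 ^ k * m).factorization 2 = k := by
  rw [Nat.factorization_mul (pow_ne_zero _ two_ne_zero) hm0,
    Nat.Prime.factorization_pow Nat.prime_two]
  simp [Nat.factorization_eq_zero_of_not_dvd hm]

/-- Numerical set-up for `n_5 = 126`. -/
theorem setup [IsSimpleGroup G] (hG : Nat.card G = 5040) [Fact (Nat.Prime 5)]
    (h126 : Nat.card (Sylow 5 G) = 126) (P : Sylow 5 G) :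
    ¬ IsMulCommutative G ∧ Nat.card (P : Subgroup G) = 5 ∧
    Nat.card (normalizer ((P : Subgroup G) : Set G)) = 40 ∧
    (Nat.card (centralizer ((P : Subgroup G) : Set G)) = 10 ∨
      Nat.card (centralizer ((P : Subgroup G) : Set G)) = 20) ∧
    (normalizer ((P : Subgroup G) : Set G)).index = 126 ∧
    normalizer ((P : Subgroup G) : Set G) ≠ ⊤ ∧
    (P : Subgroup G) ≤ centralizer ((P : Subgroup G) : Set G) := by
  have hnc : ¬ IsMulCommutative G :=
    not_isMulCommutative_of_card_not_prime (by rw [hG]; norm_num)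
  obtain ⟨-, -, -, -, h5, h6, -, -, h9, h10, h11, h12, h13, -⟩ :=
    Cfsg.Agent.Lib.H5.GenTests.prime_data_explicit hnc hG (show 5040 = 5 * 1008 by norm_num)
      (by norm_num) (by norm_num) P
  rw [h126] at h10
  have hN : Nat.card (normalizer ((P : Subgroup G) : Set G)) = 40 := by omega
  rw [hN] at h13
  refine ⟨hnc, h9, hN, ?_, ?_, h11, h12⟩
  · set r := (centralizer ((P : Subgroup G) : Set G)).relIndex
      (normalizer ((P : Subgroup G) : Set G)) with hr
    set c := Nat.card (centralizer ((P : Subgroup G) : Set G)) with hc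
    have hr4 : r ∣ 4 := h5
    have hr4' : r ≤ 4 := Nat.le_of_dvd (by norm_num) hr4
    interval_cases r
    · omega
    · omega
    · right; omega
    · omega
    · left; omega
  · rw [index_normalizer_eq_card_sylow P, h126]

/-- A nontrivial subgroup `V` of a `2`-group `T` normalized by `T` contains an involution
central in `T`. -/
theorem exists_central_inv_of_normal (T V : Subgroup G) (hT : IsPGroup 2 T) (hVT : V ≤ T)
    (hV : V ≠ ⊥) (hnorm : ∀ q ∈ T, ∀ z ∈ V, q * z * q⁻¹ ∈ V) :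
    ∃ u ∈ V, orderOf u = 2 ∧ ∀ q ∈ T, q * u = u * q := by
  have : Fact (Nat.Prime 2) := ⟨Nat.prime_two⟩
  have hVp : IsPGroup 2 V := hT.to_le hVT
  -- a nontrivial fixed point
  obtain ⟨z, hzV, hz1, hzc⟩ : ∃ z ∈ V, z ≠ 1 ∧ ∀ q ∈ T, q * z * q⁻¹ = z := by
    by_contra hcon
    push Not at hcon
    have hS : ∀ q ∈ T, ∀ z ∈ ((V : Set G) \ {1}), q * z * q⁻¹ ∈ ((V : Set G) \ {1}) := by
      rintro q hq z ⟨hz, hz1⟩
      refine ⟨hnorm q hq z hz, ?_⟩
      intro h
      apply hz1
      rw [Set.mem_singleton_iff] at h ⊢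
      calc z = q⁻¹ * (q * z * q⁻¹) * q := by group
        _ = 1 := by rw [h]; group
    have hfree : ∀ z ∈ ((V : Set G) \ {1}), ∃ q ∈ T, q * z * q⁻¹ ≠ z := by
      rintro z ⟨hz, hz1⟩
      exact hcon z hz (by simpa using hz1)
    have hdvd := dvd_card_of_conj_free T hT ((V : Set G) \ {1}) hS hfree
    rw [Nat.card_coe_set_eq, Set.ncard_sdiff (by simpa using V.one_mem) (Set.finite_singleton _),
      Set.ncard_singleton] at hdvd
    have hVc : (V : Set G).ncard = Nat.card V := by rw [← Nat.card_coe_set_eq]; rfl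
    rw [hVc] at hdvd
    obtain ⟨j, hj⟩ := IsPGroup.iff_card.mp hVp
    have hj0 : j ≠ 0 := by
      intro h
      rw [h, pow_zero] at hj
      exact hV (Subgroup.card_eq_one.mp hj)
    have h2 : 2 ∣ Nat.card V := by rw [hj]; exact dvd_pow_self 2 hj0
    have hpos : 0 < Nat.card V := Nat.card_pos
    omega
  obtain ⟨k, hk⟩ := (IsPGroup.iff_orderOf.mp hVp) ⟨z, hzV⟩
  rw [Subgroup.orderOf_mk] at hk
  have hk0 : 0 < k := by
    rcases Nat.eq_zero_or_pos k with h | h
    · rw [h, pow_zero, orderOf_eq_one_iff] at hk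
      exact absurd hk hz1
    · exact h
  refine ⟨z ^ (2 ^ (k - 1)), V.pow_mem hzV _, ?_, ?_⟩
  · have h1 : orderOf (z ^ (2 ^ (k - 1))) = orderOf z / Nat.gcd (orderOf z) (2 ^ (k - 1)) :=
      orderOf_pow z
    rw [h1, hk]
    have hg : Nat.gcd (2 ^ k) (2 ^ (k - 1)) = 2 ^ (k - 1) :=
      Nat.gcd_eq_right (pow_dvd_pow 2 (by omega))
    rw [hg]
    have : 2 ^ k = 2 ^ (k - 1) * 2 := by rw [← pow_succ]; congr 1; omega
    rw [this, Nat.mul_div_cancel_left _ (by positivity)]
  · intro q hq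
    have h1 : q * z ^ (2 ^ (k - 1)) * q⁻¹ = z ^ (2 ^ (k - 1)) := by
      rw [← conj_pow, hzc q hq]
    calc q * z ^ (2 ^ (k - 1)) = q * z ^ (2 ^ (k - 1)) * q⁻¹ * q := by group
      _ = z ^ (2 ^ (k - 1)) * q := by rw [h1]

omit [Finite G] in
theorem mem_centralizer_singleton' {u g : G} : g ∈ centralizer ({u} : Set G) ↔ u * g = g * u := by
  rw [mem_centralizer_iff]
  constructor
  · intro h
    exact h u (Set.mem_singleton u)
  · intro h m hm
    rw [Set.mem_singleton_iff] at hm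
    subst hm
    exact h

/-- A Sylow `2`-subgroup `T` of `N = N(P)` (`|P| = 5`, `|N| = 40`, `|C(P)|` even) and an
involution `u ∈ C(P) ∩ T` which is central in `N`. -/
theorem exists_central_inv [Fact (Nat.Prime 5)] (P : Subgroup G) (hP : Nat.card P = 5)
    (hN : Nat.card (normalizer (P : Set G)) = 40)
    (hC : 2 ∣ Nat.card (centralizer (P : Set G))) :
    ∃ T : Subgroup G, IsSylowIn 2 T (normalizer (P : Set G)) ∧ Nat.card T = 8 ∧
      P ⊔ T = normalizer (P : Set G) ∧
      ∃ u ∈ centralizer (P : Set G), u ∈ T ∧ orderOf u = 2 ∧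
        normalizer (P : Set G) ≤ centralizer ({u} : Set G) := by
  have : Fact (Nat.Prime 2) := ⟨Nat.prime_two⟩
  have hCN : centralizer (P : Set G) ≤ normalizer (P : Set G) := centralizer_le_normalizer _
  have hPC : P ≤ centralizer (P : Set G) := le_centralizer_of_card_prime P hP
  obtain ⟨T, hT, -⟩ := exists_isSylowIn_ge (p := 2) (Q := (⊥ : Subgroup G))
    (H := normalizer (P : Set G)) IsPGroup.of_bot bot_le
  have hTN : T ≤ normalizer (P : Set G) := hT.1
  have hTcard : Nat.card T = 8 := by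
    rw [hT.card_eq, hN]
    have : (40 : ℕ).factorization 2 = 3 :=
      factorization_two_pow_mul 3 5 (by norm_num) (by norm_num)
    rw [this]
    norm_num
  have h5C : 5 ∣ Nat.card (centralizer (P : Set G)) := hP ▸ card_dvd_of_le hPC
  have hC10 : 10 ≤ Nat.card (centralizer (P : Set G)) := by
    have : 2 * 5 ∣ Nat.card (centralizer (P : Set G)) :=
      Nat.Coprime.mul_dvd_of_dvd_of_dvd (by norm_num) hC h5C
    exact Nat.le_of_dvd Nat.card_pos this
  obtain ⟨u₀, hu₀T, hu₀C, hu₀1⟩ := exists_mem_inf_ne_one (normalizer (P : Set G)) T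
    (centralizer (P : Set G)) hTN hCN (by rw [hN, hTcard]; omega)
  have hVne : T ⊓ centralizer (P : Set G) ≠ ⊥ := by
    intro h
    have : u₀ ∈ T ⊓ centralizer (P : Set G) := ⟨hu₀T, hu₀C⟩
    rw [h, mem_bot] at this
    exact hu₀1 this
  have hnorm : ∀ q ∈ T, ∀ z ∈ T ⊓ centralizer (P : Set G),
      q * z * q⁻¹ ∈ T ⊓ centralizer (P : Set G) := by
    rintro q hq z ⟨hzT, hzC⟩
    exact ⟨T.mul_mem (T.mul_mem hq hzT) (T.inv_mem hq),
      conj_mem_centralizer_of_mem_normalizer P (hTN hq) hzC⟩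
  obtain ⟨u, huV, hu2, hucT⟩ := exists_central_inv_of_normal T (T ⊓ centralizer (P : Set G))
    hT.2.1 inf_le_left hVne hnorm
  have h5 : 5 ∣ Nat.card (P ⊔ T : Subgroup G) := hP ▸ card_dvd_of_le le_sup_left
  have h8 : 8 ∣ Nat.card (P ⊔ T : Subgroup G) := hTcard ▸ card_dvd_of_le le_sup_right
  have h40 : 5 * 8 ∣ Nat.card (P ⊔ T : Subgroup G) :=
    Nat.Coprime.mul_dvd_of_dvd_of_dvd (by norm_num) h5 h8
  have hle : P ⊔ T ≤ normalizer (P : Set G) := sup_le (hPC.trans hCN) hTN
  have hPT : P ⊔ T = normalizer (P : Set G) :=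
    eq_of_le_of_card_ge hle (by rw [hN]; exact Nat.le_of_dvd Nat.card_pos h40)
  refine ⟨T, hT, hTcard, hPT, u, huV.2, huV.1, hu2, ?_⟩
  rw [← hPT]
  apply sup_le
  · intro q hq
    rw [mem_centralizer_singleton']
    exact ((mem_centralizer_iff.mp huV.2) q hq).symm
  · intro q hq
    rw [mem_centralizer_singleton']
    exact (hucT q hq).symm

end Cfsg.Agent.Lib.H14.O5040
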