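import Mathlib
import Cfsg.Agent.Lib.H14.O5040A

set_option autoImplicit false

/-! # No simple group of order 5040: the case `n_5 = 126`, part B
(the centralizer of a central involution of `N(P)`) -/

namespace Cfsg.Agent.Lib.H14.O5040

open Subgroup MulAction Cfsg.Agent.Lib.H5 Cfsg.Agent.Lib.H5.SylPrime

variable {G : Type*} [Group G] [Finite G]

/-- If `N(P) ≤ H` then an element of order `p` of `P` fixes only the trivial coset of `H`. -/
theorem fixedBy_eq_singleton_of_normalizer_le {p : ℕ} [Fact p.Prime] (P : Sylow p G)
    (hP : Nat.card (P : Subgroup G) = p) (H : Subgroup G)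
    (hNH : normalizer ((P : Subgroup G) : Set G) ≤ H) (y : G) (hyP : y ∈ P)
    (hy : orderOf y = p) :
    fixedBy (G ⧸ H) y = {(QuotientGroup.mk (1 : G) : G ⧸ H)} := by
  have hPH : (P : Subgroup G) ≤ H := le_normalizer.trans hNH
  have hzp : zpowers y = (P : Subgroup G) := zpowers_eq_sylow_of_mem P hP y hy hyP
  ext q
  induction q using QuotientGroup.induction_on with
  | H g =>
    rw [MulAction.mem_fixedBy, Set.mem_singleton_iff, Cfsg.Agent.S1018.smul_mk_eq_iff,
      QuotientGroup.eq]
    constructor
    · intro hfix
      -- y' = g⁻¹ y g ∈ H generates a Sylow p-subgroup of H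
      set y' := g⁻¹ * y * g with hy'
      have hord : orderOf y' = p := by
        have := (MulAut.conj g⁻¹).orderOf_eq y
        simp only [MulAut.conj_apply, inv_inv] at this
        rw [hy', this, hy]
      have hpg : IsPGroup p (zpowers y') := by
        apply IsPGroup.of_card (n := 1)
        rw [Nat.card_zpowers, hord, pow_one]
      have hQH : zpowers y' ≤ H := by
        rw [zpowers_le]
        exact hfix
      obtain ⟨S, hS, hQS⟩ := exists_isSylowIn_ge hpg hQH
      have hPin : IsSylowIn p (P : Subgroup G) H := (isSylowIn_top_of_sylow P).mono hPH le_top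
      obtain ⟨z, hzH, hSz⟩ := hPin.exists_conj hS
      have hy'S : y' ∈ S := hQS (mem_zpowers y')
      rw [hSz, mem_map_conj_iff] at hy'S
      -- a = g z satisfies a⁻¹ y a ∈ P
      have haP : (g * z)⁻¹ * y * (g * z) ∈ (P : Subgroup G) := by
        have : (g * z)⁻¹ * y * (g * z) = z⁻¹ * y' * z := by rw [hy']; group
        rw [this]
        exact hy'S
      have hnorm : (g * z)⁻¹ ∈ normalizer ((P : Subgroup G) : Set G) := by
        apply mem_normalizer_fintype
        intro n hn
        have hn' : n ∈ zpowers y := by rw [hzp]; exact hn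
        obtain ⟨k, rfl⟩ := mem_zpowers_iff.mp hn'
        rw [← conj_zpow, inv_inv]
        exact (P : Subgroup G).zpow_mem haP k
      have h1 : g * z ∈ H := by
        have := H.inv_mem (hNH hnorm)
        rwa [inv_inv] at this
      have h2 : g = (g * z) * z⁻¹ := by group
      have h3 : g ∈ H := by
        rw [h2]
        exact H.mul_mem h1 (H.inv_mem hzH)
      simpa using H.inv_mem h3
    · intro hg
      have hg' : g ∈ H := by
        have := H.inv_mem hg
        simpa using this
      exact H.mul_mem (H.mul_mem (H.inv_mem hg') (hPH hyP)) hg'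

omit [Finite G] in
/-- In a nonabelian simple group the centralizer of a nontrivial element is proper. -/
theorem centralizer_ne_top_of_simple [IsSimpleGroup G] (hnc : ¬ IsMulCommutative G) {u : G}
    (hu : u ≠ 1) : centralizer ({u} : Set G) ≠ ⊤ := by
  intro htop
  have hcen : u ∈ center G := by
    rw [mem_center_iff]
    intro g
    have : g ∈ centralizer ({u} : Set G) := htop ▸ mem_top g
    rw [mem_centralizer_singleton'] at this
    exact this.symm
  have hZ : center G = ⊥ ∨ center G = ⊤ :=
    (inferInstance : (center G).Normal).eq_bot_or_eq_top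
  rcases hZ with hz | hz
  · rw [hz, mem_bot] at hcen
    exact hu hcen
  · apply hnc
    refine ⟨⟨fun a b => ?_⟩⟩
    have ha : a ∈ center G := hz ▸ mem_top a
    exact ((mem_center_iff.mp ha) b).symm

/-- The centralizer of an involution `u ∈ C(P)` centralized by `N(P)` is `N(P)`
(`|G| = 5040`, `|N(P)| = 40`). -/
theorem centralizer_eq_normalizer [IsSimpleGroup G] (hG : Nat.card G = 5040) [Fact (Nat.Prime 5)]
    (hnc : ¬ IsMulCommutative G) (P : Sylow 5 G) (hP : Nat.card (P : Subgroup G) = 5)
    (hN : Nat.card (normalizer ((P : Subgroup G) : Set G)) = 40)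
    {u : G} (hu : orderOf u = 2) (huC : u ∈ centralizer ((P : Subgroup G) : Set G))
    (hNu : normalizer ((P : Subgroup G) : Set G) ≤ centralizer ({u} : Set G)) :
    centralizer ({u} : Set G) = normalizer ((P : Subgroup G) : Set G) := by
  have hu1 : u ≠ 1 := by
    intro h
    rw [h, orderOf_one] at hu
    omega
  have hPH : (P : Subgroup G) ≤ centralizer ({u} : Set G) := le_normalizer.trans hNu
  have hmod := relIndex_normalizer_modEq_one' P hPH
  have hmul : Nat.card (normalizer ((P : Subgroup G) : Set G)) *
      (normalizer ((P : Subgroup G) : Set G)).relIndex (centralizer ({u} : Set G)) =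
      Nat.card (centralizer ({u} : Set G)) := card_mul_relIndex_of_le hNu
  have hHdvd : Nat.card (centralizer ({u} : Set G)) ∣ 5040 :=
    hG ▸ card_subgroup_dvd_card (centralizer ({u} : Set G))
  have huH : u ∈ centralizer ({u} : Set G) := by
    rw [mem_centralizer_singleton']
  have hHtop : centralizer ({u} : Set G) ≠ ⊤ := centralizer_ne_top_of_simple hnc hu1
  set m := (normalizer ((P : Subgroup G) : Set G)).relIndex (centralizer ({u} : Set G)) with hm
  rw [hN] at hmul
  have hm126 : m ∣ 126 := by
    have : 40 * m ∣ 40 * 126 := by rw [hmul]; exact hHdvd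
    exact Nat.dvd_of_mul_dvd_mul_left (by norm_num) this
  have hmle : m ≤ 126 := Nat.le_of_dvd (by norm_num) hm126
  have hmod' : m % 5 = 1 := hmod
  have hcases : m = 1 ∨ m = 6 ∨ m = 21 ∨ m = 126 := by
    interval_cases m <;> omega
  rcases hcases with h | h | h | h
  · -- m = 1
    rw [h] at hmul
    exact (Subgroup.eq_of_le_of_card_ge hNu (by rw [hN]; omega)).symm
  · -- m = 6 : |H| = 240, index 21
    exfalso
    rw [h] at hmul
    have hHcard : Nat.card (centralizer ({u} : Set G)) = 240 := by omega
    have hidx : (centralizer ({u} : Set G)).index = 21 := by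
      have := (centralizer ({u} : Set G)).card_mul_index
      rw [hHcard, hG] at this
      omega
    obtain ⟨y, hy⟩ := exists_prime_orderOf_dvd_card' (G := (P : Subgroup G)) 5 (by rw [hP])
    have hyP : (y : G) ∈ (P : Subgroup G) := y.2
    have hyo : orderOf (y : G) = 5 := by rw [Subgroup.orderOf_coe]; exact hy
    have hfix := fixedBy_eq_singleton_of_normalizer_le P hP _ hNu (y : G) hyP hyo
    have hcomm : Commute (y : G) u := (mem_centralizer_iff.mp huC) _ hyP
    have hmod5 := card_fixedBy_modEq_one_of_commute hyo hcomm hfix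
    have h4 := four_dvd_index_sub_card_fixedBy (by rw [hG]; norm_num)
      (centralizer ({u} : Set G)) hu
    have hle := card_fixedBy_le_index (centralizer ({u} : Set G)) u
    rw [hidx] at h4 hle
    have hmod5' : Nat.card (fixedBy (G ⧸ centralizer ({u} : Set G)) u) % 5 = 1 := hmod5
    have hf : Nat.card (fixedBy (G ⧸ centralizer ({u} : Set G)) u) = 1 ∨
        Nat.card (fixedBy (G ⧸ centralizer ({u} : Set G)) u) = 21 := by
      set f := Nat.card (fixedBy (G ⧸ centralizer ({u} : Set G)) u)
      interval_cases f <;> omega
    rcases hf with hf | hf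
    · have hk := card_fixedBy_mul_card (centralizer ({u} : Set G)) huH
      rw [hf, hHcard] at hk
      have hk1 : Nat.card {g : G // IsConj u g ∧ g ∈ centralizer ({u} : Set G)} = 1 := by
        omega
      obtain ⟨g, hgne, hgc⟩ := exists_conj_commute_of_simple hnc u hu
      have hsub := (Nat.card_eq_one_iff_unique.mp hk1).1
      have e : (⟨u, IsConj.refl u, huH⟩ :
          {g : G // IsConj u g ∧ g ∈ centralizer ({u} : Set G)}) =
          ⟨g * u * g⁻¹, isConj_iff.mpr ⟨g, rfl⟩, by
            rw [mem_centralizer_singleton']; exact hgc.eq⟩ := Subsingleton.elim _ _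
      exact hgne (congrArg Subtype.val e).symm
    · have := eq_one_of_card_fixedBy_eq (centralizer ({u} : Set G)) hHtop (hf.trans hidx.symm)
      exact hu1 this
  · -- m = 21 : contradicts n_5 ≠ 21 in H
    exfalso
    have h1 := Sylow.card_eq_index_normalizer (P.subtype hPH)
    have h3 : normalizer (((P.subtype hPH : Sylow 5 (centralizer ({u} : Set G))) :
        Subgroup (centralizer ({u} : Set G))) : Set (centralizer ({u} : Set G)))
        = (normalizer ((P : Subgroup G) : Set G)).subgroupOf (centralizer ({u} : Set G)) := by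
      rw [Sylow.coe_subtype, subgroupOf_normalizer_eq hPH]
    change Nat.card (Sylow 5 (centralizer ({u} : Set G))) =
      (normalizer (((P.subtype hPH : Sylow 5 (centralizer ({u} : Set G))) :
        Subgroup (centralizer ({u} : Set G))) : Set (centralizer ({u} : Set G)))).index at h1
    rw [h3] at h1
    have h2 : Nat.card (Sylow 5 (centralizer ({u} : Set G))) = 21 := by
      rw [h1]
      exact h
    exact Cfsg.Agent.S1010.result h2
  · -- m = 126 : H = G
    exfalso
    rw [h] at hmul
    apply hHtop
    apply (Subgroup.card_eq_iff_eq_top _).mp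
    rw [hG]
    omega

end Cfsg.Agent.Lib.H14.O5040
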