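import Mathlib
import Cfsg.Agent.Lib.H14.O5040B

set_option autoImplicit false

/-! # No simple group of order 5040: the case `n_5 = 126`, part C
(conjugates of a central involution of `N(P)` inside `N(P)`) -/

namespace Cfsg.Agent.Lib.H14.O5040

open Subgroup MulAction Cfsg.Agent.Lib.H5 Cfsg.Agent.Lib.H5.SylPrime

variable {G : Type*} [Group G] [Finite G]

/-- `C(P)` is abelian when `|P| = 5` and `|C(P)| ∈ {10, 20}`. -/
theorem centralizer_comm [Fact (Nat.Prime 5)] (P : Subgroup G) (hP : Nat.card P = 5)
    (hC : Nat.card (centralizer (P : Set G)) = 10 ∨ Nat.card (centralizer (P : Set G)) = 20) :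
    ∀ a ∈ centralizer (P : Set G), ∀ b ∈ centralizer (P : Set G), a * b = b * a := by
  have : Fact (Nat.Prime 2) := ⟨Nat.prime_two⟩
  rcases hC with h | h
  · exact centralizer_comm_of_card (p := 5) (q := 2) (j := 1) P hP (by norm_num) (by norm_num)
      (by rw [h]; norm_num)
  · exact centralizer_comm_of_card (p := 5) (q := 2) (j := 2) P hP (by norm_num) (by norm_num)
      (by rw [h]; norm_num)

/-- The subgroup of involutions of `C(P)` has order at most `4`. -/
theorem card_invSub_le [Fact (Nat.Prime 5)] (P : Subgroup G)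
    (hC : Nat.card (centralizer (P : Set G)) = 10 ∨ Nat.card (centralizer (P : Set G)) = 20)
    (hcomm : ∀ a ∈ centralizer (P : Set G), ∀ b ∈ centralizer (P : Set G), a * b = b * a) :
    Nat.card (invSub (centralizer (P : Set G)) hcomm) = 1 ∨
    Nat.card (invSub (centralizer (P : Set G)) hcomm) = 2 ∨
    Nat.card (invSub (centralizer (P : Set G)) hcomm) = 4 := by
  obtain ⟨j, hj1, hj2⟩ := card_invSub (centralizer (P : Set G)) hcomm
  have hj : j ≤ 2 := by
    by_contra h
    push Not at h
    have h8 : 2 ^ 3 ∣ 2 ^ j := pow_dvd_pow 2 h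
    have := h8.trans hj2
    rcases hC with h' | h' <;> rw [h'] at this <;> omega
  rw [hj1]
  interval_cases j <;> simp

/-- Counting the conjugates of a central involution `u` of `N(P)` lying in `N(P)`: `u` is its only
conjugate in `C(P)` and it has exactly `5` conjugates in `N(P) \ C(P)`. -/
theorem conj_count [IsSimpleGroup G] (hG : Nat.card G = 5040) [Fact (Nat.Prime 5)]
    (hnc : ¬ IsMulCommutative G) (P : Sylow 5 G) (hP : Nat.card (P : Subgroup G) = 5)
    (hN : Nat.card (normalizer ((P : Subgroup G) : Set G)) = 40)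
    (hC : Nat.card (centralizer ((P : Subgroup G) : Set G)) = 10 ∨
      Nat.card (centralizer ((P : Subgroup G) : Set G)) = 20)
    (hidx : (normalizer ((P : Subgroup G) : Set G)).index = 126)
    {u : G} (hu : orderOf u = 2) (huC : u ∈ centralizer ((P : Subgroup G) : Set G))
    (hNu : normalizer ((P : Subgroup G) : Set G) ≤ centralizer ({u} : Set G)) :
    (A1 u (centralizer ((P : Subgroup G) : Set G))).ncard = 1 ∧
    (A2 u (normalizer ((P : Subgroup G) : Set G))
      (centralizer ((P : Subgroup G) : Set G))).ncard = 5 := by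
  have hCN : centralizer ((P : Subgroup G) : Set G) ≤ normalizer ((P : Subgroup G) : Set G) :=
    centralizer_le_normalizer _
  have hcomm := centralizer_comm (P : Subgroup G) hP hC
  have hHN := centralizer_eq_normalizer hG hnc P hP hN hu huC hNu
  have huN : u ∈ normalizer ((P : Subgroup G) : Set G) := hCN huC
  have hk := card_fixedBy_mul_card (normalizer ((P : Subgroup G) : Set G)) huN
  rw [hHN, hN] at hk
  have hmod := card_fixedBy_modEq_one 5 P hP huC
  have h4 := four_dvd_index_sub_card_fixedBy (by rw [hG]; norm_num)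
    (normalizer ((P : Subgroup G) : Set G)) hu
  have hle := card_fixedBy_le_index (normalizer ((P : Subgroup G) : Set G)) u
  rw [hidx] at h4 hle
  have hsum := card_conj_mem_eq u hCN
  have h5 := dvd_ncard_A2 (P : Subgroup G) hP u
  have ha2 := ncard_A2_le_card (P : Subgroup G) hP hu
  have ha1 := ncard_A1_add_one_le hu (centralizer ((P : Subgroup G) : Set G)) hcomm
  have hinv := card_invSub_le (P : Subgroup G) hC hcomm
  have ha1pos : 1 ≤ (A1 u (centralizer ((P : Subgroup G) : Set G))).ncard := by
    have hmem : u ∈ A1 u (centralizer ((P : Subgroup G) : Set G)) := ⟨IsConj.refl u, huC⟩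
    have : 0 < (A1 u (centralizer ((P : Subgroup G) : Set G))).ncard :=
      (Set.ncard_pos (Set.toFinite _)).mpr ⟨u, hmem⟩
    omega
  have hmod' : Nat.card (fixedBy (G ⧸ normalizer ((P : Subgroup G) : Set G)) u) % 5 = 1 := hmod
  set f := Nat.card (fixedBy (G ⧸ normalizer ((P : Subgroup G) : Set G)) u)
  set k := Nat.card {g : G // IsConj u g ∧ g ∈ normalizer ((P : Subgroup G) : Set G)}
  set a1 := (A1 u (centralizer ((P : Subgroup G) : Set G))).ncard
  set a2 := (A2 u (normalizer ((P : Subgroup G) : Set G))
      (centralizer ((P : Subgroup G) : Set G))).ncard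
  set c := Nat.card (centralizer ((P : Subgroup G) : Set G))
  set e := Nat.card (invSub (centralizer ((P : Subgroup G) : Set G)) hcomm)
  have hfk : f = k := by omega
  have hc20 : c ≤ 20 := by rcases hC with h | h <;> omega
  have he4 : e ≤ 4 := by rcases hinv with h | h | h <;> omega
  have hk23 : k ≤ 23 := by omega
  obtain ⟨d, hd⟩ := h5
  have hk6 : k = 6 := by
    rw [← hfk] at hk23
    rw [← hfk]
    interval_cases f <;> omega
  omega

end Cfsg.Agent.Lib.H14.O5040
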