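import Mathlib
import Cfsg.Agent.Lib.H14.O5040A
import Cfsg.Agent.Lib.H5.ConjCount

set_option autoImplicit false

/-! # No simple group of order 5040: two classes of involutions and a small Sylow `2`-subgroup -/

namespace Cfsg.Agent.Lib.H14.O5040

open Subgroup MulAction Cfsg.Agent.Lib.H5 Cfsg.Agent.Lib.H5.SylPrime

variable {G : Type*} [Group G] [Finite G]

omit [Finite G] in
/-- The elements of an abelian subgroup `T` inverted by `w`. -/
def invBy (T : Subgroup G) (hT : ∀ a ∈ T, ∀ b ∈ T, a * b = b * a) (w : G) : Subgroup G where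
  carrier := {d | d ∈ T ∧ w * d * w⁻¹ = d⁻¹}
  one_mem' := ⟨T.one_mem, by simp⟩
  mul_mem' := by
    rintro a b ⟨ha, ha'⟩ ⟨hb, hb'⟩
    refine ⟨T.mul_mem ha hb, ?_⟩
    calc w * (a * b) * w⁻¹ = (w * a * w⁻¹) * (w * b * w⁻¹) := by group
      _ = a⁻¹ * b⁻¹ := by rw [ha', hb']
      _ = (b * a)⁻¹ := by rw [mul_inv_rev]
      _ = (a * b)⁻¹ := by rw [hT a ha b hb]
  inv_mem' := by
    rintro a ⟨ha, ha'⟩
    refine ⟨T.inv_mem ha, ?_⟩
    calc w * a⁻¹ * w⁻¹ = (w * a * w⁻¹)⁻¹ := by group
      _ = (a⁻¹)⁻¹ := by rw [ha']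

/-- A subgroup `S` of order `16` with an abelian subgroup `T` of order `8` having at most three
involutions, one of which (`u`) has centralizer in `S` equal to `T`, has at most `7` involutions. -/
theorem ncard_inv_le_seven (S T : Subgroup G) (hTS : T ≤ S) (hS16 : Nat.card S = 16)
    (hT8 : Nat.card T = 8) (hTcomm : ∀ a ∈ T, ∀ b ∈ T, a * b = b * a)
    (u x v : G) (hu : orderOf u = 2) (huT : u ∈ T)
    (hinvT : ∀ w ∈ T, orderOf w = 2 → w = u ∨ w = x ∨ w = v)
    (hCuS : ∀ s ∈ S, s * u = u * s → s ∈ T) :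
    ({g | g ∈ S ∧ orderOf g = 2} : Set G).ncard ≤ 7 := by
  have huu : u * u = 1 := by rw [← pow_two, ← hu, pow_orderOf_eq_one]
  have huinv : u⁻¹ = u := inv_eq_of_mul_eq_one_right huu
  set I : Set G := {g | g ∈ S ∧ orderOf g = 2} with hI
  have hsub : I ⊆ ({u, x, v} : Set G) ∪ (I \ (T : Set G)) := by
    intro g hg
    by_cases hgT : g ∈ T
    · left
      rcases hinvT g hgT hg.2 with h | h | h <;> simp [h]
    · right
      exact ⟨hg, hgT⟩
  have h3 : ({u, x, v} : Set G).ncard ≤ 3 := by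
    calc ({u, x, v} : Set G).ncard ≤ ({x, v} : Set G).ncard + 1 := Set.ncard_insert_le _ _
      _ ≤ (({v} : Set G).ncard + 1) + 1 := by
        have := Set.ncard_insert_le x ({v} : Set G)
        omega
      _ = 3 := by rw [Set.ncard_singleton]
  have hW : (I \ (T : Set G)).ncard ≤ 4 := by
    rcases Set.eq_empty_or_nonempty (I \ (T : Set G)) with h | ⟨w₀, hw₀, hw₀T⟩
    · rw [h, Set.ncard_empty]
      omega
    · have hw₀2 : w₀ * w₀ = 1 := by rw [← pow_two, ← hw₀.2, pow_orderOf_eq_one]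
      have hw₀inv : w₀⁻¹ = w₀ := inv_eq_of_mul_eq_one_right hw₀2
      set D := invBy T hTcomm w₀ with hD
      have hDT : D ≤ T := fun d hd => hd.1
      have huD : u ∉ D := by
        intro h
        have h1 : w₀ * u * w₀⁻¹ = u⁻¹ := h.2
        rw [huinv] at h1
        apply hw₀T
        apply hCuS w₀ hw₀.1
        calc w₀ * u = w₀ * u * w₀⁻¹ * w₀ := by group
          _ = u * w₀ := by rw [h1]
      have hDcard : Nat.card D ≤ 4 := by
        have hdvd : Nat.card D ∣ 8 := hT8 ▸ card_dvd_of_le hDT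
        have hne : Nat.card D ≠ 8 := by
          intro h
          have : D = T := eq_of_le_of_card_ge hDT (by rw [h, hT8])
          exact huD (this ▸ huT)
        have hle : Nat.card D ≤ 8 := Nat.le_of_dvd (by norm_num) hdvd
        interval_cases (Nat.card D) <;> omega
      -- index two
      have hidx : (T.subgroupOf S).index = 2 := by
        have h1 : Nat.card T * T.relIndex S = Nat.card S := card_mul_relIndex_of_le hTS
        rw [hT8, hS16] at h1
        have : T.relIndex S = 2 := by omega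
        exact this
      have hmem : ∀ w ∈ I \ (T : Set G), w₀ * w ∈ D := by
        rintro w ⟨hw, hwT⟩
        have hw2 : w * w = 1 := by rw [← pow_two, ← hw.2, pow_orderOf_eq_one]
        have hwinv : w⁻¹ = w := inv_eq_of_mul_eq_one_right hw2
        refine ⟨?_, ?_⟩
        · have h1 := mul_mem_iff_of_index_two hidx (a := (⟨w₀, hw₀.1⟩ : S)) (b := ⟨w, hw.1⟩)
          rw [mem_subgroupOf, mem_subgroupOf, mem_subgroupOf] at h1
          exact h1.mpr ⟨fun h => absurd h hw₀T, fun h => absurd h hwT⟩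
        · calc w₀ * (w₀ * w) * w₀⁻¹ = (w₀ * w₀) * w * w₀⁻¹ := by group
            _ = w * w₀⁻¹ := by rw [hw₀2, one_mul]
            _ = w⁻¹ * w₀⁻¹ := by rw [hwinv]
            _ = (w₀ * w)⁻¹ := by rw [mul_inv_rev]
      let f : ↥(I \ (T : Set G)) → D := fun w => ⟨w₀ * w, hmem w w.2⟩
      have hf : Function.Injective f := by
        intro a b hab
        have : w₀ * (a : G) = w₀ * (b : G) := congrArg Subtype.val hab
        exact Subtype.ext (mul_left_cancel this)
      have := Nat.card_le_card_of_injective f hf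
      rw [Nat.card_coe_set_eq] at this
      omega
  calc I.ncard ≤ (({u, x, v} : Set G) ∪ (I \ (T : Set G))).ncard :=
        Set.ncard_le_ncard hsub (Set.toFinite _)
    _ ≤ ({u, x, v} : Set G).ncard + (I \ (T : Set G)).ncard := Set.ncard_union_le _ _
    _ ≤ 7 := by omega

/-- No simple group of order `5040` has exactly two classes of involutions `u`, `v` with
`|C(u)| = 40`, where a Sylow `2`-subgroup `S` has an abelian subgroup `T = C_S(u)` of order `8` with
at most three involutions. -/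
theorem false_of_two_classes [IsSimpleGroup G] (hG : Nat.card G = 5040)
    (hnc : ¬ IsMulCommutative G) (S : Sylow 2 G) (T : Subgroup G) (hTS : T ≤ (S : Subgroup G))
    (hT8 : Nat.card T = 8) (hTcomm : ∀ a ∈ T, ∀ b ∈ T, a * b = b * a)
    (u x v : G) (hu : orderOf u = 2) (hv : orderOf v = 2) (huT : u ∈ T) (hvT : v ∈ T)
    (hinvT : ∀ w ∈ T, orderOf w = 2 → w = u ∨ w = x ∨ w = v)
    (hCu : Nat.card (centralizer ({u} : Set G)) = 40)
    (hCuS : ∀ s ∈ (S : Subgroup G), s * u = u * s → s ∈ T)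
    (huv : ¬ IsConj u v)
    (hall : ∀ w : G, orderOf w = 2 → IsConj u w ∨ IsConj v w) : False := by
  have : Fact (Nat.Prime 2) := ⟨Nat.prime_two⟩
  have hS16 : Nat.card (S : Subgroup G) = 16 := by
    rw [Sylow.card_eq_multiplicity, hG]
    have : (5040 : ℕ).factorization 2 = 4 :=
      factorization_two_pow_mul 4 315 (by norm_num) (by norm_num)
    rw [this]
    norm_num
  have hSidx : (S : Subgroup G).index = 315 := by
    have := (S : Subgroup G).card_mul_index
    rw [hS16, hG] at this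
    omega
  have huS : u ∈ (S : Subgroup G) := hTS huT
  have hvS : v ∈ (S : Subgroup G) := hTS hvT
  set A : Set G := {g | IsConj u g ∧ g ∈ (S : Subgroup G)} with hA
  set B : Set G := {g | IsConj v g ∧ g ∈ (S : Subgroup G)} with hB
  have hku := card_fixedBy_mul_card (S : Subgroup G) huS
  have h4u := four_dvd_index_sub_card_fixedBy (by rw [hG]; norm_num) (S : Subgroup G) hu
  have hleu := card_fixedBy_le_index (S : Subgroup G) u
  rw [hS16, hCu] at hku
  rw [hSidx] at h4u hleu
  have hAcard : Nat.card {g : G // IsConj u g ∧ g ∈ (S : Subgroup G)} = A.ncard := by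
    rw [← Nat.card_coe_set_eq]
    rfl
  rw [hAcard] at hku
  have hI7 := ncard_inv_le_seven (S : Subgroup G) T hTS hS16 hT8 hTcomm u x v hu huT hinvT hCuS
  have hAB : A ∪ B = {g | g ∈ (S : Subgroup G) ∧ orderOf g = 2} := by
    ext g
    constructor
    · rintro (⟨h1, h2⟩ | ⟨h1, h2⟩)
      · exact ⟨h2, by rw [← orderOf_eq_of_isConj h1, hu]⟩
      · exact ⟨h2, by rw [← orderOf_eq_of_isConj h1, hv]⟩
    · rintro ⟨h1, h2⟩
      rcases hall g h2 with h | h
      · exact Or.inl ⟨h, h1⟩
      · exact Or.inr ⟨h, h1⟩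
  have hdisj : Disjoint A B := by
    rw [Set.disjoint_left]
    rintro g ⟨h1, -⟩ ⟨h2, -⟩
    exact huv (h1.trans h2.symm)
  have hsum : A.ncard + B.ncard ≤ 7 := by
    rw [← Set.ncard_union_eq hdisj (Set.toFinite _) (Set.toFinite _), hAB]
    exact hI7
  have hBpos : 1 ≤ B.ncard := by
    have hmem : v ∈ B := ⟨IsConj.refl v, hvS⟩
    have : 0 < B.ncard := (Set.ncard_pos (Set.toFinite _)).mpr ⟨v, hmem⟩
    omega
  have hB1 : B.ncard = 1 := by omega
  obtain ⟨b₀, hb₀⟩ := Set.ncard_eq_one.mp hB1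
  apply not_isolated_of_simple hnc S v hv hvS
  intro g hg
  have h1 : g * v * g⁻¹ ∈ B := ⟨isConj_iff.mpr ⟨g, rfl⟩, hg⟩
  have h2 : v ∈ B := ⟨IsConj.refl v, hvS⟩
  rw [hb₀, Set.mem_singleton_iff] at h1 h2
  rw [h1, h2]

end Cfsg.Agent.Lib.H14.O5040
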