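import Mathlib
import Cfsg.Agent.Lib.H14.O5040C

set_option autoImplicit false

/-! # No simple group of order 5040: the case `n_5 = 126`, part E (auxiliary group theory) -/

namespace Cfsg.Agent.Lib.H14.O5040

open Subgroup MulAction Cfsg.Agent.Lib.H5 Cfsg.Agent.Lib.H5.SylPrime

variable {G : Type*} [Group G] [Finite G]

/-- A Sylow `2`-subgroup `S` of `G` (`|G| = 5040`) over a Sylow `2`-subgroup `T` (of order `8`) of
a subgroup `N`, together with an element of `S \ T` normalizing `T`. -/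
theorem exists_sylow_two_over (hG : Nat.card G = 5040) (N T : Subgroup G)
    (hT : IsSylowIn 2 T N) (hT8 : Nat.card T = 8) :
    ∃ S : Sylow 2 G, T ≤ (S : Subgroup G) ∧ (∀ s ∈ (S : Subgroup G), s ∈ N → s ∈ T) ∧
      ∃ g ∈ (S : Subgroup G), g ∉ T ∧ g ∈ normalizer (T : Set G) := by
  have : Fact (Nat.Prime 2) := ⟨Nat.prime_two⟩
  obtain ⟨S, hS⟩ := hT.2.1.exists_le_sylow
  have hS16 : Nat.card (S : Subgroup G) = 16 := by
    rw [Sylow.card_eq_multiplicity, hG]
    have : (5040 : ℕ).factorization 2 = 4 :=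
      factorization_two_pow_mul 4 315 (by norm_num) (by norm_num)
    rw [this]
    norm_num
  have hne : T ≠ (S : Subgroup G) := by
    intro h
    rw [h, hS16] at hT8
    omega
  have hSN : (S : Subgroup G) ⊓ N = T :=
    hT.2.2 _ (S.2.to_le inf_le_left) (le_inf hS hT.1) inf_le_right
  obtain ⟨g, hgS, hgT, hgn⟩ := exists_normalizing_not_mem (S : Subgroup G) S.2 T hS hne
  refine ⟨S, hS, ?_, g, hgS, hgT, ?_⟩
  · intro s hs hsN
    rw [← hSN]
    exact ⟨hs, hsN⟩
  · exact mem_normalizer_fintype (fun n hn => hgn n hn)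

/-- A `2`-subgroup of `N` normalized by `N` lies in every Sylow `2`-subgroup of `N`. -/
theorem le_of_isSylowIn_of_normal (N T E : Subgroup G) (hT : IsSylowIn 2 T N)
    (hE : IsPGroup 2 E) (hEN : E ≤ N) (hnorm : ∀ n ∈ N, ∀ e ∈ E, n * e * n⁻¹ ∈ E) : E ≤ T := by
  have : Fact (Nat.Prime 2) := ⟨Nat.prime_two⟩
  obtain ⟨T', hT', hET'⟩ := exists_isSylowIn_ge hE hEN
  obtain ⟨z, hzN, hz⟩ := hT.exists_conj hT'
  intro e he
  have h1 : z * e * z⁻¹ ∈ T' := hET' (hnorm z hzN e he)
  rw [hz, mem_map_conj_iff] at h1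
  have : z⁻¹ * (z * e * z⁻¹) * z = e := by group
  rwa [this] at h1

/-- A group of order `8` with two distinct central involutions is abelian. -/
theorem comm_of_card_eight (T : Subgroup G) (hT8 : Nat.card T = 8) (u x : G)
    (huT : u ∈ T) (hxT : x ∈ T) (hu : u ≠ 1) (hx : x ≠ 1) (hux : u ≠ x) (hu2 : orderOf u = 2)
    (hucen : ∀ t ∈ T, u * t = t * u) (hxcen : ∀ t ∈ T, x * t = t * x) :
    ∀ a ∈ T, ∀ b ∈ T, a * b = b * a := by
  -- the centre of T, as a subgroup of G
  set Z : Subgroup G := T ⊓ centralizer (T : Set G) with hZ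
  have huZ : u ∈ Z := by
    refine Subgroup.mem_inf.mpr ⟨huT, ?_⟩
    rw [mem_centralizer_iff]
    intro t ht
    exact (hucen t ht).symm
  have hxZ : x ∈ Z := by
    refine Subgroup.mem_inf.mpr ⟨hxT, ?_⟩
    rw [mem_centralizer_iff]
    intro t ht
    exact (hxcen t ht).symm
  have hZT : Z ≤ T := inf_le_left
  have hZdvd : Nat.card Z ∣ 8 := hT8 ▸ card_dvd_of_le hZT
  have hZle : Nat.card Z ≤ 8 := Nat.le_of_dvd (by norm_num) hZdvd
  have hZ4 : 4 ≤ Nat.card Z := by
    have h1 : Nat.card Z ≠ 1 := by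
      intro h
      have := Subgroup.card_eq_one.mp h
      rw [this, mem_bot] at huZ
      exact hu huZ
    have h2 : Nat.card Z ≠ 2 := by
      intro h
      have hle : zpowers u ≤ Z := by rw [zpowers_le]; exact huZ
      have heq : zpowers u = Z := eq_of_le_of_card_ge hle (by rw [h, Nat.card_zpowers, hu2])
      rw [← heq] at hxZ
      obtain ⟨k, hk⟩ := mem_zpowers_iff.mp hxZ
      have hmod : u ^ (k % 2) = u ^ k := by
        have := zpow_mod_orderOf u k
        rwa [hu2] at this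
      rcases Int.emod_two_eq_zero_or_one k with h0 | h0
      · rw [h0, zpow_zero] at hmod
        exact hx (by rw [← hk, ← hmod])
      · rw [h0, zpow_one] at hmod
        exact hux (by rw [← hk, ← hmod])
    interval_cases (Nat.card Z) <;> omega
  -- every element of T is central
  have hall : ∀ a ∈ T, a ∈ Z := by
    intro a haT
    by_contra haZ
    set K : Subgroup G := T ⊓ centralizer ({a} : Set G) with hK
    have hZK : Z ≤ K := by
      intro z hz
      obtain ⟨hzT, hzc⟩ := Subgroup.mem_inf.mp hz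
      refine Subgroup.mem_inf.mpr ⟨hzT, ?_⟩
      rw [mem_centralizer_singleton']
      exact (mem_centralizer_iff.mp hzc) a haT
    have haK : a ∈ K := Subgroup.mem_inf.mpr ⟨haT, by rw [mem_centralizer_singleton']⟩
    have hKT : K ≤ T := inf_le_left
    have hKdvd : Nat.card K ∣ 8 := hT8 ▸ card_dvd_of_le hKT
    have hZKdvd : Nat.card Z ∣ Nat.card K := card_dvd_of_le hZK
    have hKne : Nat.card K ≠ Nat.card Z := by
      intro h
      have : Z = K := eq_of_le_of_card_ge hZK (by rw [h])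
      exact haZ (this ▸ haK)
    have hKle : Nat.card K ≤ 8 := Nat.le_of_dvd (by norm_num) hKdvd
    have hK8 : Nat.card K = 8 := by
      have hZK' : Nat.card Z ≤ Nat.card K := Nat.le_of_dvd Nat.card_pos hZKdvd
      interval_cases (Nat.card K) <;> omega
    have hKeq : K = T := eq_of_le_of_card_ge hKT (by rw [hK8, hT8])
    apply haZ
    refine Subgroup.mem_inf.mpr ⟨haT, ?_⟩
    rw [mem_centralizer_iff]
    intro t ht
    have : t ∈ K := hKeq ▸ ht
    have h2 := (Subgroup.mem_inf.mp this).2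
    rw [mem_centralizer_singleton'] at h2
    exact h2.symm
  intro a ha b hb
  have := (Subgroup.mem_inf.mp (hall a ha)).2
  rw [mem_centralizer_iff] at this
  exact (this b hb).symm

/-- Conjugating a central involution `u` of `N(P)` by an element `g ∈ S \ T` normalizing `T`. -/
theorem conj_props [IsSimpleGroup G] (hG : Nat.card G = 5040) [Fact (Nat.Prime 5)]
    (hnc : ¬ IsMulCommutative G) (P : Sylow 5 G) (hP : Nat.card (P : Subgroup G) = 5)
    (hN : Nat.card (normalizer ((P : Subgroup G) : Set G)) = 40)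
    (hC : Nat.card (centralizer ((P : Subgroup G) : Set G)) = 10 ∨
      Nat.card (centralizer ((P : Subgroup G) : Set G)) = 20)
    (hidx : (normalizer ((P : Subgroup G) : Set G)).index = 126)
    (T : Subgroup G) (hTN : T ≤ normalizer ((P : Subgroup G) : Set G)) (S : Sylow 2 G)
    (hSN : ∀ s ∈ (S : Subgroup G), s ∈ normalizer ((P : Subgroup G) : Set G) → s ∈ T)
    (g : G) (hgS : g ∈ (S : Subgroup G)) (hgT : g ∉ T) (hgn : g ∈ normalizer (T : Set G))
    {u : G} (hu : orderOf u = 2) (huC : u ∈ centralizer ((P : Subgroup G) : Set G))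
    (huT : u ∈ T)
    (hNu : normalizer ((P : Subgroup G) : Set G) ≤ centralizer ({u} : Set G)) :
    g * u * g⁻¹ ∈ T ∧ g * u * g⁻¹ ∉ centralizer ((P : Subgroup G) : Set G) ∧
    orderOf (g * u * g⁻¹) = 2 ∧ IsConj u (g * u * g⁻¹) ∧
    ∀ t ∈ T, (g * u * g⁻¹) * t = t * (g * u * g⁻¹) := by
  have hHN := centralizer_eq_normalizer hG hnc P hP hN hu huC hNu
  obtain ⟨ha1, -⟩ := conj_count hG hnc P hP hN hC hidx hu huC hNu
  have hconj : IsConj u (g * u * g⁻¹) := isConj_iff.mpr ⟨g, rfl⟩
  have hne : g * u * g⁻¹ ≠ u := by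
    intro h
    apply hgT
    apply hSN g hgS
    rw [← hHN, mem_centralizer_singleton']
    calc u * g = (g * u * g⁻¹) * g := by rw [h]
      _ = g * u := by group
  refine ⟨(mem_normalizer_iff.mp hgn u).mp huT, ?_, ?_, hconj, ?_⟩
  · intro hmem
    obtain ⟨a, ha⟩ := Set.ncard_eq_one.mp ha1
    have h1 : g * u * g⁻¹ ∈ A1 u (centralizer ((P : Subgroup G) : Set G)) := ⟨hconj, hmem⟩
    have h2 : u ∈ A1 u (centralizer ((P : Subgroup G) : Set G)) := ⟨IsConj.refl u, huC⟩
    rw [ha, Set.mem_singleton_iff] at h1 h2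
    exact hne (h1.trans h2.symm)
  · rw [← orderOf_eq_of_isConj hconj, hu]
  · intro t ht
    have ht' : g⁻¹ * t * g ∈ T := (mem_normalizer_iff''.mp hgn t).mp ht
    have hcom : u * (g⁻¹ * t * g) = (g⁻¹ * t * g) * u := by
      have := hNu (hTN ht')
      rwa [mem_centralizer_singleton'] at this
    calc g * u * g⁻¹ * t = g * (u * (g⁻¹ * t * g)) * g⁻¹ := by group
      _ = g * ((g⁻¹ * t * g) * u) * g⁻¹ := by rw [hcom]
      _ = t * (g * u * g⁻¹) := by group

end Cfsg.Agent.Lib.H14.O5040
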