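import Mathlib
import Cfsg.Agent.Lib.H14.O5040E

set_option autoImplicit false

/-! # No simple group of order 5040: the case `n_5 = 126`, part F
(`C(P)` contains more than one involution) -/

namespace Cfsg.Agent.Lib.H14.O5040

open Subgroup MulAction Cfsg.Agent.Lib.H5 Cfsg.Agent.Lib.H5.SylPrime

variable {G : Type*} [Group G] [Finite G]

omit [Finite G] in
theorem mul_self_of_orderOf_two {w : G} (hw : orderOf w = 2) : w * w = 1 := by
  rw [← pow_two, ← hw, pow_orderOf_eq_one]

omit [Finite G] in
theorem ne_one_of_orderOf_two {w : G} (hw : orderOf w = 2) : w ≠ 1 := by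
  intro h
  rw [h, orderOf_one] at hw
  omega

omit [Finite G] in
theorem inv_of_orderOf_two {w : G} (hw : orderOf w = 2) : w⁻¹ = w :=
  inv_eq_of_mul_eq_one_right (mul_self_of_orderOf_two hw)

/-- A subgroup containing two distinct involutions has order at least `3`. -/
theorem card_ne_of_two_inv (K : Subgroup G) {u x : G} (huK : u ∈ K) (hxK : x ∈ K)
    (hu : orderOf u = 2) (hx : x ≠ 1) (hux : u ≠ x) : Nat.card K ≠ 1 ∧ Nat.card K ≠ 2 := by
  constructor
  · intro h
    have := Subgroup.card_eq_one.mp h
    rw [this, mem_bot] at huK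
    exact ne_one_of_orderOf_two hu huK
  · intro h
    have hle : zpowers u ≤ K := by rw [zpowers_le]; exact huK
    have heq : zpowers u = K := eq_of_le_of_card_ge hle (by rw [h, Nat.card_zpowers, hu])
    rw [← heq] at hxK
    obtain ⟨k, hk⟩ := mem_zpowers_iff.mp hxK
    have hmod : u ^ (k % 2) = u ^ k := by
      have := zpow_mod_orderOf u k
      rwa [hu] at this
    rcases Int.emod_two_eq_zero_or_one k with h0 | h0
    · rw [h0, zpow_zero] at hmod
      exact hx (by rw [← hk, ← hmod])
    · rw [h0, zpow_one] at hmod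
      exact hux (by rw [← hk, ← hmod])

/-- The case where `C(P)` contains an involution different from the central involution `u`. -/
theorem false_of_two_inv [IsSimpleGroup G] (hG : Nat.card G = 5040) [Fact (Nat.Prime 5)]
    (hnc : ¬ IsMulCommutative G) (P : Sylow 5 G) (hP : Nat.card (P : Subgroup G) = 5)
    (hN : Nat.card (normalizer ((P : Subgroup G) : Set G)) = 40)
    (hC : Nat.card (centralizer ((P : Subgroup G) : Set G)) = 10 ∨
      Nat.card (centralizer ((P : Subgroup G) : Set G)) = 20)
    (hidx : (normalizer ((P : Subgroup G) : Set G)).index = 126)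
    (T : Subgroup G) (hT : IsSylowIn 2 T (normalizer ((P : Subgroup G) : Set G)))
    (hT8 : Nat.card T = 8) (hPT : (P : Subgroup G) ⊔ T = normalizer ((P : Subgroup G) : Set G))
    (S : Sylow 2 G)
    (hSN : ∀ s ∈ (S : Subgroup G), s ∈ normalizer ((P : Subgroup G) : Set G) → s ∈ T)
    (g : G) (hgS : g ∈ (S : Subgroup G)) (hgT : g ∉ T) (hgn : g ∈ normalizer (T : Set G))
    {u : G} (hu : orderOf u = 2) (huC : u ∈ centralizer ((P : Subgroup G) : Set G))
    (huT : u ∈ T)
    (hNu : normalizer ((P : Subgroup G) : Set G) ≤ centralizer ({u} : Set G))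
    {u' : G} (hu' : orderOf u' = 2) (hu'C : u' ∈ centralizer ((P : Subgroup G) : Set G))
    (hne : u' ≠ u) : False := by
  have hTN : T ≤ normalizer ((P : Subgroup G) : Set G) := hT.1
  have hCN : centralizer ((P : Subgroup G) : Set G) ≤ normalizer ((P : Subgroup G) : Set G) :=
    centralizer_le_normalizer _
  have hcomm := centralizer_comm (P : Subgroup G) hP hC
  set E := invSub (centralizer ((P : Subgroup G) : Set G)) hcomm with hE
  have huE : u ∈ E := ⟨huC, mul_self_of_orderOf_two hu⟩
  have hu'E : u' ∈ E := ⟨hu'C, mul_self_of_orderOf_two hu'⟩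
  have hE4 : Nat.card E = 4 := by
    obtain ⟨h1, h2⟩ := card_ne_of_two_inv E huE hu'E hu (ne_one_of_orderOf_two hu') (Ne.symm hne)
    rcases card_invSub_le (P : Subgroup G) hC hcomm with h | h | h
    · exact absurd h h1
    · exact absurd h h2
    · exact h
  have hET : E ≤ T := by
    apply le_of_isSylowIn_of_normal _ T E hT (invSub_isPGroup _ hcomm)
      ((invSub_le _ hcomm).trans hCN)
    rintro n hn e ⟨heC, he2⟩
    refine ⟨conj_mem_centralizer_of_mem_normalizer (P : Subgroup G) hn heC, ?_⟩
    calc n * e * n⁻¹ * (n * e * n⁻¹) = n * (e * e) * n⁻¹ := by group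
      _ = 1 := by rw [he2]; group
  obtain ⟨hxT, hxC, hx2, -, hxcen⟩ := conj_props hG hnc P hP hN hC hidx T hTN S hSN g hgS hgT hgn
    hu huC huT hNu
  set x := g * u * g⁻¹ with hx
  have hu'T : u' ∈ T := hET hu'E
  -- T centralizes u'
  have hTu' : T ≤ centralizer ({u'} : Set G) := by
    set K : Subgroup G := T ⊓ centralizer ({u'} : Set G) with hK
    have hEK : E ≤ K := by
      intro e he
      refine Subgroup.mem_inf.mpr ⟨hET he, ?_⟩
      rw [mem_centralizer_singleton']
      exact hcomm u' hu'C e he.1
    have hxK : x ∈ K := by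
      refine Subgroup.mem_inf.mpr ⟨hxT, ?_⟩
      rw [mem_centralizer_singleton']
      exact (hxcen u' hu'T).symm
    have hxE : x ∉ E := fun h => hxC h.1
    have hKT : K ≤ T := inf_le_left
    have hKdvd : Nat.card K ∣ 8 := hT8 ▸ card_dvd_of_le hKT
    have hEKdvd : Nat.card E ∣ Nat.card K := card_dvd_of_le hEK
    have hKne : Nat.card K ≠ 4 := by
      intro h
      have : E = K := eq_of_le_of_card_ge hEK (by rw [h, hE4])
      exact hxE (this ▸ hxK)
    have hKle : Nat.card K ≤ 8 := Nat.le_of_dvd (by norm_num) hKdvd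
    rw [hE4] at hEKdvd
    have hK8 : Nat.card K = 8 := by
      interval_cases (Nat.card K) <;> omega
    have hKeq : K = T := eq_of_le_of_card_ge hKT (by rw [hK8, hT8])
    rw [← hKeq]
    exact inf_le_right
  have hNu' : normalizer ((P : Subgroup G) : Set G) ≤ centralizer ({u'} : Set G) := by
    rw [← hPT]
    apply sup_le _ hTu'
    intro q hq
    rw [mem_centralizer_singleton']
    exact ((mem_centralizer_iff.mp hu'C) q hq).symm
  -- the third involution
  have hcuu' : u * u' = u' * u := hcomm u huC u' hu'C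
  have hu''C : u * u' ∈ centralizer ((P : Subgroup G) : Set G) := mul_mem huC hu'C
  have hu''T : u * u' ∈ T := T.mul_mem huT hu'T
  have hu''2 : orderOf (u * u') = 2 := by
    apply orderOf_eq_prime
    · rw [pow_two]
      calc u * u' * (u * u') = u * (u' * u) * u' := by group
        _ = u * (u * u') * u' := by rw [hcuu']
        _ = (u * u) * (u' * u') := by group
        _ = 1 := by rw [mul_self_of_orderOf_two hu, mul_self_of_orderOf_two hu', one_mul]
    · intro h
      apply hne
      have : u' = u⁻¹ := (inv_eq_of_mul_eq_one_right h).symm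
      rw [this, inv_of_orderOf_two hu]
  have hNu'' : normalizer ((P : Subgroup G) : Set G) ≤ centralizer ({u * u'} : Set G) := by
    intro n hn
    have h1 := hNu hn
    have h2 := hNu' hn
    rw [mem_centralizer_singleton'] at h1 h2 ⊢
    calc u * u' * n = u * (u' * n) := by group
      _ = u * (n * u') := by rw [h2]
      _ = (u * n) * u' := by group
      _ = n * u * u' := by rw [h1]
      _ = n * (u * u') := by group
  obtain ⟨hx'T, hx'C, hx'2, -, -⟩ := conj_props hG hnc P hP hN hC hidx T hTN S hSN g hgS hgT hgn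
    hu' hu'C hu'T hNu'
  obtain ⟨-, hx''C, -, -, -⟩ := conj_props hG hnc P hP hN hC hidx T hTN S hSN g hgS hgT hgn
    hu''2 hu''C hu''T hNu''
  apply hx''C
  have h1 := inv_mul_mem_centralizer (P : Subgroup G) hP (hTN hxT) (hTN hx'T)
    (mul_self_of_orderOf_two hx2) (mul_self_of_orderOf_two hx'2) hxC hx'C
  rw [inv_of_orderOf_two hx2] at h1
  have : g * (u * u') * g⁻¹ = x * (g * u' * g⁻¹) := by rw [hx]; group
  rw [this]
  exact h1

end Cfsg.Agent.Lib.H14.O5040
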