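import Mathlib
import Cfsg.Agent.Lib.H14.O5040F
import Cfsg.Agent.Lib.H14.O5040D

set_option autoImplicit false

/-! # No simple group of order 5040: the case `n_5 = 126`, part G
(`C(P)` contains a unique involution) and the final statement -/

namespace Cfsg.Agent.Lib.H14.O5040

open Subgroup MulAction Cfsg.Agent.Lib.H5 Cfsg.Agent.Lib.H5.SylPrime

variable {G : Type*} [Group G] [Finite G]

/-- If `u` has exactly `|P| = 5` conjugates in `N(P) \ C(P)`, they form a single `P`-orbit. -/
theorem exists_conj_of_mem_A2 [Fact (Nat.Prime 5)] (P : Subgroup G) (hP : Nat.card P = 5)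
    {u x x' : G}
    (ha2 : (A2 u (normalizer (P : Set G)) (centralizer (P : Set G))).ncard = 5)
    (hx : x ∈ A2 u (normalizer (P : Set G)) (centralizer (P : Set G)))
    (hx' : x' ∈ A2 u (normalizer (P : Set G)) (centralizer (P : Set G))) :
    ∃ q ∈ P, x' = q * x * q⁻¹ := by
  have hPN : P ≤ normalizer (P : Set G) := le_normalizer
  have hmem : ∀ q ∈ P, q * x * q⁻¹ ∈ A2 u (normalizer (P : Set G)) (centralizer (P : Set G)) := by
    intro q hq
    refine ⟨hx.1.trans (isConj_iff.mpr ⟨q, rfl⟩), ?_, ?_⟩
    · exact (normalizer (P : Set G)).mul_mem ((normalizer (P : Set G)).mul_mem (hPN hq) hx.2.1)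
        ((normalizer (P : Set G)).inv_mem (hPN hq))
    · intro h
      apply hx.2.2
      have := conj_mem_centralizer_of_mem_normalizer P
        ((normalizer (P : Set G)).inv_mem (hPN hq)) h
      have e : q⁻¹ * (q * x * q⁻¹) * q⁻¹⁻¹ = x := by group
      rwa [e] at this
  let f : P → ↥(A2 u (normalizer (P : Set G)) (centralizer (P : Set G))) :=
    fun q => ⟨(q : G) * x * (q : G)⁻¹, hmem q q.2⟩
  have hf : Function.Injective f := by
    intro q q' hqq'
    have h1 : (q : G) * x * (q : G)⁻¹ = (q' : G) * x * (q' : G)⁻¹ := congrArg Subtype.val hqq'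
    by_contra hne
    set r : G := (q' : G)⁻¹ * (q : G) with hr
    have hrP : r ∈ P := P.mul_mem (P.inv_mem q'.2) q.2
    have hr1 : r ≠ 1 := by
      intro h
      apply hne
      apply Subtype.ext
      have : (q : G) = (q' : G) * r := by rw [hr]; group
      rw [this, h, mul_one]
    have hrx : r * x = x * r := by
      calc r * x = (q' : G)⁻¹ * ((q : G) * x * (q : G)⁻¹) * (q : G) := by rw [hr]; group
        _ = (q' : G)⁻¹ * ((q' : G) * x * (q' : G)⁻¹) * (q : G) := by rw [h1]
        _ = x * r := by rw [hr]; group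
    have hro : orderOf r = 5 := orderOf_eq_of_mem_of_card_prime P hP r hrP hr1
    have hzp : zpowers r = P :=
      eq_of_le_of_card_ge (by rw [zpowers_le]; exact hrP) (by rw [Nat.card_zpowers, hro, hP])
    apply hx.2.2
    rw [mem_centralizer_iff]
    intro y hy
    rw [← hzp] at hy
    obtain ⟨k, rfl⟩ := mem_zpowers_iff.mp hy
    exact ((Commute.zpow_left (show Commute r x from hrx) k).eq)
  have hbij := hf.bijective_of_nat_card_le (by
    rw [Nat.card_coe_set_eq, ha2, hP])
  obtain ⟨q, hq⟩ := hbij.2 ⟨x', hx'⟩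
  exact ⟨q, q.2, (congrArg Subtype.val hq).symm⟩

/-- The case where the central involution `u` is the only involution of `C(P)`. -/
theorem false_of_unique_inv [IsSimpleGroup G] (hG : Nat.card G = 5040) [Fact (Nat.Prime 5)]
    (hnc : ¬ IsMulCommutative G) (P : Sylow 5 G) (hP : Nat.card (P : Subgroup G) = 5)
    (hN : Nat.card (normalizer ((P : Subgroup G) : Set G)) = 40)
    (hC : Nat.card (centralizer ((P : Subgroup G) : Set G)) = 10 ∨
      Nat.card (centralizer ((P : Subgroup G) : Set G)) = 20)
    (hidx : (normalizer ((P : Subgroup G) : Set G)).index = 126)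
    (T : Subgroup G) (hT : IsSylowIn 2 T (normalizer ((P : Subgroup G) : Set G)))
    (hT8 : Nat.card T = 8) (S : Sylow 2 G) (hTS : T ≤ (S : Subgroup G))
    (hSN : ∀ s ∈ (S : Subgroup G), s ∈ normalizer ((P : Subgroup G) : Set G) → s ∈ T)
    (g : G) (hgS : g ∈ (S : Subgroup G)) (hgT : g ∉ T) (hgn : g ∈ normalizer (T : Set G))
    {u : G} (hu : orderOf u = 2) (huC : u ∈ centralizer ((P : Subgroup G) : Set G))
    (huT : u ∈ T)
    (hNu : normalizer ((P : Subgroup G) : Set G) ≤ centralizer ({u} : Set G))
    (huniq : ∀ w ∈ centralizer ((P : Subgroup G) : Set G), orderOf w = 2 → w = u) : False := by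
  have : Fact (Nat.Prime 2) := ⟨Nat.prime_two⟩
  have hTN : T ≤ normalizer ((P : Subgroup G) : Set G) := hT.1
  have hCN : centralizer ((P : Subgroup G) : Set G) ≤ normalizer ((P : Subgroup G) : Set G) :=
    centralizer_le_normalizer _
  have hHN := centralizer_eq_normalizer hG hnc P hP hN hu huC hNu
  obtain ⟨-, ha2⟩ := conj_count hG hnc P hP hN hC hidx hu huC hNu
  obtain ⟨hxT, hxC, hx2, hxconj, hxcen⟩ := conj_props hG hnc P hP hN hC hidx T hTN S hSN g hgS
    hgT hgn hu huC huT hNu
  set x := g * u * g⁻¹ with hx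
  have hucen : ∀ t ∈ T, u * t = t * u := by
    intro t ht
    have := hNu (hTN ht)
    rwa [mem_centralizer_singleton'] at this
  have hux : u ≠ x := fun h => hxC (h ▸ huC)
  have hTcomm := comm_of_card_eight T hT8 u x huT hxT (ne_one_of_orderOf_two hu)
    (ne_one_of_orderOf_two hx2) hux hu hucen hxcen
  have hxx := mul_self_of_orderOf_two hx2
  have huu := mul_self_of_orderOf_two hu
  have hxinv := inv_of_orderOf_two hx2
  have huinv := inv_of_orderOf_two hu
  -- v = x u
  have hvT : x * u ∈ T := T.mul_mem hxT huT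
  have hvC : x * u ∉ centralizer ((P : Subgroup G) : Set G) := by
    intro h
    apply hxC
    have := mul_mem h (inv_mem huC)
    rwa [mul_inv_cancel_right] at this
  have hv2 : orderOf (x * u) = 2 := by
    apply orderOf_eq_prime
    · rw [pow_two]
      calc x * u * (x * u) = x * (u * x) * u := by group
        _ = x * (x * u) * u := by rw [hTcomm u huT x hxT]
        _ = (x * x) * (u * u) := by group
        _ = 1 := by rw [hxx, huu, one_mul]
    · intro h
      apply hux
      have : u = x⁻¹ := (inv_eq_of_mul_eq_one_right h).symm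
      rw [this, hxinv]
  -- involutions of T
  have hinvT : ∀ w ∈ T, orderOf w = 2 → w = u ∨ w = x ∨ w = x * u := by
    intro w hwT hw2
    by_cases hwC : w ∈ centralizer ((P : Subgroup G) : Set G)
    · exact Or.inl (huniq w hwC hw2)
    · right
      have hww := mul_self_of_orderOf_two hw2
      have h1 := inv_mul_mem_centralizer (P : Subgroup G) hP (hTN hxT) (hTN hwT) hxx hww hxC hwC
      rw [hxinv] at h1
      have hcc : (x * w) * (x * w) = 1 := by
        calc x * w * (x * w) = x * (w * x) * w := by group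
          _ = x * (x * w) * w := by rw [hTcomm w hwT x hxT]
          _ = (x * x) * (w * w) := by group
          _ = 1 := by rw [hxx, hww, one_mul]
      by_cases hc1 : x * w = 1
      · left
        have : w = x⁻¹ := (inv_eq_of_mul_eq_one_right hc1).symm
        rw [this, hxinv]
      · right
        have hco : orderOf (x * w) = 2 := by
          apply orderOf_eq_prime
          · rw [pow_two]; exact hcc
          · exact hc1
        have hcu : x * w = u := huniq _ h1 hco
        calc w = x⁻¹ * (x * w) := by group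
          _ = x * u := by rw [hcu, hxinv]
  -- v is not conjugate to u
  have hxA2 : x ∈ A2 u (normalizer ((P : Subgroup G) : Set G))
      (centralizer ((P : Subgroup G) : Set G)) := ⟨hxconj, hTN hxT, hxC⟩
  have huv : ¬ IsConj u (x * u) := by
    intro hconj
    have hvA2 : x * u ∈ A2 u (normalizer ((P : Subgroup G) : Set G))
        (centralizer ((P : Subgroup G) : Set G)) := ⟨hconj, hTN hvT, hvC⟩
    obtain ⟨q, hqP, hq⟩ := exists_conj_of_mem_A2 (P : Subgroup G) hP ha2 hxA2 hvA2
    have hinvP := conj_eq_inv_of_not_mem_centralizer (P : Subgroup G) hP (hTN hxT)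
      (by rw [hxx]; exact one_mem _) hxC
    have h1 : x * q⁻¹ * x⁻¹ = q := by
      have := hinvP q⁻¹ ((P : Subgroup G).inv_mem hqP)
      rwa [inv_inv] at this
    have h2 : q * x * q⁻¹ = q * q * x := by
      calc q * x * q⁻¹ = q * (x * q⁻¹ * x⁻¹) * x := by group
        _ = q * q * x := by rw [h1]
    have h3 : u = x⁻¹ * (q * q) * x := by
      calc u = x⁻¹ * (x * u) := by group
        _ = x⁻¹ * (q * q * x) := by rw [hq, h2]
        _ = x⁻¹ * (q * q) * x := by group
    have huP : u ∈ (P : Subgroup G) := by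
      rw [h3]
      have hxn : x⁻¹ ∈ normalizer ((P : Subgroup G) : Set G) :=
        (normalizer ((P : Subgroup G) : Set G)).inv_mem (hTN hxT)
      have := (mem_normalizer_iff.mp hxn (q * q)).mp ((P : Subgroup G).mul_mem hqP hqP)
      rwa [inv_inv] at this
    have hdvd : orderOf u ∣ 5 := by
      have := orderOf_dvd_natCard (⟨u, huP⟩ : (P : Subgroup G))
      rwa [Subgroup.orderOf_mk, hP] at this
    rw [hu] at hdvd
    omega
  -- every involution is conjugate to u or v
  have hall : ∀ w : G, orderOf w = 2 → IsConj u w ∨ IsConj (x * u) w := by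
    intro w hw
    have h4 := four_dvd_index_sub_card_fixedBy (by rw [hG]; norm_num)
      (normalizer ((P : Subgroup G) : Set G)) hw
    rw [hidx] at h4
    have hpos : Nat.card (fixedBy (G ⧸ normalizer ((P : Subgroup G) : Set G)) w) ≠ 0 := by
      intro h
      rw [h] at h4
      omega
    obtain ⟨⟨q, hq⟩⟩ := (Nat.card_ne_zero.mp hpos).1
    induction q using QuotientGroup.induction_on with
    | H a =>
      rw [MulAction.mem_fixedBy, Cfsg.Agent.S1018.smul_mk_eq_iff] at hq
      set w₁ := a⁻¹ * w * a with hw₁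
      have hconj1 : IsConj w w₁ := isConj_iff.mpr ⟨a⁻¹, by rw [hw₁, inv_inv]⟩
      have hw₁2 : orderOf w₁ = 2 := by rw [← orderOf_eq_of_isConj hconj1, hw]
      by_cases hw₁C : w₁ ∈ centralizer ((P : Subgroup G) : Set G)
      · left
        have := huniq w₁ hw₁C hw₁2
        rw [this] at hconj1
        exact hconj1.symm
      · have hpg : IsPGroup 2 (zpowers w₁) := by
          apply IsPGroup.of_card (n := 1)
          rw [Nat.card_zpowers, hw₁2, pow_one]
        have hzN : zpowers w₁ ≤ normalizer ((P : Subgroup G) : Set G) := by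
          rw [zpowers_le]; exact hq
        obtain ⟨T₁, hT₁, hle⟩ := exists_isSylowIn_ge hpg hzN
        obtain ⟨z, hzN', hz⟩ := hT.exists_conj hT₁
        have hw₁T₁ : w₁ ∈ T₁ := hle (mem_zpowers w₁)
        rw [hz, mem_map_conj_iff] at hw₁T₁
        set w₂ := z⁻¹ * w₁ * z with hw₂
        have hconj2 : IsConj w₁ w₂ := isConj_iff.mpr ⟨z⁻¹, by rw [hw₂, inv_inv]⟩
        have hw₂2 : orderOf w₂ = 2 := by rw [← orderOf_eq_of_isConj hconj2, hw₁2]
        have hw₂C : w₂ ∉ centralizer ((P : Subgroup G) : Set G) := by
          intro h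
          apply hw₁C
          have := conj_mem_centralizer_of_mem_normalizer (P : Subgroup G) hzN' h
          have e : z * w₂ * z⁻¹ = w₁ := by rw [hw₂]; group
          rwa [e] at this
        rcases hinvT w₂ hw₁T₁ hw₂2 with h | h | h
        · exact absurd (h ▸ huC) hw₂C
        · left
          rw [h] at hconj2
          exact hxconj.trans (hconj1.trans hconj2).symm
        · right
          rw [h] at hconj2
          exact (hconj1.trans hconj2).symm
  have hCu : Nat.card (centralizer ({u} : Set G)) = 40 := by rw [hHN, hN]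
  have hCuS : ∀ s ∈ (S : Subgroup G), s * u = u * s → s ∈ T := by
    intro s hs hsu
    apply hSN s hs
    rw [← hHN, mem_centralizer_singleton']
    exact hsu.symm
  exact false_of_two_classes hG hnc S T hTS hT8 hTcomm u x (x * u) hu hv2 huT hvT hinvT hCu hCuS
    huv hall

/-- **Main case.** A simple group of order `5040` does not have `126` Sylow `5`-subgroups. -/
theorem false_of_card_sylow_five [IsSimpleGroup G] (hG : Nat.card G = 5040)
    [Fact (Nat.Prime 5)] (h126 : Nat.card (Sylow 5 G) = 126) : False := by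
  let P : Sylow 5 G := default
  obtain ⟨hnc, hP, hN, hC, hidx, -, -⟩ := setup hG h126 P
  have hCeven : 2 ∣ Nat.card (centralizer ((P : Subgroup G) : Set G)) := by
    rcases hC with h | h <;> rw [h] <;> norm_num
  obtain ⟨T, hT, hT8, hPT, u, huC, huT, hu, hNu⟩ :=
    exists_central_inv (P : Subgroup G) hP hN hCeven
  obtain ⟨S, hTS, hSN, g, hgS, hgT, hgn⟩ :=
    exists_sylow_two_over hG (normalizer ((P : Subgroup G) : Set G)) T hT hT8
  by_cases huniq : ∀ w ∈ centralizer ((P : Subgroup G) : Set G), orderOf w = 2 → w = u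
  · exact false_of_unique_inv hG hnc P hP hN hC hidx T hT hT8 S hTS hSN g hgS hgT hgn hu huC huT
      hNu huniq
  · push Not at huniq
    obtain ⟨u', hu'C, hu'2, hne⟩ := huniq
    exact false_of_two_inv hG hnc P hP hN hC hidx T hT hT8 hPT S hSN g hgS hgT hgn hu huC huT hNu
      hu'2 hu'C hne

end Cfsg.Agent.Lib.H14.O5040
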