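import Mathlib

/-!
# S0980, piece (E3) `arith_three` (helper14), exact signature of `tools/blueprints/S0980_sigs.lean`

With `f = 2A² - 2Am + 3m²` and `N = A² - Am - m²` one has `f - 2N = 5 m²` and `f + 2N = (2A - m)²`, so
the two hypotheses say `∑ m² = 2` and `∑ (2A - m)² = 10`; the rest is counting with squares.
-/

set_option autoImplicit false
namespace Cfsg.Agent.Lib.H14.O5760
open scoped BigOperators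
universe u

theorem int_sq_one {a : ℤ} (h : a ^ 2 = 1) : a = 1 ∨ a = -1 := by
  have h2 : (a - 1) * (a + 1) = 0 := by ring_nf; linarith
  rcases mul_eq_zero.1 h2 with h3 | h3
  · left; linarith
  · right; linarith

theorem int_one_le_sq {a : ℤ} (h : a ≠ 0) : 1 ≤ a ^ 2 := by
  have h1 : a ^ 2 ≠ 0 := pow_ne_zero 2 h
  have h2 : 0 ≤ a ^ 2 := sq_nonneg a
  omega

/-- integers whose squares sum to `1` over a finset -/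
theorem sum_sq_eq_one {ι : Type u} [DecidableEq ι] (S : Finset ι) (a : ι → ℤ)
    (h : ∑ i ∈ S, a i ^ 2 = 1) :
    ∃ i₀ ∈ S, (a i₀ = 1 ∨ a i₀ = -1) ∧ ∀ i ∈ S, i ≠ i₀ → a i = 0 := by
  have hex : ∃ i₀ ∈ S, a i₀ ≠ 0 := by
    by_contra hne
    push Not at hne
    rw [Finset.sum_eq_zero (fun i hi => by rw [hne i hi]; norm_num)] at h
    norm_num at h
  obtain ⟨i₀, hi₀, hne⟩ := hex
  have hsplit : a i₀ ^ 2 + ∑ j ∈ S.erase i₀, a j ^ 2 = 1 := by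
    rw [Finset.add_sum_erase S (fun j => a j ^ 2) hi₀]; exact h
  have hnn : 0 ≤ ∑ j ∈ S.erase i₀, a j ^ 2 := Finset.sum_nonneg fun j _ => sq_nonneg _
  have h1 := int_one_le_sq hne
  have h2 : a i₀ ^ 2 = 1 := by linarith
  have h3 : ∑ j ∈ S.erase i₀, a j ^ 2 = 0 := by linarith
  refine ⟨i₀, hi₀, int_sq_one h2, ?_⟩
  intro i hi hne'
  have hi' : i ∈ S.erase i₀ := Finset.mem_erase.2 ⟨hne', hi⟩
  have h4 := (Finset.sum_eq_zero_iff_of_nonneg (fun k _ => sq_nonneg (a k))).1 h3 i hi'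
  exact (pow_eq_zero_iff (two_ne_zero)).1 h4

/-- integers whose squares sum to `2` over a finset -/
theorem sum_sq_eq_two {ι : Type u} [DecidableEq ι] (S : Finset ι) (a : ι → ℤ)
    (h : ∑ i ∈ S, a i ^ 2 = 2) :
    ∃ j₁ ∈ S, ∃ j₂ ∈ S, j₁ ≠ j₂ ∧ (a j₁ = 1 ∨ a j₁ = -1) ∧ (a j₂ = 1 ∨ a j₂ = -1) ∧
      ∀ i ∈ S, i ≠ j₁ → i ≠ j₂ → a i = 0 := by
  have hex : ∃ i₀ ∈ S, a i₀ ≠ 0 := by
    by_contra hne
    push Not at hne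
    rw [Finset.sum_eq_zero (fun i hi => by rw [hne i hi]; norm_num)] at h
    norm_num at h
  obtain ⟨j₁, hj₁, hne⟩ := hex
  have hsplit : a j₁ ^ 2 + ∑ j ∈ S.erase j₁, a j ^ 2 = 2 := by
    rw [Finset.add_sum_erase S (fun j => a j ^ 2) hj₁]; exact h
  have hnn : 0 ≤ ∑ j ∈ S.erase j₁, a j ^ 2 := Finset.sum_nonneg fun j _ => sq_nonneg _
  have h1 := int_one_le_sq hne
  have hlt : -2 < a j₁ ∧ a j₁ < 2 := by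
    constructor <;> nlinarith
  have h2 : a j₁ ^ 2 = 1 := by
    obtain ⟨h3, h4⟩ := hlt
    have h5 : a j₁ = -1 ∨ a j₁ = 0 ∨ a j₁ = 1 := by omega
    rcases h5 with h5 | h5 | h5
    · rw [h5]; norm_num
    · exact absurd h5 hne
    · rw [h5]; norm_num
  have h3 : ∑ j ∈ S.erase j₁, a j ^ 2 = 1 := by linarith
  obtain ⟨j₂, hj₂, hj₂v, hrest⟩ := sum_sq_eq_one (S.erase j₁) a h3
  refine ⟨j₁, hj₁, j₂, (Finset.mem_erase.1 hj₂).2, (Finset.mem_erase.1 hj₂).1.symm, int_sq_one h2,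
    hj₂v, ?_⟩
  intro i hi hi1 hi2
  exact hrest i (Finset.mem_erase.2 ⟨hi1, hi⟩) hi2

/-- (E3) -/
theorem arith_three {ι : Type u} [Fintype ι] [DecidableEq ι] (A m : ι → ℤ) (i₁ : ι) (hA1 : A i₁ = 1) (hm1 : m i₁ = 0)
    (hf : ∑ i, (2 * A i ^ 2 - 2 * A i * m i + 3 * m i ^ 2) = 10)
    (hN : ∑ i, (A i ^ 2 - A i * m i - m i ^ 2) = 0) :
    ∃ i₀ j₁ j₂ : ι, i₀ ≠ i₁ ∧ j₁ ≠ i₁ ∧ j₂ ≠ i₁ ∧ i₀ ≠ j₁ ∧ i₀ ≠ j₂ ∧ j₁ ≠ j₂ ∧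
      ((A i₀ = 1 ∧ m i₀ = 0) ∨ (A i₀ = -1 ∧ m i₀ = 0)) ∧
      ((A j₁ = 0 ∧ m j₁ = 1) ∨ (A j₁ = 0 ∧ m j₁ = -1) ∨ (A j₁ = 1 ∧ m j₁ = 1) ∨ (A j₁ = -1 ∧ m j₁ = -1)) ∧
      ((A j₂ = 0 ∧ m j₂ = 1) ∨ (A j₂ = 0 ∧ m j₂ = -1) ∨ (A j₂ = 1 ∧ m j₂ = 1) ∨ (A j₂ = -1 ∧ m j₂ = -1)) ∧
      ∀ i, i ≠ i₁ → i ≠ i₀ → i ≠ j₁ → i ≠ j₂ → A i = 0 ∧ m i = 0 := by
  classical
  -- the two sums of squares
  have e1 : ∑ i, m i ^ 2 = 2 := by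
    have h : 5 * ∑ i, m i ^ 2 =
        ∑ i, (2 * A i ^ 2 - 2 * A i * m i + 3 * m i ^ 2) - 2 * ∑ i, (A i ^ 2 - A i * m i - m i ^ 2) := by
      rw [Finset.mul_sum, Finset.mul_sum, ← Finset.sum_sub_distrib]
      exact Finset.sum_congr rfl (fun i _ => by ring)
    rw [hf, hN] at h
    linarith
  have e2 : ∑ i, (2 * A i - m i) ^ 2 = 10 := by
    have h : ∑ i, (2 * A i - m i) ^ 2 =
        ∑ i, (2 * A i ^ 2 - 2 * A i * m i + 3 * m i ^ 2) + 2 * ∑ i, (A i ^ 2 - A i * m i - m i ^ 2) := by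
      rw [Finset.mul_sum, ← Finset.sum_add_distrib]
      exact Finset.sum_congr rfl (fun i _ => by ring)
    rw [hf, hN] at h
    linarith
  -- remove `i₁`
  set S₁ : Finset ι := Finset.univ.erase i₁ with hS₁
  have f1 : ∑ i ∈ S₁, m i ^ 2 = 2 := by
    have h := Finset.add_sum_erase Finset.univ (fun i => m i ^ 2) (Finset.mem_univ i₁)
    simp only [hm1] at h
    rw [e1] at h
    linarith
  have f2 : ∑ i ∈ S₁, (2 * A i - m i) ^ 2 = 6 := by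
    have h := Finset.add_sum_erase Finset.univ (fun i => (2 * A i - m i) ^ 2) (Finset.mem_univ i₁)
    simp only [hm1, hA1] at h
    rw [e2] at h
    linarith
  obtain ⟨j₁, hj₁, j₂, hj₂, hj12, hmj₁, hmj₂, hmrest⟩ := sum_sq_eq_two S₁ m f1
  -- remove `j₁`, `j₂`
  set S₂ : Finset ι := (S₁.erase j₁).erase j₂ with hS₂
  have hj₂' : j₂ ∈ S₁.erase j₁ := Finset.mem_erase.2 ⟨hj12.symm, hj₂⟩
  have g1 : (2 * A j₁ - m j₁) ^ 2 + ((2 * A j₂ - m j₂) ^ 2 + ∑ i ∈ S₂, (2 * A i - m i) ^ 2) = 6 := by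
    rw [Finset.add_sum_erase (S₁.erase j₁) (fun i => (2 * A i - m i) ^ 2) hj₂',
      Finset.add_sum_erase S₁ (fun i => (2 * A i - m i) ^ 2) hj₁]
    exact f2
  have hS₂mem : ∀ i, i ∈ S₂ ↔ i ≠ j₂ ∧ i ≠ j₁ ∧ i ≠ i₁ := by
    intro i
    rw [hS₂, hS₁]
    simp only [Finset.mem_erase, Finset.mem_univ, and_true]
  have g2 : ∑ i ∈ S₂, (2 * A i - m i) ^ 2 = 4 * ∑ i ∈ S₂, A i ^ 2 := by
    rw [Finset.mul_sum]
    refine Finset.sum_congr rfl (fun i hi => ?_)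
    obtain ⟨h1, h2, h3⟩ := (hS₂mem i).1 hi
    have hi1 : i ∈ S₁ := Finset.mem_erase.2 ⟨h3, Finset.mem_univ _⟩
    rw [hmrest i hi1 h2 h1]
    ring
  rw [g2] at g1
  have hR : 0 ≤ ∑ i ∈ S₂, A i ^ 2 := Finset.sum_nonneg fun j _ => sq_nonneg _
  have hp : 0 ≤ (2 * A j₁ - m j₁) ^ 2 := sq_nonneg _
  have hq : 0 ≤ (2 * A j₂ - m j₂) ^ 2 := sq_nonneg _
  -- bounds
  have b1 : -3 < 2 * A j₁ - m j₁ ∧ 2 * A j₁ - m j₁ < 3 := by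
    constructor <;> nlinarith
  have b2 : -3 < 2 * A j₂ - m j₂ ∧ 2 * A j₂ - m j₂ < 3 := by
    constructor <;> nlinarith
  have c1 : (A j₁ = 0 ∧ m j₁ = 1) ∨ (A j₁ = 0 ∧ m j₁ = -1) ∨ (A j₁ = 1 ∧ m j₁ = 1) ∨
      (A j₁ = -1 ∧ m j₁ = -1) := by
    obtain ⟨h1, h2⟩ := b1
    rcases hmj₁ with h | h <;> rw [h] at h1 h2 <;> omega
  have c2 : (A j₂ = 0 ∧ m j₂ = 1) ∨ (A j₂ = 0 ∧ m j₂ = -1) ∨ (A j₂ = 1 ∧ m j₂ = 1) ∨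
      (A j₂ = -1 ∧ m j₂ = -1) := by
    obtain ⟨h1, h2⟩ := b2
    rcases hmj₂ with h | h <;> rw [h] at h1 h2 <;> omega
  have p1 : (2 * A j₁ - m j₁) ^ 2 = 1 := by
    rcases c1 with ⟨h1, h2⟩ | ⟨h1, h2⟩ | ⟨h1, h2⟩ | ⟨h1, h2⟩ <;> rw [h1, h2] <;> norm_num
  have p2 : (2 * A j₂ - m j₂) ^ 2 = 1 := by
    rcases c2 with ⟨h1, h2⟩ | ⟨h1, h2⟩ | ⟨h1, h2⟩ | ⟨h1, h2⟩ <;> rw [h1, h2] <;> norm_num
  have g3 : ∑ i ∈ S₂, A i ^ 2 = 1 := by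
    rw [p1, p2] at g1
    linarith
  obtain ⟨i₀, hi₀, hAi₀, hArest⟩ := sum_sq_eq_one S₂ A g3
  obtain ⟨k1, k2, k3⟩ := (hS₂mem i₀).1 hi₀
  have hi₀1 : i₀ ∈ S₁ := Finset.mem_erase.2 ⟨k3, Finset.mem_univ _⟩
  have hmi₀ : m i₀ = 0 := hmrest i₀ hi₀1 k2 k1
  refine ⟨i₀, j₁, j₂, k3, (Finset.mem_erase.1 hj₁).1, (Finset.mem_erase.1 hj₂).1, k2, k1, hj12, ?_,
    c1, c2, ?_⟩
  · rcases hAi₀ with h | h
    · exact Or.inl ⟨h, hmi₀⟩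
    · exact Or.inr ⟨h, hmi₀⟩
  · intro i h1 h2 h3 h4
    have hi1 : i ∈ S₁ := Finset.mem_erase.2 ⟨h1, Finset.mem_univ _⟩
    have hi2 : i ∈ S₂ := (hS₂mem i).2 ⟨h4, h3, h1⟩
    exact ⟨hArest i hi2 h2, hmrest i hi1 h3 h4⟩

end Cfsg.Agent.Lib.H14.O5760
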