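import Mathlib
import Cfsg.Prelude.Def_Characters
import Cfsg.Agent.Lib.H24.CharOrth
import Cfsg.Agent.Lib.H24.CharBasic
import Cfsg.Agent.Lib.H24.BrauerP4
import Cfsg.Agent.Lib.H15.O5760A
import Cfsg.Agent.Lib.H14.O5760E3

/-!
# S0980, piece (E4) `b0_structure` (helper14 twin), exact signature of `tools/blueprints/S0980_sigs.lean`

The "principal 5-block" for `N_G(K)` dihedral of order 10, from column orthogonality only.
-/

set_option autoImplicit false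
namespace Cfsg.Agent.Lib.H14.O5760
open Cfsg Cfsg.Agent.Lib.H24 Cfsg.Agent.Lib.L0
open scoped BigOperators ComplexConjugate
universe u

/-- `α ≠ β` for `α = ζ + ζ⁴`, `β = ζ² + ζ³` -/
theorem al_ne_be {ζ : ℂ} (hζ : IsPrimitiveRoot ζ 5) : (ζ + ζ ^ 4) - (ζ ^ 2 + ζ ^ 3) ≠ 0 := by
  intro h
  have hab := Cfsg.Agent.Lib.H15.O5760.al_add_be hζ
  have hmul := Cfsg.Agent.Lib.H15.O5760.al_mul_be hζ
  have h5 : ((ζ + ζ ^ 4) - (ζ ^ 2 + ζ ^ 3)) ^ 2 = 5 := by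
    linear_combination ((ζ + ζ ^ 4) + (ζ ^ 2 + ζ ^ 3) - 1) * hab - 4 * hmul
  rw [h] at h5
  norm_num at h5

/-- (E4) -/
theorem b0_structure {G : Type u} [Group G] [Fintype G] (hperf : commutator G = ⊤)
    (K : Subgroup G) (hK : Nat.card K = 5) (hC : Subgroup.centralizer (K : Set G) = K)
    {x : G} (hx : x ∈ K) (hx1 : x ≠ 1) (hinv : IsConj x x⁻¹) (hsq : ¬ IsConj x (x ^ 2))
    (ζ : ℂ) (hζ : IsPrimitiveRoot ζ 5) :
    ∃ (χ θ θ' : IrrCharacter G) (ε δ : ℤ), (ε = 1 ∨ ε = -1) ∧ (δ = 1 ∨ δ = -1) ∧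
      (χ : G → ℂ) ≠ 1 ∧ (θ : G → ℂ) ≠ 1 ∧ (θ' : G → ℂ) ≠ 1 ∧ χ ≠ θ ∧ χ ≠ θ' ∧ θ ≠ θ' ∧
      (χ : G → ℂ) x = ε ∧ (θ : G → ℂ) x = δ * (ζ + ζ ^ 4) ∧ (θ' : G → ℂ) x = δ * (ζ ^ 2 + ζ ^ 3) ∧
      (∀ ψ : IrrCharacter G, (ψ : G → ℂ) ≠ 1 → ψ ≠ χ → ψ ≠ θ → ψ ≠ θ' → (ψ : G → ℂ) x = 0) ∧
      ∀ g : G, ¬ IsConj g x → ¬ IsConj g (x ^ 2) →
        (θ : G → ℂ) g = (θ' : G → ℂ) g ∧
          1 + (ε : ℂ) * (χ : G → ℂ) g - (δ : ℂ) * (θ : G → ℂ) g = 0 := by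
  classical
  have hfi : Fintype (IrrCharacter G) := Fintype.ofFinite (IrrCharacter G)
  have hab := Cfsg.Agent.Lib.H15.O5760.al_add_be hζ
  have hmul := Cfsg.Agent.Lib.H15.O5760.al_mul_be hζ
  have hcα := Cfsg.Agent.Lib.H15.O5760.conj_al hζ
  have hcβ := Cfsg.Agent.Lib.H15.O5760.conj_be hζ
  have hne := al_ne_be hζ
  set α : ℂ := ζ + ζ ^ 4 with hα
  set β : ℂ := ζ ^ 2 + ζ ^ 3 with hβ
  -- the order of `x`
  have hox : orderOf x = 5 := by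
    have h1 : orderOf (⟨x, hx⟩ : K) ∣ Nat.card K := orderOf_dvd_natCard _
    rw [hK, Subgroup.orderOf_mk] at h1
    rcases (Nat.Prime.eq_one_or_self_of_dvd (by norm_num : Nat.Prime 5) _ h1) with h2 | h2
    · exact absurd (orderOf_eq_one_iff.1 h2) hx1
    · exact h2
  have hx5 : x ^ 5 = 1 := by rw [← hox]; exact pow_orderOf_eq_one x
  have hx2 : x ^ 2 ≠ 1 := by
    intro h
    have h1 : orderOf x ∣ 2 := orderOf_dvd_of_pow_eq_one h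
    rw [hox] at h1
    norm_num at h1
  -- `K` is generated by `x`
  have hKx : ∀ k ∈ K, ∃ n : ℕ, k = x ^ n := by
    have hle : Subgroup.zpowers x ≤ K := (Subgroup.zpowers_le).2 hx
    have hcard : Nat.card (Subgroup.zpowers x) = Nat.card K := by
      rw [Nat.card_zpowers, hox, hK]
    have heq : Subgroup.zpowers x = K := Subgroup.eq_of_le_of_card_ge hle (le_of_eq hcard.symm)
    intro k hk
    rw [← heq] at hk
    obtain ⟨n, hn⟩ := (mem_zpowers_iff_mem_range_orderOf (x := x) (y := k)).1 hk |> fun h => by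
      simpa using h
    exact ⟨n, hn.2.symm⟩
  -- the centralizers of `x` and `x ^ 2`
  have hcentK : Subgroup.centralizer ({x} : Set G) = Subgroup.centralizer (K : Set G) := by
    apply le_antisymm
    · intro g hg
      rw [Subgroup.mem_centralizer_iff] at hg ⊢
      intro k hk
      obtain ⟨n, rfl⟩ := hKx k hk
      have h2 : x * g = g * x := hg x (Set.mem_singleton x)
      exact ((Commute.pow_left (show Commute x g from h2) n)).eq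
    · exact Subgroup.centralizer_le (Set.singleton_subset_iff.2 hx)
  have hcent : Nat.card (Subgroup.centralizer ({x} : Set G)) = 5 := by
    rw [hcentK, hC, hK]
  have hcent2 : Nat.card (Subgroup.centralizer ({x ^ 2} : Set G)) = 5 := by
    have h1 : Subgroup.centralizer ({x ^ 2} : Set G) = Subgroup.centralizer ({x} : Set G) := by
      apply le_antisymm
      · intro g hg
        rw [Subgroup.mem_centralizer_iff] at hg ⊢
        intro k hk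
        rw [Set.mem_singleton_iff] at hk
        rw [hk]
        have h2 : x ^ 2 * g = g * x ^ 2 := hg (x ^ 2) (Set.mem_singleton _)
        have h3 : Commute ((x ^ 2) ^ 3) g := Commute.pow_left (show Commute (x ^ 2) g from h2) 3
        have h4 : (x ^ 2) ^ 3 = x := by
          calc (x ^ 2) ^ 3 = x ^ 5 * x := by rw [← pow_mul, pow_succ]
            _ = x := by rw [hx5, one_mul]
        rw [h4] at h3
        exact h3.eq
      · intro g hg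
        rw [Subgroup.mem_centralizer_iff] at hg ⊢
        intro k hk
        rw [Set.mem_singleton_iff] at hk
        rw [hk]
        have h2 : x * g = g * x := hg x (Set.mem_singleton x)
        exact ((Commute.pow_left (show Commute x g from h2) 2)).eq
    rw [h1, hcent]
  -- the trivial character
  set T : IrrCharacter G := trivialIrr G with hT
  have hT1 : ∀ ψ : IrrCharacter G, (ψ : G → ℂ) = 1 → ψ = T := by
    intro ψ h
    apply Subtype.ext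
    rw [h]; rfl
  have hTone : (T : G → ℂ) = 1 := rfl
  -- the values at `x` and `x ^ 2`
  have hval : ∀ ψ : IrrCharacter G, ∃ A m : ℤ, ((ψ : G → ℂ) x = A + m * α ∧
      (ψ : G → ℂ) (x ^ 2) = A + m * β) ∧ (ψ = T → A = 1 ∧ m = 0) := by
    intro ψ
    by_cases hψ : ψ = T
    · refine ⟨1, 0, ⟨?_, ?_⟩, fun _ => ⟨rfl, rfl⟩⟩
      · rw [hψ, hTone]; simp
      · rw [hψ, hTone]; simp
    · obtain ⟨A, m, h1, h2⟩ :=
        Cfsg.Agent.Lib.H15.O5760.char_values_order5 (ψ : G → ℂ) ψ.2 x hox hinv ζ hζ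
      exact ⟨A, m, ⟨h1, h2⟩, fun h => absurd h hψ⟩
  choose A m hAm hAmT using hval
  have hA : ∀ ψ : IrrCharacter G, (ψ : G → ℂ) x = A ψ + m ψ * α := fun ψ => (hAm ψ).1
  have hB : ∀ ψ : IrrCharacter G, (ψ : G → ℂ) (x ^ 2) = A ψ + m ψ * β := fun ψ => (hAm ψ).2
  have hAT : A T = 1 := (hAmT T rfl).1
  have hmT : m T = 0 := (hAmT T rfl).2
  have hcA : ∀ ψ : IrrCharacter G, conj ((ψ : G → ℂ) x) = A ψ + m ψ * α := by
    intro ψ
    rw [hA ψ, map_add, map_mul, map_intCast, map_intCast, hcα]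
  have hcB : ∀ ψ : IrrCharacter G, conj ((ψ : G → ℂ) (x ^ 2)) = A ψ + m ψ * β := by
    intro ψ
    rw [hB ψ, map_add, map_mul, map_intCast, map_intCast, hcβ]
  -- the three orthogonality relations among `x`, `x ^ 2`
  have hxx : ∑ ψ : IrrCharacter G, ((A ψ : ℂ) + m ψ * α) * ((A ψ : ℂ) + m ψ * α) = 5 := by
    have h1 := second_orthogonality x x
    rw [if_pos (IsConj.refl x), hcent] at h1
    rw [Finset.sum_congr rfl (fun ψ _ => by rw [hcA ψ, hA ψ])] at h1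
    rw [h1]; norm_num
  have hyy : ∑ ψ : IrrCharacter G, ((A ψ : ℂ) + m ψ * β) * ((A ψ : ℂ) + m ψ * β) = 5 := by
    have h1 := second_orthogonality (x ^ 2) (x ^ 2)
    rw [if_pos (IsConj.refl (x ^ 2)), hcent2] at h1
    rw [Finset.sum_congr rfl (fun ψ _ => by rw [hcB ψ, hB ψ])] at h1
    rw [h1]; norm_num
  have hxy : ∑ ψ : IrrCharacter G, ((A ψ : ℂ) + m ψ * α) * ((A ψ : ℂ) + m ψ * β) = 0 := by
    have h1 := second_orthogonality x (x ^ 2)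
    rw [if_neg hsq] at h1
    rw [Finset.sum_congr rfl (fun ψ _ => by rw [hcB ψ, hA ψ])] at h1
    exact h1
  have hf : ∑ ψ : IrrCharacter G, (2 * A ψ ^ 2 - 2 * A ψ * m ψ + 3 * m ψ ^ 2) = 10 := by
    have h1 : ∑ ψ : IrrCharacter G, (((2 * A ψ ^ 2 - 2 * A ψ * m ψ + 3 * m ψ ^ 2 : ℤ)) : ℂ) = 10 := by
      have h2 : ∀ ψ : IrrCharacter G, (((2 * A ψ ^ 2 - 2 * A ψ * m ψ + 3 * m ψ ^ 2 : ℤ)) : ℂ) =
          ((A ψ : ℂ) + m ψ * α) * ((A ψ : ℂ) + m ψ * α) +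
            ((A ψ : ℂ) + m ψ * β) * ((A ψ : ℂ) + m ψ * β) := by
        intro ψ
        push_cast
        linear_combination (-(2 * (A ψ : ℂ) * m ψ + (m ψ : ℂ) ^ 2 * (α + β - 1))) * hab +
          2 * (m ψ : ℂ) ^ 2 * hmul
      rw [Finset.sum_congr rfl (fun ψ _ => h2 ψ), Finset.sum_add_distrib, hxx, hyy]
      norm_num
    have h3 : ((∑ ψ : IrrCharacter G, (2 * A ψ ^ 2 - 2 * A ψ * m ψ + 3 * m ψ ^ 2) : ℤ) : ℂ) =
        ((10 : ℤ) : ℂ) := by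
      rw [Int.cast_sum, h1]; norm_num
    exact_mod_cast h3
  have hN : ∑ ψ : IrrCharacter G, (A ψ ^ 2 - A ψ * m ψ - m ψ ^ 2) = 0 := by
    have h1 : ∑ ψ : IrrCharacter G, (((A ψ ^ 2 - A ψ * m ψ - m ψ ^ 2 : ℤ)) : ℂ) = 0 := by
      have h2 : ∀ ψ : IrrCharacter G, (((A ψ ^ 2 - A ψ * m ψ - m ψ ^ 2 : ℤ)) : ℂ) =
          ((A ψ : ℂ) + m ψ * α) * ((A ψ : ℂ) + m ψ * β) := by
        intro ψ
        push_cast
        linear_combination (-((A ψ : ℂ) * m ψ)) * hab - (m ψ : ℂ) ^ 2 * hmul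
      rw [Finset.sum_congr rfl (fun ψ _ => h2 ψ), hxy]
    have h3 : ((∑ ψ : IrrCharacter G, (A ψ ^ 2 - A ψ * m ψ - m ψ ^ 2) : ℤ) : ℂ) = ((0 : ℤ) : ℂ) := by
      rw [Int.cast_sum, h1]; norm_num
    exact_mod_cast h3
  -- the three characters
  obtain ⟨χ, j₁, j₂, hχT, hj₁T, hj₂T, hχj₁, hχj₂, hj₁₂, hχv, c1, c2, hrest⟩ :=
    arith_three A m T hAT hmT hf hN
  -- reduction of a sum over `Irr(G)` to four terms
  have red : ∀ (a b : IrrCharacter G), a ≠ T → b ≠ T → χ ≠ a → χ ≠ b → a ≠ b →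
      (∀ ψ, ψ ≠ T → ψ ≠ χ → ψ ≠ a → ψ ≠ b → A ψ = 0 ∧ m ψ = 0) →
      ∀ (F : IrrCharacter G → ℂ) (γ : ℂ), ∑ ψ, F ψ * ((A ψ : ℂ) + m ψ * γ) =
        F T + F χ * ((A χ : ℂ) + m χ * γ) + F a * ((A a : ℂ) + m a * γ) +
          F b * ((A b : ℂ) + m b * γ) := by
    intro a b haT hbT hca hcb hab' hvan F γ
    have hsub : ∑ ψ ∈ ({T, χ, a, b} : Finset (IrrCharacter G)), F ψ * ((A ψ : ℂ) + m ψ * γ) =
        ∑ ψ, F ψ * ((A ψ : ℂ) + m ψ * γ) := by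
      apply Finset.sum_subset (Finset.subset_univ _)
      intro ψ _ hψ
      simp only [Finset.mem_insert, Finset.mem_singleton, not_or] at hψ
      obtain ⟨h1, h2⟩ := hvan ψ hψ.1 hψ.2.1 hψ.2.2.1 hψ.2.2.2
      rw [h1, h2]; simp
    rw [← hsub, Finset.sum_insert, Finset.sum_insert, Finset.sum_insert, Finset.sum_singleton,
      hAT, hmT]
    · push_cast; ring
    · rw [Finset.mem_singleton]; exact hab'
    · simp only [Finset.mem_insert, Finset.mem_singleton, not_or]; exact ⟨hca, hcb⟩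
    · simp only [Finset.mem_insert, Finset.mem_singleton, not_or]
      exact ⟨hχT.symm, haT.symm, hbT.symm⟩
  -- column relations
  have colx : ∀ g : G, ¬ IsConj g x → ∑ ψ : IrrCharacter G, (ψ : G → ℂ) g * ((A ψ : ℂ) + m ψ * α) = 0 := by
    intro g hg
    have h1 := second_orthogonality g x
    rw [if_neg hg] at h1
    rw [← h1]
    exact Finset.sum_congr rfl fun ψ _ => by rw [hcA ψ]
  have coly : ∀ g : G, ¬ IsConj g (x ^ 2) →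
      ∑ ψ : IrrCharacter G, (ψ : G → ℂ) g * ((A ψ : ℂ) + m ψ * β) = 0 := by
    intro g hg
    have h1 := second_orthogonality g (x ^ 2)
    rw [if_neg hg] at h1
    rw [← h1]
    exact Finset.sum_congr rfl fun ψ _ => by rw [hcB ψ]
  have h1x : ¬ IsConj (1 : G) x := fun h => hx1 (isConj_one_right.1 h)
  have h1x2 : ¬ IsConj (1 : G) (x ^ 2) := fun h => hx2 (isConj_one_right.1 h)
  -- `ε`
  obtain ⟨ε, hε⟩ : ∃ ε : ℤ, A χ = ε := ⟨_, rfl⟩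
  rw [hε] at hχv
  have hmχ : m χ = 0 := by rcases hχv with h | h <;> exact h.2
  have hεv : ε = 1 ∨ ε = -1 := by
    rcases hχv with h | h
    · exact Or.inl h.1
    · exact Or.inr h.1
  -- the final step, generic in `δ`
  have fin : ∀ (θ θ' : IrrCharacter G) (δ : ℤ), (δ = 1 ∨ δ = -1) → θ ≠ T → θ' ≠ T → χ ≠ θ → χ ≠ θ' →
      θ ≠ θ' → A θ = 0 → m θ = δ → A θ' = -δ → m θ' = -δ →
      (∀ ψ, ψ ≠ T → ψ ≠ χ → ψ ≠ θ → ψ ≠ θ' → A ψ = 0 ∧ m ψ = 0) →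
      ∃ (χ θ θ' : IrrCharacter G) (ε δ : ℤ), (ε = 1 ∨ ε = -1) ∧ (δ = 1 ∨ δ = -1) ∧
      (χ : G → ℂ) ≠ 1 ∧ (θ : G → ℂ) ≠ 1 ∧ (θ' : G → ℂ) ≠ 1 ∧ χ ≠ θ ∧ χ ≠ θ' ∧ θ ≠ θ' ∧
      (χ : G → ℂ) x = ε ∧ (θ : G → ℂ) x = δ * α ∧ (θ' : G → ℂ) x = δ * β ∧
      (∀ ψ : IrrCharacter G, (ψ : G → ℂ) ≠ 1 → ψ ≠ χ → ψ ≠ θ → ψ ≠ θ' → (ψ : G → ℂ) x = 0) ∧
      ∀ g : G, ¬ IsConj g x → ¬ IsConj g (x ^ 2) →
        (θ : G → ℂ) g = (θ' : G → ℂ) g ∧
          1 + (ε : ℂ) * (χ : G → ℂ) g - (δ : ℂ) * (θ : G → ℂ) g = 0 := by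
    intro θ θ' δ hδ hθT hθ'T hχθ hχθ' hθθ' hAθ hmθ hAθ' hmθ' hvan
    have hδ0 : (δ : ℂ) ≠ 0 := by
      rcases hδ with h | h <;> rw [h] <;> norm_num
    refine ⟨χ, θ, θ', ε, δ, hεv, hδ, fun h => hχT (hT1 χ h), fun h => hθT (hT1 θ h),
      fun h => hθ'T (hT1 θ' h), hχθ, hχθ', hθθ', ?_, ?_, ?_, ?_, ?_⟩
    · rw [hA χ, hmχ, hε]; simp
    · rw [hA θ, hAθ, hmθ]; simp
    · rw [hA θ', hAθ', hmθ']; push_cast; linear_combination (-(δ : ℂ)) * hab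
    · intro ψ h1 h2 h3 h4
      have hψT : ψ ≠ T := fun h => h1 (by rw [h]; exact hTone)
      obtain ⟨h5, h6⟩ := hvan ψ hψT h2 h3 h4
      rw [hA ψ, h5, h6]; simp
    · intro g hgx hgx2
      have r1 := colx g hgx
      rw [red θ θ' hθT hθ'T hχθ hχθ' hθθ' hvan (fun ψ => (ψ : G → ℂ) g) α] at r1
      have r2 := coly g hgx2
      rw [red θ θ' hθT hθ'T hχθ hχθ' hθθ' hvan (fun ψ => (ψ : G → ℂ) g) β] at r2
      rw [hmχ, hε, hAθ, hmθ, hAθ', hmθ', hTone] at r1 r2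
      simp only [Pi.one_apply] at r1 r2
      push_cast at r1 r2
      have h1 : (δ : ℂ) * (((θ : G → ℂ) g - (θ' : G → ℂ) g) * (α - β)) = 0 := by
        linear_combination r1 - r2 + ((δ : ℂ) * (θ' : G → ℂ) g - (δ : ℂ) * (θ' : G → ℂ) g) * hab
      have h2 : ((θ : G → ℂ) g - (θ' : G → ℂ) g) * (α - β) = 0 := by
        rcases mul_eq_zero.1 h1 with h | h
        · exact absurd h hδ0
        · exact h
      have h3 : (θ : G → ℂ) g = (θ' : G → ℂ) g := by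
        rcases mul_eq_zero.1 h2 with h | h
        · exact sub_eq_zero.1 h
        · exact absurd h hne
      refine ⟨h3, ?_⟩
      rw [h3]
      rw [h3] at r1
      linear_combination r1
  -- degrees
  obtain ⟨dχ, hdχpos, hdχ⟩ := irr_one_eq χ
  obtain ⟨d₁, hd₁pos, hd₁⟩ := irr_one_eq j₁
  obtain ⟨d₂, hd₂pos, hd₂⟩ := irr_one_eq j₂
  have hdχ1 : dχ ≠ 1 := by
    intro h
    apply hχT
    apply hT1
    apply BrP.linear_eq_one_of_perfect hperf (χ : G → ℂ) χ.2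
    rw [hdχ, h]; simp
  have r1 := colx 1 h1x
  rw [red j₁ j₂ hj₁T hj₂T hχj₁ hχj₂ hj₁₂
    (fun ψ h1 h2 h3 h4 => hrest ψ h1 h2 h3 h4) (fun ψ => (ψ : G → ℂ) 1) α] at r1
  have r2 := coly 1 h1x2
  rw [red j₁ j₂ hj₁T hj₂T hχj₁ hχj₂ hj₁₂
    (fun ψ h1 h2 h3 h4 => hrest ψ h1 h2 h3 h4) (fun ψ => (ψ : G → ℂ) 1) β] at r2
  rw [hmχ, hε, hTone, hdχ, hd₁, hd₂] at r1 r2
  simp only [Pi.one_apply] at r1 r2
  push_cast at r1 r2
  -- (G1) `d₁ m₁ + d₂ m₂ = 0`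
  have G1 : (d₁ : ℤ) * m j₁ + (d₂ : ℤ) * m j₂ = 0 := by
    have h1 : (((d₁ : ℤ) * m j₁ + (d₂ : ℤ) * m j₂ : ℤ) : ℂ) * (α - β) = 0 := by
      push_cast
      linear_combination r1 - r2
    rcases mul_eq_zero.1 h1 with h | h
    · exact_mod_cast h
    · exact absurd h hne
  -- (G2) `1 + ε dχ + d₁ A₁ + d₂ A₂ = 0`
  have G2 : 1 + (dχ : ℤ) * ε + (d₁ : ℤ) * A j₁ + (d₂ : ℤ) * A j₂ = 0 := by
    have h1 : ((1 + (dχ : ℤ) * ε + (d₁ : ℤ) * A j₁ + (d₂ : ℤ) * A j₂ : ℤ) : ℂ) = 0 := by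
      have h2 : (((d₁ : ℤ) * m j₁ + (d₂ : ℤ) * m j₂ : ℤ) : ℂ) = 0 := by rw [G1]; norm_num
      push_cast at h2 ⊢
      linear_combination r1 - α * h2
    exact_mod_cast h1
  have hvan' : ∀ ψ, ψ ≠ T → ψ ≠ χ → ψ ≠ j₂ → ψ ≠ j₁ → A ψ = 0 ∧ m ψ = 0 :=
    fun ψ h1 h2 h3 h4 => hrest ψ h1 h2 h4 h3
  have hd₁' : (0 : ℤ) < d₁ := by exact_mod_cast hd₁pos
  have hd₂' : (0 : ℤ) < d₂ := by exact_mod_cast hd₂pos
  have hdχ' : (0 : ℤ) < dχ := by exact_mod_cast hdχpos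
  have hdχ1' : (dχ : ℤ) ≠ 1 := by exact_mod_cast hdχ1
  rcases c1 with ⟨a1, b1⟩ | ⟨a1, b1⟩ | ⟨a1, b1⟩ | ⟨a1, b1⟩ <;>
  rcases c2 with ⟨a2, b2⟩ | ⟨a2, b2⟩ | ⟨a2, b2⟩ | ⟨a2, b2⟩ <;>
  simp only [a1, b1, a2, b2] at G1 G2
  all_goals first
    | (exfalso; rcases hεv with h | h <;> rw [h] at G2 <;> omega)
    | exact fin j₁ j₂ 1 (Or.inl rfl) hj₁T hj₂T hχj₁ hχj₂ hj₁₂ a1 b1 a2 b2 hrest
    | exact fin j₂ j₁ 1 (Or.inl rfl) hj₂T hj₁T hχj₂ hχj₁ hj₁₂.symm a2 b2 a1 b1 hvan'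
    | exact fin j₁ j₂ (-1) (Or.inr rfl) hj₁T hj₂T hχj₁ hχj₂ hj₁₂ a1 b1 (by rw [a2]; norm_num) (by rw [b2]; norm_num) hrest
    | exact fin j₂ j₁ (-1) (Or.inr rfl) hj₂T hj₁T hχj₂ hχj₁ hj₁₂.symm a2 b2 (by rw [a1]; norm_num) (by rw [b1]; norm_num) hvan'

end Cfsg.Agent.Lib.H14.O5760
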