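import Mathlib
import Cfsg.Prelude.Def_Solvable
import Cfsg.Agent.Lib.H18.OGDefs
import Cfsg.Agent.Lib.H2.SLGen
import Cfsg.Agent.Lib.H2.SLCenterCard

/-!
# S2936, piece PSL (helper14): `OvergroupProp p (PSL_n(F))` by linear algebra (no BN-pair)

For a subspace `W` of `V = F^n` let `qSub W = {g ∈ SL_n : (g - 1) V ≤ W, (g - 1) W = 0}`, a `p`-group normalized by the
stabilizer of `W`.  If `M ≥ P`, `P` a Sylow `p`-subgroup, `O_p(M) = 1`, then `M` is irreducible on `V` and contains all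
transvections.
-/

set_option autoImplicit false
set_option linter.unusedVariables false

namespace Cfsg.Agent.Lib.H14.OG

open Cfsg Cfsg.Agent.Lib.H18.OG Matrix

section general

variable {G : Type*} [Group G]

/-- a Sylow subgroup absorbs every `p`-subgroup it normalizes -/
theorem og_le_sylow_of_le_normalizer {p : ℕ} [Fact p.Prime] (P : Sylow p G) (Q : Subgroup G)
    (hQ : IsPGroup p ↥Q) (hPQ : (P : Subgroup G) ≤ Subgroup.normalizer Q) : Q ≤ (P : Subgroup G) := by
  have h1 : IsPGroup p ↥((P : Subgroup G) ⊔ Q : Subgroup G) :=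
    P.isPGroup'.to_sup_of_normal_right' hQ hPQ
  have h2 := P.is_maximal' h1 le_sup_left
  calc Q ≤ (P : Subgroup G) ⊔ Q := le_sup_right
    _ = (P : Subgroup G) := h2

/-- a subgroup of `p'`-index contains a Sylow `p`-subgroup -/
theorem og_exists_sylow_le [Finite G] {p : ℕ} [Fact p.Prime] (M : Subgroup G) (hidx : ¬ p ∣ M.index) :
    ∃ P : Sylow p G, (P : Subgroup G) ≤ M := by
  have hp : p.Prime := Fact.out
  obtain ⟨R₀⟩ : Nonempty (Sylow p ↥M) := inferInstance
  have hRp : IsPGroup p ↥((R₀ : Subgroup ↥M).map M.subtype) := R₀.isPGroup'.map _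
  have hidx' : ¬ p ∣ ((R₀ : Subgroup ↥M).map M.subtype).index := by
    rw [Subgroup.index_map_subtype]
    intro h
    rcases hp.dvd_mul.mp h with h | h
    · exact R₀.not_dvd_index h
    · exact hidx h
  refine ⟨hRp.toSylow hidx', ?_⟩
  rintro _ ⟨y, _, rfl⟩
  exact y.2

/-- a `p`-subgroup of `M` normalized by `M` is trivial when `O_p(M) = 1` -/
theorem og_eq_bot_of_le_of_normalized (p : ℕ) (M Q : Subgroup G) (hM : Cfsg.pCore p ↥M = ⊥) (hQM : Q ≤ M)
    (hN : ∀ m ∈ M, ∀ x ∈ Q, m * x * m⁻¹ ∈ Q) (hQ : IsPGroup p ↥Q) : Q = ⊥ := by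
  have hn : (Q.subgroupOf M).Normal := by
    constructor
    intro x hx g
    rw [Subgroup.mem_subgroupOf] at hx ⊢
    exact hN g g.2 x hx
  have hp : IsPGroup p ↥(Q.subgroupOf M) := hQ.comap_subtype
  have h1 := og_eq_bot_of_normal_pGroup p hM _ hn hp
  rw [Subgroup.subgroupOf_eq_bot] at h1
  exact disjoint_self.mp (h1.mono_right hQM) |> fun h => h

end general

section linear

variable {n : ℕ} {F : Type*} [Field F]

/-- the natural action of `SL_n(F)` on `F^n` -/
def av (g : Matrix.SpecialLinearGroup (Fin n) F) (x : Fin n → F) : Fin n → F :=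
  (g : Matrix (Fin n) (Fin n) F) *ᵥ x

theorem av_mul (g h : Matrix.SpecialLinearGroup (Fin n) F) (x : Fin n → F) : av (g * h) x = av g (av h x) := by
  unfold av
  rw [Matrix.SpecialLinearGroup.coe_mul, Matrix.mulVec_mulVec]

theorem av_one (x : Fin n → F) : av (1 : Matrix.SpecialLinearGroup (Fin n) F) x = x := by
  unfold av
  rw [Matrix.SpecialLinearGroup.coe_one, Matrix.one_mulVec]

theorem av_add (g : Matrix.SpecialLinearGroup (Fin n) F) (x y : Fin n → F) : av g (x + y) = av g x + av g y :=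
  Matrix.mulVec_add _ _ _

theorem av_sub (g : Matrix.SpecialLinearGroup (Fin n) F) (x y : Fin n → F) : av g (x - y) = av g x - av g y :=
  Matrix.mulVec_sub _ _ _

theorem av_smul (g : Matrix.SpecialLinearGroup (Fin n) F) (t : F) (x : Fin n → F) : av g (t • x) = t • av g x :=
  Matrix.mulVec_smul _ _ _

theorem av_zero (g : Matrix.SpecialLinearGroup (Fin n) F) : av g (0 : Fin n → F) = 0 :=
  Matrix.mulVec_zero _

theorem av_inv_av (g : Matrix.SpecialLinearGroup (Fin n) F) (x : Fin n → F) : av g⁻¹ (av g x) = x := by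
  rw [← av_mul, inv_mul_cancel, av_one]

theorem av_av_inv (g : Matrix.SpecialLinearGroup (Fin n) F) (x : Fin n → F) : av g (av g⁻¹ x) = x := by
  rw [← av_mul, mul_inv_cancel, av_one]

theorem og_ext_av {g h : Matrix.SpecialLinearGroup (Fin n) F} (H : ∀ x, av g x = av h x) : g = h := by
  apply Subtype.ext
  exact Matrix.ext_iff_mulVec.mpr H

/-- the elements of `SL_n(F)` acting trivially on `W` and on `V / W` -/
def qSub (W : Submodule F (Fin n → F)) : Subgroup (Matrix.SpecialLinearGroup (Fin n) F) where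
  carrier := {g | (∀ x, av g x - x ∈ W) ∧ ∀ x ∈ W, av g x = x}
  one_mem' := by
    refine ⟨fun x => ?_, fun x _ => av_one x⟩
    rw [av_one, sub_self]
    exact W.zero_mem
  mul_mem' := by
    rintro g h ⟨hg1, hg2⟩ ⟨hh1, hh2⟩
    refine ⟨fun x => ?_, fun x hx => ?_⟩
    · have : av (g * h) x - x = (av g (av h x) - av h x) + (av h x - x) := by
        rw [av_mul]; abel
      rw [this]
      exact W.add_mem (hg1 _) (hh1 _)
    · rw [av_mul, hh2 x hx, hg2 x hx]
  inv_mem' := by
    rintro g ⟨hg1, hg2⟩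
    have hfix : ∀ x ∈ W, av g⁻¹ x = x := fun x hx => by
      conv_lhs => rw [← hg2 x hx]
      exact av_inv_av g x
    refine ⟨fun x => ?_, hfix⟩
    have h1 := hg1 (av g⁻¹ x)
    rw [av_av_inv] at h1
    have : av g⁻¹ x - x = -(x - av g⁻¹ x) := by abel
    rw [this]
    exact W.neg_mem h1

theorem mem_qSub (W : Submodule F (Fin n → F)) (g : Matrix.SpecialLinearGroup (Fin n) F) :
    g ∈ qSub W ↔ (∀ x, av g x - x ∈ W) ∧ ∀ x ∈ W, av g x = x := Iff.rfl

theorem og_qSub_pow (W : Submodule F (Fin n → F)) {g : Matrix.SpecialLinearGroup (Fin n) F} (hg : g ∈ qSub W)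
    (k : ℕ) (x : Fin n → F) : av (g ^ k) x = x + k • (av g x - x) := by
  induction k with
  | zero => rw [pow_zero, av_one, zero_smul, add_zero]
  | succ k ih =>
    have h1 : av (g ^ k) (av g x - x) = av g x - x :=
      ((qSub W).pow_mem hg k).2 _ (hg.1 x)
    have h2 : av g x = (av g x - x) + x := by abel
    rw [pow_succ, av_mul]
    conv_lhs => rw [h2, av_add, h1, ih]
    rw [succ_nsmul]
    abel

theorem og_qSub_isPGroup (p : ℕ) [Fact p.Prime] [CharP F p] (W : Submodule F (Fin n → F)) :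
    IsPGroup p ↥(qSub W) := by
  rintro ⟨g, hg⟩
  refine ⟨1, ?_⟩
  apply Subtype.ext
  show g ^ p ^ 1 = 1
  rw [pow_one]
  apply og_ext_av
  intro x
  rw [og_qSub_pow W hg, av_one]
  have : (p : ℕ) • (av g x - x) = 0 := by
    rw [← Nat.cast_smul_eq_nsmul F, CharP.cast_eq_zero, zero_smul]
  rw [this, add_zero]

/-- `qSub W` is normalized by the stabilizer of `W` -/
theorem og_conj_mem_qSub (W : Submodule F (Fin n → F)) (m g : Matrix.SpecialLinearGroup (Fin n) F) (hg : g ∈ qSub W)
    (hm : ∀ x ∈ W, av m x ∈ W) (hm' : ∀ x ∈ W, av m⁻¹ x ∈ W) : m * g * m⁻¹ ∈ qSub W := by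
  obtain ⟨hg1, hg2⟩ := hg
  refine ⟨fun x => ?_, fun x hx => ?_⟩
  · have : av (m * g * m⁻¹) x - x = av m (av g (av m⁻¹ x) - av m⁻¹ x) := by
      rw [av_mul, av_mul, av_sub, av_av_inv]
    rw [this]
    exact hm _ (hg1 _)
  · rw [av_mul, av_mul, hg2 _ (hm' x hx), av_av_inv]

/-- conjugation moves `qSub (span {w})` to `qSub (span {m w})` -/
theorem og_conj_mem_qSub_span (m g : Matrix.SpecialLinearGroup (Fin n) F) (w : Fin n → F)
    (hg : g ∈ qSub (Submodule.span F {w})) : m * g * m⁻¹ ∈ qSub (Submodule.span F {av m w}) := by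
  obtain ⟨hg1, hg2⟩ := hg
  refine ⟨fun x => ?_, fun x hx => ?_⟩
  · have : av (m * g * m⁻¹) x - x = av m (av g (av m⁻¹ x) - av m⁻¹ x) := by
      rw [av_mul, av_mul, av_sub, av_av_inv]
    rw [this]
    obtain ⟨t, ht⟩ := Submodule.mem_span_singleton.mp (hg1 (av m⁻¹ x))
    rw [← ht, av_smul]
    exact Submodule.smul_mem _ _ (Submodule.mem_span_singleton_self _)
  · obtain ⟨t, rfl⟩ := Submodule.mem_span_singleton.mp hx
    rw [av_mul, av_mul, av_smul, av_inv_av,
      hg2 _ (Submodule.smul_mem _ _ (Submodule.mem_span_singleton_self _)), av_smul]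

/-- the transvection `x ↦ x + (c ⬝ᵥ x) w` -/
def tv (w c : Fin n → F) (h : c ⬝ᵥ w = 0) : Matrix.SpecialLinearGroup (Fin n) F :=
  ⟨1 + vecMulVec w c, by
    rw [Matrix.vecMulVec_eq (Fin 1), Matrix.det_one_add_replicateCol_mul_replicateRow, h, add_zero]⟩

theorem av_tv (w c : Fin n → F) (h : c ⬝ᵥ w = 0) (x : Fin n → F) :
    av (tv w c h) x = x + (c ⬝ᵥ x) • w := by
  show (1 + vecMulVec w c) *ᵥ x = _
  rw [Matrix.add_mulVec, Matrix.one_mulVec, Matrix.vecMulVec_mulVec]
  congr 1
  ext i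
  simp [mul_comm]

theorem tv_mem_qSub (W : Submodule F (Fin n → F)) (w c : Fin n → F) (h : c ⬝ᵥ w = 0) (hw : w ∈ W)
    (hc : ∀ x ∈ W, c ⬝ᵥ x = 0) : tv w c h ∈ qSub W := by
  refine ⟨fun x => ?_, fun x hx => ?_⟩
  · rw [av_tv, add_sub_cancel_left]
    exact W.smul_mem _ hw
  · rw [av_tv, hc x hx, zero_smul, add_zero]

/-- a linear functional on `F^n` is a dot product -/
theorem og_exists_vec_of_functional (f : (Fin n → F) →ₗ[F] F) : ∃ c : Fin n → F, ∀ x, f x = c ⬝ᵥ x := by
  refine ⟨fun j => f (Pi.single j 1), fun x => ?_⟩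
  rw [LinearMap.pi_apply_eq_sum_univ f x, dotProduct]
  apply Finset.sum_congr rfl
  intro j _
  rw [smul_eq_mul, mul_comm]
  congr 2
  ext k
  simp [Pi.single_apply, eq_comm]

theorem og_qSub_ne_bot (W : Submodule F (Fin n → F)) (h0 : W ≠ ⊥) (h1 : W ≠ ⊤) : qSub W ≠ ⊥ := by
  obtain ⟨w, hwW, hw0⟩ := Submodule.exists_mem_ne_zero_of_ne_bot h0
  obtain ⟨f, hf0, hWf⟩ := Submodule.exists_le_ker_of_lt_top W (lt_top_iff_ne_top.mpr h1)
  obtain ⟨c, hc⟩ := og_exists_vec_of_functional f
  have hcW : ∀ x ∈ W, c ⬝ᵥ x = 0 := fun x hx => by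
    rw [← hc]; exact LinearMap.mem_ker.mp (hWf hx)
  have hmem := tv_mem_qSub W w c (hcW w hwW) hwW hcW
  intro hbot
  rw [hbot, Subgroup.mem_bot] at hmem
  apply hf0
  apply LinearMap.ext
  intro x
  have h2 : av (tv w c (hcW w hwW)) x = x := by rw [hmem, av_one]
  rw [av_tv] at h2
  have h3 : (c ⬝ᵥ x) • w = 0 := by simpa using h2
  rcases smul_eq_zero.mp h3 with h4 | h4
  · rw [hc, h4]; rfl
  · exact absurd h4 hw0

end linear

section main

variable {n : ℕ} {F : Type*} [Field F]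

/-- a `p`-subgroup of `SL_n(F)` fixes a nonzero vector -/
theorem og_exists_fixed_vector [Finite F] (p : ℕ) [Fact p.Prime] [CharP F p] (hn : 1 ≤ n)
    (P : Subgroup (Matrix.SpecialLinearGroup (Fin n) F)) (hP : IsPGroup p ↥P) :
    ∃ v : Fin n → F, v ≠ 0 ∧ ∀ g ∈ P, av g v = v := by
  have hpF : p ∣ Nat.card F := by
    have := Fintype.ofFinite F
    rw [← CharP.cast_eq_zero_iff F p, Nat.card_eq_fintype_card]
    exact FiniteField.cast_card_eq_zero F
  have hcard : p ∣ Nat.card (Fin n → F) := by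
    rw [Nat.card_fun, Nat.card_fin]
    exact dvd_pow hpF (by omega)
  have h0 : (0 : Fin n → F) ∈ MulAction.fixedPoints ↥P (Fin n → F) := by
    intro g
    exact av_zero g.1
  obtain ⟨b, hb, hne⟩ := hP.exists_fixed_point_of_prime_dvd_card_of_fixed_point (Fin n → F) hcard h0
  exact ⟨b, fun h => hne h.symm, fun g hg => hb ⟨g, hg⟩⟩

variable (M : Subgroup (Matrix.SpecialLinearGroup (Fin n) F))

theorem og_line_zero : qSub (Submodule.span F {(0 : Fin n → F)}) ≤ M := by
  intro g hg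
  have : g = 1 := by
    apply og_ext_av
    intro x
    have h1 := hg.1 x
    rw [Submodule.span_zero_singleton, Submodule.mem_bot, sub_eq_zero] at h1
    rw [h1, av_one]
  rw [this]
  exact M.one_mem

theorem og_line_act {m : Matrix.SpecialLinearGroup (Fin n) F} (hm : m ∈ M) {w : Fin n → F}
    (hw : qSub (Submodule.span F {w}) ≤ M) : qSub (Submodule.span F {av m w}) ≤ M := by
  intro h hh
  have h1 := og_conj_mem_qSub_span m⁻¹ h (av m w) hh
  rw [av_inv_av] at h1
  have h2 := hw h1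
  have h3 : h = m * (m⁻¹ * h * m⁻¹⁻¹) * m⁻¹ := by group
  rw [h3]
  exact M.mul_mem (M.mul_mem hm h2) (M.inv_mem hm)

theorem og_line_smul (t : F) {w : Fin n → F}
    (hw : qSub (Submodule.span F {w}) ≤ M) : qSub (Submodule.span F {t • w}) ≤ M := by
  by_cases ht : t = 0
  · rw [ht, zero_smul]
    exact og_line_zero M
  · rw [Submodule.span_singleton_smul_eq (IsUnit.mk0 t ht) w]
    exact hw

theorem og_line_add {a b : Fin n → F} (ha : qSub (Submodule.span F {a}) ≤ M)
    (hb : qSub (Submodule.span F {b}) ≤ M) : qSub (Submodule.span F {a + b}) ≤ M := by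
  by_cases hab : b ∈ Submodule.span F {a}
  · obtain ⟨t, rfl⟩ := Submodule.mem_span_singleton.mp hab
    have : a + t • a = (1 + t) • a := by rw [add_smul, one_smul]
    rw [this]
    exact og_line_smul M _ ha
  · obtain ⟨f, hfb, hfa⟩ := Submodule.exists_le_ker_of_notMem hab
    obtain ⟨c₀, hc₀⟩ := og_exists_vec_of_functional f
    have hfa0 : f a = 0 := LinearMap.mem_ker.mp (hfa (Submodule.mem_span_singleton_self a))
    have hca : ((f b)⁻¹ • c₀) ⬝ᵥ a = 0 := by
      rw [smul_dotProduct, ← hc₀, hfa0, smul_zero]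
    have hcb : ((f b)⁻¹ • c₀) ⬝ᵥ b = 1 := by
      rw [smul_dotProduct, ← hc₀, smul_eq_mul, inv_mul_cancel₀ hfb]
    have hτ : tv a ((f b)⁻¹ • c₀) hca ∈ qSub (Submodule.span F {a}) := by
      apply tv_mem_qSub _ _ _ _ (Submodule.mem_span_singleton_self a)
      intro x hx
      obtain ⟨s, rfl⟩ := Submodule.mem_span_singleton.mp hx
      rw [dotProduct_smul, hca, smul_zero]
    have h1 := og_line_act M (ha hτ) hb
    rw [av_tv, hcb, one_smul, add_comm] at h1
    exact h1

/-- the set of `w` all of whose transvections with centre `w` lie in `M` -/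
def lineSub : Submodule F (Fin n → F) where
  carrier := {w | qSub (Submodule.span F {w}) ≤ M}
  zero_mem' := og_line_zero M
  add_mem' := fun ha hb => og_line_add M ha hb
  smul_mem' := fun t _ hw => og_line_smul M t hw

theorem mem_lineSub (w : Fin n → F) : w ∈ lineSub M ↔ qSub (Submodule.span F {w}) ≤ M := Iff.rfl

/-- **S2936 for `SL_n(F)`** -/
theorem og_SL [Fintype F] (p : ℕ) [Fact p.Prime] [CharP F p] (hn : 2 ≤ n) :
    OvergroupProp p (Matrix.SpecialLinearGroup (Fin n) F) := by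
  intro M hM hidx
  obtain ⟨P, hPM⟩ := og_exists_sylow_le M hidx
  -- a `P`-invariant subspace `W` has `qSub W ≤ P`
  have K1 : ∀ W : Submodule F (Fin n → F),
      (∀ g ∈ (P : Subgroup (Matrix.SpecialLinearGroup (Fin n) F)), ∀ x ∈ W, av g x ∈ W) →
      qSub W ≤ (P : Subgroup (Matrix.SpecialLinearGroup (Fin n) F)) := by
    intro W hW
    apply og_le_sylow_of_le_normalizer P (qSub W) (og_qSub_isPGroup p W)
    rw [Subgroup.le_normalizer_iff]
    intro g hg k hk
    exact og_conj_mem_qSub W g k hk (hW g hg) (hW g⁻¹ (inv_mem hg))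
  -- `M` is irreducible
  have A : ∀ W : Submodule F (Fin n → F), (∀ m ∈ M, ∀ x ∈ W, av m x ∈ W) → W = ⊥ ∨ W = ⊤ := by
    intro W hW
    by_contra hcon
    rw [not_or] at hcon
    have h1 : qSub W ≤ M := (K1 W (fun g hg => hW g (hPM hg))).trans hPM
    have h2 : qSub W = ⊥ := og_eq_bot_of_le_of_normalized p M (qSub W) hM h1
      (fun m hm x hx => og_conj_mem_qSub W m x hx (hW m hm) (hW m⁻¹ (inv_mem hm))) (og_qSub_isPGroup p W)
    exact og_qSub_ne_bot W hcon.1 hcon.2 h2
  -- a vector fixed by `P`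
  obtain ⟨v, hv0, hv⟩ := og_exists_fixed_vector p (by omega)
    (P : Subgroup (Matrix.SpecialLinearGroup (Fin n) F)) P.isPGroup'
  have hvS : v ∈ lineSub M := by
    rw [mem_lineSub]
    refine (K1 _ ?_).trans hPM
    intro g hg x hx
    obtain ⟨t, rfl⟩ := Submodule.mem_span_singleton.mp hx
    rw [av_smul, hv g hg]
    exact Submodule.smul_mem _ _ (Submodule.mem_span_singleton_self v)
  have hS : lineSub M = ⊤ := by
    rcases A (lineSub M) (fun m hm x hx => og_line_act M hm hx) with h | h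
    · rw [h, Submodule.mem_bot] at hvS
      exact absurd hvS hv0
    · exact h
  -- all elementary transvections lie in `M`
  have : Nontrivial (Fin n) := Fin.nontrivial_iff_two_le.mpr hn
  rw [eq_top_iff, ← Cfsg.Agent.Lib.H2.SL_closure_transvection, Subgroup.closure_le]
  rintro _ ⟨i, j, hij, c, rfl⟩
  have hi : (Pi.single i 1 : Fin n → F) ∈ lineSub M := by rw [hS]; trivial
  rw [mem_lineSub] at hi
  apply hi
  have hc : (Pi.single j c : Fin n → F) ⬝ᵥ (Pi.single i 1 : Fin n → F) = 0 := by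
    rw [single_dotProduct, Pi.single_apply, if_neg hij.symm, mul_zero]
  have heq : Matrix.SpecialLinearGroup.transvection hij c = tv (Pi.single i 1) (Pi.single j c) hc := by
    apply Subtype.ext
    show (1 : Matrix (Fin n) (Fin n) F) + Matrix.single i j c = 1 + vecMulVec (Pi.single i 1) (Pi.single j c)
    congr 1
    ext k l
    simp only [Matrix.single_apply, vecMulVec_apply, Pi.single_apply]
    by_cases hk : i = k <;> by_cases hl : j = l <;> simp [hk, hl, eq_comm]
  rw [heq]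
  apply tv_mem_qSub _ _ _ _ (Submodule.mem_span_singleton_self _)
  intro x hx
  obtain ⟨s, rfl⟩ := Submodule.mem_span_singleton.mp hx
  rw [dotProduct_smul, hc, smul_zero]

end main

/-- **S2936, piece PSL** -/
theorem og_PSL (F : Type*) [Field F] [Fintype F] (p : ℕ) [Fact p.Prime] [CharP F p] (n : ℕ) (hn : 2 ≤ n)
    (h2 : n = 2 → 4 ≤ Fintype.card F) : OvergroupProp p (Matrix.ProjectiveSpecialLinearGroup (Fin n) F) := by
  have hp : p.Prime := Fact.out
  apply OvergroupProp.of_surjective p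
    (QuotientGroup.mk' (Subgroup.center (Matrix.SpecialLinearGroup (Fin n) F)))
    (QuotientGroup.mk'_surjective _) _ (og_SL p hn)
  rw [QuotientGroup.ker_mk', Cfsg.Agent.Lib.H2.card_center_SL n (by omega)]
  have hpF : p ∣ Nat.card F := by
    rw [← CharP.cast_eq_zero_iff F p, Nat.card_eq_fintype_card]
    exact FiniteField.cast_card_eq_zero F
  have hq : 1 ≤ Nat.card F := Nat.card_pos
  have hnd : ¬ p ∣ Nat.card F - 1 := by
    intro h
    have h1 : p ∣ Nat.card F - (Nat.card F - 1) := Nat.dvd_sub hpF h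
    have h3 : Nat.card F - (Nat.card F - 1) = 1 := by omega
    rw [h3] at h1
    exact hp.one_lt.ne' (Nat.dvd_one.mp h1)
  have hc : Nat.Coprime (Nat.card F - 1) p := ((Nat.Prime.coprime_iff_not_dvd hp).mpr hnd).symm
  exact Nat.Coprime.coprime_dvd_left (Nat.gcd_dvd_right n (Nat.card F - 1)) hc

end Cfsg.Agent.Lib.H14.OG
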