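import Mathlib
import Cfsg.Agent.S0547

set_option autoImplicit false

/-!
# S3999 piece P8 SIX (helper14): `5 ∥ |X|` and exactly 24 elements of order 5 force `X` non-solvable

There are then six Sylow 5-subgroups, permuted 2-transitively by `X`; the image of `X` in the symmetric group on
them would be a solvable primitive group of degree 6, which is not a prime power (S0547).
-/

namespace Cfsg.Agent.Lib.H14.OT

universe u

local instance six_fact5 : Fact (Nat.Prime 5) := ⟨Nat.prime_five⟩

section
variable {X : Type u} [Group X] [Finite X]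

/-- the 5-part of the order is 5 -/
theorem six_factorization (h5 : 5 ∣ Nat.card X) (h25 : ¬ 25 ∣ Nat.card X) :
    (Nat.card X).factorization 5 = 1 := by
  have hne : Nat.card X ≠ 0 := Nat.card_pos.ne'
  have h1 : 1 ≤ (Nat.card X).factorization 5 := by
    rw [← Nat.Prime.pow_dvd_iff_le_factorization Nat.prime_five hne]
    simpa using h5
  have h2 : ¬ 2 ≤ (Nat.card X).factorization 5 := by
    rw [← Nat.Prime.pow_dvd_iff_le_factorization Nat.prime_five hne]
    simpa using h25
  omega

theorem six_card_sylow_mem (hf : (Nat.card X).factorization 5 = 1) (P : Sylow 5 X) :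
    Nat.card (P : Subgroup X) = 5 := by
  rw [P.card_eq_multiplicity, hf, pow_one]

theorem six_orderOf_of_mem (hf : (Nat.card X).factorization 5 = 1) (P : Sylow 5 X) {x : X}
    (hx : x ∈ P) (hx1 : x ≠ 1) : orderOf x = 5 := by
  have h1 : orderOf (⟨x, hx⟩ : (P : Subgroup X)) ∣ Nat.card (P : Subgroup X) := orderOf_dvd_natCard _
  rw [six_card_sylow_mem hf P, Subgroup.orderOf_mk] at h1
  rcases (Nat.dvd_prime Nat.prime_five).mp h1 with h | h
  · exact absurd (orderOf_eq_one_iff.mp h) hx1
  · exact h

theorem six_zpowers_eq (hf : (Nat.card X).factorization 5 = 1) (P : Sylow 5 X) {x : X}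
    (hx : x ∈ P) (hx5 : orderOf x = 5) : Subgroup.zpowers x = (P : Subgroup X) := by
  apply Subgroup.eq_of_le_of_card_ge
  · rw [Subgroup.zpowers_le]; exact hx
  · rw [six_card_sylow_mem hf P, Nat.card_zpowers, hx5]

/-- there are six Sylow 5-subgroups -/
theorem six_card_sylow (h5 : 5 ∣ Nat.card X) (h25 : ¬ 25 ∣ Nat.card X)
    (h24 : Nat.card {x : X // orderOf x = 5} = 24) : Nat.card (Sylow 5 X) = 6 := by
  classical
  have := Fintype.ofFinite X
  have : Fintype (Sylow 5 X) := Fintype.ofFinite _
  have hf := six_factorization h5 h25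
  set T : Finset X := Finset.univ.filter (fun x => orderOf x = 5) with hT
  have hTcard : T.card = 24 := by
    rw [← h24, Nat.card_eq_fintype_card, Fintype.card_subtype]
  have key := Finset.sum_card_bipartiteAbove_eq_sum_card_bipartiteBelow
    (s := (Finset.univ : Finset (Sylow 5 X))) (t := T) (fun P x => x ∈ P)
  have h1 : ∀ P ∈ (Finset.univ : Finset (Sylow 5 X)),
      (T.bipartiteAbove (fun P x => x ∈ P) P).card = 4 := by
    intro P _
    have e : T.bipartiteAbove (fun P x => x ∈ P) P =
        (Finset.univ.filter (fun x : X => x ∈ (P : Subgroup X))).erase 1 := by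
      ext x
      simp only [Finset.bipartiteAbove, Finset.mem_filter, Finset.mem_erase, Finset.mem_univ, true_and, hT]
      constructor
      · rintro ⟨h5', hxP⟩
        refine ⟨?_, hxP⟩
        rintro rfl
        rw [orderOf_one] at h5'
        omega
      · rintro ⟨hx1, hxP⟩
        exact ⟨six_orderOf_of_mem hf P hxP hx1, hxP⟩
    rw [e, Finset.card_erase_of_mem (by simp [one_mem]), ← Fintype.card_subtype]
    have : Fintype.card {x : X // x ∈ (P : Subgroup X)} = 5 := by
      rw [← Nat.card_eq_fintype_card]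
      exact six_card_sylow_mem hf P
    rw [this]
  have h2 : ∀ x ∈ T, ((Finset.univ : Finset (Sylow 5 X)).bipartiteBelow (fun P x => x ∈ P) x).card = 1 := by
    intro x hx
    rw [hT, Finset.mem_filter] at hx
    have hx5 := hx.2
    rw [Finset.card_eq_one]
    have hc : Nat.card (Subgroup.zpowers x) = 5 ^ (Nat.card X).factorization 5 := by
      rw [hf, pow_one, Nat.card_zpowers, hx5]
    refine ⟨Sylow.ofCard (Subgroup.zpowers x) hc, ?_⟩
    ext P
    simp only [Finset.bipartiteBelow, Finset.mem_filter, Finset.mem_univ, true_and, Finset.mem_singleton]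
    constructor
    · intro hxP
      apply Sylow.ext
      rw [Sylow.coe_ofCard]
      exact (six_zpowers_eq hf P hxP hx5).symm
    · rintro rfl
      change x ∈ ((Sylow.ofCard (Subgroup.zpowers x) hc : Sylow 5 X) : Subgroup X)
      rw [Sylow.coe_ofCard]
      exact Subgroup.mem_zpowers x
  rw [Finset.sum_congr rfl h1, Finset.sum_congr rfl h2, Finset.sum_const, Finset.sum_const,
    smul_eq_mul, smul_eq_mul, mul_one, hTcard, Finset.card_univ] at key
  rw [Nat.card_eq_fintype_card]
  omega

/-- a Sylow 5-subgroup is transitive on the other five -/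
theorem six_exists_smul (hf : (Nat.card X).factorization 5 = 1) (h6 : Nat.card (Sylow 5 X) = 6)
    (R A B : Sylow 5 X) (hA : A ≠ R) (hB : B ≠ R) :
    ∃ r : X, r • A = B ∧ r • R = R := by
  classical
  have hfix : ∀ r : X, r ∈ (R : Subgroup X) → r • R = R := fun r hr =>
    Sylow.smul_eq_iff_mem_normalizer.mpr (Subgroup.le_normalizer hr)
  -- the orbit of `A` under `R`
  set O : Set (Sylow 5 X) := MulAction.orbit (↥(R : Subgroup X)) A with hO
  have hidx : (MulAction.stabilizer (↥(R : Subgroup X)) A).index = O.ncard :=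
    MulAction.index_stabilizer (↥(R : Subgroup X)) A
  have hdvd : O.ncard ∣ 5 := by
    have h := Subgroup.index_dvd_card (MulAction.stabilizer (↥(R : Subgroup X)) A)
    rw [six_card_sylow_mem hf R, hidx] at h
    exact h
  have hne1 : O.ncard ≠ 1 := by
    intro h1
    rw [← hidx, Subgroup.index_eq_one] at h1
    apply hA
    have hRN : (R : Subgroup X) ≤ Subgroup.normalizer ((A : Subgroup X) : Set X) := by
      intro r hr
      have : (⟨r, hr⟩ : (R : Subgroup X)) ∈ MulAction.stabilizer (↥(R : Subgroup X)) A := by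
        rw [h1]; trivial
      rw [MulAction.mem_stabilizer_iff] at this
      exact Sylow.smul_eq_iff_mem_normalizer.mp this
    have hp : IsPGroup 5 ((R : Subgroup X) ⊔ (A : Subgroup X) : Subgroup X) :=
      IsPGroup.to_sup_of_normal_right' R.isPGroup' A.isPGroup' hRN
    have hmax : (R : Subgroup X) ⊔ (A : Subgroup X) = (A : Subgroup X) := A.is_maximal' hp le_sup_right
    have hRA : (R : Subgroup X) ≤ (A : Subgroup X) := by
      rw [← hmax]; exact le_sup_left
    symm
    apply Sylow.ext
    apply Subgroup.eq_of_le_of_card_ge hRA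
    rw [six_card_sylow_mem hf R, six_card_sylow_mem hf A]
  have h5 : O.ncard = 5 := by
    rcases (Nat.dvd_prime Nat.prime_five).mp hdvd with h | h
    · exact absurd h hne1
    · exact h
  have hsub : O ⊆ ({R} : Set (Sylow 5 X))ᶜ := by
    rintro Q ⟨r, rfl⟩ hQ
    rw [Set.mem_singleton_iff] at hQ
    apply hA
    have h1 : (r : X) • A = R := hQ
    have h2 : ((r : X)⁻¹) • R = R := hfix _ (inv_mem r.2)
    calc A = ((r : X)⁻¹) • ((r : X) • A) := by rw [inv_smul_smul]
      _ = R := by rw [h1, h2]
  have hcompl : (({R} : Set (Sylow 5 X))ᶜ).ncard = 5 := by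
    rw [Set.ncard_compl, h6, Set.ncard_singleton]
  have hOeq : O = ({R} : Set (Sylow 5 X))ᶜ :=
    Set.eq_of_subset_of_ncard_le hsub (by rw [hcompl, h5])
  have hBO : B ∈ O := by
    rw [hOeq]
    simpa using hB
  obtain ⟨r, hr⟩ := hBO
  exact ⟨(r : X), hr, hfix _ r.2⟩

/-- the action on the six Sylow 5-subgroups is 2-transitive -/
theorem six_two_trans (hf : (Nat.card X).factorization 5 = 1) (h6 : Nat.card (Sylow 5 X) = 6)
    {a b c d : Sylow 5 X} (hab : a ≠ b) (hcd : c ≠ d) : ∃ g : X, g • a = c ∧ g • b = d := by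
  obtain ⟨g, hg⟩ := MulAction.exists_smul_eq X a c
  have hb' : g • b ≠ c := by
    intro h
    apply hab
    rw [← hg] at h
    exact (MulAction.injective g h).symm
  obtain ⟨r, hr1, hr2⟩ := six_exists_smul hf h6 c (g • b) d hb' (Ne.symm hcd)
  refine ⟨r * g, ?_, ?_⟩
  · rw [mul_smul, hg, hr2]
  · rw [mul_smul, hr1]

theorem not_solvable_of_24 (h5 : 5 ∣ Nat.card X)
    (h25 : ¬ 25 ∣ Nat.card X) (h24 : Nat.card {x : X // orderOf x = 5} = 24) :
    ¬ Group.IsSolvable X := by
  intro hsol
  classical
  have hf := six_factorization h5 h25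
  have h6 := six_card_sylow h5 h25 h24
  set φ : X →* Equiv.Perm (Sylow 5 X) := MulAction.toPermHom X (Sylow 5 X) with hφ
  haveI : Group.IsSolvable φ.range :=
    Group.isSolvable_of_surjective (f := φ.rangeRestrict) φ.rangeRestrict_surjective
  have h2 : MulAction.IsMultiplyPretransitive φ.range (Sylow 5 X) 2 := by
    rw [MulAction.is_two_pretransitive_iff]
    intro a b c d hab hcd
    obtain ⟨g, hg1, hg2⟩ := six_two_trans hf h6 hab hcd
    exact ⟨⟨φ g, ⟨g, rfl⟩⟩, hg1, hg2⟩
  have hprim : MulAction.IsPreprimitive φ.range (Sylow 5 X) :=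
    MulAction.isPreprimitive_of_is_two_pretransitive h2
  haveI : Nonempty (Sylow 5 X) := inferInstance
  haveI : Nontrivial φ.range := by
    have hnt : Nontrivial (Sylow 5 X) := by
      rw [← Finite.one_lt_card_iff_nontrivial, h6]; norm_num
    obtain ⟨a, b, hab⟩ := hnt
    obtain ⟨g, hg⟩ := MulAction.exists_smul_eq X a b
    refine ⟨⟨⟨φ g, ⟨g, rfl⟩⟩, 1, ?_⟩⟩
    intro h
    apply hab
    have : (⟨φ g, ⟨g, rfl⟩⟩ : φ.range) • a = (1 : φ.range) • a := by rw [h]
    rw [one_smul] at this
    rw [← hg]
    exact this.symm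
  obtain ⟨M, ⟨hMn, hMne⟩, hmin⟩ := wellFounded_lt.has_min
    {U : Subgroup φ.range | U.Normal ∧ U ≠ ⊥} ⟨⊤, inferInstance, top_ne_bot⟩
  haveI := hMn
  obtain ⟨-, -, p, d, hp, hd, hcard, -⟩ := Cfsg.Agent.S0547.result hprim M hMne (by
    intro K hK hKM
    by_cases hKb : K = ⊥
    · exact Or.inl hKb
    · right
      by_contra hne
      exact hmin K ⟨hK, hKb⟩ (lt_of_le_of_ne hKM hne))
  rw [h6] at hcard
  -- 6 is not a prime power
  have hp6 : p ∣ 2 * 3 := by
    have : p ∣ p ^ d := dvd_pow_self p hd.ne'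
    rw [← hcard] at this
    exact this
  rcases (Nat.Prime.dvd_mul hp).mp hp6 with h | h
  · have hp2 : p = 2 := (Nat.prime_dvd_prime_iff_eq hp Nat.prime_two).mp h
    subst hp2
    have hd3 : d < 3 := by
      by_contra hcon
      have : 2 ^ 3 ≤ 2 ^ d := Nat.pow_le_pow_right (by norm_num) (by omega)
      omega
    interval_cases d <;> omega
  · have hp3 : p = 3 := (Nat.prime_dvd_prime_iff_eq hp Nat.prime_three).mp h
    subst hp3
    have hd2 : d < 2 := by
      by_contra hcon
      have : 3 ^ 2 ≤ 3 ^ d := Nat.pow_le_pow_right (by norm_num) (by omega)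
      omega
    interval_cases d <;> omega

end

end Cfsg.Agent.Lib.H14.OT
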