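import Mathlib
import Cfsg.Prelude.Def_Characters
import Cfsg.Prelude.Def_Blocks
import Cfsg.Agent.Lib.H24.CharOrth
import Cfsg.Agent.Lib.H23.DegreeDvd

/-!
# Odd degrees and real elements

If every irreducible character of the finite group `G` has odd degree and `u ≠ 1` is a real element
(conjugate to its inverse), then `|C_G(u)|` is even.

Proof (column orthogonality only): `χ(u)` is real for every `χ`, so
`|C_G(u)| = ∑ χ(u)²`; `∑ χ(1) χ(u) = 0` and `χ(1)` odd give `∑ χ(u) ∈ 2𝒪`; finally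
`∑ χ(u)² ≡ (∑ χ(u))² mod 2𝒪`.
-/

set_option autoImplicit false

namespace Cfsg.Agent.Lib.H14.OddDegReal

open scoped ComplexConjugate
open Cfsg

/-- `(∑ x)² = ∑ x² + 2 w` with `w` integral when all `x i` are integral. -/
theorem sq_sum_eq {ι : Type*} (s : Finset ι) (x : ι → ℂ) (hx : ∀ i ∈ s, IsIntegral ℤ (x i)) :
    ∃ w : ℂ, IsIntegral ℤ w ∧ (∑ i ∈ s, x i) ^ 2 = ∑ i ∈ s, (x i) ^ 2 + 2 * w := by
  classical
  induction s using Finset.induction_on with
  | empty => exact ⟨0, isIntegral_zero, by simp⟩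
  | insert a s ha ih =>
    obtain ⟨w, hw, hsq⟩ := ih (fun i hi => hx i (Finset.mem_insert_of_mem hi))
    have hxa : IsIntegral ℤ (x a) := hx a (Finset.mem_insert_self a s)
    have hS : IsIntegral ℤ (∑ i ∈ s, x i) :=
      IsIntegral.sum (R := ℤ) x (fun i hi => hx i (Finset.mem_insert_of_mem hi))
    refine ⟨w + x a * ∑ i ∈ s, x i, hw.add (hxa.mul hS), ?_⟩
    rw [Finset.sum_insert ha, Finset.sum_insert ha]
    linear_combination hsq

/-- If all irreducible characters have odd degree and `u ≠ 1` is real, then `|C_G(u)|` is even. -/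
theorem even_card_centralizer_of_real {G : Type*} [Group G] [Finite G]
    (hodd : ∀ χ : IrrCharacter G, Odd (charDegree (χ : G → ℂ)))
    (u : G) (hu1 : u ≠ 1) (hreal : IsConj u u⁻¹) :
    Even (Nat.card (Subgroup.centralizer ({u} : Set G))) := by
  classical
  have : Fintype (IrrCharacter G) := Fintype.ofFinite _
  have : Fintype G := Fintype.ofFinite G
  have hnat : ∀ k : ℕ, IsIntegral ℤ (k : ℂ) := fun k => by
    have := isIntegral_algebraMap (R := ℤ) (A := ℂ) (x := (k : ℤ))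
    simpa using this
  -- values at `u` are real and integral
  have hre : ∀ χ : IrrCharacter G, conj ((χ : G → ℂ) u) = (χ : G → ℂ) u := by
    intro χ
    rw [← Cfsg.Agent.Lib.H24.irr_inv χ u]
    exact (Cfsg.Agent.Lib.H24.isClassFunction_eq_of_isConj
      (Cfsg.Agent.Lib.H24.isClassFunction_irr χ) hreal).symm
  have hint : ∀ χ : IrrCharacter G, IsIntegral ℤ ((χ : G → ℂ) u) := fun χ =>
    Cfsg.Agent.Lib.L0.isCharacter_isIntegral (Cfsg.Agent.Lib.L0.isCharacter_of_irr χ.2) u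
  -- degrees
  have hdeg : ∀ χ : IrrCharacter G, ∃ m : ℕ, (χ : G → ℂ) 1 = 2 * (m : ℂ) + 1 := by
    intro χ
    obtain ⟨n, _, hn⟩ := Cfsg.Agent.Lib.H24.irr_one_eq χ
    have h1 : charDegree (χ : G → ℂ) = n := Cfsg.Agent.Lib.H23.charDegree_eq_of_apply_one hn
    obtain ⟨m, hm⟩ := hodd χ
    refine ⟨m, ?_⟩
    rw [hn, ← h1, hm]
    push_cast
    ring
  choose m hm using hdeg
  -- first relation: `∑ χ(1) χ(u) = 0`
  have hnc : ¬ IsConj u 1 := by
    intro h
    exact hu1 (isConj_one_left.mp h)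
  have h1 := Cfsg.Agent.Lib.H24.second_orthogonality (G := G) u 1
  rw [if_neg hnc] at h1
  have h1' : ∑ χ : IrrCharacter G, (χ : G → ℂ) u * (2 * (m χ : ℂ) + 1) = 0 := by
    rw [← h1]
    refine Finset.sum_congr rfl (fun χ _ => ?_)
    rw [hm χ, map_add, map_mul, map_one, Complex.conj_natCast, Complex.conj_ofNat]
  -- so `∑ χ(u) = 2 y`
  set y : ℂ := -∑ χ : IrrCharacter G, (m χ : ℂ) * (χ : G → ℂ) u with hy
  have hyint : IsIntegral ℤ y := by
    rw [hy]
    refine IsIntegral.neg (IsIntegral.sum (R := ℤ) _ (fun χ _ => ?_))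
    exact (hnat (m χ)).mul (hint χ)
  have hS : ∑ χ : IrrCharacter G, (χ : G → ℂ) u = 2 * y := by
    have : ∑ χ : IrrCharacter G, (χ : G → ℂ) u * (2 * (m χ : ℂ) + 1) =
        2 * ∑ χ : IrrCharacter G, (m χ : ℂ) * (χ : G → ℂ) u + ∑ χ : IrrCharacter G, (χ : G → ℂ) u := by
      rw [Finset.mul_sum, ← Finset.sum_add_distrib]
      refine Finset.sum_congr rfl (fun χ _ => ?_)
      ring
    rw [this] at h1'
    rw [hy]
    linear_combination h1'
  -- second relation: `∑ χ(u)² = |C(u)|`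
  have h2 := Cfsg.Agent.Lib.H24.second_orthogonality (G := G) u u
  rw [if_pos (IsConj.refl u)] at h2
  have h2' : ∑ χ : IrrCharacter G, ((χ : G → ℂ) u) ^ 2 =
      (Nat.card (Subgroup.centralizer ({u} : Set G)) : ℂ) := by
    rw [← h2]
    refine Finset.sum_congr rfl (fun χ _ => ?_)
    rw [hre χ, sq]
  obtain ⟨w, hw, hsq⟩ := sq_sum_eq Finset.univ (fun χ : IrrCharacter G => (χ : G → ℂ) u)
    (fun χ _ => hint χ)
  rw [hS, h2'] at hsq
  -- `|C(u)| = 2 (2 y² - w)`
  set v : ℂ := 2 * y ^ 2 - w with hv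
  have hvint : IsIntegral ℤ v := by
    rw [hv]
    have h2i : IsIntegral ℤ (2 : ℂ) := by simpa using hnat 2
    exact (h2i.mul (hyint.pow 2)).sub hw
  have hc : (Nat.card (Subgroup.centralizer ({u} : Set G)) : ℂ) = 2 * v := by
    rw [hv]; linear_combination -hsq
  set c := Nat.card (Subgroup.centralizer ({u} : Set G)) with hcdef
  have hvq : v = ((c : ℚ) / 2 : ℚ) := by
    have : v = (c : ℂ) / 2 := by rw [hc]; ring
    rw [this]; push_cast; ring
  obtain ⟨n, hn⟩ : ∃ n : ℤ, v = n := by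
    rw [hvq] at hvint
    have h2 : IsIntegral ℤ ((c : ℚ) / 2 : ℚ) :=
      (isIntegral_algebraMap_iff (algebraMap ℚ ℂ).injective).mp hvint
    obtain ⟨n, hn⟩ := IsIntegrallyClosed.isIntegral_iff.mp h2
    exact ⟨n, by rw [hvq, ← hn]; simp⟩
  have hcn : (c : ℤ) = 2 * n := by
    have : (c : ℂ) = 2 * (n : ℂ) := by rw [hc, hn]
    exact_mod_cast this
  rw [← Int.even_coe_nat, hcn]
  exact even_two_mul n

end Cfsg.Agent.Lib.H14.OddDegReal
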