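import Mathlib
import Cfsg.Agent.Lib.H1.CoprimeSylow
import Cfsg.Agent.Lib.H1.PCore
import Cfsg.Agent.Lib.H22.PPrimeCore

set_option autoImplicit false

namespace Cfsg.Agent.Lib.H14.OddInv

open Subgroup Cfsg.Agent.Lib.H1

variable {G : Type*} [Group G]

/-- orbit–stabilizer for a subgroup acting by conjugation on an element -/
theorem card_conjSet_mul [Finite G] (K : Subgroup G) (d : G) :
    Nat.card {x : G | ∃ k ∈ K, x = k * d * k⁻¹} *
      Nat.card (K ⊓ Subgroup.centralizer ({d} : Set G) : Subgroup G) = Nat.card K := by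
  let _ : MulAction K G := MulAction.compHom G ((MulAut.conj : G →* MulAut G).comp K.subtype)
  have hsmul : ∀ (k : K) (x : G), k • x = (k : G) * x * (k : G)⁻¹ := fun k x => rfl
  have h1 := Nat.card_congr (MulAction.orbitProdStabilizerEquivGroup K d)
  rw [Nat.card_prod] at h1
  have h2 : MulAction.orbit K d = {x : G | ∃ k ∈ K, x = k * d * k⁻¹} := by
    ext x
    constructor
    · rintro ⟨k, rfl⟩
      exact ⟨k, k.2, hsmul k d⟩
    · rintro ⟨k, hk, rfl⟩
      exact ⟨⟨k, hk⟩, hsmul _ _⟩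
  have h3 : Nat.card (MulAction.stabilizer K d) =
      Nat.card (K ⊓ Subgroup.centralizer ({d} : Set G) : Subgroup G) := by
    have e : MulAction.stabilizer K d = (K ⊓ Subgroup.centralizer ({d} : Set G)).subgroupOf K := by
      ext k
      rw [MulAction.mem_stabilizer_iff, hsmul, Subgroup.mem_subgroupOf, Subgroup.mem_inf,
        Subgroup.mem_centralizer_singleton_iff]
      constructor
      · intro h
        refine ⟨k.2, ?_⟩
        calc (k : G) * d = (k : G) * d * (k : G)⁻¹ * k := by group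
          _ = d * k := by rw [h]
      · rintro ⟨_, h⟩
        rw [h]; group
    rw [e]
    exact Nat.card_congr (Subgroup.subgroupOfEquivOfLe inf_le_left).toEquiv
  rw [← h2, ← h3]; exact h1

/-- The subgroup generated by the commutators `d g d⁻¹ g⁻¹` is normal. -/
theorem commClosure_normal (d : G) :
    (Subgroup.closure (Set.range fun g : G => d * g * d⁻¹ * g⁻¹)).Normal := by
  constructor
  intro n hn h
  induction hn using Subgroup.closure_induction with
  | mem x hx =>
    obtain ⟨g, rfl⟩ := hx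
    have : h * (d * g * d⁻¹ * g⁻¹) * h⁻¹ =
        (d * h * d⁻¹ * h⁻¹)⁻¹ * (d * (h * g) * d⁻¹ * (h * g)⁻¹) := by group
    rw [this]
    exact Subgroup.mul_mem _ (Subgroup.inv_mem _ (Subgroup.subset_closure ⟨h, rfl⟩))
      (Subgroup.subset_closure ⟨h * g, rfl⟩)
  | one => simp
  | mul a b _ _ ha hb =>
    have : h * (a * b) * h⁻¹ = (h * a * h⁻¹) * (h * b * h⁻¹) := by group
    rw [this]; exact Subgroup.mul_mem _ ha hb
  | inv a _ ha =>
    have : h * a⁻¹ * h⁻¹ = (h * a * h⁻¹)⁻¹ := by group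
    rw [this]; exact Subgroup.inv_mem _ ha

/-- Main lemma: an involution `d`, all of whose commutators `[d,g]` are `p`-elements lying in
a normal subgroup `K` of odd order: the commutators lie in `O_p(G)`. -/
theorem comm_mem_pCore [Finite G] {p : ℕ} (hp : p.Prime) (d : G) (hd : orderOf d = 2)
    (K : Subgroup G) [hKn : K.Normal] (hKodd : (Nat.card K).Coprime 2)
    (hZ : ∀ g : G, d * g * d⁻¹ * g⁻¹ ∈ K)
    (hpow : ∀ g : G, ∃ k : ℕ, orderOf (d * g * d⁻¹ * g⁻¹) = p ^ k) :
    ∀ g : G, d * g * d⁻¹ * g⁻¹ ∈ Cfsg.pCore p G := by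
  have : Fact p.Prime := ⟨hp⟩
  have hdd : d * d = 1 := by rw [← sq, ← hd]; exact pow_orderOf_eq_one d
  have hdinv : d⁻¹ = d := inv_eq_of_mul_eq_one_left hdd
  have hcardA : Nat.card (Subgroup.zpowers d) = 2 := by rw [Nat.card_zpowers, hd]
  have hcop : CoprimeAction (Subgroup.zpowers d) K :=
    { normalizes := by rw [Subgroup.normalizer_eq_top]; exact le_top
      coprime := by rw [hcardA]; exact hKodd.symm
      solvable := Or.inl inferInstance }
  -- the centralizer of `d` in `K`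
  set C : Subgroup G := K ⊓ Subgroup.centralizer ({d} : Set G) with hC
  -- Sylow q-subgroups for q ≠ p centralized by d
  have hq : ∀ q : ℕ, q.Prime → q ≠ p → ∃ Q : Subgroup G, IsSylowOf q K Q ∧ Q ≤ C := by
    intro q hqp hne
    have : Fact q.Prime := ⟨hqp⟩
    obtain ⟨Q, hQ, hQA⟩ := coprime_exists_invariant_sylow hcop q
    refine ⟨Q, hQ, le_inf hQ.le ?_⟩
    intro y hy
    rw [Subgroup.mem_centralizer_singleton_iff]
    have hdn : d ∈ Subgroup.normalizer (Q : Set G) := hQA (Subgroup.mem_zpowers d)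
    have hz : d * y⁻¹ * d⁻¹ * y⁻¹⁻¹ ∈ Q :=
      Subgroup.mul_mem _ ((Subgroup.mem_normalizer_iff.mp hdn _).mp (Subgroup.inv_mem _ hy))
        (Subgroup.inv_mem _ (Subgroup.inv_mem _ hy))
    obtain ⟨k, hk⟩ := hpow y⁻¹
    obtain ⟨j, hj⟩ := (IsPGroup.iff_orderOf.mp hQ.isPGroup) ⟨_, hz⟩
    rw [Subgroup.orderOf_mk] at hj
    have hk0 : k = 0 := by
      by_contra hk0
      have h1 : p ∣ q ^ j := by
        rw [← hj, hk]; exact dvd_pow_self p hk0
      have h2 : p ∣ q := hp.dvd_of_dvd_pow h1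
      exact hne ((Nat.prime_dvd_prime_iff_eq hp hqp).mp h2).symm
    rw [hk0, pow_zero, orderOf_eq_one_iff] at hk
    have : d * y⁻¹ * d⁻¹ = y⁻¹ := by
      have := congrArg (· * y⁻¹) hk
      simpa using this
    have h3 : d * y * d⁻¹ = y := by
      have := congrArg (·⁻¹) this
      simpa [mul_assoc] using this
    calc y * d = (d * y * d⁻¹) * d := by rw [h3]
      _ = d * y := by group
  -- arithmetic: |K| = |C| * p^e
  have hCK : C ≤ K := inf_le_left
  have hnK0 : Nat.card K ≠ 0 := Nat.card_pos.ne'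
  have hnC0 : Nat.card C ≠ 0 := Nat.card_pos.ne'
  obtain ⟨m, hm⟩ := Subgroup.card_dvd_of_le hCK
  have hm0 : m ≠ 0 := by rintro rfl; rw [mul_zero] at hm; exact hnK0 hm
  have hmp : ∀ {q : ℕ}, q.Prime → q ∣ m → q = p := by
    intro q hqp hqm
    by_contra hne
    obtain ⟨Q, hQ, hQC⟩ := hq q hqp hne
    have h1 : q ^ ((Nat.card K).factorization q) ∣ Nat.card C := by
      rw [← hQ.card_eq]; exact Subgroup.card_dvd_of_le hQC
    have h2 : q ^ ((Nat.card K).factorization q + 1) ∣ Nat.card K := by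
      rw [pow_succ]
      calc q ^ (Nat.card K).factorization q * q ∣ Nat.card C * m := Nat.mul_dvd_mul h1 hqm
        _ = Nat.card K := hm.symm
    exact Nat.pow_succ_factorization_not_dvd hnK0 hqp h2
  have hme : m = p ^ m.primeFactorsList.length := Nat.eq_prime_pow_of_unique_prime_dvd hm0 hmp
  set e := m.primeFactorsList.length with he
  -- invariant Sylow p-subgroup
  obtain ⟨P, hP, hPA⟩ := coprime_exists_invariant_sylow hcop p
  have hdn : d ∈ Subgroup.normalizer (P : Set G) := hPA (Subgroup.mem_zpowers d)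
  set a := (Nat.card K).factorization p with ha
  have hPcard : Nat.card P = p ^ a := hP.card_eq
  set CP : Subgroup G := P ⊓ Subgroup.centralizer ({d} : Set G) with hCP
  have hCPC : CP ≤ C := inf_le_inf_right _ hP.le
  obtain ⟨c, hca, hc⟩ : ∃ c ≤ a, Nat.card CP = p ^ c := by
    have : Nat.card CP ∣ p ^ a := by rw [← hPcard]; exact Subgroup.card_dvd_of_le inf_le_left
    exact (Nat.dvd_prime_pow hp).mp this
  have hcb : c ≤ (Nat.card C).factorization p := by
    rw [← Nat.Prime.pow_dvd_iff_le_factorization hp hnC0, ← hc]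
    exact Subgroup.card_dvd_of_le hCPC
  have hab : a = (Nat.card C).factorization p + e := by
    rw [ha, hm, hme, Nat.factorization_mul hnC0 (pow_ne_zero _ hp.ne_zero)]
    simp [hp.factorization_pow]
  -- the two conjugacy sets
  have hXK := card_conjSet_mul K d
  have hXP := card_conjSet_mul P d
  rw [← hC] at hXK
  rw [← hCP, hc, hPcard] at hXP
  have hXKcard : Nat.card {x : G | ∃ k ∈ K, x = k * d * k⁻¹} = p ^ e := by
    have : Nat.card {x : G | ∃ k ∈ K, x = k * d * k⁻¹} * Nat.card C = p ^ e * Nat.card C := by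
      rw [hXK, hm, ← hme, mul_comm]
    exact Nat.eq_of_mul_eq_mul_right (Nat.pos_of_ne_zero hnC0) this
  have hXPcard : Nat.card {x : G | ∃ k ∈ P, x = k * d * k⁻¹} = p ^ (a - c) := by
    have : Nat.card {x : G | ∃ k ∈ P, x = k * d * k⁻¹} * p ^ c = p ^ (a - c) * p ^ c := by
      rw [hXP, ← pow_add, Nat.sub_add_cancel hca]
    exact Nat.eq_of_mul_eq_mul_right (pow_pos hp.pos c) this
  have hsub : {x : G | ∃ k ∈ P, x = k * d * k⁻¹} ⊆ {x : G | ∃ k ∈ K, x = k * d * k⁻¹} := by
    rintro x ⟨k, hk, rfl⟩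
    exact ⟨k, hP.le hk, rfl⟩
  have heq : {x : G | ∃ k ∈ P, x = k * d * k⁻¹} = {x : G | ∃ k ∈ K, x = k * d * k⁻¹} := by
    apply Set.eq_of_subset_of_ncard_le hsub _ (Set.toFinite _)
    rw [← Nat.card_coe_set_eq, ← Nat.card_coe_set_eq, hXKcard, hXPcard]
    apply Nat.pow_le_pow_right hp.pos
    omega
  -- commutators with elements of K lie in P
  have hKP : ∀ k ∈ K, k * d * k⁻¹ * d⁻¹ ∈ P := by
    intro k hk
    have : k * d * k⁻¹ ∈ {x : G | ∃ k ∈ P, x = k * d * k⁻¹} := by
      rw [heq]; exact ⟨k, hk, rfl⟩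
    obtain ⟨k', hk', hkk⟩ := this
    rw [hkk]
    have h1 : d * k'⁻¹ * d⁻¹ ∈ P :=
      (Subgroup.mem_normalizer_iff.mp hdn _).mp (Subgroup.inv_mem _ hk')
    have : k' * d * k'⁻¹ * d⁻¹ = k' * (d * k'⁻¹ * d⁻¹) := by group
    rw [this]; exact Subgroup.mul_mem _ hk' h1
  -- every commutator lies in P
  have hgP : ∀ g : G, d * g * d⁻¹ * g⁻¹ ∈ P := by
    intro g
    set x := d * g * d⁻¹ * g⁻¹ with hx
    have hxK : x ∈ K := hZ g
    have hinv : d * x * d⁻¹ = x⁻¹ := by
      rw [hx]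
      simp only [hdinv, mul_inv_rev, inv_inv]
      rw [show d * (d * g * d * g⁻¹) * d = (d * d) * (g * d * g⁻¹ * d) by group, hdd, one_mul]
      group
    have hodd : Odd (orderOf x) := by
      have h1 : orderOf x ∣ Nat.card K := by
        have := orderOf_dvd_natCard (⟨x, hxK⟩ : K)
        rwa [Subgroup.orderOf_mk] at this
      exact (Nat.Coprime.coprime_dvd_left h1 hKodd).odd_of_right
    obtain ⟨t, ht⟩ := hodd
    have hkey := hKP (x ^ t) (Subgroup.pow_mem _ hxK t)
    have h0 : d * x⁻¹ * d⁻¹ = x := by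
      have : d * x⁻¹ * d⁻¹ = (d * x * d⁻¹)⁻¹ := by group
      rw [this, hinv, inv_inv]
    have h1 : d * (x ^ t)⁻¹ * d⁻¹ = x ^ t := by
      rw [← inv_pow, ← conj_pow, h0]
    have h2 : x ^ t * d * (x ^ t)⁻¹ * d⁻¹ = x⁻¹ := by
      have : x ^ t * d * (x ^ t)⁻¹ * d⁻¹ = x ^ t * (d * (x ^ t)⁻¹ * d⁻¹) := by group
      rw [this, h1, ← pow_add]
      have h3 : x ^ (t + t) * x = 1 := by
        rw [← pow_succ, show t + t + 1 = orderOf x by omega]
        exact pow_orderOf_eq_one x
      exact eq_inv_of_mul_eq_one_left h3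
    rw [h2] at hkey
    exact (Subgroup.inv_mem_iff _).mp hkey
  -- conclusion
  intro g
  have hN := commClosure_normal d
  have hNP : Subgroup.closure (Set.range fun g : G => d * g * d⁻¹ * g⁻¹) ≤ P := by
    rw [Subgroup.closure_le]
    rintro _ ⟨g, rfl⟩
    exact hgP g
  exact le_pCore hN (hP.isPGroup.to_le hNP) (Subgroup.subset_closure ⟨g, rfl⟩)

end Cfsg.Agent.Lib.H14.OddInv
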