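import Mathlib

set_option autoImplicit false

/-! # Seven by seven matrices over `ZMod 3` as lists of lists of natural numbers -/

namespace Cfsg.Agent.Lib.H14.PG7Mat

open Matrix

/-- list matrices -/
abbrev LM : Type := List (List ℕ)

/-- the entry -/
def ent (L : LM) (i j : ℕ) : ℕ := (L.getD i []).getD j 0

/-- the list matrix of a function -/
def mkL (f : ℕ → ℕ → ℕ) : LM := (List.range 7).map fun i => (List.range 7).map fun j => f i j

/-- the matrix of a list matrix -/
def toM (L : LM) : Matrix (Fin 7) (Fin 7) (ZMod 3) := fun i j => ((ent L i.val j.val : ℕ) : ZMod 3)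

theorem ent_mkL (f : ℕ → ℕ → ℕ) (i j : ℕ) (hi : i < 7) (hj : j < 7) : ent (mkL f) i j = f i j := by
  unfold ent mkL
  have h1 : i < ((List.range 7).map fun i => (List.range 7).map fun j => f i j).length := by
    simpa using hi
  rw [List.getD_eq_getElem _ _ h1, List.getElem_map, List.getElem_range]
  have h2 : j < ((List.range 7).map fun j => f i j).length := by simpa using hj
  rw [List.getD_eq_getElem _ _ h2, List.getElem_map, List.getElem_range]

theorem toM_mkL (f : ℕ → ℕ → ℕ) (i j : Fin 7) : toM (mkL f) i j = ((f i.val j.val : ℕ) : ZMod 3) := by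
  unfold toM
  rw [ent_mkL f _ _ i.isLt j.isLt]

/-- sum of seven terms -/
def sum7 (g : ℕ → ℕ) : ℕ := g 0 + g 1 + g 2 + g 3 + g 4 + g 5 + g 6

theorem cast_sum7 {R : Type*} [Semiring R] (g : ℕ → ℕ) :
    ((sum7 g : ℕ) : R) = ∑ k : Fin 7, ((g k.val : ℕ) : R) := by
  unfold sum7
  rw [Fin.sum_univ_seven]
  push_cast
  rfl

/-- product -/
def mulL (A B : LM) : LM := mkL fun i j => sum7 (fun k => ent A i k * ent B k j) % 3

theorem toM_mulL (A B : LM) : toM (mulL A B) = toM A * toM B := by
  ext i j
  unfold mulL
  rw [toM_mkL, ZMod.natCast_mod, cast_sum7, Matrix.mul_apply]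
  apply Finset.sum_congr rfl
  intro k _
  unfold toM
  push_cast
  rfl

/-- transpose -/
def trL (A : LM) : LM := mkL fun i j => ent A j i

theorem toM_trL (A : LM) : toM (trL A) = (toM A)ᵀ := by
  ext i j
  unfold trL
  rw [toM_mkL]
  rfl

/-- linear combination -/
def lcL (c : ℕ → ℕ) (Ms : ℕ → LM) : LM := mkL fun i j => sum7 (fun k => c k * ent (Ms k) i j) % 3

theorem toM_lcL (c : ℕ → ℕ) (Ms : ℕ → LM) :
    toM (lcL c Ms) = ∑ k : Fin 7, ((c k.val : ℕ) : ZMod 3) • toM (Ms k.val) := by
  ext i j
  unfold lcL
  rw [toM_mkL, ZMod.natCast_mod, cast_sum7, Matrix.sum_apply]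
  apply Finset.sum_congr rfl
  intro k _
  rw [Matrix.smul_apply]
  unfold toM
  push_cast
  rfl

/-- identity -/
def idL : LM := mkL fun i j => if i = j then 1 else 0

theorem toM_idL : toM idL = 1 := by
  ext i j
  unfold idL
  rw [toM_mkL, Matrix.one_apply]
  by_cases h : i = j
  · rw [if_pos h, if_pos (by rw [h])]
    simp
  · rw [if_neg h, if_neg (fun h' => h (Fin.ext h'))]
    simp

/-- zero -/
def zeroL : LM := mkL fun _ _ => 0

theorem toM_zeroL : toM zeroL = 0 := by
  ext i j
  unfold zeroL
  rw [toM_mkL]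
  simp

/-- equality test modulo three -/
def eqL (A B : LM) : Bool :=
  (List.range 7).all fun i => (List.range 7).all fun j => ent A i j % 3 == ent B i j % 3

theorem eqL_iff (A B : LM) : eqL A B = true ↔ toM A = toM B := by
  unfold eqL
  rw [List.all_eq_true]
  constructor
  · intro h
    ext i j
    have h1 := h i.val (List.mem_range.2 i.isLt)
    rw [List.all_eq_true] at h1
    have h2 := h1 j.val (List.mem_range.2 j.isLt)
    rw [beq_iff_eq] at h2
    unfold toM
    rw [ZMod.natCast_eq_natCast_iff']
    exact h2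
  · intro h i hi
    rw [List.all_eq_true]
    intro j hj
    rw [beq_iff_eq]
    have hi' := List.mem_range.1 hi
    have hj' := List.mem_range.1 hj
    have := congrFun (congrFun h ⟨i, hi'⟩) ⟨j, hj'⟩
    unfold toM at this
    rw [ZMod.natCast_eq_natCast_iff'] at this
    exact this

/-- powers of the product along a word of list matrices -/
def prodL : List LM → LM
  | [] => idL
  | A :: l => mulL A (prodL l)

theorem toM_prodL (l : List LM) : toM (prodL l) = (l.map toM).prod := by
  induction l with
  | nil => exact toM_idL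
  | cons A l ih =>
    show toM (mulL A (prodL l)) = _
    rw [toM_mulL, ih, List.map_cons, List.prod_cons]

end Cfsg.Agent.Lib.H14.PG7Mat
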