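import Mathlib
import Cfsg.Agent.Lib.H14.PG7Mat
import Cfsg.Agent.Lib.H14.ReeTab

set_option autoImplicit false
set_option maxRecDepth 100000

/-! # `G₂(3)` on the seven dimensional ideal of short roots: tables -/

namespace Cfsg.Agent.Lib.H14.PG7Tab

open Cfsg.Agent.Lib.H14.PG7Mat Cfsg.Agent.Lib.H14.ReeTab

/-- the codes of the coordinates spanning the ideal -/
def S7 : List ℕ := [0, 4, 5, 6, 9, 10, 11]

/-- the codes of the other coordinates -/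
def S7c : List ℕ := [1, 2, 3, 7, 8, 12, 13]

/-- restriction of a list matrix of size fourteen to the ideal -/
def sub7 (L : List (List ℕ)) : LM := mkL fun i j => ent L (S7.getD i 0) (S7.getD j 0)

/-- the generators on the ideal -/
def A7L (r t : ℕ) : LM := sub7 (xmL r t)

/-- the ideal is stable -/
def stabL (L : List (List ℕ)) : Bool := S7c.all fun i => S7.all fun j => ent L i j % 3 == 0

/-- the structure constants of the invariant bracket: `CL[k][i][j]` is the `k`-th coordinate of `[e_i, e_j]` -/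

def CL : List LM :=
  [[[0, 0, 0, 0, 0, 0, 0], [0, 0, 0, 0, 0, 0, 2], [0, 0, 0, 0, 0, 1, 0], [0, 0, 0, 0, 1, 0, 0], [0, 0, 0, 2, 0, 0, 0], [0, 0, 2, 0, 0, 0, 0], [0, 1, 0, 0, 0, 0, 0]],
   [[0, 1, 0, 0, 0, 0, 0], [2, 0, 0, 0, 0, 0, 0], [0, 0, 0, 2, 0, 0, 0], [0, 0, 1, 0, 0, 0, 0], [0, 0, 0, 0, 0, 0, 0], [0, 0, 0, 0, 0, 0, 0], [0, 0, 0, 0, 0, 0, 0]],
   [[0, 0, 2, 0, 0, 0, 0], [0, 0, 0, 0, 2, 0, 0], [1, 0, 0, 0, 0, 0, 0], [0, 0, 0, 0, 0, 0, 0], [0, 1, 0, 0, 0, 0, 0], [0, 0, 0, 0, 0, 0, 0], [0, 0, 0, 0, 0, 0, 0]],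
   [[0, 0, 0, 2, 0, 0, 0], [0, 0, 0, 0, 0, 1, 0], [0, 0, 0, 0, 0, 0, 0], [1, 0, 0, 0, 0, 0, 0], [0, 0, 0, 0, 0, 0, 0], [0, 2, 0, 0, 0, 0, 0], [0, 0, 0, 0, 0, 0, 0]],
   [[0, 0, 0, 0, 1, 0, 0], [0, 0, 0, 0, 0, 0, 0], [0, 0, 0, 0, 0, 0, 1], [0, 0, 0, 0, 0, 0, 0], [2, 0, 0, 0, 0, 0, 0], [0, 0, 0, 0, 0, 0, 0], [0, 0, 2, 0, 0, 0, 0]],
   [[0, 0, 0, 0, 0, 1, 0], [0, 0, 0, 0, 0, 0, 0], [0, 0, 0, 0, 0, 0, 0], [0, 0, 0, 0, 0, 0, 2], [0, 0, 0, 0, 0, 0, 0], [2, 0, 0, 0, 0, 0, 0], [0, 0, 0, 1, 0, 0, 0]],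
   [[0, 0, 0, 0, 0, 0, 2], [0, 0, 0, 0, 0, 0, 0], [0, 0, 0, 0, 0, 0, 0], [0, 0, 0, 0, 0, 0, 0], [0, 0, 0, 0, 0, 2, 0], [0, 0, 0, 0, 1, 0, 0], [1, 0, 0, 0, 0, 0, 0]]]

/-- the element of order 7 on the ideal -/

def X7L : LM := [[1, 2, 0, 0, 0, 2, 0], [0, 2, 1, 1, 1, 1, 2], [2, 2, 2, 0, 0, 2, 2], [0, 0, 1, 1, 0, 0, 2], [0, 0, 1, 0, 1, 0, 2], [0, 1, 0, 0, 0, 1, 0], [0, 0, 2, 0, 0, 0, 1]]

/-- its powers -/

def P7L : List LM :=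
  [[[1, 0, 0, 0, 0, 0, 0], [0, 1, 0, 0, 0, 0, 0], [0, 0, 1, 0, 0, 0, 0], [0, 0, 0, 1, 0, 0, 0], [0, 0, 0, 0, 1, 0, 0], [0, 0, 0, 0, 0, 1, 0], [0, 0, 0, 0, 0, 0, 1]],
   [[1, 2, 0, 0, 0, 2, 0], [0, 2, 1, 1, 1, 1, 2], [2, 2, 2, 0, 0, 2, 2], [0, 0, 1, 1, 0, 0, 2], [0, 0, 1, 0, 1, 0, 2], [0, 1, 0, 0, 0, 1, 0], [0, 0, 2, 0, 0, 0, 1]],
   [[1, 2, 2, 2, 2, 0, 1], [2, 1, 1, 0, 0, 2, 0], [0, 2, 1, 2, 2, 0, 1], [2, 2, 1, 1, 0, 2, 0], [2, 2, 1, 0, 1, 2, 0], [0, 0, 1, 1, 1, 2, 2], [1, 1, 0, 0, 0, 1, 2]],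
   [[2, 1, 0, 1, 1, 2, 2], [1, 1, 0, 1, 1, 0, 1], [2, 0, 1, 1, 1, 1, 0], [1, 0, 2, 0, 2, 1, 2], [1, 0, 2, 2, 0, 1, 2], [2, 1, 2, 1, 1, 1, 2], [1, 2, 2, 1, 1, 1, 1]],
   [[2, 2, 1, 2, 2, 1, 2], [1, 1, 2, 2, 2, 0, 1], [1, 1, 1, 1, 1, 1, 0], [2, 1, 1, 0, 2, 1, 1], [2, 1, 1, 2, 0, 1, 1], [0, 2, 2, 2, 2, 1, 0], [2, 2, 1, 0, 0, 0, 1]],
   [[1, 2, 0, 1, 1, 0, 1], [2, 2, 2, 0, 0, 1, 0], [0, 1, 2, 2, 2, 0, 2], [1, 0, 1, 1, 0, 2, 0], [1, 0, 1, 0, 1, 2, 0], [1, 0, 1, 1, 1, 1, 1], [1, 1, 0, 2, 2, 2, 1]],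
   [[1, 0, 0, 0, 0, 1, 0], [0, 1, 0, 2, 2, 2, 2], [1, 0, 1, 0, 0, 2, 1], [0, 0, 0, 1, 0, 0, 1], [0, 0, 0, 0, 1, 0, 1], [0, 2, 0, 1, 1, 2, 1], [1, 0, 1, 0, 0, 2, 2]]]

/-- the inverse of the matrix of the cyclic basis -/

def Bi7L : LM := [[0, 2, 2, 2, 1, 1, 0], [2, 1, 2, 1, 0, 1, 1], [2, 0, 0, 1, 0, 0, 2], [1, 0, 2, 1, 0, 0, 2], [2, 0, 1, 1, 0, 0, 1], [1, 0, 2, 1, 0, 0, 1], [1, 0, 0, 1, 0, 1, 2]]

/-- the element of order 13 on the ideal -/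

def X13L : LM := [[1, 2, 2, 0, 2, 0, 0], [2, 0, 2, 2, 0, 1, 1], [1, 1, 1, 0, 0, 0, 2], [2, 1, 2, 1, 2, 0, 0], [0, 0, 1, 0, 1, 0, 0], [2, 2, 0, 2, 0, 1, 1], [2, 2, 0, 0, 0, 0, 1]]

/-- its powers -/

def P13L : List LM :=
  [[[1, 0, 0, 0, 0, 0, 0], [0, 1, 0, 0, 0, 0, 0], [0, 0, 1, 0, 0, 0, 0], [0, 0, 0, 1, 0, 0, 0], [0, 0, 0, 0, 1, 0, 0], [0, 0, 0, 0, 0, 1, 0], [0, 0, 0, 0, 0, 0, 1]],
   [[1, 2, 2, 0, 2, 0, 0], [2, 0, 2, 2, 0, 1, 1], [1, 1, 1, 0, 0, 0, 2], [2, 1, 2, 1, 2, 0, 0], [0, 0, 1, 0, 1, 0, 0], [2, 2, 0, 2, 0, 1, 1], [2, 2, 0, 0, 0, 0, 1]],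
   [[1, 1, 1, 1, 1, 2, 0], [0, 0, 1, 1, 2, 1, 0], [2, 1, 2, 2, 2, 1, 2], [2, 1, 0, 0, 2, 1, 2], [1, 1, 2, 0, 1, 0, 2], [2, 1, 0, 2, 2, 0, 1], [2, 0, 2, 1, 1, 2, 0]],
   [[1, 2, 2, 1, 2, 0, 2], [2, 1, 2, 0, 1, 1, 0], [1, 2, 2, 0, 1, 2, 2], [1, 1, 2, 1, 0, 2, 1], [0, 2, 1, 2, 0, 1, 1], [1, 2, 0, 1, 1, 1, 2], [1, 2, 0, 2, 1, 2, 0]],
   [[1, 0, 0, 2, 0, 2, 2], [2, 2, 0, 1, 2, 2, 0], [0, 0, 0, 2, 0, 1, 1], [1, 2, 2, 1, 1, 0, 2], [1, 1, 0, 2, 1, 0, 0], [1, 0, 0, 1, 2, 0, 2], [1, 2, 2, 1, 1, 1, 1]],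
   [[1, 0, 0, 0, 0, 2, 1], [0, 0, 0, 0, 2, 1, 1], [2, 0, 1, 1, 1, 1, 2], [1, 0, 2, 2, 2, 2, 2], [1, 1, 0, 1, 1, 1, 1], [1, 1, 0, 1, 0, 0, 2], [1, 0, 2, 1, 2, 0, 2]],
   [[1, 2, 2, 1, 2, 2, 0], [1, 1, 2, 2, 2, 1, 2], [2, 0, 2, 0, 1, 1, 2], [0, 2, 1, 0, 2, 2, 2], [0, 1, 1, 2, 2, 2, 0], [0, 1, 0, 0, 1, 1, 0], [0, 0, 2, 1, 0, 0, 0]],
   [[1, 0, 0, 0, 0, 1, 2], [0, 0, 0, 0, 2, 2, 2], [1, 0, 1, 2, 2, 1, 1], [1, 0, 1, 2, 2, 1, 2], [2, 1, 0, 2, 0, 0, 2], [1, 2, 0, 1, 1, 2, 2], [1, 0, 1, 1, 2, 0, 1]],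
   [[1, 2, 2, 2, 2, 1, 0], [2, 2, 2, 1, 2, 2, 1], [1, 0, 0, 1, 2, 1, 1], [0, 2, 0, 1, 2, 1, 2], [0, 1, 1, 1, 2, 1, 0], [0, 2, 0, 0, 2, 1, 0], [0, 0, 1, 1, 0, 0, 0]],
   [[1, 2, 2, 2, 2, 0, 1], [1, 1, 2, 0, 2, 1, 0], [1, 1, 0, 0, 0, 1, 2], [0, 1, 2, 1, 1, 0, 2], [1, 1, 1, 2, 1, 2, 1], [0, 2, 0, 0, 2, 0, 0], [0, 2, 0, 1, 2, 0, 2]],
   [[1, 2, 2, 0, 2, 2, 1], [1, 0, 2, 1, 1, 2, 0], [0, 2, 1, 1, 2, 2, 1], [1, 1, 1, 0, 0, 1, 1], [2, 2, 1, 2, 1, 0, 0], [1, 0, 0, 1, 2, 2, 2], [1, 2, 2, 2, 1, 2, 1]],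
   [[1, 1, 1, 2, 1, 1, 0], [0, 0, 1, 2, 2, 2, 0], [1, 2, 0, 0, 1, 1, 1], [2, 1, 2, 1, 2, 2, 2], [2, 1, 2, 0, 0, 2, 1], [2, 2, 0, 2, 0, 2, 1], [2, 0, 1, 1, 1, 1, 0]],
   [[1, 1, 1, 0, 1, 2, 1], [0, 1, 1, 0, 0, 2, 1], [0, 0, 1, 0, 0, 0, 1], [1, 0, 0, 1, 2, 0, 0], [0, 0, 2, 0, 1, 0, 2], [1, 0, 0, 1, 2, 1, 2], [1, 2, 2, 0, 1, 1, 0]]]

/-- the inverse of the matrix of the cyclic basis -/

def Bi13L : LM := [[1, 2, 1, 0, 0, 1, 1], [0, 2, 0, 1, 1, 2, 0], [1, 1, 2, 0, 1, 1, 0], [0, 1, 1, 1, 1, 0, 0], [0, 2, 0, 1, 0, 1, 0], [1, 0, 1, 2, 1, 1, 0], [1, 1, 1, 0, 2, 0, 0]]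

/-- the structure constants as a function -/
def CLf (k : ℕ) : LM := CL.getD k []

/-- the test that a list matrix preserves the `m`-th coordinate of the bracket -/
def PLm (m : ℕ) (M : LM) : Bool :=
  eqL (lcL (fun k => ent M m k) CLf) (mulL (mulL (trL M) (CLf m)) M)

/-- the product of the generators along a word -/
def wordL (w : List ℕ) : LM := prodL (w.map fun r => A7L r 1)

/-- the linear combination of the first seven matrices of a list -/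
def combL (P : List LM) (a : List ℕ) : LM := lcL (fun k => a.getD k 0) (fun k => P.getD k [])

/-- zero or one of the first `n` matrices of the list -/
def candK (P : List LM) (n : ℕ) (M : LM) : Bool :=
  eqL M zeroL || (List.range n).any fun k => eqL M (P.getD k [])

/-- the table of powers is correct -/
def powOK (P : List LM) (X : LM) (n : ℕ) : Bool :=
  eqL (P.getD 0 []) idL && ((List.range (n - 1)).all fun k => eqL (P.getD (k + 1) []) (mulL (P.getD k []) X))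
    && eqL (mulL (P.getD (n - 1) []) X) idL

/-- the matrix of the cyclic basis `c, X c, …, X⁶ c` for the basis vector `c` of index `cy` -/
def BcL (P : List LM) (cy : ℕ) : LM := mkL fun i j => ent (P.getD j []) i cy

theorem stab_gen : ∀ r < 12, ∀ t < 3, stabL (xmL r t) = true := by decide +kernel

theorem P_gen : ∀ r < 12, ∀ t < 3, ∀ m < 7, PLm m (A7L r t) = true := by decide +kernel

theorem X7_word : eqL X7L (wordL [0, 1, 3, 11]) = true := by decide +kernel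

theorem X13_word : eqL X13L (wordL [0, 4, 9]) = true := by decide +kernel

theorem P7_ok : powOK P7L X7L 7 = true := by decide +kernel

theorem P13_ok : powOK P13L X13L 13 = true := by decide +kernel

theorem X7_ne : eqL X7L idL = false := by decide +kernel

theorem X13_ne : eqL X13L idL = false := by decide +kernel

theorem Bc7_inv : eqL (mulL (BcL P7L 4) Bi7L) idL = true := by decide +kernel

theorem Bc13_inv : eqL (mulL (BcL P13L 6) Bi13L) idL = true := by decide +kernel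

/-- the element of order six -/
def W6L : LM := wordL [0, 0, 11]

theorem W6_ok : eqL (prodL [W6L, W6L, W6L, W6L, W6L, W6L]) idL = true ∧
    eqL (prodL [W6L, W6L]) idL = false ∧ eqL (prodL [W6L, W6L, W6L]) idL = false := by
  decide +kernel

set_option maxHeartbeats 4000000 in
theorem E7_00 : ∀ a2 a3 a4 a5 a6 : ZMod 3,
    PLm 3 (combL P7L [0, 0, a2.val, a3.val, a4.val, a5.val, a6.val]) = true →
      candK P7L 7 (combL P7L [0, 0, a2.val, a3.val, a4.val, a5.val, a6.val]) = true := by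
  decide +kernel

set_option maxHeartbeats 4000000 in
theorem E7_01 : ∀ a2 a3 a4 a5 a6 : ZMod 3,
    PLm 3 (combL P7L [0, 1, a2.val, a3.val, a4.val, a5.val, a6.val]) = true →
      candK P7L 7 (combL P7L [0, 1, a2.val, a3.val, a4.val, a5.val, a6.val]) = true := by
  decide +kernel

set_option maxHeartbeats 4000000 in
theorem E7_02 : ∀ a2 a3 a4 a5 a6 : ZMod 3,
    PLm 3 (combL P7L [0, 2, a2.val, a3.val, a4.val, a5.val, a6.val]) = true →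
      candK P7L 7 (combL P7L [0, 2, a2.val, a3.val, a4.val, a5.val, a6.val]) = true := by
  decide +kernel

set_option maxHeartbeats 4000000 in
theorem E7_10 : ∀ a2 a3 a4 a5 a6 : ZMod 3,
    PLm 3 (combL P7L [1, 0, a2.val, a3.val, a4.val, a5.val, a6.val]) = true →
      candK P7L 7 (combL P7L [1, 0, a2.val, a3.val, a4.val, a5.val, a6.val]) = true := by
  decide +kernel

set_option maxHeartbeats 4000000 in
theorem E7_11 : ∀ a2 a3 a4 a5 a6 : ZMod 3,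
    PLm 3 (combL P7L [1, 1, a2.val, a3.val, a4.val, a5.val, a6.val]) = true →
      candK P7L 7 (combL P7L [1, 1, a2.val, a3.val, a4.val, a5.val, a6.val]) = true := by
  decide +kernel

set_option maxHeartbeats 4000000 in
theorem E7_12 : ∀ a2 a3 a4 a5 a6 : ZMod 3,
    PLm 3 (combL P7L [1, 2, a2.val, a3.val, a4.val, a5.val, a6.val]) = true →
      candK P7L 7 (combL P7L [1, 2, a2.val, a3.val, a4.val, a5.val, a6.val]) = true := by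
  decide +kernel

set_option maxHeartbeats 4000000 in
theorem E7_20 : ∀ a2 a3 a4 a5 a6 : ZMod 3,
    PLm 3 (combL P7L [2, 0, a2.val, a3.val, a4.val, a5.val, a6.val]) = true →
      candK P7L 7 (combL P7L [2, 0, a2.val, a3.val, a4.val, a5.val, a6.val]) = true := by
  decide +kernel

set_option maxHeartbeats 4000000 in
theorem E7_21 : ∀ a2 a3 a4 a5 a6 : ZMod 3,
    PLm 3 (combL P7L [2, 1, a2.val, a3.val, a4.val, a5.val, a6.val]) = true →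
      candK P7L 7 (combL P7L [2, 1, a2.val, a3.val, a4.val, a5.val, a6.val]) = true := by
  decide +kernel

set_option maxHeartbeats 4000000 in
theorem E7_22 : ∀ a2 a3 a4 a5 a6 : ZMod 3,
    PLm 3 (combL P7L [2, 2, a2.val, a3.val, a4.val, a5.val, a6.val]) = true →
      candK P7L 7 (combL P7L [2, 2, a2.val, a3.val, a4.val, a5.val, a6.val]) = true := by
  decide +kernel

theorem E7 : ∀ a0 a1 a2 a3 a4 a5 a6 : ZMod 3,
    PLm 3 (combL P7L [a0.val, a1.val, a2.val, a3.val, a4.val, a5.val, a6.val]) = true →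
      candK P7L 7 (combL P7L [a0.val, a1.val, a2.val, a3.val, a4.val, a5.val, a6.val]) = true := by
  intro a0 a1
  fin_cases a0 <;> fin_cases a1
  · exact E7_00
  · exact E7_01
  · exact E7_02
  · exact E7_10
  · exact E7_11
  · exact E7_12
  · exact E7_20
  · exact E7_21
  · exact E7_22

set_option maxHeartbeats 4000000 in
theorem E13_00 : ∀ a2 a3 a4 a5 a6 : ZMod 3,
    PLm 0 (combL P13L [0, 0, a2.val, a3.val, a4.val, a5.val, a6.val]) = true →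
      candK P13L 13 (combL P13L [0, 0, a2.val, a3.val, a4.val, a5.val, a6.val]) = true := by
  decide +kernel

set_option maxHeartbeats 4000000 in
theorem E13_01 : ∀ a2 a3 a4 a5 a6 : ZMod 3,
    PLm 0 (combL P13L [0, 1, a2.val, a3.val, a4.val, a5.val, a6.val]) = true →
      candK P13L 13 (combL P13L [0, 1, a2.val, a3.val, a4.val, a5.val, a6.val]) = true := by
  decide +kernel

set_option maxHeartbeats 4000000 in
theorem E13_02 : ∀ a2 a3 a4 a5 a6 : ZMod 3,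
    PLm 0 (combL P13L [0, 2, a2.val, a3.val, a4.val, a5.val, a6.val]) = true →
      candK P13L 13 (combL P13L [0, 2, a2.val, a3.val, a4.val, a5.val, a6.val]) = true := by
  decide +kernel

set_option maxHeartbeats 4000000 in
theorem E13_10 : ∀ a2 a3 a4 a5 a6 : ZMod 3,
    PLm 0 (combL P13L [1, 0, a2.val, a3.val, a4.val, a5.val, a6.val]) = true →
      candK P13L 13 (combL P13L [1, 0, a2.val, a3.val, a4.val, a5.val, a6.val]) = true := by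
  decide +kernel

set_option maxHeartbeats 4000000 in
theorem E13_11 : ∀ a2 a3 a4 a5 a6 : ZMod 3,
    PLm 0 (combL P13L [1, 1, a2.val, a3.val, a4.val, a5.val, a6.val]) = true →
      candK P13L 13 (combL P13L [1, 1, a2.val, a3.val, a4.val, a5.val, a6.val]) = true := by
  decide +kernel

set_option maxHeartbeats 4000000 in
theorem E13_12 : ∀ a2 a3 a4 a5 a6 : ZMod 3,
    PLm 0 (combL P13L [1, 2, a2.val, a3.val, a4.val, a5.val, a6.val]) = true →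
      candK P13L 13 (combL P13L [1, 2, a2.val, a3.val, a4.val, a5.val, a6.val]) = true := by
  decide +kernel

set_option maxHeartbeats 4000000 in
theorem E13_20 : ∀ a2 a3 a4 a5 a6 : ZMod 3,
    PLm 0 (combL P13L [2, 0, a2.val, a3.val, a4.val, a5.val, a6.val]) = true →
      candK P13L 13 (combL P13L [2, 0, a2.val, a3.val, a4.val, a5.val, a6.val]) = true := by
  decide +kernel

set_option maxHeartbeats 4000000 in
theorem E13_21 : ∀ a2 a3 a4 a5 a6 : ZMod 3,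
    PLm 0 (combL P13L [2, 1, a2.val, a3.val, a4.val, a5.val, a6.val]) = true →
      candK P13L 13 (combL P13L [2, 1, a2.val, a3.val, a4.val, a5.val, a6.val]) = true := by
  decide +kernel

set_option maxHeartbeats 4000000 in
theorem E13_22 : ∀ a2 a3 a4 a5 a6 : ZMod 3,
    PLm 0 (combL P13L [2, 2, a2.val, a3.val, a4.val, a5.val, a6.val]) = true →
      candK P13L 13 (combL P13L [2, 2, a2.val, a3.val, a4.val, a5.val, a6.val]) = true := by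
  decide +kernel

theorem E13 : ∀ a0 a1 a2 a3 a4 a5 a6 : ZMod 3,
    PLm 0 (combL P13L [a0.val, a1.val, a2.val, a3.val, a4.val, a5.val, a6.val]) = true →
      candK P13L 13 (combL P13L [a0.val, a1.val, a2.val, a3.val, a4.val, a5.val, a6.val]) = true := by
  intro a0 a1
  fin_cases a0 <;> fin_cases a1
  · exact E13_00
  · exact E13_01
  · exact E13_02
  · exact E13_10
  · exact E13_11
  · exact E13_12
  · exact E13_20
  · exact E13_21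
  · exact E13_22

end Cfsg.Agent.Lib.H14.PG7Tab
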