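import Mathlib
import Cfsg.Agent.Lib.H14.ReeTab
import Cfsg.Agent.Lib.H14.F8

set_option autoImplicit false
set_option maxRecDepth 100000

/-! # The derived subgroup of `²G₂(3)` and `SL(2,8)`: Schreier tables -/

namespace Cfsg.Agent.Lib.H14.ReeTab

open Cfsg.Lie Matrix Cfsg.Agent.Lib.H14.ListMat Cfsg.Agent.Lib.H14

def ginvT : List ℕ := [0, 2, 1, 6, 8, 7, 3, 5, 4, 25, 24, 26, 21, 23, 22, 20, 19, 18, 17, 16, 15, 12, 14, 13, 10, 9, 11, 0, 29, 28, 33, 35, 34, 30, 32, 31, 52, 51, 53, 48, 50, 49, 47, 46, 45, 44, 43, 42, 39, 41, 40, 37, 36, 38]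

def aC : ℕ := 113340201874353386598238388631328861267981604650831449721437005344426255550515241033513530975326843142

def bC : ℕ := 17656275551616818234708539500034239771757992739181612445348479891841224508963924956434843347285187492

def wST : List (List (Fin 2)) :=
  [[],
    [0],
    [1],
    [0, 1],
    [1, 0],
    [1, 1],
    [0, 1, 0],
    [0, 1, 1],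
    [1, 0, 1],
    [1, 1, 0],
    [0, 1, 0, 1],
    [0, 1, 1, 0],
    [1, 0, 1, 0],
    [1, 0, 1, 1],
    [1, 1, 0, 1],
    [0, 1, 0, 1, 0],
    [0, 1, 0, 1, 1],
    [0, 1, 1, 0, 1],
    [1, 0, 1, 0, 1],
    [1, 0, 1, 1, 0],
    [1, 1, 0, 1, 0],
    [1, 1, 0, 1, 1],
    [0, 1, 0, 1, 0, 1],
    [0, 1, 0, 1, 1, 0],
    [0, 1, 1, 0, 1, 0],
    [0, 1, 1, 0, 1, 1],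
    [1, 0, 1, 0, 1, 0],
    [1, 0, 1, 0, 1, 1],
    [1, 0, 1, 1, 0, 1],
    [1, 1, 0, 1, 0, 1],
    [1, 1, 0, 1, 1, 0],
    [0, 1, 0, 1, 0, 1, 0],
    [0, 1, 0, 1, 0, 1, 1],
    [0, 1, 0, 1, 1, 0, 1],
    [0, 1, 1, 0, 1, 0, 1],
    [0, 1, 1, 0, 1, 1, 0],
    [1, 0, 1, 0, 1, 0, 1],
    [1, 0, 1, 0, 1, 1, 0],
    [1, 0, 1, 1, 0, 1, 0],
    [1, 0, 1, 1, 0, 1, 1],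
    [1, 1, 0, 1, 0, 1, 0],
    [1, 1, 0, 1, 0, 1, 1],
    [1, 1, 0, 1, 1, 0, 1],
    [0, 1, 0, 1, 0, 1, 0, 1],
    [0, 1, 0, 1, 0, 1, 1, 0],
    [0, 1, 0, 1, 1, 0, 1, 0],
    [0, 1, 0, 1, 1, 0, 1, 1],
    [0, 1, 1, 0, 1, 0, 1, 0],
    [0, 1, 1, 0, 1, 0, 1, 1],
    [0, 1, 1, 0, 1, 1, 0, 1],
    [1, 0, 1, 0, 1, 0, 1, 0],
    [1, 0, 1, 0, 1, 0, 1, 1],
    [1, 0, 1, 0, 1, 1, 0, 1],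
    [1, 0, 1, 1, 0, 1, 0, 1],
    [1, 0, 1, 1, 0, 1, 1, 0],
    [1, 1, 0, 1, 0, 1, 0, 1],
    [1, 1, 0, 1, 0, 1, 1, 0],
    [1, 1, 0, 1, 1, 0, 1, 0],
    [1, 1, 0, 1, 1, 0, 1, 1],
    [0, 1, 0, 1, 0, 1, 0, 1, 1],
    [0, 1, 0, 1, 0, 1, 1, 0, 1],
    [0, 1, 0, 1, 1, 0, 1, 0, 1],
    [0, 1, 0, 1, 1, 0, 1, 1, 0],
    [0, 1, 1, 0, 1, 0, 1, 0, 1],
    [0, 1, 1, 0, 1, 0, 1, 1, 0],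
    [0, 1, 1, 0, 1, 1, 0, 1, 0],
    [1, 0, 1, 0, 1, 0, 1, 1, 0],
    [1, 0, 1, 0, 1, 1, 0, 1, 0],
    [1, 0, 1, 0, 1, 1, 0, 1, 1],
    [1, 0, 1, 1, 0, 1, 0, 1, 0],
    [1, 0, 1, 1, 0, 1, 0, 1, 1],
    [1, 0, 1, 1, 0, 1, 1, 0, 1],
    [1, 1, 0, 1, 0, 1, 0, 1, 0],
    [1, 1, 0, 1, 0, 1, 0, 1, 1],
    [1, 1, 0, 1, 0, 1, 1, 0, 1],
    [1, 1, 0, 1, 1, 0, 1, 0, 1],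
    [0, 1, 0, 1, 0, 1, 0, 1, 1, 0],
    [0, 1, 0, 1, 0, 1, 1, 0, 1, 0],
    [0, 1, 0, 1, 0, 1, 1, 0, 1, 1],
    [0, 1, 0, 1, 1, 0, 1, 0, 1, 0],
    [0, 1, 0, 1, 1, 0, 1, 0, 1, 1],
    [0, 1, 0, 1, 1, 0, 1, 1, 0, 1],
    [0, 1, 1, 0, 1, 0, 1, 0, 1, 0],
    [0, 1, 1, 0, 1, 0, 1, 0, 1, 1],
    [0, 1, 1, 0, 1, 0, 1, 1, 0, 1],
    [0, 1, 1, 0, 1, 1, 0, 1, 0, 1],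
    [1, 0, 1, 0, 1, 0, 1, 1, 0, 1],
    [1, 0, 1, 0, 1, 1, 0, 1, 0, 1],
    [1, 0, 1, 0, 1, 1, 0, 1, 1, 0],
    [1, 0, 1, 1, 0, 1, 0, 1, 0, 1],
    [1, 0, 1, 1, 0, 1, 0, 1, 1, 0],
    [1, 0, 1, 1, 0, 1, 1, 0, 1, 0],
    [1, 1, 0, 1, 0, 1, 0, 1, 1, 0],
    [1, 1, 0, 1, 0, 1, 1, 0, 1, 0],
    [1, 1, 0, 1, 0, 1, 1, 0, 1, 1],
    [1, 1, 0, 1, 1, 0, 1, 0, 1, 0],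
    [1, 1, 0, 1, 1, 0, 1, 0, 1, 1],
    [0, 1, 0, 1, 0, 1, 0, 1, 1, 0, 1],
    [0, 1, 0, 1, 0, 1, 1, 0, 1, 0, 1],
    [0, 1, 0, 1, 0, 1, 1, 0, 1, 1, 0],
    [0, 1, 0, 1, 1, 0, 1, 0, 1, 0, 1],
    [0, 1, 0, 1, 1, 0, 1, 0, 1, 1, 0],
    [0, 1, 0, 1, 1, 0, 1, 1, 0, 1, 0],
    [0, 1, 1, 0, 1, 0, 1, 0, 1, 1, 0],
    [0, 1, 1, 0, 1, 0, 1, 1, 0, 1, 0],
    [0, 1, 1, 0, 1, 0, 1, 1, 0, 1, 1],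
    [0, 1, 1, 0, 1, 1, 0, 1, 0, 1, 0],
    [0, 1, 1, 0, 1, 1, 0, 1, 0, 1, 1],
    [1, 0, 1, 0, 1, 0, 1, 1, 0, 1, 0],
    [1, 0, 1, 0, 1, 0, 1, 1, 0, 1, 1],
    [1, 0, 1, 0, 1, 1, 0, 1, 0, 1, 0],
    [1, 0, 1, 0, 1, 1, 0, 1, 0, 1, 1],
    [1, 0, 1, 0, 1, 1, 0, 1, 1, 0, 1],
    [1, 0, 1, 1, 0, 1, 0, 1, 0, 1, 0],
    [1, 0, 1, 1, 0, 1, 0, 1, 0, 1, 1],
    [1, 0, 1, 1, 0, 1, 0, 1, 1, 0, 1],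
    [1, 0, 1, 1, 0, 1, 1, 0, 1, 0, 1],
    [1, 1, 0, 1, 0, 1, 0, 1, 1, 0, 1],
    [1, 1, 0, 1, 0, 1, 1, 0, 1, 0, 1],
    [1, 1, 0, 1, 0, 1, 1, 0, 1, 1, 0],
    [1, 1, 0, 1, 1, 0, 1, 0, 1, 0, 1],
    [1, 1, 0, 1, 1, 0, 1, 0, 1, 1, 0],
    [0, 1, 0, 1, 0, 1, 0, 1, 1, 0, 1, 0],
    [0, 1, 0, 1, 0, 1, 0, 1, 1, 0, 1, 1],
    [0, 1, 0, 1, 0, 1, 1, 0, 1, 0, 1, 0],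
    [0, 1, 0, 1, 0, 1, 1, 0, 1, 0, 1, 1],
    [0, 1, 0, 1, 0, 1, 1, 0, 1, 1, 0, 1],
    [0, 1, 0, 1, 1, 0, 1, 0, 1, 0, 1, 0],
    [0, 1, 0, 1, 1, 0, 1, 0, 1, 0, 1, 1],
    [0, 1, 0, 1, 1, 0, 1, 0, 1, 1, 0, 1],
    [0, 1, 0, 1, 1, 0, 1, 1, 0, 1, 0, 1],
    [0, 1, 1, 0, 1, 0, 1, 0, 1, 1, 0, 1],
    [0, 1, 1, 0, 1, 0, 1, 1, 0, 1, 0, 1],
    [0, 1, 1, 0, 1, 0, 1, 1, 0, 1, 1, 0],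
    [0, 1, 1, 0, 1, 1, 0, 1, 0, 1, 0, 1],
    [0, 1, 1, 0, 1, 1, 0, 1, 0, 1, 1, 0],
    [1, 0, 1, 0, 1, 0, 1, 1, 0, 1, 0, 1],
    [1, 0, 1, 0, 1, 0, 1, 1, 0, 1, 1, 0],
    [1, 0, 1, 0, 1, 1, 0, 1, 0, 1, 0, 1],
    [1, 0, 1, 0, 1, 1, 0, 1, 0, 1, 1, 0],
    [1, 0, 1, 0, 1, 1, 0, 1, 1, 0, 1, 0],
    [1, 0, 1, 1, 0, 1, 0, 1, 0, 1, 1, 0],
    [1, 0, 1, 1, 0, 1, 0, 1, 1, 0, 1, 0],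
    [1, 0, 1, 1, 0, 1, 0, 1, 1, 0, 1, 1],
    [1, 0, 1, 1, 0, 1, 1, 0, 1, 0, 1, 0],
    [1, 0, 1, 1, 0, 1, 1, 0, 1, 0, 1, 1],
    [1, 1, 0, 1, 0, 1, 0, 1, 1, 0, 1, 0],
    [1, 1, 0, 1, 0, 1, 0, 1, 1, 0, 1, 1],
    [1, 1, 0, 1, 0, 1, 1, 0, 1, 0, 1, 0],
    [1, 1, 0, 1, 0, 1, 1, 0, 1, 0, 1, 1],
    [1, 1, 0, 1, 0, 1, 1, 0, 1, 1, 0, 1],
    [1, 1, 0, 1, 1, 0, 1, 0, 1, 0, 1, 0],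
    [1, 1, 0, 1, 1, 0, 1, 0, 1, 0, 1, 1],
    [1, 1, 0, 1, 1, 0, 1, 0, 1, 1, 0, 1],
    [0, 1, 0, 1, 0, 1, 0, 1, 1, 0, 1, 0, 1],
    [0, 1, 0, 1, 0, 1, 0, 1, 1, 0, 1, 1, 0],
    [0, 1, 0, 1, 0, 1, 1, 0, 1, 0, 1, 0, 1],
    [0, 1, 0, 1, 0, 1, 1, 0, 1, 0, 1, 1, 0],
    [0, 1, 0, 1, 0, 1, 1, 0, 1, 1, 0, 1, 0],
    [0, 1, 0, 1, 1, 0, 1, 0, 1, 0, 1, 1, 0],
    [0, 1, 0, 1, 1, 0, 1, 0, 1, 1, 0, 1, 0],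
    [0, 1, 0, 1, 1, 0, 1, 0, 1, 1, 0, 1, 1],
    [0, 1, 0, 1, 1, 0, 1, 1, 0, 1, 0, 1, 0],
    [0, 1, 0, 1, 1, 0, 1, 1, 0, 1, 0, 1, 1],
    [0, 1, 1, 0, 1, 0, 1, 0, 1, 1, 0, 1, 0],
    [0, 1, 1, 0, 1, 0, 1, 0, 1, 1, 0, 1, 1],
    [0, 1, 1, 0, 1, 0, 1, 1, 0, 1, 0, 1, 0],
    [0, 1, 1, 0, 1, 0, 1, 1, 0, 1, 0, 1, 1],
    [0, 1, 1, 0, 1, 0, 1, 1, 0, 1, 1, 0, 1],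
    [0, 1, 1, 0, 1, 1, 0, 1, 0, 1, 0, 1, 0],
    [0, 1, 1, 0, 1, 1, 0, 1, 0, 1, 0, 1, 1],
    [0, 1, 1, 0, 1, 1, 0, 1, 0, 1, 1, 0, 1],
    [1, 0, 1, 0, 1, 0, 1, 1, 0, 1, 0, 1, 0],
    [1, 0, 1, 0, 1, 0, 1, 1, 0, 1, 0, 1, 1],
    [1, 0, 1, 0, 1, 0, 1, 1, 0, 1, 1, 0, 1],
    [1, 0, 1, 0, 1, 1, 0, 1, 0, 1, 0, 1, 0],
    [1, 0, 1, 0, 1, 1, 0, 1, 0, 1, 0, 1, 1],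
    [1, 0, 1, 0, 1, 1, 0, 1, 0, 1, 1, 0, 1],
    [1, 0, 1, 0, 1, 1, 0, 1, 1, 0, 1, 0, 1],
    [1, 0, 1, 1, 0, 1, 0, 1, 0, 1, 1, 0, 1],
    [1, 0, 1, 1, 0, 1, 0, 1, 1, 0, 1, 0, 1],
    [1, 0, 1, 1, 0, 1, 0, 1, 1, 0, 1, 1, 0],
    [1, 0, 1, 1, 0, 1, 1, 0, 1, 0, 1, 0, 1],
    [1, 0, 1, 1, 0, 1, 1, 0, 1, 0, 1, 1, 0],
    [1, 1, 0, 1, 0, 1, 0, 1, 1, 0, 1, 0, 1],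
    [1, 1, 0, 1, 0, 1, 0, 1, 1, 0, 1, 1, 0],
    [1, 1, 0, 1, 0, 1, 1, 0, 1, 0, 1, 0, 1],
    [1, 1, 0, 1, 0, 1, 1, 0, 1, 0, 1, 1, 0],
    [1, 1, 0, 1, 0, 1, 1, 0, 1, 1, 0, 1, 0],
    [1, 1, 0, 1, 1, 0, 1, 0, 1, 0, 1, 1, 0],
    [1, 1, 0, 1, 1, 0, 1, 0, 1, 1, 0, 1, 0],
    [1, 1, 0, 1, 1, 0, 1, 0, 1, 1, 0, 1, 1],
    [0, 1, 0, 1, 0, 1, 0, 1, 1, 0, 1, 0, 1, 0],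
    [0, 1, 0, 1, 0, 1, 0, 1, 1, 0, 1, 0, 1, 1],
    [0, 1, 0, 1, 0, 1, 0, 1, 1, 0, 1, 1, 0, 1],
    [0, 1, 0, 1, 0, 1, 1, 0, 1, 0, 1, 0, 1, 0],
    [0, 1, 0, 1, 0, 1, 1, 0, 1, 0, 1, 0, 1, 1],
    [0, 1, 0, 1, 0, 1, 1, 0, 1, 0, 1, 1, 0, 1],
    [0, 1, 0, 1, 0, 1, 1, 0, 1, 1, 0, 1, 0, 1],
    [0, 1, 0, 1, 1, 0, 1, 0, 1, 0, 1, 1, 0, 1],
    [0, 1, 0, 1, 1, 0, 1, 0, 1, 1, 0, 1, 0, 1],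
    [0, 1, 0, 1, 1, 0, 1, 0, 1, 1, 0, 1, 1, 0],
    [0, 1, 0, 1, 1, 0, 1, 1, 0, 1, 0, 1, 0, 1],
    [0, 1, 0, 1, 1, 0, 1, 1, 0, 1, 0, 1, 1, 0],
    [0, 1, 1, 0, 1, 0, 1, 0, 1, 1, 0, 1, 0, 1],
    [0, 1, 1, 0, 1, 0, 1, 0, 1, 1, 0, 1, 1, 0],
    [0, 1, 1, 0, 1, 0, 1, 1, 0, 1, 0, 1, 0, 1],
    [0, 1, 1, 0, 1, 0, 1, 1, 0, 1, 0, 1, 1, 0],
    [0, 1, 1, 0, 1, 0, 1, 1, 0, 1, 1, 0, 1, 0],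
    [0, 1, 1, 0, 1, 1, 0, 1, 0, 1, 0, 1, 1, 0],
    [0, 1, 1, 0, 1, 1, 0, 1, 0, 1, 1, 0, 1, 0],
    [0, 1, 1, 0, 1, 1, 0, 1, 0, 1, 1, 0, 1, 1],
    [1, 0, 1, 0, 1, 0, 1, 1, 0, 1, 0, 1, 0, 1],
    [1, 0, 1, 0, 1, 0, 1, 1, 0, 1, 0, 1, 1, 0],
    [1, 0, 1, 0, 1, 0, 1, 1, 0, 1, 1, 0, 1, 0],
    [1, 0, 1, 0, 1, 1, 0, 1, 0, 1, 0, 1, 1, 0],
    [1, 0, 1, 0, 1, 1, 0, 1, 0, 1, 1, 0, 1, 0],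
    [1, 0, 1, 0, 1, 1, 0, 1, 0, 1, 1, 0, 1, 1],
    [1, 0, 1, 0, 1, 1, 0, 1, 1, 0, 1, 0, 1, 0],
    [1, 0, 1, 0, 1, 1, 0, 1, 1, 0, 1, 0, 1, 1],
    [1, 0, 1, 1, 0, 1, 0, 1, 0, 1, 1, 0, 1, 0],
    [1, 0, 1, 1, 0, 1, 0, 1, 0, 1, 1, 0, 1, 1],
    [1, 0, 1, 1, 0, 1, 0, 1, 1, 0, 1, 0, 1, 0],
    [1, 0, 1, 1, 0, 1, 0, 1, 1, 0, 1, 0, 1, 1],
    [1, 0, 1, 1, 0, 1, 0, 1, 1, 0, 1, 1, 0, 1],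
    [1, 0, 1, 1, 0, 1, 1, 0, 1, 0, 1, 0, 1, 0],
    [1, 0, 1, 1, 0, 1, 1, 0, 1, 0, 1, 0, 1, 1],
    [1, 0, 1, 1, 0, 1, 1, 0, 1, 0, 1, 1, 0, 1],
    [1, 1, 0, 1, 0, 1, 0, 1, 1, 0, 1, 0, 1, 0],
    [1, 1, 0, 1, 0, 1, 0, 1, 1, 0, 1, 0, 1, 1],
    [1, 1, 0, 1, 0, 1, 0, 1, 1, 0, 1, 1, 0, 1],
    [1, 1, 0, 1, 0, 1, 1, 0, 1, 0, 1, 0, 1, 0],
    [1, 1, 0, 1, 0, 1, 1, 0, 1, 0, 1, 0, 1, 1],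
    [1, 1, 0, 1, 0, 1, 1, 0, 1, 0, 1, 1, 0, 1],
    [1, 1, 0, 1, 0, 1, 1, 0, 1, 1, 0, 1, 0, 1],
    [1, 1, 0, 1, 1, 0, 1, 0, 1, 0, 1, 1, 0, 1],
    [1, 1, 0, 1, 1, 0, 1, 0, 1, 1, 0, 1, 0, 1],
    [1, 1, 0, 1, 1, 0, 1, 0, 1, 1, 0, 1, 1, 0],
    [0, 1, 0, 1, 0, 1, 0, 1, 1, 0, 1, 0, 1, 1, 0],
    [0, 1, 0, 1, 0, 1, 0, 1, 1, 0, 1, 1, 0, 1, 0],
    [0, 1, 0, 1, 0, 1, 1, 0, 1, 0, 1, 0, 1, 1, 0],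
    [0, 1, 0, 1, 0, 1, 1, 0, 1, 0, 1, 1, 0, 1, 0],
    [0, 1, 0, 1, 0, 1, 1, 0, 1, 0, 1, 1, 0, 1, 1],
    [0, 1, 0, 1, 0, 1, 1, 0, 1, 1, 0, 1, 0, 1, 0],
    [0, 1, 0, 1, 0, 1, 1, 0, 1, 1, 0, 1, 0, 1, 1],
    [0, 1, 0, 1, 1, 0, 1, 0, 1, 0, 1, 1, 0, 1, 0],
    [0, 1, 0, 1, 1, 0, 1, 0, 1, 0, 1, 1, 0, 1, 1],
    [0, 1, 0, 1, 1, 0, 1, 0, 1, 1, 0, 1, 0, 1, 0],
    [0, 1, 0, 1, 1, 0, 1, 0, 1, 1, 0, 1, 0, 1, 1],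
    [0, 1, 0, 1, 1, 0, 1, 0, 1, 1, 0, 1, 1, 0, 1],
    [0, 1, 0, 1, 1, 0, 1, 1, 0, 1, 0, 1, 0, 1, 0],
    [0, 1, 0, 1, 1, 0, 1, 1, 0, 1, 0, 1, 0, 1, 1],
    [0, 1, 0, 1, 1, 0, 1, 1, 0, 1, 0, 1, 1, 0, 1],
    [0, 1, 1, 0, 1, 0, 1, 0, 1, 1, 0, 1, 0, 1, 0],
    [0, 1, 1, 0, 1, 0, 1, 0, 1, 1, 0, 1, 0, 1, 1],
    [0, 1, 1, 0, 1, 0, 1, 0, 1, 1, 0, 1, 1, 0, 1],
    [0, 1, 1, 0, 1, 0, 1, 1, 0, 1, 0, 1, 0, 1, 0],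
    [0, 1, 1, 0, 1, 0, 1, 1, 0, 1, 0, 1, 0, 1, 1],
    [0, 1, 1, 0, 1, 0, 1, 1, 0, 1, 0, 1, 1, 0, 1],
    [0, 1, 1, 0, 1, 0, 1, 1, 0, 1, 1, 0, 1, 0, 1],
    [0, 1, 1, 0, 1, 1, 0, 1, 0, 1, 0, 1, 1, 0, 1],
    [0, 1, 1, 0, 1, 1, 0, 1, 0, 1, 1, 0, 1, 0, 1],
    [1, 0, 1, 0, 1, 0, 1, 1, 0, 1, 0, 1, 0, 1, 1],
    [1, 0, 1, 0, 1, 0, 1, 1, 0, 1, 0, 1, 1, 0, 1],
    [1, 0, 1, 0, 1, 0, 1, 1, 0, 1, 1, 0, 1, 0, 1],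
    [1, 0, 1, 0, 1, 1, 0, 1, 0, 1, 0, 1, 1, 0, 1],
    [1, 0, 1, 0, 1, 1, 0, 1, 0, 1, 1, 0, 1, 0, 1],
    [1, 0, 1, 0, 1, 1, 0, 1, 0, 1, 1, 0, 1, 1, 0],
    [1, 0, 1, 0, 1, 1, 0, 1, 1, 0, 1, 0, 1, 0, 1],
    [1, 0, 1, 0, 1, 1, 0, 1, 1, 0, 1, 0, 1, 1, 0],
    [1, 0, 1, 1, 0, 1, 0, 1, 0, 1, 1, 0, 1, 0, 1],
    [1, 0, 1, 1, 0, 1, 0, 1, 0, 1, 1, 0, 1, 1, 0],
    [1, 0, 1, 1, 0, 1, 0, 1, 1, 0, 1, 0, 1, 0, 1],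
    [1, 0, 1, 1, 0, 1, 0, 1, 1, 0, 1, 0, 1, 1, 0],
    [1, 0, 1, 1, 0, 1, 0, 1, 1, 0, 1, 1, 0, 1, 0],
    [1, 0, 1, 1, 0, 1, 1, 0, 1, 0, 1, 0, 1, 1, 0],
    [1, 0, 1, 1, 0, 1, 1, 0, 1, 0, 1, 1, 0, 1, 0],
    [1, 0, 1, 1, 0, 1, 1, 0, 1, 0, 1, 1, 0, 1, 1],
    [1, 1, 0, 1, 0, 1, 0, 1, 1, 0, 1, 0, 1, 0, 1],
    [1, 1, 0, 1, 0, 1, 0, 1, 1, 0, 1, 0, 1, 1, 0],
    [1, 1, 0, 1, 0, 1, 0, 1, 1, 0, 1, 1, 0, 1, 0],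
    [1, 1, 0, 1, 0, 1, 1, 0, 1, 0, 1, 0, 1, 1, 0],
    [1, 1, 0, 1, 0, 1, 1, 0, 1, 0, 1, 1, 0, 1, 0],
    [1, 1, 0, 1, 0, 1, 1, 0, 1, 0, 1, 1, 0, 1, 1],
    [1, 1, 0, 1, 0, 1, 1, 0, 1, 1, 0, 1, 0, 1, 0],
    [1, 1, 0, 1, 0, 1, 1, 0, 1, 1, 0, 1, 0, 1, 1],
    [1, 1, 0, 1, 1, 0, 1, 0, 1, 0, 1, 1, 0, 1, 0],
    [1, 1, 0, 1, 1, 0, 1, 0, 1, 0, 1, 1, 0, 1, 1],
    [1, 1, 0, 1, 1, 0, 1, 0, 1, 1, 0, 1, 0, 1, 0],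
    [1, 1, 0, 1, 1, 0, 1, 0, 1, 1, 0, 1, 0, 1, 1],
    [1, 1, 0, 1, 1, 0, 1, 0, 1, 1, 0, 1, 1, 0, 1],
    [0, 1, 0, 1, 0, 1, 0, 1, 1, 0, 1, 0, 1, 1, 0, 1],
    [0, 1, 0, 1, 0, 1, 0, 1, 1, 0, 1, 1, 0, 1, 0, 1],
    [0, 1, 0, 1, 0, 1, 1, 0, 1, 0, 1, 0, 1, 1, 0, 1],
    [0, 1, 0, 1, 0, 1, 1, 0, 1, 0, 1, 1, 0, 1, 0, 1],
    [0, 1, 0, 1, 0, 1, 1, 0, 1, 0, 1, 1, 0, 1, 1, 0],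
    [0, 1, 0, 1, 0, 1, 1, 0, 1, 1, 0, 1, 0, 1, 0, 1],
    [0, 1, 0, 1, 0, 1, 1, 0, 1, 1, 0, 1, 0, 1, 1, 0],
    [0, 1, 0, 1, 1, 0, 1, 0, 1, 0, 1, 1, 0, 1, 0, 1],
    [0, 1, 0, 1, 1, 0, 1, 0, 1, 0, 1, 1, 0, 1, 1, 0],
    [0, 1, 0, 1, 1, 0, 1, 0, 1, 1, 0, 1, 0, 1, 0, 1],
    [0, 1, 0, 1, 1, 0, 1, 0, 1, 1, 0, 1, 0, 1, 1, 0],
    [0, 1, 0, 1, 1, 0, 1, 0, 1, 1, 0, 1, 1, 0, 1, 0],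
    [0, 1, 0, 1, 1, 0, 1, 1, 0, 1, 0, 1, 0, 1, 1, 0],
    [0, 1, 0, 1, 1, 0, 1, 1, 0, 1, 0, 1, 1, 0, 1, 0],
    [0, 1, 0, 1, 1, 0, 1, 1, 0, 1, 0, 1, 1, 0, 1, 1],
    [0, 1, 1, 0, 1, 0, 1, 0, 1, 1, 0, 1, 0, 1, 0, 1],
    [0, 1, 1, 0, 1, 0, 1, 0, 1, 1, 0, 1, 0, 1, 1, 0],
    [0, 1, 1, 0, 1, 0, 1, 0, 1, 1, 0, 1, 1, 0, 1, 0],
    [0, 1, 1, 0, 1, 0, 1, 1, 0, 1, 0, 1, 0, 1, 1, 0],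
    [0, 1, 1, 0, 1, 0, 1, 1, 0, 1, 0, 1, 1, 0, 1, 0],
    [0, 1, 1, 0, 1, 0, 1, 1, 0, 1, 0, 1, 1, 0, 1, 1],
    [0, 1, 1, 0, 1, 0, 1, 1, 0, 1, 1, 0, 1, 0, 1, 0],
    [0, 1, 1, 0, 1, 0, 1, 1, 0, 1, 1, 0, 1, 0, 1, 1],
    [0, 1, 1, 0, 1, 1, 0, 1, 0, 1, 0, 1, 1, 0, 1, 0],
    [0, 1, 1, 0, 1, 1, 0, 1, 0, 1, 0, 1, 1, 0, 1, 1],
    [0, 1, 1, 0, 1, 1, 0, 1, 0, 1, 1, 0, 1, 0, 1, 0],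
    [0, 1, 1, 0, 1, 1, 0, 1, 0, 1, 1, 0, 1, 0, 1, 1],
    [1, 0, 1, 0, 1, 0, 1, 1, 0, 1, 0, 1, 0, 1, 1, 0],
    [1, 0, 1, 0, 1, 0, 1, 1, 0, 1, 0, 1, 1, 0, 1, 0],
    [1, 0, 1, 0, 1, 0, 1, 1, 0, 1, 0, 1, 1, 0, 1, 1],
    [1, 0, 1, 0, 1, 0, 1, 1, 0, 1, 1, 0, 1, 0, 1, 0],
    [1, 0, 1, 0, 1, 0, 1, 1, 0, 1, 1, 0, 1, 0, 1, 1],
    [1, 0, 1, 0, 1, 1, 0, 1, 0, 1, 0, 1, 1, 0, 1, 1],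
    [1, 0, 1, 0, 1, 1, 0, 1, 0, 1, 1, 0, 1, 0, 1, 0],
    [1, 0, 1, 0, 1, 1, 0, 1, 0, 1, 1, 0, 1, 0, 1, 1],
    [1, 0, 1, 0, 1, 1, 0, 1, 0, 1, 1, 0, 1, 1, 0, 1],
    [1, 0, 1, 0, 1, 1, 0, 1, 1, 0, 1, 0, 1, 0, 1, 0],
    [1, 0, 1, 0, 1, 1, 0, 1, 1, 0, 1, 0, 1, 0, 1, 1],
    [1, 0, 1, 0, 1, 1, 0, 1, 1, 0, 1, 0, 1, 1, 0, 1],
    [1, 0, 1, 1, 0, 1, 0, 1, 0, 1, 1, 0, 1, 0, 1, 1],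
    [1, 0, 1, 1, 0, 1, 0, 1, 0, 1, 1, 0, 1, 1, 0, 1],
    [1, 0, 1, 1, 0, 1, 0, 1, 1, 0, 1, 0, 1, 0, 1, 0],
    [1, 0, 1, 1, 0, 1, 0, 1, 1, 0, 1, 0, 1, 0, 1, 1],
    [1, 0, 1, 1, 0, 1, 0, 1, 1, 0, 1, 0, 1, 1, 0, 1],
    [1, 0, 1, 1, 0, 1, 0, 1, 1, 0, 1, 1, 0, 1, 0, 1],
    [1, 0, 1, 1, 0, 1, 1, 0, 1, 0, 1, 0, 1, 1, 0, 1],
    [1, 0, 1, 1, 0, 1, 1, 0, 1, 0, 1, 1, 0, 1, 0, 1],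
    [1, 1, 0, 1, 0, 1, 0, 1, 1, 0, 1, 0, 1, 0, 1, 1],
    [1, 1, 0, 1, 0, 1, 0, 1, 1, 0, 1, 0, 1, 1, 0, 1],
    [1, 1, 0, 1, 0, 1, 0, 1, 1, 0, 1, 1, 0, 1, 0, 1],
    [1, 1, 0, 1, 0, 1, 1, 0, 1, 0, 1, 0, 1, 1, 0, 1],
    [1, 1, 0, 1, 0, 1, 1, 0, 1, 0, 1, 1, 0, 1, 0, 1],
    [1, 1, 0, 1, 0, 1, 1, 0, 1, 0, 1, 1, 0, 1, 1, 0],
    [1, 1, 0, 1, 0, 1, 1, 0, 1, 1, 0, 1, 0, 1, 0, 1],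
    [1, 1, 0, 1, 0, 1, 1, 0, 1, 1, 0, 1, 0, 1, 1, 0],
    [1, 1, 0, 1, 1, 0, 1, 0, 1, 0, 1, 1, 0, 1, 0, 1],
    [1, 1, 0, 1, 1, 0, 1, 0, 1, 0, 1, 1, 0, 1, 1, 0],
    [1, 1, 0, 1, 1, 0, 1, 0, 1, 1, 0, 1, 0, 1, 0, 1],
    [1, 1, 0, 1, 1, 0, 1, 0, 1, 1, 0, 1, 0, 1, 1, 0],
    [1, 1, 0, 1, 1, 0, 1, 0, 1, 1, 0, 1, 1, 0, 1, 0],
    [0, 1, 0, 1, 0, 1, 0, 1, 1, 0, 1, 0, 1, 1, 0, 1, 0],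
    [0, 1, 0, 1, 0, 1, 0, 1, 1, 0, 1, 0, 1, 1, 0, 1, 1],
    [0, 1, 0, 1, 0, 1, 0, 1, 1, 0, 1, 1, 0, 1, 0, 1, 0],
    [0, 1, 0, 1, 0, 1, 0, 1, 1, 0, 1, 1, 0, 1, 0, 1, 1],
    [0, 1, 0, 1, 0, 1, 1, 0, 1, 0, 1, 0, 1, 1, 0, 1, 1],
    [0, 1, 0, 1, 0, 1, 1, 0, 1, 0, 1, 1, 0, 1, 0, 1, 0],
    [0, 1, 0, 1, 0, 1, 1, 0, 1, 0, 1, 1, 0, 1, 0, 1, 1],
    [0, 1, 0, 1, 0, 1, 1, 0, 1, 0, 1, 1, 0, 1, 1, 0, 1],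
    [0, 1, 0, 1, 0, 1, 1, 0, 1, 1, 0, 1, 0, 1, 0, 1, 0],
    [0, 1, 0, 1, 0, 1, 1, 0, 1, 1, 0, 1, 0, 1, 0, 1, 1],
    [0, 1, 0, 1, 0, 1, 1, 0, 1, 1, 0, 1, 0, 1, 1, 0, 1],
    [0, 1, 0, 1, 1, 0, 1, 0, 1, 0, 1, 1, 0, 1, 0, 1, 1],
    [0, 1, 0, 1, 1, 0, 1, 0, 1, 0, 1, 1, 0, 1, 1, 0, 1],
    [0, 1, 0, 1, 1, 0, 1, 0, 1, 1, 0, 1, 0, 1, 0, 1, 0],
    [0, 1, 0, 1, 1, 0, 1, 0, 1, 1, 0, 1, 0, 1, 0, 1, 1],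
    [0, 1, 0, 1, 1, 0, 1, 0, 1, 1, 0, 1, 0, 1, 1, 0, 1],
    [0, 1, 0, 1, 1, 0, 1, 0, 1, 1, 0, 1, 1, 0, 1, 0, 1],
    [0, 1, 0, 1, 1, 0, 1, 1, 0, 1, 0, 1, 0, 1, 1, 0, 1],
    [0, 1, 0, 1, 1, 0, 1, 1, 0, 1, 0, 1, 1, 0, 1, 0, 1],
    [0, 1, 1, 0, 1, 0, 1, 0, 1, 1, 0, 1, 0, 1, 0, 1, 1],
    [0, 1, 1, 0, 1, 0, 1, 0, 1, 1, 0, 1, 0, 1, 1, 0, 1],
    [0, 1, 1, 0, 1, 0, 1, 0, 1, 1, 0, 1, 1, 0, 1, 0, 1],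
    [0, 1, 1, 0, 1, 0, 1, 1, 0, 1, 0, 1, 0, 1, 1, 0, 1],
    [0, 1, 1, 0, 1, 0, 1, 1, 0, 1, 0, 1, 1, 0, 1, 0, 1],
    [0, 1, 1, 0, 1, 0, 1, 1, 0, 1, 0, 1, 1, 0, 1, 1, 0],
    [0, 1, 1, 0, 1, 0, 1, 1, 0, 1, 1, 0, 1, 0, 1, 0, 1],
    [0, 1, 1, 0, 1, 0, 1, 1, 0, 1, 1, 0, 1, 0, 1, 1, 0],
    [0, 1, 1, 0, 1, 1, 0, 1, 0, 1, 0, 1, 1, 0, 1, 0, 1],
    [0, 1, 1, 0, 1, 1, 0, 1, 0, 1, 0, 1, 1, 0, 1, 1, 0],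
    [0, 1, 1, 0, 1, 1, 0, 1, 0, 1, 1, 0, 1, 0, 1, 0, 1],
    [0, 1, 1, 0, 1, 1, 0, 1, 0, 1, 1, 0, 1, 0, 1, 1, 0],
    [1, 0, 1, 0, 1, 0, 1, 1, 0, 1, 0, 1, 0, 1, 1, 0, 1],
    [1, 0, 1, 0, 1, 0, 1, 1, 0, 1, 0, 1, 1, 0, 1, 0, 1],
    [1, 0, 1, 0, 1, 0, 1, 1, 0, 1, 0, 1, 1, 0, 1, 1, 0],
    [1, 0, 1, 0, 1, 0, 1, 1, 0, 1, 1, 0, 1, 0, 1, 0, 1],
    [1, 0, 1, 0, 1, 0, 1, 1, 0, 1, 1, 0, 1, 0, 1, 1, 0],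
    [1, 0, 1, 0, 1, 1, 0, 1, 0, 1, 0, 1, 1, 0, 1, 1, 0],
    [1, 0, 1, 0, 1, 1, 0, 1, 0, 1, 1, 0, 1, 0, 1, 0, 1],
    [1, 0, 1, 0, 1, 1, 0, 1, 0, 1, 1, 0, 1, 0, 1, 1, 0],
    [1, 0, 1, 0, 1, 1, 0, 1, 1, 0, 1, 0, 1, 0, 1, 1, 0],
    [1, 0, 1, 0, 1, 1, 0, 1, 1, 0, 1, 0, 1, 1, 0, 1, 0],
    [1, 0, 1, 0, 1, 1, 0, 1, 1, 0, 1, 0, 1, 1, 0, 1, 1],
    [1, 0, 1, 1, 0, 1, 0, 1, 0, 1, 1, 0, 1, 1, 0, 1, 0],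
    [1, 0, 1, 1, 0, 1, 0, 1, 1, 0, 1, 0, 1, 0, 1, 1, 0],
    [1, 0, 1, 1, 0, 1, 0, 1, 1, 0, 1, 0, 1, 1, 0, 1, 0],
    [1, 0, 1, 1, 0, 1, 0, 1, 1, 0, 1, 0, 1, 1, 0, 1, 1],
    [1, 0, 1, 1, 0, 1, 0, 1, 1, 0, 1, 1, 0, 1, 0, 1, 0],
    [1, 0, 1, 1, 0, 1, 0, 1, 1, 0, 1, 1, 0, 1, 0, 1, 1],
    [1, 0, 1, 1, 0, 1, 1, 0, 1, 0, 1, 0, 1, 1, 0, 1, 0],
    [1, 0, 1, 1, 0, 1, 1, 0, 1, 0, 1, 0, 1, 1, 0, 1, 1],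
    [1, 0, 1, 1, 0, 1, 1, 0, 1, 0, 1, 1, 0, 1, 0, 1, 1],
    [1, 1, 0, 1, 0, 1, 0, 1, 1, 0, 1, 0, 1, 1, 0, 1, 0],
    [1, 1, 0, 1, 0, 1, 0, 1, 1, 0, 1, 0, 1, 1, 0, 1, 1],
    [1, 1, 0, 1, 0, 1, 0, 1, 1, 0, 1, 1, 0, 1, 0, 1, 0],
    [1, 1, 0, 1, 0, 1, 0, 1, 1, 0, 1, 1, 0, 1, 0, 1, 1],
    [1, 1, 0, 1, 0, 1, 1, 0, 1, 0, 1, 0, 1, 1, 0, 1, 1],
    [1, 1, 0, 1, 0, 1, 1, 0, 1, 0, 1, 1, 0, 1, 0, 1, 0],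
    [1, 1, 0, 1, 0, 1, 1, 0, 1, 0, 1, 1, 0, 1, 0, 1, 1],
    [1, 1, 0, 1, 0, 1, 1, 0, 1, 0, 1, 1, 0, 1, 1, 0, 1],
    [1, 1, 0, 1, 0, 1, 1, 0, 1, 1, 0, 1, 0, 1, 0, 1, 0],
    [1, 1, 0, 1, 0, 1, 1, 0, 1, 1, 0, 1, 0, 1, 0, 1, 1],
    [1, 1, 0, 1, 0, 1, 1, 0, 1, 1, 0, 1, 0, 1, 1, 0, 1],
    [1, 1, 0, 1, 1, 0, 1, 0, 1, 0, 1, 1, 0, 1, 0, 1, 1],
    [1, 1, 0, 1, 1, 0, 1, 0, 1, 0, 1, 1, 0, 1, 1, 0, 1],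
    [1, 1, 0, 1, 1, 0, 1, 0, 1, 1, 0, 1, 0, 1, 0, 1, 0],
    [1, 1, 0, 1, 1, 0, 1, 0, 1, 1, 0, 1, 0, 1, 0, 1, 1],
    [1, 1, 0, 1, 1, 0, 1, 0, 1, 1, 0, 1, 0, 1, 1, 0, 1],
    [1, 1, 0, 1, 1, 0, 1, 0, 1, 1, 0, 1, 1, 0, 1, 0, 1],
    [0, 1, 0, 1, 0, 1, 0, 1, 1, 0, 1, 0, 1, 1, 0, 1, 1, 0],
    [0, 1, 0, 1, 0, 1, 0, 1, 1, 0, 1, 1, 0, 1, 0, 1, 0, 1],
    [0, 1, 0, 1, 0, 1, 0, 1, 1, 0, 1, 1, 0, 1, 0, 1, 1, 0],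
    [0, 1, 0, 1, 0, 1, 1, 0, 1, 0, 1, 1, 0, 1, 0, 1, 1, 0],
    [0, 1, 0, 1, 1, 0, 1, 0, 1, 1, 0, 1, 0, 1, 0, 1, 1, 0],
    [0, 1, 0, 1, 1, 0, 1, 0, 1, 1, 0, 1, 0, 1, 1, 0, 1, 0],
    [0, 1, 0, 1, 1, 0, 1, 0, 1, 1, 0, 1, 0, 1, 1, 0, 1, 1],
    [0, 1, 0, 1, 1, 0, 1, 0, 1, 1, 0, 1, 1, 0, 1, 0, 1, 1],
    [0, 1, 0, 1, 1, 0, 1, 1, 0, 1, 0, 1, 1, 0, 1, 0, 1, 1],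
    [0, 1, 1, 0, 1, 0, 1, 0, 1, 1, 0, 1, 0, 1, 1, 0, 1, 0],
    [0, 1, 1, 0, 1, 0, 1, 0, 1, 1, 0, 1, 0, 1, 1, 0, 1, 1],
    [0, 1, 1, 0, 1, 0, 1, 1, 0, 1, 0, 1, 0, 1, 1, 0, 1, 1],
    [0, 1, 1, 0, 1, 0, 1, 1, 0, 1, 0, 1, 1, 0, 1, 0, 1, 0],
    [0, 1, 1, 0, 1, 0, 1, 1, 0, 1, 0, 1, 1, 0, 1, 0, 1, 1],
    [0, 1, 1, 0, 1, 0, 1, 1, 0, 1, 0, 1, 1, 0, 1, 1, 0, 1],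
    [0, 1, 1, 0, 1, 0, 1, 1, 0, 1, 1, 0, 1, 0, 1, 0, 1, 0],
    [0, 1, 1, 0, 1, 0, 1, 1, 0, 1, 1, 0, 1, 0, 1, 1, 0, 1],
    [0, 1, 1, 0, 1, 1, 0, 1, 0, 1, 0, 1, 1, 0, 1, 0, 1, 1],
    [0, 1, 1, 0, 1, 1, 0, 1, 0, 1, 1, 0, 1, 0, 1, 0, 1, 0],
    [0, 1, 1, 0, 1, 1, 0, 1, 0, 1, 1, 0, 1, 0, 1, 0, 1, 1],
    [0, 1, 1, 0, 1, 1, 0, 1, 0, 1, 1, 0, 1, 0, 1, 1, 0, 1],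
    [1, 0, 1, 0, 1, 0, 1, 1, 0, 1, 0, 1, 0, 1, 1, 0, 1, 1],
    [1, 0, 1, 0, 1, 0, 1, 1, 0, 1, 0, 1, 1, 0, 1, 0, 1, 1],
    [1, 0, 1, 0, 1, 0, 1, 1, 0, 1, 1, 0, 1, 0, 1, 1, 0, 1],
    [1, 0, 1, 0, 1, 1, 0, 1, 0, 1, 1, 0, 1, 0, 1, 0, 1, 1],
    [1, 0, 1, 0, 1, 1, 0, 1, 0, 1, 1, 0, 1, 0, 1, 1, 0, 1],
    [1, 0, 1, 0, 1, 1, 0, 1, 1, 0, 1, 0, 1, 1, 0, 1, 0, 1],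
    [1, 0, 1, 1, 0, 1, 0, 1, 1, 0, 1, 0, 1, 0, 1, 1, 0, 1],
    [1, 0, 1, 1, 0, 1, 0, 1, 1, 0, 1, 0, 1, 1, 0, 1, 0, 1],
    [1, 0, 1, 1, 0, 1, 0, 1, 1, 0, 1, 0, 1, 1, 0, 1, 1, 0],
    [1, 0, 1, 1, 0, 1, 0, 1, 1, 0, 1, 1, 0, 1, 0, 1, 0, 1],
    [1, 0, 1, 1, 0, 1, 1, 0, 1, 0, 1, 1, 0, 1, 0, 1, 1, 0],
    [1, 1, 0, 1, 0, 1, 0, 1, 1, 0, 1, 0, 1, 1, 0, 1, 0, 1],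
    [1, 1, 0, 1, 0, 1, 1, 0, 1, 0, 1, 0, 1, 1, 0, 1, 1, 0],
    [1, 1, 0, 1, 0, 1, 1, 0, 1, 0, 1, 1, 0, 1, 0, 1, 0, 1],
    [1, 1, 0, 1, 0, 1, 1, 0, 1, 0, 1, 1, 0, 1, 0, 1, 1, 0],
    [1, 1, 0, 1, 0, 1, 1, 0, 1, 1, 0, 1, 0, 1, 1, 0, 1, 1],
    [1, 1, 0, 1, 1, 0, 1, 0, 1, 1, 0, 1, 0, 1, 1, 0, 1, 0],
    [1, 1, 0, 1, 1, 0, 1, 0, 1, 1, 0, 1, 0, 1, 1, 0, 1, 1],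
    [1, 1, 0, 1, 1, 0, 1, 0, 1, 1, 0, 1, 1, 0, 1, 0, 1, 1],
    [0, 1, 0, 1, 0, 1, 0, 1, 1, 0, 1, 1, 0, 1, 0, 1, 1, 0, 1],
    [0, 1, 0, 1, 0, 1, 1, 0, 1, 0, 1, 1, 0, 1, 0, 1, 1, 0, 1],
    [0, 1, 0, 1, 1, 0, 1, 0, 1, 1, 0, 1, 0, 1, 0, 1, 1, 0, 1],
    [0, 1, 0, 1, 1, 0, 1, 0, 1, 1, 0, 1, 0, 1, 1, 0, 1, 0, 1],
    [0, 1, 0, 1, 1, 0, 1, 0, 1, 1, 0, 1, 0, 1, 1, 0, 1, 1, 0],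
    [0, 1, 1, 0, 1, 0, 1, 1, 0, 1, 0, 1, 0, 1, 1, 0, 1, 1, 0],
    [0, 1, 1, 0, 1, 0, 1, 1, 0, 1, 0, 1, 1, 0, 1, 0, 1, 0, 1],
    [0, 1, 1, 0, 1, 0, 1, 1, 0, 1, 0, 1, 1, 0, 1, 0, 1, 1, 0],
    [0, 1, 1, 0, 1, 0, 1, 1, 0, 1, 1, 0, 1, 0, 1, 1, 0, 1, 1],
    [0, 1, 1, 0, 1, 1, 0, 1, 0, 1, 1, 0, 1, 0, 1, 1, 0, 1, 0],
    [0, 1, 1, 0, 1, 1, 0, 1, 0, 1, 1, 0, 1, 0, 1, 1, 0, 1, 1],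
    [1, 0, 1, 0, 1, 0, 1, 1, 0, 1, 0, 1, 1, 0, 1, 0, 1, 1, 0],
    [1, 0, 1, 0, 1, 1, 0, 1, 0, 1, 1, 0, 1, 0, 1, 1, 0, 1, 0],
    [1, 0, 1, 0, 1, 1, 0, 1, 0, 1, 1, 0, 1, 0, 1, 1, 0, 1, 1],
    [1, 0, 1, 1, 0, 1, 0, 1, 1, 0, 1, 0, 1, 0, 1, 1, 0, 1, 1],
    [1, 0, 1, 1, 0, 1, 0, 1, 1, 0, 1, 0, 1, 1, 0, 1, 0, 1, 0],
    [1, 0, 1, 1, 0, 1, 0, 1, 1, 0, 1, 0, 1, 1, 0, 1, 0, 1, 1],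
    [1, 0, 1, 1, 0, 1, 0, 1, 1, 0, 1, 0, 1, 1, 0, 1, 1, 0, 1],
    [1, 0, 1, 1, 0, 1, 0, 1, 1, 0, 1, 1, 0, 1, 0, 1, 0, 1, 0],
    [1, 0, 1, 1, 0, 1, 1, 0, 1, 0, 1, 1, 0, 1, 0, 1, 1, 0, 1],
    [1, 1, 0, 1, 0, 1, 0, 1, 1, 0, 1, 0, 1, 1, 0, 1, 0, 1, 1],
    [1, 1, 0, 1, 0, 1, 1, 0, 1, 0, 1, 1, 0, 1, 0, 1, 0, 1, 1],
    [1, 1, 0, 1, 0, 1, 1, 0, 1, 0, 1, 1, 0, 1, 0, 1, 1, 0, 1],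
    [1, 1, 0, 1, 1, 0, 1, 0, 1, 1, 0, 1, 0, 1, 1, 0, 1, 0, 1],
    [1, 1, 0, 1, 1, 0, 1, 0, 1, 1, 0, 1, 0, 1, 1, 0, 1, 1, 0],
    [0, 1, 0, 1, 0, 1, 1, 0, 1, 0, 1, 1, 0, 1, 0, 1, 1, 0, 1, 0],
    [0, 1, 0, 1, 0, 1, 1, 0, 1, 0, 1, 1, 0, 1, 0, 1, 1, 0, 1, 1],
    [0, 1, 0, 1, 1, 0, 1, 0, 1, 1, 0, 1, 0, 1, 1, 0, 1, 0, 1, 0],
    [0, 1, 0, 1, 1, 0, 1, 0, 1, 1, 0, 1, 0, 1, 1, 0, 1, 0, 1, 1],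
    [0, 1, 0, 1, 1, 0, 1, 0, 1, 1, 0, 1, 0, 1, 1, 0, 1, 1, 0, 1],
    [0, 1, 1, 0, 1, 0, 1, 1, 0, 1, 0, 1, 1, 0, 1, 0, 1, 0, 1, 1],
    [0, 1, 1, 0, 1, 0, 1, 1, 0, 1, 0, 1, 1, 0, 1, 0, 1, 1, 0, 1],
    [0, 1, 1, 0, 1, 1, 0, 1, 0, 1, 1, 0, 1, 0, 1, 1, 0, 1, 0, 1],
    [1, 0, 1, 0, 1, 1, 0, 1, 0, 1, 1, 0, 1, 0, 1, 1, 0, 1, 1, 0],
    [1, 0, 1, 1, 0, 1, 0, 1, 1, 0, 1, 0, 1, 1, 0, 1, 0, 1, 1, 0],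
    [1, 0, 1, 1, 0, 1, 1, 0, 1, 0, 1, 1, 0, 1, 0, 1, 1, 0, 1, 0],
    [1, 1, 0, 1, 0, 1, 0, 1, 1, 0, 1, 0, 1, 1, 0, 1, 0, 1, 1, 0],
    [1, 1, 0, 1, 0, 1, 1, 0, 1, 0, 1, 1, 0, 1, 0, 1, 1, 0, 1, 0],
    [1, 1, 0, 1, 1, 0, 1, 0, 1, 1, 0, 1, 0, 1, 1, 0, 1, 0, 1, 0],
    [0, 1, 0, 1, 0, 1, 1, 0, 1, 0, 1, 1, 0, 1, 0, 1, 1, 0, 1, 1, 0],
    [0, 1, 0, 1, 1, 0, 1, 0, 1, 1, 0, 1, 0, 1, 1, 0, 1, 0, 1, 1, 0],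
    [0, 1, 1, 0, 1, 0, 1, 1, 0, 1, 0, 1, 1, 0, 1, 0, 1, 1, 0, 1, 0],
    [0, 1, 1, 0, 1, 1, 0, 1, 0, 1, 1, 0, 1, 0, 1, 1, 0, 1, 0, 1, 0],
    [1, 0, 1, 1, 0, 1, 0, 1, 1, 0, 1, 0, 1, 1, 0, 1, 0, 1, 1, 0, 1],
    [0, 1, 0, 1, 1, 0, 1, 0, 1, 1, 0, 1, 0, 1, 1, 0, 1, 0, 1, 1, 0, 1]]

def rhoT : List (List ℕ) :=
  [[1, 0, 4, 6, 2, 9, 3, 11, 12, 5, 15, 7, 8, 19, 20, 10, 23, 24, 26, 13, 14, 30, 31, 16, 17, 35, 18, 37, 38, 40, 21, 22, 44, 45, 47, 25, 50, 27, 28, 54, 29, 56, 57, 58, 32, 33, 62, 34, 64, 65, 36, 66, 67, 69, 39, 72, 41, 42, 43, 76, 77, 79, 46, 82, 48, 49, 51, 52, 88, 53, 90, 91, 55, 92, 93, 95, 59, 60, 99, 61, 101, 102, 63, 103, 104, 106, 108, 110, 68, 113, 70, 71, 73, 74, 119, 75, 121, 122, 124, 78, 127,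 80, 81, 83, 84, 133, 85, 135, 86, 137, 87, 139, 140, 89, 141, 142, 144, 146, 148, 94, 151, 96, 97, 155, 98, 157, 158, 100, 159, 160, 162, 164, 166, 105, 169, 107, 172, 109, 175, 111, 112, 114, 115, 181, 116, 183, 117, 185, 118, 187, 188, 120, 189, 190, 192, 123, 195, 125, 126, 128, 129, 201, 130, 203, 131, 205, 132, 207, 208, 134, 209, 210, 136, 213, 214, 138, 215, 216, 218, 220, 222, 143, 225, 145, 228, 147, 231, 149, 150, 152, 153, 237, 154, 238, 239, 156, 240, 241, 243, 245, 247, 161, 250, 163, 253, 165, 256, 167, 168, 170, 171, 212, 211, 173, 174, 176, 177, 267, 178, 269, 179, 271, 180, 273, 274, 182, 275, 276, 184, 279, 280, 186, 281, 282, 284, 286, 288, 191, 193, 194, 196, 197, 295, 198, 297, 199, 299,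 200, 301, 302, 202, 303, 304, 204, 307, 308, 206, 309, 310, 312, 314, 316, 318, 319, 321, 298, 324, 217, 327, 219, 293, 221, 332, 223, 224, 226, 227, 278, 277, 229, 230, 232, 233, 343, 234, 345, 235, 347, 236, 349, 350, 351, 353, 270, 356, 242, 359, 244, 265, 246, 364, 248, 249, 251, 252, 306, 305, 254, 255, 257, 258, 375, 259, 377, 260, 379, 261, 381, 262, 263, 384, 264, 386, 387, 266, 389, 369, 268, 390, 391, 373, 393, 272, 394, 395, 397, 399, 358, 370, 402, 404, 362, 407, 283, 410, 285, 382, 287, 415, 289, 290, 291, 419, 292, 421, 392, 294, 422, 337, 296, 400, 388, 341, 405, 300, 423, 424, 383, 411, 326, 338, 428, 414, 330, 431, 311, 434, 313, 418, 315, 437, 317, 346, 367, 320, 420, 322, 323, 361, 325, 328,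 329, 355, 331, 333, 334, 448, 335, 435, 336, 360, 450, 339, 438, 340, 363, 452, 342, 454, 445, 344, 368, 426, 446, 372, 348, 429, 456, 378, 352, 385, 354, 357, 365, 366, 463, 412, 451, 371, 416, 464, 374, 466, 443, 376, 398, 461, 380, 403, 468, 455, 470, 453, 433, 471, 409, 413, 474, 396, 477, 401, 427, 406, 442, 408, 440, 417, 483, 467, 465, 484, 436, 486, 425, 430, 459, 432, 458, 439, 473, 441, 444, 492, 469, 447, 493, 480, 449, 494, 495, 476, 496, 497, 457, 460, 498, 462, 499, 489, 488, 500, 501, 472, 475, 478, 479, 481, 482, 485, 487, 490, 491, 503, 502],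
    [2, 3, 5, 7, 8, 0, 10, 1, 13, 14, 16, 17, 18, 4, 21, 22, 6, 25, 27, 28, 29, 9, 32, 33, 34, 11, 36, 12, 39, 41, 42, 43, 15, 46, 48, 49, 51, 52, 53, 19, 55, 20, 58, 59, 60, 61, 23, 63, 24, 50, 35, 26, 68, 70, 71, 73, 74, 75, 30, 31, 78, 80, 81, 83, 84, 85, 86, 87, 37, 89, 38, 72, 54, 40, 94, 96, 97, 98, 44, 100, 45, 82, 62, 47, 105, 107, 109, 111, 112, 114, 115, 116, 117, 118, 56, 120, 57, 123, 125, 126, 128, 129, 130, 131, 132, 64, 134, 65, 136, 66, 138, 67, 113, 88, 69, 143, 145, 147, 149, 150, 152, 153, 154, 76, 156, 77, 127, 99, 79, 161, 163, 165, 167, 168, 170, 171, 173, 174, 176, 177, 178, 179, 180, 90, 182, 91, 184, 92, 186, 93, 151, 119, 95, 191, 193, 194, 196, 197, 198, 199, 200, 101, 202, 102, 204,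 103, 206, 104, 169, 133, 106, 211, 212, 108, 175, 137, 110, 217, 219, 221, 223, 224, 226, 227, 229, 230, 232, 233, 234, 235, 236, 121, 237, 122, 195, 155, 124, 242, 244, 246, 248, 249, 251, 252, 254, 255, 257, 258, 259, 260, 261, 135, 262, 263, 264, 265, 266, 139, 268, 140, 270, 141, 272, 142, 225, 181, 144, 277, 278, 146, 231, 185, 148, 283, 285, 287, 289, 290, 291, 292, 293, 294, 157, 296, 158, 298, 159, 300, 160, 250, 201, 162, 305, 306, 164, 256, 205, 166, 311, 313, 315, 317, 172, 320, 322, 323, 325, 326, 328, 329, 330, 331, 333, 334, 335, 336, 337, 183, 338, 339, 340, 341, 342, 187, 344, 188, 346, 189, 348, 190, 192, 352, 354, 355, 357, 358, 360, 361, 362, 363, 365, 366, 367, 368, 369, 203, 370, 371, 372,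 373, 374, 207, 376, 208, 378, 209, 380, 210, 382, 383, 213, 385, 214, 215, 388, 216, 327, 267, 218, 392, 220, 332, 271, 222, 396, 398, 400, 401, 228, 403, 405, 406, 408, 409, 411, 412, 413, 414, 416, 417, 418, 397, 238, 420, 239, 240, 391, 241, 359, 295, 243, 387, 245, 364, 299, 247, 425, 426, 390, 427, 253, 429, 393, 430, 432, 433, 399, 435, 436, 404, 438, 439, 440, 441, 353, 419, 442, 297, 443, 444, 303, 445, 269, 308, 446, 447, 273, 449, 274, 312, 275, 276, 451, 279, 437, 280, 281, 453, 282, 410, 343, 284, 455, 286, 415, 347, 288, 457, 458, 321, 384, 459, 460, 461, 462, 301, 302, 304, 450, 307, 309, 465, 310, 434, 375, 467, 314, 379, 316, 469, 318, 319, 452, 324, 472, 356, 473, 475, 476, 351, 478, 479, 386,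 480, 481, 345, 482, 349, 350, 464, 485, 483, 487, 488, 421, 489, 490, 377, 491, 381, 463, 466, 389, 394, 468, 395, 477, 448, 428, 402, 407, 484, 486, 423, 454, 422, 456, 424, 470, 431, 471, 474, 501, 502, 498, 492, 493, 494, 497, 503, 499, 495, 496, 500]]

def gwT : List (List (Fin 2)) :=
  [[],
    [0],
    [0, 0],
    [0, 1, 1, 0, 0, 1, 1, 0, 1, 0, 0, 1, 0, 1],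
    [1, 1, 0, 1, 1, 0, 0, 1, 0, 1, 0, 0, 1],
    [1, 1, 0, 0, 1, 1, 0, 1, 0, 0, 1, 0, 1],
    [0, 1, 1, 0, 1, 1, 0, 0, 1, 1, 0, 1, 0, 0, 1],
    [1, 1, 0, 0, 1, 1, 0, 1, 1, 0, 0, 1, 0, 1],
    [1, 1, 0, 1, 1, 0, 0, 1, 1, 0, 1, 0, 0, 1],
    [0, 0, 1, 0, 1, 1, 0, 1, 0, 1, 0, 0, 1, 1, 0, 1],
    [1, 0, 1, 1, 0, 1, 0, 1, 0, 0, 1, 1, 0, 1],
    [0, 1, 0, 1, 1, 0, 1, 0, 1, 0, 0, 1, 1, 0, 1],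
    [0, 0, 1, 0, 1, 0, 1, 0, 1, 1, 0, 0, 1],
    [1, 0, 1, 0, 1, 0, 1, 1, 0, 0, 1],
    [0, 1, 0, 1, 0, 1, 0, 1, 1, 0, 0, 1],
    [1, 1, 0, 0, 1, 1, 0, 1, 0, 1, 0, 0, 1],
    [0, 1, 1, 0, 0, 1, 1, 0, 1, 0, 1, 0, 0, 1],
    [0, 0, 1, 1, 0, 0, 1, 1, 0, 1, 0, 1, 0, 0, 1],
    [0, 1, 0, 1, 1, 0, 1, 0, 0, 1, 1, 0, 1, 1],
    [0, 0, 1, 0, 1, 1, 0, 1, 0, 0, 1, 1, 0, 1, 1],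
    [1, 0, 1, 1, 0, 1, 0, 0, 1, 1, 0, 1, 1],
    [0, 0, 1, 1, 0, 1, 1, 0, 1, 0, 1],
    [1, 1, 0, 1, 1, 0, 1, 0, 1],
    [0, 1, 1, 0, 1, 1, 0, 1, 0, 1],
    [1, 0, 1, 0, 0, 1, 1, 0, 1, 0, 1, 1],
    [0, 1, 0, 1, 0, 0, 1, 1, 0, 1, 0, 1, 1],
    [0, 0, 1, 0, 1, 0, 0, 1, 1, 0, 1, 0, 1, 1],
    [],
    [0, 0, 1, 0, 1, 0, 0, 1, 1, 0, 0, 1, 1, 0],
    [0, 0, 1, 0, 1, 0, 1, 1, 0, 0, 1, 1, 0],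
    [1],
    [0, 0, 1, 0, 1, 0, 0, 1, 1, 0, 0, 1, 1, 0, 1],
    [0, 0, 1, 0, 1, 0, 1, 1, 0, 0, 1, 1, 0, 1],
    [1, 1],
    [0, 0, 1, 0, 1, 0, 0, 1, 1, 0, 0, 1, 1, 0, 1, 1],
    [0, 0, 1, 0, 1, 0, 1, 1, 0, 0, 1, 1, 0, 1, 1],
    [0, 0, 1, 0, 0, 1, 1, 0, 0, 1, 1],
    [1, 1, 0, 0, 1, 0, 0, 1, 1, 0, 0],
    [1, 0, 0, 1, 0, 0, 1, 1, 0, 0, 1],
    [0, 0, 1, 0, 0, 1, 1, 0, 0],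
    [0, 1, 0, 1, 1, 0, 0, 1, 0, 1, 1, 0],
    [1, 0, 0, 1, 0, 0, 1, 1, 0, 0, 1, 1],
    [0, 0, 1, 0, 0, 1, 1, 0, 0, 1],
    [0, 1, 0, 1, 1, 0, 0, 1, 0, 1, 1, 0, 1],
    [1, 0, 0, 1, 0, 0, 1, 1, 0, 0],
    [0, 1, 0, 1, 1, 0, 1, 1],
    [1, 0, 1, 0, 1, 1, 0, 1],
    [1, 1, 0, 1, 0, 1, 1, 0],
    [0, 1, 0, 1, 1, 0],
    [1, 0, 1, 0, 1, 1, 0, 1, 1],
    [1, 1, 0, 1, 0, 1, 1, 0, 1],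
    [0, 1, 0, 1, 1, 0, 1],
    [1, 0, 1, 0, 1, 1, 0],
    [1, 1, 0, 1, 0, 1, 1, 0, 1, 1]]

def spanT : List (List (Fin 56)) :=
  [[1, 2, 9, 11, 13, 22, 22, 23, 23],
    [1, 8, 10, 10, 11, 12, 12, 13, 20, 21, 21, 22, 22, 23],
    [2],
    [2, 8, 8, 9, 12, 13, 13, 21, 23, 23],
    [1, 1, 2, 2, 4, 4, 7, 7, 9, 10, 10, 12, 12, 13, 20, 20, 23],
    [1, 1, 2, 2, 8, 8, 11, 12, 13, 13, 20, 20, 22],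
    [1, 1, 2, 4, 7, 7, 9, 9, 10, 10, 12, 13, 20, 20, 23],
    [1, 1, 2, 2, 4, 4, 7, 8, 11, 11, 20, 20, 23],
    [1, 1, 2, 2, 4, 7, 7, 8, 10, 11, 11, 13, 13, 20, 20, 23],
    [2, 2, 4, 4, 7, 9, 9, 10, 10, 12, 13, 20, 20, 23],
    [1, 2, 9, 9, 10, 10, 11, 12, 20, 22, 22],
    [1, 1, 2, 2, 4, 4, 7, 7, 8, 8, 9, 9, 10, 10, 11, 12, 13, 20, 20, 23],
    [1, 2, 2, 10, 11, 11, 12, 12, 13, 20, 21, 22, 22, 23, 23],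
    [1, 1]]

/-- the index of the inverse of a generator -/
def ginv (j : Fin 54) : Fin 54 := Fin.ofNat 54 (ginvT.getD j.val 0)

/-- the two generators of the derived subgroup, as functions -/
def gamF (k : Fin 2) (x : Fin 56) : Fin 56 :=
  Fin.ofNat 56 (((if k = 0 then aC else bC) >>> (6 * x.val)) % 64)

/-- the Schreier words -/
def wS (i : Fin 504) : List (Fin 2) := wST.getD i.val []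

/-- the Schreier table -/
def rhoS (k : Fin 2) (i : Fin 504) : Fin 504 := Fin.ofNat 504 ((rhoT.getD k.val []).getD i.val 0)

/-- the action of a word in the two generators of the derived subgroup -/
def wptS (w : List (Fin 2)) (x : Fin 56) : Fin 56 := w.foldr (fun k y => gamF k y) x

/-- the two generators `α`, `β` of the whole group -/
def abF (k : Fin 2) (x : Fin 56) : Fin 56 := if k = 0 then gq 1 x else gq 30 x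

/-- their inverses -/
def abFi (k : Fin 2) (x : Fin 56) : Fin 56 := if k = 0 then gq (ginv 1) x else gq (ginv 30) x

/-- the action of a word in `α`, `β` -/
def wptG (w : List (Fin 2)) (x : Fin 56) : Fin 56 := w.foldr (fun k y => abF k y) x

/-- the words of the generators in `α`, `β` -/
def gwS (j : Fin 54) : List (Fin 2) := gwT.getD j.val []

/-- conjugation certificates -/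
def nidx : Fin 2 → Fin 2 → Fin 504 := ![![99, 110], ![370, 42]]

/-- conjugation certificates for the inverses -/
def nidxi : Fin 2 → Fin 2 → Fin 504 := ![![481, 108], ![338, 341]]

/-- the spanning certificate -/
def spanCert (a : I14) : List (Fin 56) := spanT.getD (code a) []

theorem S6 : ∀ (j : Fin 54) (x : Fin 56), gq j (gq (ginv j) x) = x ∧ gq (ginv j) (gq j x) = x := by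
  decide +kernel

theorem Sa : ∀ x : Fin 56, gamF 0 x = gq 3 (gq 30 (gq (ginv 3) (gq (ginv 30) x))) := by
  decide +kernel

/-- the commutator `[g₁, g₂₉]` as a function -/
def cF (x : Fin 56) : Fin 56 := gq 1 (gq 29 (gq (ginv 1) (gq (ginv 29) x)))

theorem Sb : ∀ x : Fin 56, gamF 1 x = cF (cF (cF x)) := by decide +kernel

set_option maxHeartbeats 40000000 in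
theorem S1 : ∀ (k : Fin 2) (i : Fin 504) (x : Fin 56),
    wptS (wS i) (gamF k x) = wptS (wS (rhoS k i)) x := by decide +kernel

set_option maxHeartbeats 40000000 in
theorem S2 : (List.ofFn fun i : Fin 504 =>
    (wptS (wS i) 0).val + 64 * (wptS (wS i) 2).val).Nodup := by decide +kernel

theorem S3 : ∀ (j : Fin 54) (x : Fin 56), gq j x = wptG (gwS j) x := by decide +kernel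

theorem S4 : ∀ (s h : Fin 2) (x : Fin 56),
    abF s (gamF h (abFi s x)) = wptS (wS (nidx s h)) x ∧
      abFi s (gamF h (abF s x)) = wptS (wS (nidxi s h)) x := by decide +kernel

theorem S5 : ∀ x : Fin 56, abF 0 (abF 1 (abFi 0 (abFi 1 x))) = wptS (wS 357) x ∧
    abF 1 (abF 0 (abFi 1 (abFi 0 x))) = wptS (wS 448) x := by decide +kernel

theorem wS_zero : wS 0 = [] := by decide +kernel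

theorem Om_inj : ∀ i j : Fin 56, Om i = Om j → i = j := by decide +kernel

theorem span_ok : ∀ a : I14, (Pi.single a 1 : V3) = ((spanCert a).map Om).sum := by
  decide +kernel

end Cfsg.Agent.Lib.H14.ReeTab
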