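import Mathlib
import Cfsg.Prelude.Def_LieTwisted
import Cfsg.Agent.Lib.H14.U4LineSys
import Cfsg.Agent.Lib.H14.ReeTab2

set_option autoImplicit false
set_option linter.unusedSimpArgs false

/-! # `²G₂(3)` acting faithfully on 56 vectors -/

namespace Cfsg.Agent.Lib.H14.ReeA

open Cfsg.Lie Matrix Cfsg.Agent.Lib.H14.U4LineSys Cfsg.Agent.Lib.H14.ReeTab
  Cfsg.Agent.Lib.H14.ListMat

/-- the group `²G₂(3)` -/
abbrev R3 : Type := ↥(twistedG2 K3 1)

theorem xmL_len' (r t : ℕ) : (xmL r t).length = 14 ∧ ∀ row ∈ xmL r t, row.length = 14 := by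
  by_cases h : r < 12 ∧ t < 3
  · exact xmL_len r h.1 t h.2
  · have : xmL r t = idRows := by
      unfold xmL
      rw [if_neg h]
    rw [this]
    exact idRows_len

theorem x_eq (r : ℕ) (t : K3) : chevG2.x K3 r t = XM r t := by
  unfold ChevalleyDatum.x
  have ht : t.val < 3 := ZMod.val_lt t
  split_ifs with h
  · exact xMat_eq t ⟨r, h⟩
  · have h' : ¬ (r < 12 ∧ t.val < 3) := fun h2 => h h2.1
    unfold XM xmL
    rw [if_neg h']
    exact matL_idRows.symm

/-- the vector of a list -/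
def lv (l : List ℕ) : V3 := l2v l

theorem XM_mulVec (r : ℕ) (t : K3) (l : List ℕ) (hl : l.length = 14) :
    XM r t *ᵥ lv l = lv (mvL (xmL r t.val) l) :=
  matL_mulVec _ _ (xmL_len' r t.val).1 (xmL_len' r t.val).2 hl

theorem wvecL_len (w : List (ℕ × K3)) (l : List ℕ) (hl : l.length = 14) :
    (wvecL w l).length = 14 := by
  induction w with
  | nil => exact hl
  | cons p w ih =>
    show (mvL (xmL p.1 p.2.val) (wvecL w l)).length = 14
    rw [length_mvL]
    exact (xmL_len' _ _).1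

theorem wordMat_mulVec (w : List (ℕ × K3)) (l : List ℕ) (hl : l.length = 14) :
    chevG2.wordMat K3 w *ᵥ lv l = lv (wvecL w l) := by
  induction w with
  | nil =>
    show (1 : Matrix I14 I14 K3) *ᵥ lv l = lv l
    rw [Matrix.one_mulVec]
  | cons p w ih =>
    have h1 : chevG2.wordMat K3 (p :: w) = chevG2.x K3 p.1 p.2 * chevG2.wordMat K3 w := by
      unfold ChevalleyDatum.wordMat
      rw [List.map_cons, List.prod_cons]
    rw [h1, ← Matrix.mulVec_mulVec, ih, x_eq, XM_mulVec _ _ _ (wvecL_len w l hl)]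
    rfl

/-- the matrix of a generator -/
noncomputable def WM (s : Fin 2) (t u v : K3) : Matrix I14 I14 K3 :=
  chevG2.wordMat K3 (gword s t u v)

theorem WM_Om (s : Fin 2) (t u v : K3) (i : Fin 56) :
    WM s t u v *ᵥ Om i = Om (gq (gidx s t u v) i) := by
  unfold WM
  show _ *ᵥ lv (OmL i) = lv (OmL _)
  rw [wordMat_mulVec _ _ (OmL_len i), wvecL_Om]

theorem mat_eq_one_of_fix (M : Matrix I14 I14 K3) (hfix : ∀ i, M *ᵥ Om i = Om i) : M = 1 := by
  have hsum : ∀ l : List (Fin 56), M *ᵥ (l.map Om).sum = (l.map Om).sum := by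
    intro l
    induction l with
    | nil => simp
    | cons a l ih =>
      rw [List.map_cons, List.sum_cons, Matrix.mulVec_add, hfix, ih]
  have hbasis : ∀ a : I14, M *ᵥ (Pi.single a 1) = Pi.single a 1 := by
    intro a
    rw [span_ok a]
    exact hsum _
  ext i j
  have := congrFun (hbasis j) i
  rw [Matrix.mulVec_single_one] at this
  rw [Matrix.one_apply]
  simpa [Pi.single_apply, eq_comm] using this

/-- decoding the index of a generator -/
def gun (j : Fin 54) : Fin 2 × K3 × K3 × K3 :=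
  (Fin.ofNat 2 (j.val / 27), ((j.val / 9 % 3 : ℕ) : K3), ((j.val / 3 % 3 : ℕ) : K3),
    ((j.val % 3 : ℕ) : K3))

theorem gidx_gun : ∀ j : Fin 54,
    gidx (gun j).1 (gun j).2.1 (gun j).2.2.1 (gun j).2.2.2 = j := by decide

theorem gun_gidx : ∀ (s : Fin 2) (t u v : K3), gun (gidx s t u v) = (s, t, u, v) := by decide

/-- the matrix of the generator of a given index -/
noncomputable def WJ (j : Fin 54) : Matrix I14 I14 K3 :=
  WM (gun j).1 (gun j).2.1 (gun j).2.2.1 (gun j).2.2.2

theorem WJ_Om (j : Fin 54) (i : Fin 56) : WJ j *ᵥ Om i = Om (gq j i) := by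
  unfold WJ
  rw [WM_Om, gidx_gun]

theorem WJ_mul_inv (j : Fin 54) : WJ j * WJ (ginv j) = 1 := by
  apply mat_eq_one_of_fix
  intro i
  rw [← Matrix.mulVec_mulVec, WJ_Om, WJ_Om, (S6 j i).1]

theorem WJ_inv_mul (j : Fin 54) : WJ (ginv j) * WJ j = 1 := by
  apply mat_eq_one_of_fix
  intro i
  rw [← Matrix.mulVec_mulVec, WJ_Om, WJ_Om, (S6 j i).2]

/-- the generators as invertible matrices -/
noncomputable def rgl (j : Fin 54) : GL I14 K3 :=
  ⟨WJ j, WJ (ginv j), WJ_mul_inv j, WJ_inv_mul j⟩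

theorem gword_mem (s : Fin 2) (t u v : K3) : gword s t u v ∈ g2Words K3 1 := by
  refine ⟨t, u, v, ?_⟩
  unfold gword
  rcases Fin.exists_fin_two.1 ⟨s, rfl⟩ with h | h
  · left; rw [if_pos h]
  · right
    have : s ≠ 0 := by rw [h]; decide
    rw [if_neg this]

theorem rgl_mem (j : Fin 54) : rgl j ∈ twistedG2 K3 1 := by
  unfold twistedG2 ChevalleyDatum.genSubgroup
  apply Subgroup.subset_closure
  exact ⟨_, gword_mem (gun j).1 (gun j).2.1 (gun j).2.2.1 (gun j).2.2.2, rfl⟩

/-- the generators -/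
noncomputable def rg (j : Fin 54) : R3 := ⟨rgl j, rgl_mem j⟩

/-- invertible matrices permuting the 56 vectors -/
def Perm56 : Subgroup (GL I14 K3) where
  carrier := {g | ∀ i, ∃ j, (g : Matrix I14 I14 K3) *ᵥ Om i = Om j}
  one_mem' := by
    intro i
    exact ⟨i, by simp⟩
  mul_mem' := by
    intro g h hg hh i
    obtain ⟨j, hj⟩ := hh i
    obtain ⟨k, hk⟩ := hg j
    refine ⟨k, ?_⟩
    rw [Units.val_mul, ← Matrix.mulVec_mulVec, hj, hk]
  inv_mem' := by
    intro g hg i
    choose f hf using hg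
    have hinj : Function.Injective f := by
      intro a b hab
      apply Om_inj
      have h1 := hf a
      have h2 := hf b
      rw [hab] at h1
      have h3 : (g : Matrix I14 I14 K3) *ᵥ Om a = (g : Matrix I14 I14 K3) *ᵥ Om b :=
        h1.trans h2.symm
      have h4 := congrArg (fun v => ((g⁻¹ : GL I14 K3) : Matrix I14 I14 K3) *ᵥ v) h3
      simp only [Matrix.mulVec_mulVec, ← Units.val_mul, inv_mul_cancel, Units.val_one,
        Matrix.one_mulVec] at h4
      exact h4
    have hsurj : Function.Surjective f := Finite.injective_iff_surjective.1 hinj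
    obtain ⟨j, hj⟩ := hsurj i
    refine ⟨j, ?_⟩
    rw [← hj, ← hf j, Matrix.mulVec_mulVec, ← Units.val_mul, inv_mul_cancel, Units.val_one,
      Matrix.one_mulVec]

theorem gen_eq (x : GL I14 K3) (w : List (ℕ × K3)) (hw : w ∈ g2Words K3 1)
    (hx : (x : Matrix I14 I14 K3) = chevG2.wordMat K3 w) : ∃ j, x = rgl j := by
  obtain ⟨t, u, v, h⟩ := hw
  have key : ∀ s : Fin 2, w = gword s t u v → ∃ j, x = rgl j := by
    intro s hs
    refine ⟨gidx s t u v, ?_⟩
    apply Units.ext
    rw [hx, hs]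
    show _ = WJ (gidx s t u v)
    unfold WJ WM
    rw [gun_gidx]
  rcases h with h | h
  · exact key 0 (by rw [h]; rfl)
  · exact key 1 (by rw [h]; rfl)

theorem group_le : twistedG2 K3 1 ≤ Perm56 := by
  unfold twistedG2 ChevalleyDatum.genSubgroup
  rw [Subgroup.closure_le]
  rintro g ⟨w, hw, hg⟩ i
  obtain ⟨j, rfl⟩ := gen_eq g w hw hg
  exact ⟨gq j i, WJ_Om j i⟩

/-- the matrix of an element -/
abbrev mat (g : R3) : Matrix I14 I14 K3 := ((g : GL I14 K3) : Matrix I14 I14 K3)

/-- the system of the 56 vectors -/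
noncomputable def SR : Sys R3 V3 (Fin 56) where
  app g x := mat g *ᵥ x
  app_one x := by
    show ((1 : GL I14 K3) : Matrix I14 I14 K3) *ᵥ x = x
    rw [Units.val_one, Matrix.one_mulVec]
  app_mul g h x := by
    show (((g : GL I14 K3) * (h : GL I14 K3) : GL I14 K3) : Matrix I14 I14 K3) *ᵥ x = _
    rw [Units.val_mul, ← Matrix.mulVec_mulVec]
  rel := Eq
  rel_symm := Eq.symm
  rel_trans := Eq.trans
  rel_app g := by
    intro x y h
    rw [h]
  P := Om
  rel_P i := rfl
  inj := Om_inj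
  closed g i := group_le g.2 i

theorem SR_app (g : R3) (x : V3) : SR.app g x = mat g *ᵥ x := rfl

theorem SR_rel (x y : V3) : SR.rel x y ↔ x = y := Iff.rfl

theorem SR_P (i : Fin 56) : SR.P i = Om i := rfl

/-- the representation on the 56 vectors -/
noncomputable def rhoR : R3 →* Equiv.Perm (Fin 56) := rho SR

theorem rhoR_injective : Function.Injective rhoR := by
  rw [injective_iff_map_eq_one]
  intro g hg
  have hfix : ∀ i, mat g *ᵥ Om i = Om i := by
    intro i
    have := (mem_ker_iff SR g).1 hg i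
    exact this
  apply Subtype.ext
  apply Units.ext
  exact mat_eq_one_of_fix _ hfix

theorem mat_rg (j : Fin 54) : mat (rg j) = WJ j := rfl

theorem rhoR_rg (j : Fin 54) (i : Fin 56) : rhoR (rg j) i = gq j i := by
  unfold rhoR
  rw [rho_eq_iff, SR_rel, SR_app, SR_P, SR_P, mat_rg]
  exact WJ_Om j i

theorem rg_inv (j : Fin 54) : (rg j)⁻¹ = rg (ginv j) := by
  apply rhoR_injective
  refine Equiv.Perm.ext fun i => ?_
  rw [map_inv, Equiv.Perm.inv_def, Equiv.symm_apply_eq, rhoR_rg, rhoR_rg, (S6 j i).1]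

/-- the group is generated by the 54 elements -/
theorem closure_rg : Subgroup.closure (Set.range rg) = ⊤ := by
  have h1 : twistedG2 K3 1 ≤
      (Subgroup.closure (Set.range rg)).map (twistedG2 K3 1).subtype := by
    conv_lhs => unfold twistedG2 ChevalleyDatum.genSubgroup
    rw [Subgroup.closure_le]
    rintro x ⟨w, hw, hx⟩
    obtain ⟨j, rfl⟩ := gen_eq x w hw hx
    exact ⟨rg j, Subgroup.subset_closure ⟨j, rfl⟩, rfl⟩
  rw [eq_top_iff]
  intro g _
  obtain ⟨y, hy, hyg⟩ := h1 g.2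
  have : y = g := Subtype.ext hyg
  rw [← this]
  exact hy

end Cfsg.Agent.Lib.H14.ReeA
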