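import Mathlib
import Cfsg.Prelude.Def_ChevG2
import Cfsg.Agent.Lib.H14.PG7Tab
import Cfsg.Agent.Lib.H14.ReeA
import Cfsg.Agent.Lib.H29.ChevCert2
import Cfsg.Agent.Lib.H29.ChevGen16
import Cfsg.Agent.S1055

set_option autoImplicit false
set_option linter.unusedSimpArgs false

/-! # `G₂(3)` acts faithfully on the seven dimensional ideal of short roots; the elements of order
seven and thirteen are self-centralizing -/

namespace Cfsg.Agent.Lib.H14.PG7A

open Cfsg.Lie Matrix Cfsg.Agent.Lib.H14.PG7Mat Cfsg.Agent.Lib.H14.PG7Tab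
  Cfsg.Agent.Lib.H14.ReeTab Cfsg.Agent.Lib.H14.ListMat Cfsg.Agent.Lib.H29.Chev

/-- the group `G₂(3)` -/
abbrev G23 : Type := ↥(chevG2.group K3)

/-- the coordinates of the ideal -/
def embJ : Fin 7 → J14 :=
  ![Sum.inl 0, Sum.inr 2, Sum.inr 3, Sum.inr 4, Sum.inr 7, Sum.inr 8, Sum.inr 9]

/-- the coordinates of the ideal -/
def emb : Fin 7 → I14 := embJ

theorem code_embJ : ∀ i : Fin 7, code (embJ i) = S7.getD i.val 0 := by decide

theorem code_emb (i : Fin 7) : code (emb i) = S7.getD i.val 0 := code_embJ i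

theorem embJ_inj : Function.Injective embJ := by decide

theorem emb_inj : Function.Injective emb := embJ_inj

theorem code_not_rangeJ : ∀ a : J14, (∀ i, embJ i ≠ a) → code a ∈ S7c := by decide

theorem code_not_range : ∀ a : I14, (∀ i, emb i ≠ a) → code a ∈ S7c := code_not_rangeJ

theorem code_emb_mem (i : Fin 7) : code (emb i) ∈ S7 := by
  rw [code_emb]
  fin_cases i <;> decide

/-- the matrix maps the ideal into itself -/
def Stab (M : Matrix I14 I14 K3) : Prop := ∀ a, (∀ i, emb i ≠ a) → ∀ j, M a (emb j) = 0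

/-- the restriction to the ideal -/
def res (M : Matrix I14 I14 K3) : Matrix (Fin 7) (Fin 7) K3 := M.submatrix emb emb

theorem sum_emb (f : I14 → K3) (hf : ∀ a, (∀ i, emb i ≠ a) → f a = 0) :
    ∑ a, f a = ∑ i, f (emb i) := by
  have h1 : ∑ i, f (emb i) = ∑ a ∈ Finset.univ.image emb, f a := by
    rw [Finset.sum_image]
    intro i _ j _ hij
    exact emb_inj hij
  rw [h1]
  symm
  apply Finset.sum_subset (Finset.subset_univ _)
  intro a _ ha
  apply hf
  intro i hi
  apply ha
  rw [Finset.mem_image]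
  exact ⟨i, Finset.mem_univ _, hi⟩

theorem res_mul (M N : Matrix I14 I14 K3) (hN : Stab N) : res (M * N) = res M * res N := by
  ext i j
  show (M * N) (emb i) (emb j) = ∑ k, M (emb i) (emb k) * N (emb k) (emb j)
  rw [Matrix.mul_apply]
  apply sum_emb (fun a => M (emb i) a * N a (emb j))
  intro a ha
  show M (emb i) a * N a (emb j) = 0
  rw [hN a ha j, mul_zero]

theorem Stab_mul (M N : Matrix I14 I14 K3) (hM : Stab M) (hN : Stab N) : Stab (M * N) := by
  intro a ha j
  rw [Matrix.mul_apply, sum_emb (fun b => M a b * N b (emb j))]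
  · apply Finset.sum_eq_zero
    intro l _
    show M a (emb l) * N (emb l) (emb j) = 0
    rw [hM a ha l, zero_mul]
  · intro b hb
    show M a b * N b (emb j) = 0
    rw [hN b hb j, mul_zero]

theorem Stab_one : Stab 1 := by
  intro a ha j
  rw [Matrix.one_apply, if_neg]
  exact fun h => ha j h.symm

theorem res_one : res 1 = 1 := Matrix.submatrix_one emb emb_inj

theorem XM_apply (r : ℕ) (t : K3) (a b : I14) :
    XM r t a b = ((ent (xmL r t.val) (code a) (code b) : ℕ) : K3) := rfl

theorem Stab_XM (r : ℕ) (hr : r < 12) (t : K3) : Stab (XM r t) := by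
  intro a ha j
  have h := stab_gen r hr t.val (ZMod.val_lt t)
  unfold stabL at h
  rw [List.all_eq_true] at h
  have h1 := h (code a) (code_not_range a ha)
  rw [List.all_eq_true] at h1
  have h2 := h1 (code (emb j)) (code_emb_mem j)
  rw [beq_iff_eq] at h2
  rw [XM_apply, ZMod.natCast_eq_zero_iff]
  exact Nat.dvd_of_mod_eq_zero h2

theorem res_XM (r : ℕ) (t : K3) : res (XM r t) = toM (A7L r t.val) := by
  ext i j
  show XM r t (emb i) (emb j) = _
  unfold A7L sub7
  rw [toM_mkL, XM_apply, code_emb, code_emb]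

/-- the matrices of the structure constants -/
def Cm (k : Fin 7) : Matrix (Fin 7) (Fin 7) K3 := toM (CLf k.val)

/-- the matrix preserves the bracket of the ideal -/
def P (M : Matrix (Fin 7) (Fin 7) K3) : Prop := ∀ m : Fin 7, ∑ k, M m k • Cm k = Mᵀ * Cm m * M

theorem P_one : P 1 := by
  intro m
  rw [Matrix.transpose_one, Matrix.one_mul, Matrix.mul_one]
  rw [Finset.sum_eq_single m]
  · rw [Matrix.one_apply_eq, one_smul]
  · intro k _ hk
    rw [Matrix.one_apply_ne hk.symm, zero_smul]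
  · intro h
    exact absurd (Finset.mem_univ m) h

theorem P_mul (M N : Matrix (Fin 7) (Fin 7) K3) (hM : P M) (hN : P N) : P (M * N) := by
  intro m
  have h1 : ∑ k, (M * N) m k • Cm k = ∑ j, M m j • ∑ k, N j k • Cm k := by
    simp_rw [Matrix.mul_apply, Finset.sum_smul, Finset.smul_sum, smul_smul]
    rw [Finset.sum_comm]
  rw [h1]
  simp_rw [hN _]
  have h2 : ∑ j, M m j • (Nᵀ * Cm j * N) = Nᵀ * (∑ j, M m j • Cm j) * N := by
    rw [Finset.mul_sum, Finset.sum_mul]
    apply Finset.sum_congr rfl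
    intro j _
    rw [Matrix.mul_smul, Matrix.smul_mul]
  rw [h2, hM m, Matrix.transpose_mul]
  simp only [Matrix.mul_assoc]

theorem P_toM_iff (ML : LM) : P (toM ML) ↔ ∀ m : Fin 7, PLm m.val ML = true := by
  unfold P
  apply forall_congr'
  intro m
  unfold PLm
  rw [eqL_iff, toM_lcL, toM_mulL, toM_mulL, toM_trL]
  rfl

/-- the generators -/
noncomputable def xg (r : ℕ) (t : K3) : G23 := ⟨fdG2_cert2.xA r t, fdG2_cert2.xA_mem_group r t⟩

theorem val_xg (r : ℕ) (t : K3) :
    ((xg r t : GL I14 K3) : Matrix I14 I14 K3) = XM r t := by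
  show ((fdG2_cert2.xA r t : GL I14 K3) : Matrix I14 I14 K3) = _
  rw [fdG2_cert2.xA_val, ReeA.x_eq]

/-- invertible matrices stabilizing the ideal and preserving its bracket -/
def SP : Subgroup (GL I14 K3) where
  carrier := {g | (Stab (g : Matrix I14 I14 K3) ∧ P (res (g : Matrix I14 I14 K3))) ∧
    (Stab ((g⁻¹ : GL I14 K3) : Matrix I14 I14 K3) ∧ P (res ((g⁻¹ : GL I14 K3) : Matrix I14 I14 K3)))}
  one_mem' := by
    refine ⟨⟨?_, ?_⟩, ⟨?_, ?_⟩⟩
    · rw [Units.val_one]; exact Stab_one
    · rw [Units.val_one, res_one]; exact P_one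
    · rw [inv_one, Units.val_one]; exact Stab_one
    · rw [inv_one, Units.val_one, res_one]; exact P_one
  mul_mem' := by
    rintro g h ⟨⟨g1, g2⟩, ⟨g3, g4⟩⟩ ⟨⟨h1, h2⟩, ⟨h3, h4⟩⟩
    refine ⟨⟨?_, ?_⟩, ⟨?_, ?_⟩⟩
    · rw [Units.val_mul]; exact Stab_mul _ _ g1 h1
    · rw [Units.val_mul, res_mul _ _ h1]; exact P_mul _ _ g2 h2
    · rw [_root_.mul_inv_rev, Units.val_mul]; exact Stab_mul _ _ h3 g3
    · rw [_root_.mul_inv_rev, Units.val_mul, res_mul _ _ g3]; exact P_mul _ _ h4 g4
  inv_mem' := by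
    rintro g ⟨h1, h2⟩
    refine ⟨h2, ?_⟩
    rw [inv_inv]
    exact h1

theorem P_XM (r : ℕ) (hr : r < 12) (t : K3) : P (res (XM r t)) := by
  rw [res_XM, P_toM_iff]
  intro m
  exact P_gen r hr t.val (ZMod.val_lt t) m.val m.isLt

theorem group_le : chevG2.group K3 ≤ SP := by
  unfold ChevalleyDatum.group
  rw [Subgroup.closure_le]
  rintro g ⟨r, t, hg⟩
  have hr : r.val < 12 := r.isLt
  have h1 : g = fdG2_cert2.xA r.val t := by
    apply Units.ext
    rw [hg, fdG2_cert2.xA_val, ReeA.x_eq]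
    exact xMat_eq t r
  have h2 : ((g : GL I14 K3) : Matrix I14 I14 K3) = XM r.val t := by
    rw [hg]; exact xMat_eq t r
  have h3 : ((g⁻¹ : GL I14 K3) : Matrix I14 I14 K3) = XM r.val (-t) := by
    rw [h1, fdG2_cert2.xA_inv, fdG2_cert2.xA_val, ReeA.x_eq]
  refine ⟨⟨?_, ?_⟩, ⟨?_, ?_⟩⟩
  · rw [h2]; exact Stab_XM _ hr t
  · rw [h2]; exact P_XM _ hr t
  · rw [h3]; exact Stab_XM _ hr (-t)
  · rw [h3]; exact P_XM _ hr (-t)

/-- the matrix of an element -/
abbrev mat (g : G23) : Matrix I14 I14 K3 := ((g : GL I14 K3) : Matrix I14 I14 K3)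

theorem Stab_mat (g : G23) : Stab (mat g) := (group_le g.2).1.1

/-- the representation on the ideal -/
noncomputable def rho : G23 →* Matrix (Fin 7) (Fin 7) K3 where
  toFun g := res (mat g)
  map_one' := by
    show res ((1 : GL I14 K3) : Matrix I14 I14 K3) = 1
    rw [Units.val_one, res_one]
  map_mul' g h := by
    show res ((((g : GL I14 K3) * (h : GL I14 K3) : GL I14 K3)) : Matrix I14 I14 K3) = _
    rw [Units.val_mul, res_mul _ _ (Stab_mat h)]

theorem P_rho (g : G23) : P (rho g) := (group_le g.2).1.2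

theorem rho_xg (r : ℕ) (t : K3) : rho (xg r t) = toM (A7L r t.val) := by
  show res (mat (xg r t)) = _
  have h : mat (xg r t) = XM r t := val_xg r t
  rw [h, res_XM]

/-- the element of a word -/
noncomputable def wel (w : List ℕ) : G23 := (w.map fun r => xg r 1).prod

theorem rho_wel (w : List ℕ) : rho (wel w) = toM (wordL w) := by
  unfold wel wordL
  rw [toM_prodL, map_list_prod, List.map_map, List.map_map]
  congr 1
  apply List.map_congr_left
  intro r _
  show rho (xg r 1) = toM (A7L r 1)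
  rw [rho_xg]
  rfl

instance : IsSimpleGroup G23 := (Cfsg.Agent.S1055.result ⟨(2 : K3), by decide, by decide⟩).1

/-- the element of order seven -/
noncomputable def x7 : G23 := wel [0, 1, 3, 11]

/-- the element of order thirteen -/
noncomputable def x13 : G23 := wel [0, 4, 9]

theorem rho_x7 : rho x7 = toM X7L := by
  unfold x7
  rw [rho_wel]
  exact ((eqL_iff _ _).1 X7_word).symm

theorem rho_x13 : rho x13 = toM X13L := by
  unfold x13
  rw [rho_wel]
  exact ((eqL_iff _ _).1 X13_word).symm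

theorem toM_X7_ne : toM X7L ≠ 1 := by
  intro h
  rw [← toM_idL, ← eqL_iff, X7_ne] at h
  exact Bool.false_ne_true h

theorem rho_injective : Function.Injective rho := by
  rw [← MonoidHom.ker_eq_bot_iff]
  rcases (MonoidHom.normal_ker rho).eq_bot_or_eq_top with h | h
  · exact h
  · exfalso
    have : x7 ∈ rho.ker := by rw [h]; exact Subgroup.mem_top _
    rw [MonoidHom.mem_ker, rho_x7] at this
    exact toM_X7_ne this

end Cfsg.Agent.Lib.H14.PG7A
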