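import Mathlib
import Cfsg.Agent.Lib.H14.PG7A

set_option autoImplicit false
set_option linter.unusedSimpArgs false

/-! # The elements of order seven and thirteen of `G₂(3)` are self-centralizing -/

namespace Cfsg.Agent.Lib.H14.PG7B

open Cfsg.Lie Matrix Cfsg.Agent.Lib.H14.PG7Mat Cfsg.Agent.Lib.H14.PG7Tab
  Cfsg.Agent.Lib.H14.ReeTab Cfsg.Agent.Lib.H14.PG7A

/-- a matrix commuting with `X` is a polynomial in `X`, if `X` has a cyclic vector -/
theorem commutant (X N Bi : Matrix (Fin 7) (Fin 7) K3) (c : Fin 7)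
    (hB : (Matrix.of fun i j : Fin 7 => (X ^ j.val) i c) * Bi = 1) (hc : N * X = X * N) :
    ∃ a : Fin 7 → K3, N = ∑ k : Fin 7, a k • X ^ k.val := by
  set Bc : Matrix (Fin 7) (Fin 7) K3 := Matrix.of fun i j : Fin 7 => (X ^ j.val) i c with hBc
  have hB' : Bi * Bc = 1 := mul_eq_one_comm.1 hB
  set w : Fin 7 → K3 := fun i => N i c with hw
  set a : Fin 7 → K3 := Bi *ᵥ w with ha
  refine ⟨a, ?_⟩
  set N' : Matrix (Fin 7) (Fin 7) K3 := ∑ k : Fin 7, a k • X ^ k.val with hN'
  have h1 : Bc *ᵥ a = w := by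
    rw [ha, Matrix.mulVec_mulVec, hB, Matrix.one_mulVec]
  have h2 : ∀ l, N' l c = w l := by
    intro l
    rw [← h1, hN', Matrix.sum_apply]
    show _ = ∑ k, Bc l k * a k
    apply Finset.sum_congr rfl
    intro k _
    rw [Matrix.smul_apply, smul_eq_mul, mul_comm]
    rfl
  set D : Matrix (Fin 7) (Fin 7) K3 := N - N' with hD
  have h3 : ∀ l, D l c = 0 := by
    intro l
    rw [hD, Matrix.sub_apply, h2 l, hw, sub_self]
  have hcN' : N' * X = X * N' := by
    rw [hN', Finset.sum_mul, Finset.mul_sum]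
    apply Finset.sum_congr rfl
    intro k _
    rw [Matrix.smul_mul, Matrix.mul_smul, ← pow_succ, ← pow_succ']
  have hcD : ∀ j : ℕ, D * X ^ j = X ^ j * D := by
    intro j
    have hDX : Commute D X := by
      show D * X = X * D
      rw [hD, Matrix.sub_mul, Matrix.mul_sub, hc, hcN']
    exact (hDX.pow_right j).eq
  have h4 : D * Bc = 0 := by
    ext i j
    rw [Matrix.mul_apply, Matrix.zero_apply]
    have : ∑ l, D i l * Bc l j = (D * X ^ j.val) i c := by
      rw [Matrix.mul_apply]
      rfl
    rw [this, hcD, Matrix.mul_apply]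
    apply Finset.sum_eq_zero
    intro l _
    rw [h3 l, mul_zero]
  have h5 : D = 0 := by
    have := congrArg (fun M => M * Bi) h4
    simp only [Matrix.mul_assoc, hB, Matrix.mul_one, Matrix.zero_mul] at this
    exact this
  rw [hD, sub_eq_zero] at h5
  exact h5

/-- the table of powers gives the powers -/
theorem pow_of_powOK (PL : List LM) (XL : LM) (n : ℕ) (hn : 1 ≤ n) (h : powOK PL XL n = true) :
    (∀ k < n, toM (PL.getD k []) = toM XL ^ k) ∧ toM XL ^ n = 1 := by
  unfold powOK at h
  rw [Bool.and_eq_true, Bool.and_eq_true, List.all_eq_true] at h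
  obtain ⟨⟨h0, h1⟩, h2⟩ := h
  have key : ∀ k < n, toM (PL.getD k []) = toM XL ^ k := by
    intro k
    induction k with
    | zero =>
      intro _
      rw [pow_zero, ← toM_idL]
      exact (eqL_iff _ _).1 h0
    | succ k ih =>
      intro hk
      have := h1 k (List.mem_range.2 (by omega))
      rw [eqL_iff, toM_mulL, ih (by omega)] at this
      rw [this, pow_succ]
  refine ⟨key, ?_⟩
  rw [eqL_iff, toM_mulL, key (n - 1) (by omega), toM_idL, ← pow_succ] at h2
  have : n - 1 + 1 = n := by omega
  rw [this] at h2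
  exact h2

theorem toM_combL (PL : List LM) (a : Fin 7 → K3) :
    toM (combL PL [(a 0).val, (a 1).val, (a 2).val, (a 3).val, (a 4).val, (a 5).val, (a 6).val])
      = ∑ k : Fin 7, a k • toM (PL.getD k.val []) := by
  unfold combL
  rw [toM_lcL]
  apply Finset.sum_congr rfl
  intro k _
  congr 1
  fin_cases k <;> simp [ZMod.natCast_zmod_val]

/-- the general form of the computation of a centralizer -/
theorem centralizer_le (x : G23) (XL : LM) (PL : List LM) (n : ℕ) (cy : Fin 7) (BiL : LM)
    (m : Fin 7) (hx : rho x = toM XL) (hP : powOK PL XL n = true) (hn : 7 ≤ n)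
    (hB : eqL (mulL (BcL PL cy.val) BiL) idL = true)
    (hE : ∀ a0 a1 a2 a3 a4 a5 a6 : ZMod 3,
      PLm m.val (combL PL [a0.val, a1.val, a2.val, a3.val, a4.val, a5.val, a6.val]) = true →
      candK PL n (combL PL [a0.val, a1.val, a2.val, a3.val, a4.val, a5.val, a6.val]) = true)
    (y : G23) (hy : y * x = x * y) : y ∈ Subgroup.zpowers x := by
  obtain ⟨hpow, _⟩ := pow_of_powOK PL XL n (by omega) hP
  have hBc : toM (BcL PL cy.val) = Matrix.of fun i j : Fin 7 => (toM XL ^ j.val) i cy := by
    ext i j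
    unfold BcL
    rw [toM_mkL, Matrix.of_apply, ← hpow j.val (by have := j.isLt; omega)]
    rfl
  have hB' : (Matrix.of fun i j : Fin 7 => (toM XL ^ j.val) i cy) * toM BiL = 1 := by
    rw [← hBc, ← toM_mulL, ← toM_idL]
    exact (eqL_iff _ _).1 hB
  have hc : rho y * toM XL = toM XL * rho y := by
    rw [← hx, ← map_mul, ← map_mul, hy]
  obtain ⟨a, ha⟩ := commutant (toM XL) (rho y) (toM BiL) cy hB' hc
  have ha' : rho y = toM (combL PL [(a 0).val, (a 1).val, (a 2).val, (a 3).val, (a 4).val,
      (a 5).val, (a 6).val]) := by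
    rw [toM_combL, ha]
    apply Finset.sum_congr rfl
    intro k _
    rw [hpow k.val (by have := k.isLt; omega)]
  have hPy : P (rho y) := P_rho y
  rw [ha', P_toM_iff] at hPy
  have hcand := hE _ _ _ _ _ _ _ (hPy m)
  unfold candK at hcand
  rw [Bool.or_eq_true, List.any_eq_true] at hcand
  rcases hcand with h0 | ⟨k, hk, hk2⟩
  · exfalso
    rw [eqL_iff, ← ha', toM_zeroL] at h0
    have h1 : rho (y * y⁻¹) = 1 := by rw [mul_inv_cancel, map_one]
    rw [map_mul, h0, Matrix.zero_mul] at h1
    exact zero_ne_one h1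
  · rw [eqL_iff, ← ha', hpow k (List.mem_range.1 hk), ← hx, ← map_pow] at hk2
    have := rho_injective hk2
    rw [this]
    exact Subgroup.pow_mem _ (Subgroup.mem_zpowers x) k

theorem centralizer_x7 (y : G23) (hy : y * x7 = x7 * y) : y ∈ Subgroup.zpowers x7 :=
  centralizer_le x7 X7L P7L 7 4 Bi7L 3 rho_x7 P7_ok (le_refl _) Bc7_inv E7 y hy

theorem centralizer_x13 (y : G23) (hy : y * x13 = x13 * y) : y ∈ Subgroup.zpowers x13 :=
  centralizer_le x13 X13L P13L 13 6 Bi13L 0 rho_x13 P13_ok (by norm_num) Bc13_inv E13 y hy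

theorem orderOf_x7 : orderOf x7 = 7 := by
  have : Fact (Nat.Prime 7) := ⟨by norm_num⟩
  apply orderOf_eq_prime
  · apply rho_injective
    rw [map_pow, map_one, rho_x7]
    exact (pow_of_powOK P7L X7L 7 (by norm_num) P7_ok).2
  · intro h
    have := congrArg rho h
    rw [map_one, rho_x7] at this
    exact toM_X7_ne this

theorem toM_X13_ne : toM X13L ≠ 1 := by
  intro h
  rw [← toM_idL, ← eqL_iff, X13_ne] at h
  exact Bool.false_ne_true h

theorem orderOf_x13 : orderOf x13 = 13 := by
  have : Fact (Nat.Prime 13) := ⟨by norm_num⟩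
  apply orderOf_eq_prime
  · apply rho_injective
    rw [map_pow, map_one, rho_x13]
    exact (pow_of_powOK P13L X13L 13 (by norm_num) P13_ok).2
  · intro h
    have := congrArg rho h
    rw [map_one, rho_x13] at this
    exact toM_X13_ne this

/-- an element of order six -/
noncomputable def w6 : G23 := wel [0, 0, 11]

theorem orderOf_w6 : orderOf w6 = 6 := by
  have hr : rho w6 = toM W6L := rho_wel _
  obtain ⟨h6, h2, h3⟩ := W6_ok
  have e6 : toM (prodL [W6L, W6L, W6L, W6L, W6L, W6L]) = toM W6L ^ 6 := by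
    rw [toM_prodL]
    simp [pow_succ, mul_assoc]
  have e2 : toM (prodL [W6L, W6L]) = toM W6L ^ 2 := by
    rw [toM_prodL]
    simp [pow_succ, mul_assoc]
  have e3 : toM (prodL [W6L, W6L, W6L]) = toM W6L ^ 3 := by
    rw [toM_prodL]
    simp [pow_succ, mul_assoc]
  apply orderOf_eq_of_pow_and_pow_div_prime (by norm_num)
  · apply rho_injective
    rw [map_pow, map_one, hr, ← e6, ← toM_idL]
    exact (eqL_iff _ _).1 h6
  · intro p hp hp6
    have : p = 2 ∨ p = 3 := by
      have h6' : (6 : ℕ) = 2 * 3 := by norm_num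
      rw [h6'] at hp6
      rcases (Nat.Prime.dvd_mul hp).1 hp6 with h | h
      · left; exact (Nat.prime_dvd_prime_iff_eq hp Nat.prime_two).1 h
      · right; exact (Nat.prime_dvd_prime_iff_eq hp Nat.prime_three).1 h
    rcases this with rfl | rfl
    · intro h
      have := congrArg rho h
      rw [map_pow, map_one, hr] at this
      norm_num at this
      rw [← e3, ← toM_idL, ← eqL_iff, h3] at this
      exact Bool.false_ne_true this
    · intro h
      have := congrArg rho h
      rw [map_pow, map_one, hr] at this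
      norm_num at this
      rw [← e2, ← toM_idL, ← eqL_iff, h2] at this
      exact Bool.false_ne_true this

end Cfsg.Agent.Lib.H14.PG7B
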