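import Mathlib

set_option autoImplicit false
set_option maxRecDepth 100000

/-! # Element orders of `PSL(2,13)` by exhaustion -/

namespace Cfsg.Agent.Lib.H14.PSL13Tab

/-- two by two matrices as tuples -/
abbrev T2 : Type := ZMod 13 × ZMod 13 × ZMod 13 × ZMod 13

/-- product -/
def mul2 (x y : T2) : T2 :=
  (x.1 * y.1 + x.2.1 * y.2.2.1, x.1 * y.2.1 + x.2.1 * y.2.2.2,
    x.2.2.1 * y.1 + x.2.2.2 * y.2.2.1, x.2.2.1 * y.2.1 + x.2.2.2 * y.2.2.2)

/-- identity -/
def one2 : T2 := (1, 0, 0, 1)

/-- minus the identity -/
def neg2 : T2 := (12, 0, 0, 12)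

/-- powers -/
def pw (x : T2) : ℕ → T2
  | 0 => one2
  | n + 1 => mul2 (pw x n) x

/-- plus or minus the identity -/
def isPM (x : T2) : Bool := x == one2 || x == neg2

/-- if the `r s`-th power is central then so is the `r`-th or the `s`-th -/
def chk (x : T2) (r s : ℕ) : Bool := !(isPM (pw (pw x r) s)) || isPM (pw x r) || isPM (pw x s)

/-- the check for a fixed first entry -/
def H13P (a : ZMod 13) : Prop := ∀ b c d : ZMod 13, a * d - b * c = 1 →
    (chk (a, b, c, d) 2 7 && chk (a, b, c, d) 3 7 && chk (a, b, c, d) 2 13 &&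
      chk (a, b, c, d) 3 13 && chk (a, b, c, d) 7 13) = true

instance (a : ZMod 13) : Decidable (H13P a) := by unfold H13P; infer_instance

set_option maxHeartbeats 4000000 in
theorem H13_0 : H13P 0 := by decide +kernel

set_option maxHeartbeats 4000000 in
theorem H13_1 : H13P 1 := by decide +kernel

set_option maxHeartbeats 4000000 in
theorem H13_2 : H13P 2 := by decide +kernel

set_option maxHeartbeats 4000000 in
theorem H13_3 : H13P 3 := by decide +kernel

set_option maxHeartbeats 4000000 in
theorem H13_4 : H13P 4 := by decide +kernel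

set_option maxHeartbeats 4000000 in
theorem H13_5 : H13P 5 := by decide +kernel

set_option maxHeartbeats 4000000 in
theorem H13_6 : H13P 6 := by decide +kernel

set_option maxHeartbeats 4000000 in
theorem H13_7 : H13P 7 := by decide +kernel

set_option maxHeartbeats 4000000 in
theorem H13_8 : H13P 8 := by decide +kernel

set_option maxHeartbeats 4000000 in
theorem H13_9 : H13P 9 := by decide +kernel

set_option maxHeartbeats 4000000 in
theorem H13_10 : H13P 10 := by decide +kernel

set_option maxHeartbeats 4000000 in
theorem H13_11 : H13P 11 := by decide +kernel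

set_option maxHeartbeats 4000000 in
theorem H13_12 : H13P 12 := by decide +kernel

theorem H13 : ∀ a b c d : ZMod 13, a * d - b * c = 1 →
    (chk (a, b, c, d) 2 7 && chk (a, b, c, d) 3 7 && chk (a, b, c, d) 2 13 &&
      chk (a, b, c, d) 3 13 && chk (a, b, c, d) 7 13) = true := by
  intro a
  have h : H13P a := by
    fin_cases a
    · exact H13_0
    · exact H13_1
    · exact H13_2
    · exact H13_3
    · exact H13_4
    · exact H13_5
    · exact H13_6
    · exact H13_7
    · exact H13_8
    · exact H13_9
    · exact H13_10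
    · exact H13_11
    · exact H13_12
  exact h

theorem sq_one : ∀ r : ZMod 13, r ^ 2 = 1 → r = 1 ∨ r = 12 := by decide

end Cfsg.Agent.Lib.H14.PSL13Tab
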