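import Mathlib
import Cfsg.Agent.Lib.H14.PSL13Tab

set_option autoImplicit false
set_option linter.unusedSimpArgs false

/-! # Element orders of `PSL(2,13)`: no elements of order 14, 21, 26, 39, 91; elements of order 6 -/

namespace Cfsg.Agent.Lib.H14.PSL13

open Matrix Cfsg.Agent.Lib.H14.PSL13Tab

/-- the group `SL(2,13)` -/
abbrev SL13 : Type := SpecialLinearGroup (Fin 2) (ZMod 13)

/-- the group `PSL(2,13)` -/
abbrev PSL13 : Type := Matrix.ProjectiveSpecialLinearGroup (Fin 2) (ZMod 13)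

/-- the matrix of a tuple -/
def toMat (m : T2) : Matrix (Fin 2) (Fin 2) (ZMod 13) := !![m.1, m.2.1; m.2.2.1, m.2.2.2]

theorem toMat_mul (x y : T2) : toMat (mul2 x y) = toMat x * toMat y := by
  ext i j
  fin_cases i <;> fin_cases j <;> simp [toMat, mul2, Matrix.mul_apply, Fin.sum_univ_two]

theorem toMat_one : toMat one2 = 1 := by
  ext i j
  fin_cases i <;> fin_cases j <;> simp [toMat, one2]

theorem toMat_neg : toMat neg2 = -1 := by
  ext i j
  fin_cases i <;> fin_cases j <;> simp [toMat, neg2] <;> decide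

theorem toMat_pw (x : T2) (n : ℕ) : toMat (pw x n) = toMat x ^ n := by
  induction n with
  | zero => exact toMat_one
  | succ n ih =>
    show toMat (mul2 (pw x n) x) = _
    rw [toMat_mul, ih, pow_succ]

/-- the tuple of a matrix -/
def tup (A : Matrix (Fin 2) (Fin 2) (ZMod 13)) : T2 := (A 0 0, A 0 1, A 1 0, A 1 1)

theorem toMat_tup (A : Matrix (Fin 2) (Fin 2) (ZMod 13)) : toMat (tup A) = A := by
  ext i j
  fin_cases i <;> fin_cases j <;> simp [toMat, tup]

theorem isPM_iff (x : T2) : isPM x = true ↔ toMat x = 1 ∨ toMat x = -1 := by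
  unfold isPM
  rw [Bool.or_eq_true, beq_iff_eq, beq_iff_eq]
  constructor
  · rintro (h | h)
    · left; rw [h, toMat_one]
    · right; rw [h, toMat_neg]
  · rintro (h | h)
    · left
      have := congrArg tup h
      rw [← toMat_one] at h
      have h2 : tup (toMat x) = tup (toMat one2) := by rw [h]
      simpa [tup, toMat] using h2
    · right
      rw [← toMat_neg] at h
      have h2 : tup (toMat x) = tup (toMat neg2) := by rw [h]
      simpa [tup, toMat] using h2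

theorem mem_center_iff (A : SL13) :
    A ∈ Subgroup.center SL13 ↔ (A : Matrix (Fin 2) (Fin 2) (ZMod 13)) = 1 ∨
      (A : Matrix (Fin 2) (Fin 2) (ZMod 13)) = -1 := by
  rw [Matrix.SpecialLinearGroup.mem_center_iff]
  constructor
  · rintro ⟨r, hr, hA⟩
    rw [Fintype.card_fin] at hr
    rcases sq_one r hr with h | h
    · left
      rw [← hA, h]
      simp
    · right
      rw [← hA, h]
      ext i j
      fin_cases i <;> fin_cases j <;> simp [Matrix.scalar] <;> decide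
  · rintro (h | h)
    · refine ⟨1, one_pow _, ?_⟩
      rw [h]; simp
    · refine ⟨12, by decide, ?_⟩
      rw [h]
      ext i j
      fin_cases i <;> fin_cases j <;> simp [Matrix.scalar] <;> decide

theorem pow_mem_center_iff (A : SL13) (n : ℕ) :
    A ^ n ∈ Subgroup.center SL13 ↔
      isPM (pw (tup (A : Matrix (Fin 2) (Fin 2) (ZMod 13))) n) = true := by
  rw [mem_center_iff, isPM_iff, toMat_pw, toMat_tup, Matrix.SpecialLinearGroup.coe_pow]

theorem det_tup (A : SL13) :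
    (A : Matrix (Fin 2) (Fin 2) (ZMod 13)) 0 0 * (A : Matrix (Fin 2) (Fin 2) (ZMod 13)) 1 1 -
      (A : Matrix (Fin 2) (Fin 2) (ZMod 13)) 0 1 * (A : Matrix (Fin 2) (Fin 2) (ZMod 13)) 1 0 = 1 := by
  have := A.2
  rw [Matrix.det_fin_two] at this
  exact this

/-- the five excluded products -/
theorem center_of_pow (A : SL13) (r s : ℕ)
    (hrs : (r = 2 ∧ s = 7) ∨ (r = 3 ∧ s = 7) ∨ (r = 2 ∧ s = 13) ∨ (r = 3 ∧ s = 13) ∨
      (r = 7 ∧ s = 13))
    (h : A ^ (r * s) ∈ Subgroup.center SL13) :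
    A ^ r ∈ Subgroup.center SL13 ∨ A ^ s ∈ Subgroup.center SL13 := by
  have hH := H13 _ _ _ _ (det_tup A)
  simp only [Bool.and_eq_true] at hH
  obtain ⟨⟨⟨⟨h1, h2⟩, h3⟩, h4⟩, h5⟩ := hH
  have key : ∀ r s : ℕ, chk (tup (A : Matrix (Fin 2) (Fin 2) (ZMod 13))) r s = true →
      A ^ (r * s) ∈ Subgroup.center SL13 →
      A ^ r ∈ Subgroup.center SL13 ∨ A ^ s ∈ Subgroup.center SL13 := by
    intro r s hc hA
    rw [pow_mul, pow_mem_center_iff] at hA
    rw [pow_mem_center_iff, pow_mem_center_iff]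
    unfold chk at hc
    have tt : ∀ x : T2, tup (toMat x) = x := by
      intro x; simp [tup, toMat]
    have e1 : tup ((A ^ r : SL13) : Matrix (Fin 2) (Fin 2) (ZMod 13)) =
        pw (tup (A : Matrix (Fin 2) (Fin 2) (ZMod 13))) r := by
      have h0 := toMat_pw (tup (A : Matrix (Fin 2) (Fin 2) (ZMod 13))) r
      rw [toMat_tup, ← Matrix.SpecialLinearGroup.coe_pow] at h0
      rw [← h0]
      exact tt _
    rw [e1] at hA
    rw [hA] at hc
    simpa using hc
  rcases hrs with ⟨rfl, rfl⟩ | ⟨rfl, rfl⟩ | ⟨rfl, rfl⟩ | ⟨rfl, rfl⟩ | ⟨rfl, rfl⟩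
  · exact key 2 7 h1 h
  · exact key 3 7 h2 h
  · exact key 2 13 h3 h
  · exact key 3 13 h4 h
  · exact key 7 13 h5 h

theorem no_order (y : PSL13) (r s : ℕ)
    (hrs : (r = 2 ∧ s = 7) ∨ (r = 3 ∧ s = 7) ∨ (r = 2 ∧ s = 13) ∨ (r = 3 ∧ s = 13) ∨
      (r = 7 ∧ s = 13)) : orderOf y ≠ r * s := by
  intro ho
  obtain ⟨A, rfl⟩ := QuotientGroup.mk_surjective y
  have h1 : ((A ^ (r * s) : SL13) : PSL13) = 1 := by
    rw [QuotientGroup.mk_pow, ← ho, pow_orderOf_eq_one]
  rw [QuotientGroup.eq_one_iff] at h1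
  have hr2 : 2 ≤ r := by rcases hrs with ⟨rfl, rfl⟩ | ⟨rfl, rfl⟩ | ⟨rfl, rfl⟩ | ⟨rfl, rfl⟩ | ⟨rfl, rfl⟩ <;> norm_num
  have hs2 : 2 ≤ s := by rcases hrs with ⟨rfl, rfl⟩ | ⟨rfl, rfl⟩ | ⟨rfl, rfl⟩ | ⟨rfl, rfl⟩ | ⟨rfl, rfl⟩ <;> norm_num
  rcases center_of_pow A r s hrs h1 with h | h
  · have h2 : ((A : SL13) : PSL13) ^ r = 1 := by
      rw [← QuotientGroup.mk_pow, QuotientGroup.eq_one_iff]; exact h
    have h3 := orderOf_dvd_of_pow_eq_one h2
    rw [ho] at h3
    have := Nat.le_of_dvd (by omega) h3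
    nlinarith
  · have h2 : ((A : SL13) : PSL13) ^ s = 1 := by
      rw [← QuotientGroup.mk_pow, QuotientGroup.eq_one_iff]; exact h
    have h3 := orderOf_dvd_of_pow_eq_one h2
    rw [ho] at h3
    have := Nat.le_of_dvd (by omega) h3
    nlinarith

/-- an element of order twelve of `SL(2,13)` -/
def A6 : SL13 := ⟨toMat (2, 0, 0, 7), by rw [Matrix.det_fin_two]; simp [toMat]; decide⟩

theorem exists_order_six : ∃ y : PSL13, orderOf y = 6 := by
  refine ⟨((A6 : SL13) : PSL13), ?_⟩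
  have hk : ∀ n : ℕ, ((A6 : SL13) : PSL13) ^ n = 1 ↔ isPM (pw (2, 0, 0, 7) n) = true := by
    intro n
    rw [← QuotientGroup.mk_pow, QuotientGroup.eq_one_iff, pow_mem_center_iff]
    have : tup ((A6 : SL13) : Matrix (Fin 2) (Fin 2) (ZMod 13)) = (2, 0, 0, 7) := by
      show tup (toMat (2, 0, 0, 7)) = _
      simp [tup, toMat]
    rw [this]
  apply orderOf_eq_of_pow_and_pow_div_prime (by norm_num)
  · rw [hk]; decide
  · intro p hp hp6
    have : p = 2 ∨ p = 3 := by
      have h6 : (6 : ℕ) = 2 * 3 := by norm_num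
      rw [h6] at hp6
      rcases (Nat.Prime.dvd_mul hp).1 hp6 with h | h
      · left; exact (Nat.prime_dvd_prime_iff_eq hp Nat.prime_two).1 h
      · right; exact (Nat.prime_dvd_prime_iff_eq hp Nat.prime_three).1 h
    rcases this with rfl | rfl
    · rw [Ne, hk]; decide
    · rw [Ne, hk]; decide

end Cfsg.Agent.Lib.H14.PSL13
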