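import Mathlib
import Cfsg.Agent.Lib.H14.PG7B
import Cfsg.Agent.Lib.H14.PSL13
import Cfsg.Agent.Lib.H14.ChevBC
import Cfsg.Agent.Lib.H29.ChevOrderG2
import Cfsg.Agent.Lib.H2.PSLCard
import Cfsg.Agent.Lib.H3.CenterIso

set_option autoImplicit false
set_option linter.unusedSimpArgs false

/-! # `G₂(3)` and `PSL(2,13)` have the same prime graph -/

namespace Cfsg.Agent.Lib.H14.PG7C

open Cfsg.Lie Matrix Cfsg.Agent.Lib.H14.ReeTab Cfsg.Agent.Lib.H14.PG7A Cfsg.Agent.Lib.H14.PG7B
  Cfsg.Agent.Lib.H14.PSL13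

section general

open scoped Pointwise

variable {G : Type*} [Group G] [Finite G]

theorem exists_conj_mem_zpowers (p : ℕ) [Fact p.Prime] (u x : G) (hu : orderOf u = p)
    (hx : orderOf x = p) (hp : (Nat.card G).factorization p = 1) :
    ∃ h : G, MulAut.conj h u ∈ Subgroup.zpowers x := by
  have cu : Nat.card (Subgroup.zpowers u) = p ^ (Nat.card G).factorization p := by
    rw [hp, pow_one, Nat.card_zpowers, hu]
  have cx : Nat.card (Subgroup.zpowers x) = p ^ (Nat.card G).factorization p := by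
    rw [hp, pow_one, Nat.card_zpowers, hx]
  obtain ⟨g, hg⟩ := MulAction.exists_smul_eq G (Sylow.ofCard _ cu) (Sylow.ofCard _ cx)
  refine ⟨g, ?_⟩
  have h1 : MulAut.conj g • u ∈ MulAut.conj g • Subgroup.zpowers u :=
    Subgroup.smul_mem_pointwise_smul _ _ _ (Subgroup.mem_zpowers u)
  have h2 : MulAut.conj g • Subgroup.zpowers u = Subgroup.zpowers x := by
    have := congrArg (fun P : Sylow p G => (P : Subgroup G)) hg
    simp only [Sylow.coe_subgroup_smul] at this
    exact this
  rw [h2] at h1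
  exact h1

theorem no_order_mul (p : ℕ) [Fact p.Prime] (x : G) (hx : orderOf x = p)
    (hC : ∀ y, y * x = x * y → y ∈ Subgroup.zpowers x)
    (hp : (Nat.card G).factorization p = 1) (g : G) (s : ℕ) (hs : 2 ≤ s) :
    orderOf g ≠ p * s := by
  intro ho
  have hp2 : 2 ≤ p := (Fact.out : p.Prime).two_le
  have hs0 : s ≠ 0 := by omega
  have hu : orderOf (g ^ s) = p := by
    rw [orderOf_pow_of_dvd hs0 (by rw [ho]; exact dvd_mul_left s p), ho,
      Nat.mul_div_cancel _ (by omega)]
  obtain ⟨h, hh⟩ := exists_conj_mem_zpowers p (g ^ s) x hu hx hp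
  set g' := MulAut.conj h g with hg'
  set z := MulAut.conj h (g ^ s) with hz
  have hzs : z = g' ^ s := by rw [hz, hg', map_pow]
  have hzo : orderOf z = p := by rw [hz, MulEquiv.orderOf_eq, hu]
  have hzx : Subgroup.zpowers z = Subgroup.zpowers x := by
    apply Subgroup.eq_of_le_of_card_ge (Subgroup.zpowers_le.2 hh)
    rw [Nat.card_zpowers, Nat.card_zpowers, hx, hzo]
  have hxz : x ∈ Subgroup.zpowers z := by rw [hzx]; exact Subgroup.mem_zpowers x
  obtain ⟨k, hk⟩ := Subgroup.mem_zpowers_iff.1 hxz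
  have hcomm : g' * x = x * g' := by
    rw [← hk, hzs]
    exact (((Commute.refl g').pow_right s).zpow_right k).eq
  have hmem := hC g' hcomm
  have hdvd : orderOf g' ∣ p := by
    have h1 := orderOf_dvd_natCard (⟨g', hmem⟩ : Subgroup.zpowers x)
    rw [Nat.card_zpowers, hx, Subgroup.orderOf_mk] at h1
    exact h1
  rw [hg', MulEquiv.orderOf_eq, ho] at hdvd
  have := Nat.le_of_dvd (by omega) hdvd
  nlinarith

end general

theorem card_G23 : Nat.card G23 = 4245696 := by
  have h := Cfsg.Agent.Lib.H29.Chev.order_G2 (F := K3)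
  have h3 : Nat.card K3 = 3 := by rw [Nat.card_eq_fintype_card, ZMod.card]
  rw [h3] at h
  rw [h]
  norm_num

theorem fact7 : (Nat.card G23).factorization 7 = 1 := by
  rw [card_G23]
  have : (4245696 : ℕ) = 7 * 606528 := by norm_num
  rw [this, Nat.factorization_mul (by norm_num) (by norm_num), Finsupp.add_apply,
    Nat.Prime.factorization_self (by norm_num),
    Nat.factorization_eq_zero_of_not_dvd (by norm_num)]

theorem fact13 : (Nat.card G23).factorization 13 = 1 := by
  rw [card_G23]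
  have : (4245696 : ℕ) = 13 * 326592 := by norm_num
  rw [this, Nat.factorization_mul (by norm_num) (by norm_num), Finsupp.add_apply,
    Nat.Prime.factorization_self (by norm_num),
    Nat.factorization_eq_zero_of_not_dvd (by norm_num)]

theorem no7 (g : G23) (s : ℕ) (hs : 2 ≤ s) : orderOf g ≠ 7 * s := by
  have : Fact (Nat.Prime 7) := ⟨by norm_num⟩
  exact no_order_mul 7 x7 orderOf_x7 centralizer_x7 fact7 g s hs

theorem no13 (g : G23) (s : ℕ) (hs : 2 ≤ s) : orderOf g ≠ 13 * s := by
  have : Fact (Nat.Prime 13) := ⟨by norm_num⟩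
  exact no_order_mul 13 x13 orderOf_x13 centralizer_x13 fact13 g s hs

instance fact_prime_thirteen : Fact (Nat.Prime 13) := ⟨by norm_num⟩

theorem no7' (g : G23) (s : ℕ) (hs : 2 ≤ s) : orderOf g ≠ s * 7 := by
  rw [mul_comm]; exact no7 g s hs

theorem no13' (g : G23) (s : ℕ) (hs : 2 ≤ s) : orderOf g ≠ s * 13 := by
  rw [mul_comm]; exact no13 g s hs

theorem psl_no_order' (y : PSL13) (r s : ℕ)
    (hrs : (r = 2 ∧ s = 7) ∨ (r = 3 ∧ s = 7) ∨ (r = 2 ∧ s = 13) ∨ (r = 3 ∧ s = 13) ∨
      (r = 7 ∧ s = 13)) : orderOf y ≠ s * r := by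
  rw [mul_comm]; exact PSL13.no_order y r s hrs

theorem card_PSL13 : Nat.card PSL13 = 1092 := by
  have h := Cfsg.Agent.Lib.H2.card_PSL2_mul (F := ZMod 13)
  rw [ZMod.card] at h
  have h2 : Nat.gcd 2 (13 - 1) = 2 := by norm_num
  rw [h2] at h
  have h3 : Nat.card (Matrix.ProjectiveSpecialLinearGroup (Fin 2) (ZMod 13)) = 1092 := by omega
  exact h3

theorem prime_dvd_big (r : ℕ) (hr : r.Prime) :
    r ∣ 4245696 ↔ r = 2 ∨ r = 3 ∨ r = 7 ∨ r = 13 := by
  constructor
  · intro h
    have e : (4245696 : ℕ) = 2 ^ 6 * (3 ^ 6 * (7 * 13)) := by norm_num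
    rw [e] at h
    rcases (Nat.Prime.dvd_mul hr).1 h with h | h
    · left; exact (Nat.prime_dvd_prime_iff_eq hr Nat.prime_two).1 (hr.dvd_of_dvd_pow h)
    rcases (Nat.Prime.dvd_mul hr).1 h with h | h
    · right; left; exact (Nat.prime_dvd_prime_iff_eq hr Nat.prime_three).1 (hr.dvd_of_dvd_pow h)
    rcases (Nat.Prime.dvd_mul hr).1 h with h | h
    · right; right; left; exact (Nat.prime_dvd_prime_iff_eq hr (by norm_num)).1 h
    · right; right; right; exact (Nat.prime_dvd_prime_iff_eq hr (by norm_num)).1 h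
  · rintro (rfl | rfl | rfl | rfl) <;> norm_num

theorem prime_dvd_small (r : ℕ) (hr : r.Prime) :
    r ∣ 1092 ↔ r = 2 ∨ r = 3 ∨ r = 7 ∨ r = 13 := by
  constructor
  · intro h
    have e : (1092 : ℕ) = 2 ^ 2 * (3 * (7 * 13)) := by norm_num
    rw [e] at h
    rcases (Nat.Prime.dvd_mul hr).1 h with h | h
    · left; exact (Nat.prime_dvd_prime_iff_eq hr Nat.prime_two).1 (hr.dvd_of_dvd_pow h)
    rcases (Nat.Prime.dvd_mul hr).1 h with h | h
    · right; left; exact (Nat.prime_dvd_prime_iff_eq hr Nat.prime_three).1 h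
    rcases (Nat.Prime.dvd_mul hr).1 h with h | h
    · right; right; left; exact (Nat.prime_dvd_prime_iff_eq hr (by norm_num)).1 h
    · right; right; right; exact (Nat.prime_dvd_prime_iff_eq hr (by norm_num)).1 h
  · rintro (rfl | rfl | rfl | rfl) <;> norm_num

/-- the comparison over the prime fields -/
theorem graph_prime (r s : ℕ) (hr : r.Prime) (hs : s.Prime) (hrs : r ≠ s) :
    (∃ x : G23, orderOf x = r * s) ↔ (∃ y : PSL13, orderOf y = r * s) := by
  constructor
  · rintro ⟨x, hx⟩
    have hd : r * s ∣ 4245696 := by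
      rw [← card_G23, ← hx]; exact orderOf_dvd_natCard x
    have h1 := (prime_dvd_big r hr).1 (dvd_trans (dvd_mul_right r s) hd)
    have h2 := (prime_dvd_big s hs).1 (dvd_trans (dvd_mul_left s r) hd)
    rcases h1 with rfl | rfl | rfl | rfl <;> rcases h2 with rfl | rfl | rfl | rfl
    all_goals first
      | exact absurd rfl hrs
      | (refine absurd hx (no7 x _ ?_); norm_num)
      | (refine absurd hx (no13 x _ ?_); norm_num)
      | (refine absurd hx (no7' x _ ?_); norm_num)
      | (refine absurd hx (no13' x _ ?_); norm_num)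
      | (obtain ⟨y, hy⟩ := exists_order_six; refine ⟨y, ?_⟩; rw [hy]; done)
  · rintro ⟨y, hy⟩
    have hd : r * s ∣ 1092 := by
      rw [← card_PSL13, ← hy]; exact orderOf_dvd_natCard y
    have h1 := (prime_dvd_small r hr).1 (dvd_trans (dvd_mul_right r s) hd)
    have h2 := (prime_dvd_small s hs).1 (dvd_trans (dvd_mul_left s r) hd)
    rcases h1 with rfl | rfl | rfl | rfl <;> rcases h2 with rfl | rfl | rfl | rfl
    all_goals first
      | exact absurd rfl hrs
      | (refine ⟨w6, ?_⟩; rw [orderOf_w6]; done)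
      | (refine absurd hy (PSL13.no_order y _ _ ?_); decide)
      | (refine absurd hy (psl_no_order' y _ _ ?_); decide)

/-- ring isomorphisms induce isomorphisms of special linear groups -/
noncomputable def slEquiv {n : Type*} [DecidableEq n] [Fintype n] {R S : Type*} [CommRing R]
    [CommRing S] (e : R ≃+* S) : SpecialLinearGroup n R ≃* SpecialLinearGroup n S :=
  { toFun := SpecialLinearGroup.map (e : R →+* S)
    invFun := SpecialLinearGroup.map (e.symm : S →+* R)
    left_inv := fun g => by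
      apply Subtype.ext
      ext i j
      show e.symm (e (g i j)) = g i j
      simp
    right_inv := fun g => by
      apply Subtype.ext
      ext i j
      show e (e.symm (g i j)) = g i j
      simp
    map_mul' := fun g h => map_mul _ g h }

theorem main {F : Type*} [Field F] [Fintype F] (hF : Fintype.card F = 3) {E : Type*} [Field E]
    [Fintype E] (hE : Fintype.card E = 13) :
    ((∀ r : ℕ, r.Prime → (r ∣ Nat.card ↥(chevG2.group F) ↔
        r ∣ Nat.card (Matrix.ProjectiveSpecialLinearGroup (Fin 2) E))) ∧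
      (∀ r s : ℕ, r.Prime → s.Prime → r ≠ s →
        ((∃ x : ↥(chevG2.group F), orderOf x = r * s) ↔
          (∃ y : (Matrix.ProjectiveSpecialLinearGroup (Fin 2) E), orderOf y = r * s)))) := by
  have : Fact (Nat.Prime 3) := ⟨Nat.prime_three⟩
  have : Fact (Nat.Prime 13) := ⟨by norm_num⟩
  have e3 : ZMod 3 ≃+* F := ZMod.ringEquivOfPrime F Nat.prime_three hF
  have e13 : ZMod 13 ≃+* E := ZMod.ringEquivOfPrime E (by norm_num) hE
  have eG : G23 ≃* ↥(chevG2.group F) := Cfsg.Agent.Lib.H14.ChevBC.groupEquiv chevG2 e3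
  have eP : PSL13 ≃* Matrix.ProjectiveSpecialLinearGroup (Fin 2) E :=
    Cfsg.Agent.Lib.H3.CenterIso.quotCenterCongr (slEquiv e13)
  have cG : Nat.card ↥(chevG2.group F) = 4245696 := by
    rw [← Nat.card_congr eG.toEquiv, card_G23]
  have cP : Nat.card (Matrix.ProjectiveSpecialLinearGroup (Fin 2) E) = 1092 := by
    rw [← Nat.card_congr eP.toEquiv, card_PSL13]
  constructor
  · intro r hr
    rw [cG, cP, prime_dvd_big r hr, prime_dvd_small r hr]
  · intro r s hr hs hrs
    have h := graph_prime r s hr hs hrs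
    constructor
    · rintro ⟨x, hx⟩
      obtain ⟨y, hy⟩ := h.1 ⟨eG.symm x, by rw [MulEquiv.orderOf_eq, hx]⟩
      exact ⟨eP y, by rw [MulEquiv.orderOf_eq, hy]⟩
    · rintro ⟨y, hy⟩
      obtain ⟨x, hx⟩ := h.2 ⟨eP.symm y, by rw [MulEquiv.orderOf_eq, hy]⟩
      exact ⟨eG x, by rw [MulEquiv.orderOf_eq, hx]⟩

end Cfsg.Agent.Lib.H14.PG7C
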