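import Mathlib
import Cfsg.Agent.Lib.H22.A10Sd

set_option autoImplicit false
set_option linter.unusedSimpArgs false

/-! # Extensions of a finite group by elementary abelian groups with the same prime graph

Let `K` be a finite group, `r` and `ℓ` primes, and `f₀ : K → ZMod r` a nonzero function whose
sums over the cosets `E⟨y⟩` vanish for all elements `y` of order `ℓ`.  The functions
`K → (Fin n → ZMod r)` with this property form a `K`-module `V`, and the semidirect products
`V ⋊ K` have unbounded orders.  If `K` has elements of order `r s` for all primes `s ≠ r, ℓ`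
dividing its order, they all have the same prime graph as `K`. -/

namespace Cfsg.Agent.Lib.H14.PGExt

open Cfsg.Agent.Lib.H22.A10Sd
open scoped Pointwise

section sylow

variable {G : Type*} [Group G] [Finite G]

theorem exists_conj_mem_zpowers (p : ℕ) [Fact p.Prime] (u x : G) (hu : orderOf u = p)
    (hx : orderOf x = p) (hp : (Nat.card G).factorization p = 1) :
    ∃ h : G, MulAut.conj h u ∈ Subgroup.zpowers x := by
  have cu : Nat.card (Subgroup.zpowers u) = p ^ (Nat.card G).factorization p := by
    rw [hp, pow_one, Nat.card_zpowers, hu]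
  have cx : Nat.card (Subgroup.zpowers x) = p ^ (Nat.card G).factorization p := by
    rw [hp, pow_one, Nat.card_zpowers, hx]
  obtain ⟨g, hg⟩ := MulAction.exists_smul_eq G (Sylow.ofCard _ cu) (Sylow.ofCard _ cx)
  refine ⟨g, ?_⟩
  have h1 : MulAut.conj g • u ∈ MulAut.conj g • Subgroup.zpowers u :=
    Subgroup.smul_mem_pointwise_smul _ _ _ (Subgroup.mem_zpowers u)
  have h2 : MulAut.conj g • Subgroup.zpowers u = Subgroup.zpowers x := by
    have := congrArg (fun P : Sylow p G => (P : Subgroup G)) hg
    simp only [Sylow.coe_subgroup_smul] at this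
    exact this
  rw [h2] at h1
  exact h1

/-- an element of prime order is conjugate to a power of a given one when the Sylow subgroups
have prime order -/
theorem exists_conj_eq_pow (p : ℕ) [Fact p.Prime] (u x : G) (hu : orderOf u = p)
    (hx : orderOf x = p) (hp : (Nat.card G).factorization p = 1) :
    ∃ (h : G) (j : ℕ), ¬ p ∣ j ∧ u = h * x ^ j * h⁻¹ := by
  obtain ⟨g, hg⟩ := exists_conj_mem_zpowers p u x hu hx hp
  have hfin : IsOfFinOrder x := by
    rw [← orderOf_pos_iff, hx]
    exact (Fact.out : p.Prime).pos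
  rw [← mem_powers_iff_mem_zpowers, Submonoid.mem_powers_iff] at hg
  obtain ⟨j, hj⟩ := hg
  refine ⟨g⁻¹, j, ?_, ?_⟩
  · intro hd
    have h1 : x ^ j = 1 := by
      rw [← hx] at hd
      exact orderOf_dvd_iff_pow_eq_one.1 hd
    rw [h1] at hj
    have h2 : u = 1 := by
      have := congrArg (MulAut.conj g).symm hj
      rw [MulEquiv.symm_apply_apply, map_one] at this
      exact this.symm
    rw [h2, orderOf_one] at hu
    exact (Fact.out : p.Prime).one_lt.ne hu
  · rw [hj, MulAut.conj_apply, inv_inv]
    group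

end sylow

section reindex

variable {G : Type*} [Group G] {α : Type*} [AddCommMonoid α]

theorem sum_range_zmod (m : ℕ) (ψ : ZMod (m + 1) → α) :
    ∑ t ∈ Finset.range (m + 1), ψ (t : ZMod (m + 1)) = ∑ z : ZMod (m + 1), ψ z := by
  rw [Finset.sum_range]
  apply Fintype.sum_congr
  intro i
  congr 1
  exact ZMod.natCast_zmod_val (n := m + 1) i

/-- multiplying the exponents by a unit modulo a prime permutes the powers -/
theorem sum_pow_mul (l : ℕ) [Fact l.Prime] (x : G) (hx : x ^ l = 1) (j : ℕ) (hj : ¬ l ∣ j)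
    (F : G → α) :
    ∑ t ∈ Finset.range l, F (x ^ (j * t)) = ∑ t ∈ Finset.range l, F (x ^ t) := by
  have hl : l ≠ 0 := (Fact.out : l.Prime).ne_zero
  have key : ∀ n : ℕ, F (x ^ n) = F (x ^ ((n : ZMod l).val)) := by
    intro n
    rw [ZMod.val_natCast]
    congr 1
    exact pow_eq_pow_mod n hx
  have hj0 : (j : ZMod l) ≠ 0 := by
    intro h
    exact hj ((ZMod.natCast_eq_zero_iff j l).1 h)
  obtain ⟨m, rfl⟩ : ∃ m, l = m + 1 := ⟨l - 1, by omega⟩
  have e1 : ∑ t ∈ Finset.range (m + 1), F (x ^ (j * t))
      = ∑ t ∈ Finset.range (m + 1), (fun z : ZMod (m + 1) => F (x ^ ((j : ZMod (m + 1)) * z).val))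
          (t : ZMod (m + 1)) := by
    apply Finset.sum_congr rfl
    intro t _
    rw [key, Nat.cast_mul]
  have e2 : ∑ t ∈ Finset.range (m + 1), F (x ^ t)
      = ∑ t ∈ Finset.range (m + 1), (fun z : ZMod (m + 1) => F (x ^ z.val))
          (t : ZMod (m + 1)) := by
    apply Finset.sum_congr rfl
    intro t _
    rw [key]
  rw [e1, e2]
  have e3 := sum_range_zmod m (fun z : ZMod (m + 1) => F (x ^ ((j : ZMod (m + 1)) * z).val))
  have e4 := sum_range_zmod m (fun z : ZMod (m + 1) => F (x ^ z.val))
  rw [e3, e4]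
  exact Equiv.sum_comp (Equiv.mulLeft₀ (j : ZMod (m + 1)) hj0)
    (fun z : ZMod (m + 1) => F (x ^ z.val))

end reindex

section module

variable (K : Type) [Group K] (A : Type) [AddCommGroup A] (l : ℕ)

/-- the functions whose sums over the cosets of the cyclic subgroups of order `l` vanish -/
def Vsub : AddSubgroup (K → A) where
  carrier := {f | ∀ y : K, orderOf y = l → ∀ E : K, ∑ t ∈ Finset.range l, f (E * y ^ t) = 0}
  zero_mem' := by
    intro y _ E
    simp
  add_mem' := by
    intro f1 f2 h1 h2 y hy E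
    simp only [Pi.add_apply, Finset.sum_add_distrib, h1 y hy E, h2 y hy E, add_zero]
  neg_mem' := by
    intro f h y hy E
    simp only [Pi.neg_apply, Finset.sum_neg_distrib, h y hy E, neg_zero]

variable {K A l}

theorem mem_Vsub (f : K → A) : f ∈ Vsub K A l ↔
    ∀ y : K, orderOf y = l → ∀ E : K, ∑ t ∈ Finset.range l, f (E * y ^ t) = 0 := Iff.rfl

theorem translate_mem (f : K → A) (hf : f ∈ Vsub K A l) (g : K) :
    (fun E => f (E * g)) ∈ Vsub K A l := by
  intro y hy E
  have h1 : orderOf (MulAut.conj g⁻¹ y) = l := by rw [MulEquiv.orderOf_eq, hy]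
  have h2 := hf _ h1 (E * g)
  rw [← h2]
  apply Finset.sum_congr rfl
  intro t _
  show f (E * y ^ t * g) = f (E * g * (MulAut.conj g⁻¹ y) ^ t)
  rw [← map_pow, MulAut.conj_apply, inv_inv]
  congr 1
  group

instance : DistribMulAction K ↥(Vsub K A l) where
  smul g f := ⟨fun E => f.1 (E * g), translate_mem f.1 f.2 g⟩
  one_smul f := Subtype.ext (funext fun E => by
    show f.1 (E * 1) = f.1 E
    rw [mul_one])
  mul_smul g h f := Subtype.ext (funext fun E => by
    show f.1 (E * (g * h)) = f.1 (E * g * h)
    rw [mul_assoc])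
  smul_zero g := Subtype.ext rfl
  smul_add g f1 f2 := Subtype.ext rfl

theorem smul_val (g : K) (f : ↥(Vsub K A l)) (E : K) : (g • f).1 E = f.1 (E * g) := rfl

/-- the norm of an element of order `l` vanishes -/
theorem norm_eq_zero (g : K) (hg : orderOf g = l) (w : ↥(Vsub K A l)) :
    ∑ i ∈ Finset.range l, g ^ i • w = 0 := by
  apply Subtype.ext
  funext E
  rw [AddSubgroup.val_finsetSum, Finset.sum_apply]
  exact w.2 g hg E

theorem nsmul_eq_zero (r : ℕ) (hA : ∀ a : A, r • a = 0) (w : ↥(Vsub K A l)) : r • w = 0 := by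
  apply Subtype.ext
  funext E
  rw [AddSubgroup.coe_nsmul, Pi.smul_apply, hA]
  rfl

end module

section embed

variable {K : Type} [Group K] {l r : ℕ} [Fact r.Prime] (n : ℕ)

/-- the multiples of a function in the module -/
def emb (f0 : K → ZMod r)
    (hf0 : ∀ y : K, orderOf y = l → ∀ E : K, ∑ t ∈ Finset.range l, f0 (E * y ^ t) = 0)
    (a : Fin n → ZMod r) : ↥(Vsub K (Fin n → ZMod r) l) :=
  ⟨fun E => f0 E • a, by
    intro y hy E
    rw [← Finset.sum_smul, hf0 y hy E, zero_smul]⟩

theorem emb_injective (f0 : K → ZMod r)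
    (hf0 : ∀ y : K, orderOf y = l → ∀ E : K, ∑ t ∈ Finset.range l, f0 (E * y ^ t) = 0)
    (e0 : K) (he0 : f0 e0 ≠ 0) : Function.Injective (emb n f0 hf0) := by
  intro a b hab
  have h1 := congrFun (congrArg Subtype.val hab) e0
  exact smul_right_injective _ he0 h1

end embed

section order

variable {K N : Type} [Group K] [AddCommGroup N] [DistribMulAction K N]

theorem card_SD [Finite K] [Finite N] : Nat.card (SD K N) = Nat.card N * Nat.card K := by
  rw [Nat.card_congr (SemidirectProduct.equivProd (φ := phi K N)), Nat.card_prod]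
  rfl

/-- elements of order `p q` of the extension give elements of order `p q` of the quotient -/
theorem exists_orderOf_of_SD (r l : ℕ) (hr : r.Prime)
    (hN : ∀ w : N, r • w = 0)
    (hl : ∀ g : K, orderOf g = l → ∀ w : N, ∑ i ∈ Finset.range l, g ^ i • w = 0)
    (hK : ∀ q : ℕ, q.Prime → q ≠ r → q ≠ l → (∃ g : K, orderOf g = q) →
      ∃ g : K, orderOf g = r * q)
    (p q : ℕ) (hp : p.Prime) (hq : q.Prime) (hpq : p ≠ q)
    (h : ∃ h : SD K N, orderOf h = p * q) : ∃ g : K, orderOf g = p * q := by
  obtain ⟨h, ho⟩ := h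
  obtain ⟨w, g, rfl⟩ := mk_surj h
  set m := orderOf g with hm
  have hmd : m ∣ p * q := by
    rw [← ho]
    exact orderOf_right_dvd w g
  -- the power `m r` kills the element
  have hpow : (mk w g) ^ (m * r) = 1 := by
    rw [pow_mul, mk_pow, pow_orderOf_eq_one, mk_pow, mk_eq_one_iff]
    refine ⟨?_, one_pow _⟩
    simp only [one_pow, one_smul, Finset.sum_const, Finset.card_range]
    exact hN _
  have hd : p * q ∣ m * r := by
    rw [← ho]
    exact orderOf_dvd_of_pow_eq_one hpow
  have hpq' : Nat.Coprime p q := (Nat.coprime_primes hp hq).2 hpq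
  -- the case where `r` is one of the two primes, say the first one
  have main : ∀ p' q' : ℕ, p'.Prime → q'.Prime → p' ≠ q' → p' = r → m ∣ p' * q' →
      p' * q' ∣ m * r → orderOf (mk w g) = p' * q' → ∃ g : K, orderOf g = p' * q' := by
    intro p' q' hp' hq' hne hpr hmd hd ho
    subst hpr
    have hqm : q' ∣ m := by
      have h1 : q' ∣ m * p' := Dvd.dvd.trans (dvd_mul_left q' p') hd
      rcases (Nat.Prime.dvd_mul hq').1 h1 with h2 | h2
      · exact h2
      · exact absurd ((Nat.prime_dvd_prime_iff_eq hq' hp').1 h2).symm hne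
    obtain ⟨c, hc⟩ := hqm
    -- `m = q' c` divides `p' q'`, hence `c` divides `p'`
    have hcp : c ∣ p' := by
      rw [hc, mul_comm p' q'] at hmd
      exact Nat.dvd_of_mul_dvd_mul_left hq'.pos hmd
    rcases (Nat.dvd_prime hp').1 hcp with h1 | h1
    · -- the projection has order `q'`
      rw [h1, mul_one] at hc
      by_cases hql : q' = l
      · exfalso
        have h13 : (mk w g) ^ l = 1 := by
          rw [mk_pow, mk_eq_one_iff]
          refine ⟨hl g (by rw [← hm, hc, hql]) w, ?_⟩
          rw [← hql, ← hc, hm]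
          exact pow_orderOf_eq_one g
        have h2 : p' * q' ∣ l := by
          rw [← ho]
          exact orderOf_dvd_of_pow_eq_one h13
        rw [← hql] at h2
        have h3 : p' * q' ≤ q' := Nat.le_of_dvd hq'.pos h2
        have h4 := hp'.two_le
        have h5 := hq'.pos
        nlinarith
      · exact hK q' hq' (Ne.symm hne) hql ⟨g, by rw [← hm, hc]⟩
    · exact ⟨g, by rw [← hm, hc, h1, mul_comm]⟩
  by_cases hpr : p = r
  · exact main p q hp hq hpq hpr hmd hd ho
  by_cases hqr : q = r
  · have := main q p hq hp (Ne.symm hpq) hqr (by rwa [mul_comm]) (by rwa [mul_comm])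
      (by rw [ho, mul_comm])
    rwa [mul_comm] at this
  · -- `r` is not involved
    have hcop : Nat.Coprime (p * q) r := by
      apply Nat.Coprime.mul_left
      · exact (Nat.coprime_primes hp hr).2 hpr
      · exact (Nat.coprime_primes hq hr).2 hqr
    have h1 : p * q ∣ m := hcop.dvd_of_dvd_mul_right hd
    exact ⟨g, by rw [← hm]; exact Nat.dvd_antisymm hmd h1⟩

end order

section main

/-- the groups with the same prime graph, of unbounded order -/
theorem exists_big (K : Type) [Group K] [Finite K] (r l : ℕ) [Fact r.Prime] (f0 : K → ZMod r)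
    (e0 : K) (he0 : f0 e0 ≠ 0)
    (hf0 : ∀ y : K, orderOf y = l → ∀ E : K, ∑ t ∈ Finset.range l, f0 (E * y ^ t) = 0)
    (hr : r ∣ Nat.card K)
    (hK : ∀ q : ℕ, q.Prime → q ≠ r → q ≠ l → (∃ g : K, orderOf g = q) →
      ∃ g : K, orderOf g = r * q) (N : ℕ) :
    ∃ (H : Type) (_ : Group H) (_ : Finite H), N < Nat.card H ∧
      (∀ p : ℕ, p.Prime → (p ∣ Nat.card K ↔ p ∣ Nat.card H)) ∧
      ∀ p q : ℕ, p.Prime → q.Prime → p ≠ q →
        ((∃ g : K, orderOf g = p * q) ↔ ∃ g : H, orderOf g = p * q) := by
  have hrp : r.Prime := Fact.out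
  let A : Type := Fin N → ZMod r
  let V : Type := ↥(Vsub K A l)
  have : Finite V := Subtype.finite
  refine ⟨SD K V, inferInstance, inferInstance, ?_, ?_, ?_⟩
  · -- the order is large
    rw [card_SD]
    have h1 : Nat.card A ≤ Nat.card V :=
      Nat.card_le_card_of_injective (emb N f0 hf0) (emb_injective N f0 hf0 e0 he0)
    have h2 : Nat.card A = r ^ N := by
      rw [Nat.card_eq_fintype_card, Fintype.card_fun, ZMod.card, Fintype.card_fin]
    have h3 : N < r ^ N := Nat.lt_pow_self hrp.one_lt
    have h4 : 0 < Nat.card K := Nat.card_pos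
    calc N < r ^ N := h3
      _ = Nat.card A := h2.symm
      _ ≤ Nat.card V := h1
      _ = Nat.card V * 1 := (mul_one _).symm
      _ ≤ Nat.card V * Nat.card K := Nat.mul_le_mul_left _ h4
  · -- the primes
    intro p hp
    rw [card_SD]
    constructor
    · intro h
      exact Dvd.dvd.mul_left h _
    · intro h
      rcases (Nat.Prime.dvd_mul hp).1 h with h1 | h1
      · have hpg : IsPGroup r (Multiplicative V) := by
          intro w
          refine ⟨1, ?_⟩
          rw [pow_one]
          have := nsmul_eq_zero r (fun a : A => ZModModule.char_nsmul_eq_zero r a)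
            (Multiplicative.toAdd w)
          exact congrArg Multiplicative.ofAdd this
        obtain ⟨k, hk⟩ := IsPGroup.iff_card.1 hpg
        have hk' : Nat.card V = r ^ k := hk
        rw [hk'] at h1
        have h2 := hp.dvd_of_dvd_pow h1
        rw [(Nat.prime_dvd_prime_iff_eq hp hrp).1 h2]
        exact hr
      · exact h1
  · -- the edges
    intro p q hp hq hpq
    constructor
    · rintro ⟨g, hg⟩
      exact ⟨mk 0 g, by rw [orderOf_mk_zero, hg]⟩
    · intro h
      exact exists_orderOf_of_SD r l hrp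
        (nsmul_eq_zero r (fun a : A => ZModModule.char_nsmul_eq_zero r a))
        (fun g hg w => norm_eq_zero g hg w) hK p q hp hq hpq h

end main

end Cfsg.Agent.Lib.H14.PGExt
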