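import Mathlib
import Cfsg.Prelude.Def_Characters
import Cfsg.Prelude.Def_Blocks
import Cfsg.Agent.Lib.L0.CharOps
import Cfsg.Agent.Lib.L0.CharLinear
import Cfsg.Agent.Lib.H23.DegreeDvd
import Cfsg.Agent.Lib.H23.BlockVanish
import Cfsg.Agent.Lib.H24.CharBasic
import Cfsg.Agent.Lib.H20.PL1Defs

/-!
# S4711 piece LIN (helper14): if `∑_{ψ ∈ B₀(X)} ψ(1)² ≤ |P|` then every linear character of the
Sylow `p`-subgroup `P` extends to `X`.
-/

set_option autoImplicit false

namespace Cfsg.Agent.Lib.H14.PL1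

open Cfsg Cfsg.Agent.Lib.L0 Cfsg.Agent.Lib.H23 Cfsg.Agent.Lib.H24 Cfsg.Agent.Lib.H20.PL1
open scoped ComplexConjugate

open scoped Classical in
/-- `sqSum` as a sum over the finite type of irreducible characters. -/
theorem sqSum_eq_sum {G : Type*} [Group G] [Fintype (IrrCharacter G)] (B : Set (IrrCharacter G)) :
    sqSum B = ∑ χ : IrrCharacter G, if χ ∈ B then (charDegree (χ : G → ℂ)) ^ 2 else 0 := by
  unfold sqSum
  rw [finsum_eq_sum_of_fintype]
  refine Finset.sum_congr rfl (fun χ _ => ?_)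
  rw [finsum_eq_if]

theorem dvd_orderOf_of_mem_sylow {X : Type*} [Group X] (p : ℕ) [Fact p.Prime] (P : Sylow p X)
    (u : ↥(P : Subgroup X)) (hu : u ≠ 1) : p ∣ orderOf (u : X) := by
  have hpg : IsPGroup p ↥(P : Subgroup X) := P.isPGroup'
  obtain ⟨k, hk⟩ := (IsPGroup.iff_orderOf.mp hpg) u
  rw [Subgroup.orderOf_coe, hk]
  have hk0 : k ≠ 0 := by
    rintro rfl
    rw [pow_zero, orderOf_eq_one_iff] at hk
    exact hu hk
  exact dvd_pow_self p hk0

open scoped Classical in
/-- Key identity: for a function `lam` on `P` with `lam 1 = 1`,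
`|P| * ∑_{ψ ∈ B₀} ψ(1) [lam, ψ_P] = ∑_{ψ ∈ B₀} ψ(1)²`. -/
theorem lin_key {X : Type*} [Group X] [Fintype X] [Fintype (IrrCharacter X)] (p : ℕ)
    [Fact p.Prime] (M : Ideal AlgInt) (hM : IsPModular p M) (P : Sylow p X)
    [Fintype ↥(P : Subgroup X)]
    (lam : ↥(P : Subgroup X) → ℂ) (h1 : lam 1 = 1) :
    (Nat.card ↥(P : Subgroup X) : ℂ) * ∑ ψ : IrrCharacter X, (if ψ ∈ principalBlock M X then
        (ψ : X → ℂ) 1 * classInner lam (fun u : ↥(P : Subgroup X) => (ψ : X → ℂ) u) else 0) =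
      ∑ ψ : IrrCharacter X, (if ψ ∈ principalBlock M X then
        (ψ : X → ℂ) 1 * conj ((ψ : X → ℂ) 1) else 0) := by
  have hcard : (Nat.card ↥(P : Subgroup X) : ℂ) ≠ 0 := Nat.cast_ne_zero.2 Nat.card_pos.ne'
  have hp1 : ¬ p ∣ orderOf (1 : X) := by
    rw [orderOf_one]; exact (Fact.out : p.Prime).one_lt.ne' ∘ Nat.dvd_one.mp
  -- vanishing of `Φ` on `P \ 1`
  have hvan : ∀ u : ↥(P : Subgroup X), u ≠ 1 →
      ∑ ψ : IrrCharacter X, (if ψ ∈ principalBlock M X then
        (ψ : X → ℂ) 1 * conj ((ψ : X → ℂ) u) else 0) = 0 := by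
    intro u hu
    exact weak_block_orthogonality hM (trivialIrr X) (1 : X) (u : X) hp1
      (dvd_orderOf_of_mem_sylow p P u hu)
  -- expand the inner products
  have hexp : ∀ ψ : IrrCharacter X,
      (Nat.card ↥(P : Subgroup X) : ℂ) *
        classInner lam (fun u : ↥(P : Subgroup X) => (ψ : X → ℂ) u) =
      ∑ u : ↥(P : Subgroup X), lam u * conj ((ψ : X → ℂ) u) := by
    intro ψ
    unfold classInner
    rw [← mul_assoc, mul_inv_cancel₀ hcard, one_mul]
  calc (Nat.card ↥(P : Subgroup X) : ℂ) * ∑ ψ : IrrCharacter X,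
        (if ψ ∈ principalBlock M X then
          (ψ : X → ℂ) 1 * classInner lam (fun u : ↥(P : Subgroup X) => (ψ : X → ℂ) u) else 0)
      = ∑ ψ : IrrCharacter X, ∑ u : ↥(P : Subgroup X), lam u *
          (if ψ ∈ principalBlock M X then (ψ : X → ℂ) 1 * conj ((ψ : X → ℂ) u) else 0) := by
        rw [Finset.mul_sum]
        refine Finset.sum_congr rfl (fun ψ _ => ?_)
        split_ifs with hψ
        · rw [mul_left_comm, hexp ψ, Finset.mul_sum]
          refine Finset.sum_congr rfl (fun u _ => ?_)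
          ring
        · simp
    _ = ∑ u : ↥(P : Subgroup X), lam u * ∑ ψ : IrrCharacter X,
          (if ψ ∈ principalBlock M X then (ψ : X → ℂ) 1 * conj ((ψ : X → ℂ) u) else 0) := by
        rw [Finset.sum_comm]
        refine Finset.sum_congr rfl (fun u _ => ?_)
        rw [Finset.mul_sum]
    _ = lam 1 * ∑ ψ : IrrCharacter X,
          (if ψ ∈ principalBlock M X then
            (ψ : X → ℂ) 1 * conj ((ψ : X → ℂ) ((1 : ↥(P : Subgroup X)) : X)) else 0) := by
        rw [Finset.sum_eq_single (1 : ↥(P : Subgroup X))]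
        · intro u _ hu
          rw [hvan u hu, mul_zero]
        · intro h; exact absurd (Finset.mem_univ _) h
    _ = _ := by
        rw [h1, one_mul]
        rfl


/-- A character of degree one is irreducible. -/
theorem isIrrCharacter_of_isCharacter_of_apply_one {H : Type*} [Group H] {lam : H → ℂ}
    (hlam : IsCharacter H lam) (h1 : lam 1 = 1) : IsIrrCharacter H lam := by
  have := isIrrCharacter_of_hom (linearCharHom hlam h1)
  exact this

open scoped Classical in
/-- The key identity in natural numbers. -/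
theorem lin_key_nat {X : Type*} [Group X] [Fintype X] [Fintype (IrrCharacter X)] (p : ℕ)
    [Fact p.Prime] (M : Ideal AlgInt) (hM : IsPModular p M) (P : Sylow p X)
    [Fintype ↥(P : Subgroup X)]
    (lam : ↥(P : Subgroup X) → ℂ) (h1 : lam 1 = 1) (n : IrrCharacter X → ℕ)
    (hn : ∀ ψ : IrrCharacter X,
      classInner lam (fun u : ↥(P : Subgroup X) => (ψ : X → ℂ) u) = (n ψ : ℂ)) :
    Nat.card ↥(P : Subgroup X) * ∑ ψ : IrrCharacter X, (if ψ ∈ principalBlock M X then
        charDegree (ψ : X → ℂ) * n ψ else 0) = sqSum (principalBlock M X) := by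
  have key := lin_key p M hM P lam h1
  rw [sqSum_eq_sum]
  have hcast : ((Nat.card ↥(P : Subgroup X) * ∑ ψ : IrrCharacter X,
      (if ψ ∈ principalBlock M X then charDegree (ψ : X → ℂ) * n ψ else 0) : ℕ) : ℂ) =
      ((∑ χ : IrrCharacter X, if χ ∈ principalBlock M X then
        (charDegree (χ : X → ℂ)) ^ 2 else 0 : ℕ) : ℂ) := by
    push_cast
    rw [← (by
      refine Finset.sum_congr rfl (fun ψ _ => ?_)
      rw [hn ψ, apply_one_eq_charDegree (ψ : X → ℂ) ψ.2] : ∑ ψ : IrrCharacter X,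
        (if ψ ∈ principalBlock M X then
          (ψ : X → ℂ) 1 * classInner lam (fun u : ↥(P : Subgroup X) => (ψ : X → ℂ) u) else 0) =
        ∑ ψ : IrrCharacter X, (if ψ ∈ principalBlock M X then
          (charDegree (ψ : X → ℂ) : ℂ) * (n ψ : ℂ) else 0)), key]
    refine Finset.sum_congr rfl (fun ψ _ => ?_)
    rw [apply_one_eq_charDegree (ψ : X → ℂ) ψ.2, Complex.conj_natCast, sq]
  exact_mod_cast hcast

/-- LIN: if `∑_{ψ ∈ B₀(X)} ψ(1)² ≤ |P|` then every linear character of the Sylow `p`-subgroup `P`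
is the restriction of an irreducible character of `X`. -/
theorem exists_extension_of_sqSum_le {X : Type*} [Group X] [Finite X] (p : ℕ) [Fact p.Prime]
    (M : Ideal AlgInt) (hM : IsPModular p M) (P : Sylow p X)
    (h : sqSum (principalBlock M X) ≤ Nat.card (P : Subgroup X))
    (lam : ↥(P : Subgroup X) → ℂ) (hlam : IsCharacter ↥(P : Subgroup X) lam) (h1 : lam 1 = 1) :
    ∃ ψ : IrrCharacter X, ∀ u : ↥(P : Subgroup X), (ψ : X → ℂ) u = lam u := by
  classical
  have := Fintype.ofFinite X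
  have : Fintype (IrrCharacter X) := Fintype.ofFinite _
  have : Fintype ↥(P : Subgroup X) := Fintype.ofFinite _
  have hPr : M.IsPrime := isPrime_of_isPModular hM
  have hres : ∀ ψ : IrrCharacter X,
      IsCharacter ↥(P : Subgroup X) (fun u : ↥(P : Subgroup X) => (ψ : X → ℂ) u) :=
    fun ψ => isCharacter_restrict (P : Subgroup X) (isCharacter_of_irr ψ.2)
  have hcardpos : 0 < Nat.card ↥(P : Subgroup X) := Nat.card_pos
  -- the trivial character of `P`
  have htriv : IsIrrCharacter ↥(P : Subgroup X) (fun _ : ↥(P : Subgroup X) => (1 : ℂ)) :=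
    Cfsg.Agent.Lib.H24.isIrrCharacter_one
  choose n₁ hn₁ using fun ψ : IrrCharacter X => classInner_irr_char_nat (hres ψ) htriv
  have hk₁ := lin_key_nat p M hM P (fun _ => (1 : ℂ)) rfl n₁ hn₁
  -- the term of the trivial character of `X`
  have hmem : trivialIrr X ∈ principalBlock M X := mem_blockOf_self (trivialIrr X)
  have hd1 : charDegree ((trivialIrr X : IrrCharacter X) : X → ℂ) = 1 := by
    apply charDegree_eq_of_apply_one
    simp
  have hn11 : n₁ (trivialIrr X) = 1 := by
    have h2 := hn₁ (trivialIrr X)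
    have h3 : classInner (fun _ : ↥(P : Subgroup X) => (1 : ℂ))
        (fun u : ↥(P : Subgroup X) => ((trivialIrr X : IrrCharacter X) : X → ℂ) u) = 1 :=
      irr_classInner_self htriv
    rw [h3] at h2
    exact_mod_cast h2.symm
  have hge : 1 ≤ ∑ ψ : IrrCharacter X, (if ψ ∈ principalBlock M X then
      charDegree (ψ : X → ℂ) * n₁ ψ else 0) := by
    have := Finset.single_le_sum (f := fun ψ : IrrCharacter X => if ψ ∈ principalBlock M X then
      charDegree (ψ : X → ℂ) * n₁ ψ else 0) (fun _ _ => Nat.zero_le _)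
      (Finset.mem_univ (trivialIrr X))
    simpa [hmem, hd1, hn11] using this
  have hsq : sqSum (principalBlock M X) = Nat.card ↥(P : Subgroup X) := by
    apply le_antisymm h
    calc Nat.card ↥(P : Subgroup X) = Nat.card ↥(P : Subgroup X) * 1 := (mul_one _).symm
      _ ≤ _ := Nat.mul_le_mul_left _ hge
      _ = _ := hk₁
  -- now the given linear character
  have hlamirr : IsIrrCharacter ↥(P : Subgroup X) lam :=
    isIrrCharacter_of_isCharacter_of_apply_one hlam h1
  choose n hn using fun ψ : IrrCharacter X => classInner_irr_char_nat (hres ψ) hlamirr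
  have hk := lin_key_nat p M hM P lam h1 n hn
  rw [hsq] at hk
  have hsum : ∑ ψ : IrrCharacter X, (if ψ ∈ principalBlock M X then
      charDegree (ψ : X → ℂ) * n ψ else 0) = 1 := by
    have : Nat.card ↥(P : Subgroup X) * ∑ ψ : IrrCharacter X, (if ψ ∈ principalBlock M X then
      charDegree (ψ : X → ℂ) * n ψ else 0) = Nat.card ↥(P : Subgroup X) * 1 := by
      rw [hk, mul_one]
    exact Nat.eq_of_mul_eq_mul_left hcardpos this
  -- a nonzero term
  obtain ⟨ψ, -, hψne⟩ : ∃ ψ ∈ (Finset.univ : Finset (IrrCharacter X)),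
      (if ψ ∈ principalBlock M X then charDegree (ψ : X → ℂ) * n ψ else 0) ≠ 0 := by
    apply Finset.exists_ne_zero_of_sum_ne_zero
    rw [hsum]; exact one_ne_zero
  have hle : (if ψ ∈ principalBlock M X then charDegree (ψ : X → ℂ) * n ψ else 0) ≤ 1 := by
    rw [← hsum]
    exact Finset.single_le_sum (f := fun ψ : IrrCharacter X => if ψ ∈ principalBlock M X then
      charDegree (ψ : X → ℂ) * n ψ else 0) (fun _ _ => Nat.zero_le _) (Finset.mem_univ ψ)
  have hψB : ψ ∈ principalBlock M X := by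
    by_contra hc
    exact hψne (if_neg hc)
  rw [if_pos hψB] at hψne hle
  have hone : charDegree (ψ : X → ℂ) * n ψ = 1 := le_antisymm hle (Nat.one_le_iff_ne_zero.mpr hψne)
  obtain ⟨hd, hnψ⟩ := mul_eq_one.mp hone
  refine ⟨ψ, ?_⟩
  -- the restriction of `ψ` is a linear character of `P` with `[lam, ψ_P] = 1`
  have hres1 : (fun u : ↥(P : Subgroup X) => (ψ : X → ℂ) u) 1 = 1 := by
    show (ψ : X → ℂ) ((1 : ↥(P : Subgroup X)) : X) = 1
    rw [Subgroup.coe_one, apply_one_eq_charDegree (ψ : X → ℂ) ψ.2, hd, Nat.cast_one]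
  have hresirr : IsIrrCharacter ↥(P : Subgroup X) (fun u : ↥(P : Subgroup X) => (ψ : X → ℂ) u) :=
    isIrrCharacter_of_isCharacter_of_apply_one (hres ψ) hres1
  have heq : lam = (fun u : ↥(P : Subgroup X) => (ψ : X → ℂ) u) := by
    by_contra hne
    have h0 := irr_classInner_ne hlamirr hresirr hne
    rw [hn ψ, hnψ] at h0
    norm_num at h0
  intro u
  rw [heq]

end Cfsg.Agent.Lib.H14.PL1
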