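import Mathlib
import Cfsg.Prelude.Def_Characters
import Cfsg.Prelude.Def_Blocks
import Cfsg.Agent.Lib.L0.CharOps
import Cfsg.Agent.Lib.L0.BlockSupport
import Cfsg.Agent.Lib.H23.DegreeDvd
import Cfsg.Agent.Lib.H23.BlockCovering
import Cfsg.Agent.Lib.H24.CharBasic
import Cfsg.Agent.Lib.H24.CharOrth
import Cfsg.Agent.Lib.H20.PL1Defs
import Cfsg.Agent.Lib.H14.PL1LIN

/-!
# S4711 piece CNT (helper14): if `B₀(G)` contains every irreducible character lying over `B₀(N)`,
`N ⊴ G`, then `∑_{χ ∈ B₀(G)} χ(1)² = |G : N| ∑_{ψ ∈ B₀(N)} ψ(1)²`.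
-/

set_option autoImplicit false

namespace Cfsg.Agent.Lib.H14.PL1

open Cfsg Cfsg.Agent.Lib.L0 Cfsg.Agent.Lib.H23 Cfsg.Agent.Lib.H24 Cfsg.Agent.Lib.H20.PL1
open scoped ComplexConjugate

/-- Every irreducible constituent of the restriction to `N ⊴ G` of a principal block character of
`G` lies in the principal block of `N`. -/
theorem cnt_mem_principalBlock_of_constituent {G : Type*} [Group G] [Fintype G] (p : ℕ)
    [Fact p.Prime] (M : Ideal AlgInt) (hM : IsPModular p M) (N : Subgroup G) [hN : N.Normal]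
    [Fintype ↥N] (χ : IrrCharacter G) (hχ : χ ∈ principalBlock M G) (ψ : IrrCharacter ↥N)
    (hψ : classInner (fun n : ↥N => (χ : G → ℂ) n) (ψ : ↥N → ℂ) ≠ 0) :
    ψ ∈ principalBlock M ↥N := by
  classical
  have hPr : M.IsPrime := isPrime_of_isPModular hM
  have hcon : classInner (fun n : ↥N => ((trivialIrr G : IrrCharacter G) : G → ℂ) n)
      ((trivialIrr ↥N : IrrCharacter ↥N) : ↥N → ℂ) ≠ 0 := by
    have h1 : classInner (fun n : ↥N => ((trivialIrr G : IrrCharacter G) : G → ℂ) n)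
        ((trivialIrr ↥N : IrrCharacter ↥N) : ↥N → ℂ) = 1 :=
      irr_classInner_self (trivialIrr ↥N).2
    rw [h1]; exact one_ne_zero
  obtain ⟨g, θ', hθ', hconj⟩ := covers_conj N hM (principalBlock M G) ⟨trivialIrr G, rfl⟩
    (principalBlock M ↥N) ⟨trivialIrr ↥N, rfl⟩ (trivialIrr G) (mem_blockOf_self (trivialIrr G))
    (trivialIrr ↥N) (mem_blockOf_self (trivialIrr ↥N)) hcon χ hχ ψ hψ
  have hψeq : ψ = conjIrr N θ' g := by
    apply Subtype.ext
    funext n
    rw [hconj n, conjIrr_apply]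
  have htriv : conjIrr N (trivialIrr ↥N) g = trivialIrr ↥N := by
    apply Subtype.ext
    funext n
    rfl
  have hsb : SameBlock M ((trivialIrr ↥N : IrrCharacter ↥N) : ↥N → ℂ) (θ' : ↥N → ℂ) := hθ'
  have := sameBlock_conjIrr N hsb g
  rw [htriv, ← hψeq] at this
  exact this

/-- `∑_χ χ(1) [χ_N, ψ] = |G : N| ψ(1)`. -/
theorem cnt_sum_deg_mul_classInner {G : Type*} [Group G] [Fintype G]
    [Fintype (IrrCharacter G)] (N : Subgroup G) [Fintype ↥N] (ψ : IrrCharacter ↥N) :
    ∑ χ : IrrCharacter G, (χ : G → ℂ) 1 *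
        classInner (fun n : ↥N => (χ : G → ℂ) n) (ψ : ↥N → ℂ) =
      (N.index : ℂ) * (ψ : ↥N → ℂ) 1 := by
  classical
  have hcard : (Nat.card ↥N : ℂ) ≠ 0 := Nat.cast_ne_zero.2 Nat.card_pos.ne'
  unfold classInner
  calc ∑ χ : IrrCharacter G, (χ : G → ℂ) 1 *
        ((Nat.card ↥N : ℂ)⁻¹ * ∑ n : ↥N, (χ : G → ℂ) n * conj ((ψ : ↥N → ℂ) n))
      = (Nat.card ↥N : ℂ)⁻¹ * ∑ n : ↥N, (∑ χ : IrrCharacter G, (χ : G → ℂ) 1 * (χ : G → ℂ) n) *
          conj ((ψ : ↥N → ℂ) n) := by
        rw [Finset.mul_sum]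
        simp_rw [Finset.sum_mul, Finset.mul_sum]
        rw [Finset.sum_comm]
        refine Finset.sum_congr rfl (fun n _ => Finset.sum_congr rfl (fun χ _ => ?_))
        ring
    _ = (Nat.card ↥N : ℂ)⁻¹ * ((Nat.card G : ℂ) * conj ((ψ : ↥N → ℂ) 1)) := by
        congr 1
        rw [Finset.sum_eq_single (1 : ↥N)]
        · rw [sum_irr_one_mul, if_pos (by simp)]
        · intro n _ hn
          rw [sum_irr_one_mul, if_neg (by simpa using hn), zero_mul]
        · intro h; exact absurd (Finset.mem_univ _) h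
    _ = _ := by
        rw [apply_one_eq_charDegree (ψ : ↥N → ℂ) ψ.2, Complex.conj_natCast,
          ← Subgroup.card_mul_index N]
        push_cast
        field_simp


open scoped Classical in
/-- `sqSum` cast to `ℂ`, as a sum of `χ(1) * χ(1)`. -/
theorem cnt_sqSum_cast {G : Type*} [Group G] [Finite G] [Fintype (IrrCharacter G)]
    (B : Set (IrrCharacter G)) :
    (sqSum B : ℂ) = ∑ χ : IrrCharacter G, if χ ∈ B then (χ : G → ℂ) 1 * (χ : G → ℂ) 1 else 0 := by
  rw [sqSum_eq_sum]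
  push_cast
  refine Finset.sum_congr rfl (fun χ _ => ?_)
  split_ifs
  · rw [apply_one_eq_charDegree (χ : G → ℂ) χ.2, sq]
  · rfl

/-- CNT: if the principal block of `G` contains every irreducible character lying over the
principal block of `N ⊴ G`, then `∑_{χ ∈ B₀(G)} χ(1)² = |G : N| ∑_{ψ ∈ B₀(N)} ψ(1)²`. -/
theorem sqSum_principalBlock_eq_index_mul {G : Type*} [Group G] [Finite G] (p : ℕ) [Fact p.Prime]
    (M : Ideal AlgInt) (hM : IsPModular p M) (N : Subgroup G) [N.Normal]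
    (hU : ∀ (χ : IrrCharacter G) (ψ : IrrCharacter ↥N), ψ ∈ principalBlock M ↥N →
      ∑ᶠ n : ↥N, (χ : G → ℂ) n * conj ((ψ : ↥N → ℂ) n) ≠ 0 → χ ∈ principalBlock M G) :
    sqSum (principalBlock M G) = N.index * sqSum (principalBlock M ↥N) := by
  classical
  have := Fintype.ofFinite G
  have : Fintype (IrrCharacter G) := Fintype.ofFinite _
  have : Fintype ↥N := Fintype.ofFinite _
  have : Fintype (IrrCharacter ↥N) := Fintype.ofFinite _
  have hcard : (Nat.card ↥N : ℂ) ≠ 0 := Nat.cast_ne_zero.2 Nat.card_pos.ne'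
  -- (F3)
  have hF3 : ∀ (χ : IrrCharacter G) (ψ : IrrCharacter ↥N), ψ ∈ principalBlock M ↥N →
      χ ∉ principalBlock M G →
      classInner (fun n : ↥N => (χ : G → ℂ) n) (ψ : ↥N → ℂ) = 0 := by
    intro χ ψ hψ hχ
    by_contra hne
    apply hχ
    apply hU χ ψ hψ
    rw [finsum_eq_sum_of_fintype]
    intro h0
    apply hne
    unfold classInner
    rw [h0, mul_zero]
  -- (F2)
  have hF2 : ∀ (χ : IrrCharacter G) (ψ : IrrCharacter ↥N), χ ∈ principalBlock M G →
      ψ ∉ principalBlock M ↥N →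
      classInner (fun n : ↥N => (χ : G → ℂ) n) (ψ : ↥N → ℂ) = 0 := by
    intro χ ψ hχ hψ
    by_contra hne
    exact hψ (cnt_mem_principalBlock_of_constituent p M hM N χ hχ ψ hne)
  -- (F1)
  have hF1 : ∀ χ : IrrCharacter G, (χ : G → ℂ) 1 = ∑ ψ : IrrCharacter ↥N,
      classInner (fun n : ↥N => (χ : G → ℂ) n) (ψ : ↥N → ℂ) * (ψ : ↥N → ℂ) 1 := by
    intro χ
    have hcf : IsClassFunction ↥N (fun n : ↥N => (χ : G → ℂ) n) :=
      isClassFunction_of_isCharacter (isCharacter_restrict N (isCharacter_of_irr χ.2))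
    have := congrFun (classFunction_expansion (fun n : ↥N => (χ : G → ℂ) n) hcf) (1 : ↥N)
    simp only [Finset.sum_apply, Pi.smul_apply, smul_eq_mul] at this
    rw [← this]
    rfl
  -- the computation in `ℂ`
  have hmain : (sqSum (principalBlock M G) : ℂ) =
      ((N.index * sqSum (principalBlock M ↥N) : ℕ) : ℂ) := by
    rw [Nat.cast_mul, cnt_sqSum_cast, cnt_sqSum_cast]
    calc ∑ χ : IrrCharacter G,
          (if χ ∈ principalBlock M G then (χ : G → ℂ) 1 * (χ : G → ℂ) 1 else 0)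
        = ∑ χ : IrrCharacter G, ∑ ψ : IrrCharacter ↥N,
            (if ψ ∈ principalBlock M ↥N then (ψ : ↥N → ℂ) 1 * ((χ : G → ℂ) 1 *
              classInner (fun n : ↥N => (χ : G → ℂ) n) (ψ : ↥N → ℂ)) else 0) := by
          refine Finset.sum_congr rfl (fun χ _ => ?_)
          split_ifs with hχ
          · have hexp : (χ : G → ℂ) 1 * (χ : G → ℂ) 1 = (χ : G → ℂ) 1 * ∑ ψ : IrrCharacter ↥N,
                classInner (fun n : ↥N => (χ : G → ℂ) n) (ψ : ↥N → ℂ) * (ψ : ↥N → ℂ) 1 := by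
              rw [← hF1 χ]
            rw [hexp, Finset.mul_sum]
            refine Finset.sum_congr rfl (fun ψ _ => ?_)
            split_ifs with hψ
            · ring
            · rw [hF2 χ ψ hχ hψ]; ring
          · symm
            apply Finset.sum_eq_zero
            intro ψ _
            split_ifs with hψ
            · rw [hF3 χ ψ hψ hχ]; ring
            · rfl
      _ = ∑ ψ : IrrCharacter ↥N, (if ψ ∈ principalBlock M ↥N then (ψ : ↥N → ℂ) 1 *
            ∑ χ : IrrCharacter G, (χ : G → ℂ) 1 *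
              classInner (fun n : ↥N => (χ : G → ℂ) n) (ψ : ↥N → ℂ) else 0) := by
          rw [Finset.sum_comm]
          refine Finset.sum_congr rfl (fun ψ _ => ?_)
          split_ifs with hψ
          · rw [Finset.mul_sum]
          · simp
      _ = (N.index : ℂ) * ∑ ψ : IrrCharacter ↥N,
            (if ψ ∈ principalBlock M ↥N then (ψ : ↥N → ℂ) 1 * (ψ : ↥N → ℂ) 1 else 0) := by
          rw [Finset.mul_sum]
          refine Finset.sum_congr rfl (fun ψ _ => ?_)
          split_ifs with hψ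
          · rw [cnt_sum_deg_mul_classInner N ψ]; ring
          · simp
  exact_mod_cast hmain

end Cfsg.Agent.Lib.H14.PL1
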