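import Mathlib
import Cfsg.Agent.Lib.H26.PPearlDefs

/-!
# S5238 piece AP (helper14): the abelian pearl contains a uniform element (general `p`)
-/

set_option autoImplicit false

namespace Cfsg.Agent.Lib.H14.PPearl

/-- **AP**.  The abelian pearl, general `p`. -/
theorem exists_uniform_of_abelian {Ω : Type*} [Group Ω] {p : ℕ} [Fact p.Prime] (S E : Subgroup Ω) [Finite S]
    (hS : IsPGroup p S)
    (hES : E ≤ S) (hne : E ≠ S) (hE : Nat.card ↥E = p ^ 2) (hab : ∀ a ∈ E, ∀ b ∈ E, a * b = b * a)
    (hexp : ∀ a ∈ E, a ^ p = 1) (hcen : ∀ g ∈ S, (∀ x ∈ E, g * x = x * g) → g ∈ E) :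
    ∃ e ∈ E, e ≠ 1 ∧ Nat.card {g : Ω // g ∈ S ∧ g * e = e * g} = p ^ 2 := by
  classical
  have hp : p.Prime := Fact.out
  have hp2 : 2 ≤ p := hp.two_le
  haveI : Finite E := Finite.of_injective (Subgroup.inclusion hES) (Subgroup.inclusion_injective hES)
  -- S is nontrivial
  haveI : Nontrivial S := by
    have h1 : 1 < Nat.card S := by
      have : Nat.card E ≤ Nat.card S :=
        Nat.card_le_card_of_injective (Subgroup.inclusion hES) (Subgroup.inclusion_injective hES)
      have h4 : 4 ≤ p ^ 2 := by nlinarith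
      omega
    exact Finite.one_lt_card_iff_nontrivial.mp h1
  -- nontrivial centre
  haveI hZnt : Nontrivial (Subgroup.center S) := hS.center_nontrivial
  obtain ⟨⟨z, hzc⟩, hzne⟩ := exists_ne (1 : Subgroup.center S)
  have hz1 : (z : Ω) ≠ 1 := by
    intro h
    apply hzne
    ext
    simpa using h
  have hzcomm : ∀ g ∈ S, g * (z : Ω) = (z : Ω) * g := by
    intro g hg
    have := (Subgroup.mem_center_iff.mp hzc) ⟨g, hg⟩
    have h2 := congrArg (Subtype.val) this
    simpa using h2
  have hzE : (z : Ω) ∈ E := hcen z z.2 (fun x hx => ((hzcomm x (hES hx))).symm)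
  -- some element of E is not central in S
  have hex : ∃ e ∈ E, ∃ g ∈ S, g * e ≠ e * g := by
    by_contra hcon
    push Not at hcon
    apply hne
    apply le_antisymm hES
    intro g hg
    exact hcen g hg (fun x hx => hcon x hx g hg)
  obtain ⟨e, heE, g0, hg0S, hg0⟩ := hex
  have he1 : e ≠ 1 := by
    rintro rfl
    simp at hg0
  refine ⟨e, heE, he1, ?_⟩
  have hord : orderOf e = p := by
    have hdvd : orderOf e ∣ p := orderOf_dvd_of_pow_eq_one (hexp e heE)
    rcases (Nat.dvd_prime hp).mp hdvd with h | h
    · exact absurd (orderOf_eq_one_iff.mp h) he1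
    · exact h
  have hepz : e ^ (p : ℤ) = 1 := by
    have := hexp e heE
    exact_mod_cast this
  -- z is not a power of e
  have hznot : (z : Ω) ∉ Subgroup.zpowers e := by
    intro hmem
    obtain ⟨k, hk⟩ := Subgroup.mem_zpowers_iff.mp hmem
    have hkp : ¬ (p : ℤ) ∣ k := by
      intro hdvd
      apply hz1
      rw [← hk]
      obtain ⟨c, rfl⟩ := hdvd
      rw [zpow_mul, hepz, one_zpow]
    have hcop : IsCoprime k (p : ℤ) := by
      have hpi : Prime (p : ℤ) := Nat.prime_iff_prime_int.mp hp
      exact (IsCoprime.symm ((Prime.coprime_iff_not_dvd hpi).mpr hkp))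
    obtain ⟨a, b, hab'⟩ := hcop
    have he_eq : e = (z : Ω) ^ a := by
      calc e = e ^ (a * k + b * (p : ℤ)) := by rw [hab', zpow_one]
        _ = (e ^ k) ^ a * (e ^ (p : ℤ)) ^ b := by
            rw [zpow_add, mul_comm a k, zpow_mul, mul_comm b (p : ℤ), zpow_mul]
        _ = (z : Ω) ^ a := by rw [hk, hepz, one_zpow, mul_one]
    apply hg0
    rw [he_eq]
    have : Commute g0 (z : Ω) := hzcomm g0 hg0S
    exact (this.zpow_right a)
  -- closure {e, z} = E
  have hcl_le : Subgroup.closure ({e, (z : Ω)} : Set Ω) ≤ E := by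
    rw [Subgroup.closure_le]
    intro x hx
    rcases hx with rfl | rfl
    · exact heE
    · exact hzE
  have hcl_eq : Subgroup.closure ({e, (z : Ω)} : Set Ω) = E := by
    set C := Subgroup.closure ({e, (z : Ω)} : Set Ω) with hC
    haveI : Finite C := Finite.of_injective (Subgroup.inclusion hcl_le) (Subgroup.inclusion_injective hcl_le)
    have hdvd : Nat.card C ∣ p ^ 2 := by
      rw [← hE]
      exact Subgroup.card_dvd_of_le hcl_le
    have hzp_le : Subgroup.zpowers e ≤ C := by
      rw [Subgroup.zpowers_le]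
      exact Subgroup.subset_closure (by simp)
    have hzp_card : Nat.card (Subgroup.zpowers e) = p := by
      rw [Nat.card_zpowers]
      exact hord
    have hzC : (z : Ω) ∈ C := Subgroup.subset_closure (by simp)
    have hlt : Subgroup.zpowers e < C := lt_of_le_of_ne hzp_le (by
      intro h
      apply hznot
      rw [h]
      exact hzC)
    have hcardlt : Nat.card (Subgroup.zpowers e) < Nat.card C := by
      have hdvd2 : Nat.card (Subgroup.zpowers e) ∣ Nat.card C := Subgroup.card_dvd_of_le hzp_le
      have hle : Nat.card (Subgroup.zpowers e) ≤ Nat.card C := Nat.le_of_dvd Nat.card_pos hdvd2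
      rcases lt_or_eq_of_le hle with h | h
      · exact h
      · exfalso
        exact (ne_of_lt hlt) (Subgroup.eq_of_le_of_card_ge hzp_le (le_of_eq h.symm))
    have hC9 : Nat.card C = p ^ 2 := by
      obtain ⟨m, hm, hmc⟩ := (Nat.dvd_prime_pow hp).mp hdvd
      rw [hzp_card, hmc] at hcardlt
      have hm2 : m = 2 := by
        interval_cases m
        · simp at hcardlt
          omega
        · simp at hcardlt
        · rfl
      rw [hmc, hm2]
    exact Subgroup.eq_of_le_of_card_ge hcl_le (by rw [hC9, hE])
  -- centralizer in S of e equals E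
  have hset : ∀ g : Ω, (g ∈ S ∧ g * e = e * g) ↔ g ∈ E := by
    intro g
    constructor
    · rintro ⟨hgS, hge⟩
      apply hcen g hgS
      intro x hx
      rw [← hcl_eq] at hx
      have hle : Subgroup.closure ({e, (z : Ω)} : Set Ω) ≤ Subgroup.centralizer ({g} : Set Ω) := by
        rw [Subgroup.closure_le]
        intro y hy
        rw [SetLike.mem_coe, Subgroup.mem_centralizer_iff]
        intro w hw
        rw [Set.mem_singleton_iff] at hw
        subst hw
        rcases hy with rfl | rfl
        · exact hge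
        · exact hzcomm w hgS
      have := hle hx
      rw [Subgroup.mem_centralizer_iff] at this
      exact this g (Set.mem_singleton g)
    · intro hgE
      exact ⟨hES hgE, hab g hgE e heE⟩
  rw [← hE]
  exact Nat.card_congr (Equiv.subtypeEquivRight hset)

end Cfsg.Agent.Lib.H14.PPearl
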