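import Mathlib
import Cfsg.Prelude.Def_Solvable
import Cfsg.Agent.Lib.H22.PPrimeCore
import Cfsg.Agent.Lib.H1.PGroupBasic
import Cfsg.Agent.Lib.H16.PQFRAT

/-!
# S4885, piece QUOT

In `G ⧸ C`, `C = O_{p'}(G) ⊓ O_{q'}(G)`, the subgroup `O_{q'}(G ⧸ C)` lies in the Frattini subgroup.
-/

set_option autoImplicit false

namespace Cfsg.Agent.Lib.H14.PQ

open Cfsg

/-- a normal `p`-subgroup lies in every Sylow `p`-subgroup -/
theorem quot_normal_le_sylow {G : Type*} [Group G] [Finite G] (p : ℕ) [Fact p.Prime]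
    (N : Subgroup G) [hN : N.Normal] (hp : IsPGroup p N) (P : Sylow p G) : N ≤ P := by
  obtain ⟨Q, hQ⟩ := hp.exists_le_sylow
  obtain ⟨g, hg⟩ := MulAction.exists_smul_eq G Q P
  intro x hx
  rw [← hg]
  show x ∈ ((g • Q : Sylow p G) : Subgroup G)
  rw [Sylow.coe_subgroup_smul, Subgroup.mem_pointwise_smul_iff_inv_smul_mem]
  simp only [MulAut.smul_def, MulAut.conj_inv_apply]
  apply hQ
  have := hN.conj_mem x hx g⁻¹
  rwa [inv_inv] at this

/-- `O_{q'}(G ⧸ C) ≤ image of O_{q'}(G)` when `C ≤ O_{q'}(G)` is normal -/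
theorem quot_pPrimeCore_le_map {G : Type*} [Group G] [Finite G] (q : ℕ)
    (C : Subgroup G) [C.Normal] (hC : C ≤ pPrimeCore q G) :
    pPrimeCore q (G ⧸ C) ≤ (pPrimeCore q G).map (QuotientGroup.mk' C) := by
  set D := pPrimeCore q (G ⧸ C) with hD
  have hDn : D.Normal := Cfsg.Agent.Lib.H22.pPrimeCore_normal q
  have hDc : (Nat.card D).Coprime q := Cfsg.Agent.Lib.H22.card_pPrimeCore_coprime q
  have hBc : (Nat.card (pPrimeCore q G)).Coprime q := Cfsg.Agent.Lib.H22.card_pPrimeCore_coprime q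
  have hCc : (Nat.card C).Coprime q :=
    Nat.Coprime.coprime_dvd_left (Subgroup.card_dvd_of_le hC) hBc
  -- the preimage
  set D' := D.comap (QuotientGroup.mk' C) with hD'
  have hD'n : D'.Normal := Subgroup.Normal.comap hDn _
  have hker : (QuotientGroup.mk' C).ker = C := QuotientGroup.ker_mk' C
  have hCD' : C ≤ D' := by
    intro x hx
    rw [hD', Subgroup.mem_comap]
    have : (QuotientGroup.mk' C) x = 1 := by
      rw [← MonoidHom.mem_ker, hker]; exact hx
    rw [this]; exact D.one_mem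
  have hmap : D'.map (QuotientGroup.mk' C) = D :=
    Subgroup.map_comap_eq_self_of_surjective (QuotientGroup.mk'_surjective C) D
  have hcard : Nat.card D' = Nat.card D * Nat.card C := by
    have h1 : C.relIndex D' = Nat.card D := by
      rw [← hmap, ← Subgroup.relIndex_ker, hker]
    have h2 := Subgroup.relIndex_mul_relIndex ⊥ C D' bot_le hCD'
    rw [Subgroup.relIndex_bot_left, Subgroup.relIndex_bot_left] at h2
    rw [← h2, h1, mul_comm]
  have hD'c : (Nat.card D').Coprime q := by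
    rw [hcard]; exact Nat.Coprime.mul_left hDc hCc
  have hle : D' ≤ pPrimeCore q G := Cfsg.Agent.Lib.H22.le_pPrimeCore q D' hD'n hD'c
  rw [← hmap]
  exact Subgroup.map_mono hle

/-- QUOT, parametric in FRAT. -/
theorem pPrimeCore_quot_le_frattini_of {G : Type*} [Group G] [Finite G] (p q : ℕ) [Fact p.Prime]
    [Fact q.Prime] (C : Subgroup G) [C.Normal]
    (hC : C = pPrimeCore p G ⊓ pPrimeCore q G)
    (hFRAT : ∀ (N : Subgroup (G ⧸ C)) (_ : N.Normal) (K : Subgroup (G ⧸ C)),
      N ≤ (frattini K).map K.subtype → N ≤ frattini (G ⧸ C))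
    (P : Sylow p G)
    (hP : (pPrimeCore p G ⊔ pPrimeCore q G) ⊓ (P : Subgroup G) ≤
      (commutator P).map (P : Subgroup G).subtype)
    (hk : ∃ k : ℕ, (pPrimeCore p G).relIndex (pPrimeCore p G ⊔ pPrimeCore q G) = p ^ k) :
    pPrimeCore q (G ⧸ C) ≤ frattini (G ⧸ C) := by
  set A := pPrimeCore p G with hA
  set B := pPrimeCore q G with hB
  have hAn : A.Normal := Cfsg.Agent.Lib.H22.pPrimeCore_normal p
  have hBn : B.Normal := Cfsg.Agent.Lib.H22.pPrimeCore_normal q
  have hCB : C ≤ B := by rw [hC]; exact inf_le_right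
  set mk := QuotientGroup.mk' C with hmk
  have hker : mk.ker = C := QuotientGroup.ker_mk' C
  have hsurj : Function.Surjective mk := QuotientGroup.mk'_surjective C
  -- N := image of B
  set N := B.map mk with hN
  have hNn : N.Normal := Subgroup.Normal.map hBn mk hsurj
  have h1 : pPrimeCore q (G ⧸ C) ≤ N := quot_pPrimeCore_le_map q C hCB
  refine h1.trans ?_
  -- N is a p-group
  obtain ⟨k, hk⟩ := hk
  have hNcard : Nat.card N = p ^ k := by
    rw [hN, ← Subgroup.relIndex_ker, hker, hC, Subgroup.inf_relIndex_right, ← hk,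
      Subgroup.relIndex_sup_left]
  have hNp : IsPGroup p N := IsPGroup.of_card hNcard
  -- the Sylow subgroup of the quotient
  set Pb : Subgroup (G ⧸ C) := (P : Subgroup G).map mk with hPb
  have hNPb : N ≤ Pb := by
    have := quot_normal_le_sylow p N hNp (P.mapSurjective hsurj)
    rwa [Sylow.coe_mapSurjective] at this
  have hPbp : IsPGroup p Pb := P.isPGroup'.map mk
  -- commutator of Pb ≤ frattini Pb
  have hcf : commutator Pb ≤ frattini Pb :=
    Cfsg.Agent.Lib.H1.isPGroup_commutator_le_frattini hPbp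
  apply hFRAT N hNn Pb
  intro y hy
  obtain ⟨x, hxB, rfl⟩ := Subgroup.mem_map.mp hy
  -- a representative in P
  obtain ⟨z, hzP, hzx⟩ := Subgroup.mem_map.mp (hNPb hy)
  have hzx' : z⁻¹ * x ∈ C := by
    rw [← hker, MonoidHom.mem_ker, map_mul, map_inv, hzx, inv_mul_cancel]
  have hzB : z ∈ B := by
    have h2 : z⁻¹ * x ∈ B := hCB hzx'
    have h3 : x * (z⁻¹ * x)⁻¹ ∈ B := B.mul_mem hxB (B.inv_mem h2)
    have h4 : x * (z⁻¹ * x)⁻¹ = z := by group
    rwa [h4] at h3
  have hzc : z ∈ (commutator P).map (P : Subgroup G).subtype :=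
    hP ⟨Subgroup.mem_sup_right hzB, hzP⟩
  obtain ⟨w, hw, hwz⟩ := Subgroup.mem_map.mp hzc
  -- the restricted map
  set φ : (P : Subgroup G) →* Pb := mk.subgroupMap (P : Subgroup G) with hφ
  have hφs : Function.Surjective φ := MonoidHom.subgroupMap_surjective mk _
  have hφw : φ w ∈ commutator Pb := by
    have : (commutator (P : Subgroup G)).map φ = commutator Pb := by
      rw [commutator_def, commutator_def, Subgroup.map_commutator,
        Subgroup.map_top_of_surjective φ hφs]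
    rw [← this]
    exact Subgroup.mem_map_of_mem φ hw
  rw [← hzx]
  refine Subgroup.mem_map.mpr ⟨φ w, hcf hφw, ?_⟩
  rw [← hwz]
  rfl

/-- QUOT: in `G ⧸ C`, `C = O_{p'}(G) ∩ O_{q'}(G)`, the subgroup `O_{q'}(G ⧸ C)` lies in the
Frattini subgroup. -/
theorem pPrimeCore_quot_le_frattini {G : Type*} [Group G] [Finite G] (p q : ℕ) [Fact p.Prime]
    [Fact q.Prime] (hpq : p ≠ q) (C : Subgroup G) [C.Normal]
    (hC : C = pPrimeCore p G ⊓ pPrimeCore q G) (P : Sylow p G)
    (hP : (pPrimeCore p G ⊔ pPrimeCore q G) ⊓ (P : Subgroup G) ≤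
      (commutator P).map (P : Subgroup G).subtype)
    (hk : ∃ k : ℕ, (pPrimeCore p G).relIndex (pPrimeCore p G ⊔ pPrimeCore q G) = p ^ k) :
    pPrimeCore q (G ⧸ C) ≤ frattini (G ⧸ C) :=
  pPrimeCore_quot_le_frattini_of p q C hC
    (fun N hN K h =>
      haveI := hN
      Cfsg.Agent.Lib.H16.PQ.le_frattini_of_le_frattini_subgroup N K h) P hP hk

end Cfsg.Agent.Lib.H14.PQ
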