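import Cfsg.Agent.Lib.H14.PIrr
set_option autoImplicit false
open Cfsg

namespace Cfsg.Agent.Lib.H14

section
variable {L : Type*} [Group L] {p : ℕ}

/-- Ambient form of `O_p(L / C_L(V)) = 1`: every normal subgroup all of whose elements have a
`p`-power in `C_L(V)` centralizes `V`. -/
def RedCrit (p : ℕ) (V : Subgroup L) : Prop :=
  ∀ D : Subgroup L, D.Normal → (∀ d ∈ D, ∃ k : ℕ, d ^ (p ^ k) ∈ Subgroup.centralizer (V : Set L)) →
    D ≤ Subgroup.centralizer (V : Set L)

theorem centralizer_normal_of_normal (V : Subgroup L) [hV : V.Normal] :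
    (Subgroup.centralizer (V : Set L)).Normal := by
  constructor
  intro c hc g
  rw [Subgroup.mem_centralizer_iff] at hc ⊢
  intro v hv
  have h1 : g⁻¹ * v * g ∈ V := by simpa using hV.conj_mem v hv g⁻¹
  have h2 := hc _ h1
  calc v * (g * c * g⁻¹) = g * ((g⁻¹ * v * g) * c) * g⁻¹ := by group
    _ = g * (c * (g⁻¹ * v * g)) * g⁻¹ := by rw [h2]
    _ = g * c * g⁻¹ * v := by group

theorem redCrit_of_pCore_eq_bot (V : Subgroup L) [hC : (Subgroup.centralizer (V : Set L)).Normal]
    (h : Cfsg.pCore p (L ⧸ Subgroup.centralizer (V : Set L)) = ⊥) : RedCrit p V := by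
  intro D hD hpow
  have hmapN : (D.map (QuotientGroup.mk' (Subgroup.centralizer (V : Set L)))).Normal :=
    Subgroup.Normal.map hD _ (QuotientGroup.mk'_surjective _)
  have hmapP : IsPGroup p (D.map (QuotientGroup.mk' (Subgroup.centralizer (V : Set L)))) := by
    rintro ⟨y, d, hd, rfl⟩
    obtain ⟨k, hk⟩ := hpow d hd
    refine ⟨k, ?_⟩
    apply Subtype.ext
    simp only [SubgroupClass.coe_pow, QuotientGroup.mk'_apply, OneMemClass.coe_one]
    rw [← QuotientGroup.mk_pow, QuotientGroup.eq_one_iff]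
    exact hk
  have hle : D.map (QuotientGroup.mk' (Subgroup.centralizer (V : Set L))) ≤
      Cfsg.pCore p (L ⧸ Subgroup.centralizer (V : Set L)) := by
    unfold Cfsg.pCore
    exact le_sSup ⟨hmapN, hmapP⟩
  rw [h] at hle
  intro d hd
  have : QuotientGroup.mk' (Subgroup.centralizer (V : Set L)) d ∈ (⊥ : Subgroup _) :=
    hle ⟨d, hd, rfl⟩
  rw [Subgroup.mem_bot, QuotientGroup.mk'_apply, QuotientGroup.eq_one_iff] at this
  exact this

theorem pCore_eq_bot_of_redCrit (V : Subgroup L) [hC : (Subgroup.centralizer (V : Set L)).Normal]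
    (h : RedCrit p V) : Cfsg.pCore p (L ⧸ Subgroup.centralizer (V : Set L)) = ⊥ := by
  rw [eq_bot_iff]
  intro y hy
  obtain ⟨d, rfl⟩ := QuotientGroup.mk_surjective y
  have hN : (Cfsg.pCore p (L ⧸ Subgroup.centralizer (V : Set L))).Normal := pCore_normal
  have hD : ((Cfsg.pCore p (L ⧸ Subgroup.centralizer (V : Set L))).comap
      (QuotientGroup.mk' (Subgroup.centralizer (V : Set L)))).Normal := Subgroup.Normal.comap hN _
  have := h _ hD (by
    intro d hd
    rw [Subgroup.mem_comap] at hd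
    obtain ⟨k, hk⟩ := (pCore_isPGroup (p := p) (G := L ⧸ Subgroup.centralizer (V : Set L))) ⟨_, hd⟩
    refine ⟨k, ?_⟩
    have hk' := congrArg Subtype.val hk
    simp only [SubgroupClass.coe_pow, QuotientGroup.mk'_apply, OneMemClass.coe_one] at hk'
    rw [← QuotientGroup.mk_pow, QuotientGroup.eq_one_iff] at hk'
    exact hk') hy
  rw [Subgroup.mem_bot, QuotientGroup.eq_one_iff]
  exact this

theorem isPReducedNormal_iff (V : Subgroup L) :
    Cfsg.IsPReducedNormal p V ↔ V.Normal ∧ Cfsg.IsElementaryAbelian p V ∧ RedCrit p V := by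
  constructor
  · rintro ⟨h1, h2, hC, h3⟩
    exact ⟨h1, h2, redCrit_of_pCore_eq_bot V h3⟩
  · rintro ⟨h1, h2, h3⟩
    have hC : (Subgroup.centralizer (V : Set L)).Normal := centralizer_normal_of_normal V
    exact ⟨h1, h2, hC, pCore_eq_bot_of_redCrit V h3⟩

/-- `O_p(L)` centralizes every `p`-reduced normal subgroup. -/
theorem pCore_le_centralizer_of_redCrit (V : Subgroup L) (h : RedCrit p V) :
    Cfsg.pCore p L ≤ Subgroup.centralizer (V : Set L) := by
  apply h _ pCore_normal
  intro d hd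
  obtain ⟨k, hk⟩ := (pCore_isPGroup (p := p) (G := L)) ⟨d, hd⟩
  refine ⟨k, ?_⟩
  have hk' := congrArg Subtype.val hk
  simp only [SubgroupClass.coe_pow, OneMemClass.coe_one] at hk'
  rw [hk']; exact Subgroup.one_mem _

theorem isPGroup_of_isElementaryAbelian [Fact p.Prime] (V : Subgroup L)
    (h : Cfsg.IsElementaryAbelian p V) : IsPGroup p V := by
  rintro ⟨v, hv⟩
  refine ⟨1, ?_⟩
  apply Subtype.ext
  simpa using h.2 v hv

theorem le_pCore_of_normal_isPGroup (V : Subgroup L) (hn : V.Normal) (hp : IsPGroup p V) :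
    V ≤ Cfsg.pCore p L := by
  unfold Cfsg.pCore
  exact le_sSup ⟨hn, hp⟩

theorem isPReducedNormal_bot [Fact p.Prime] : Cfsg.IsPReducedNormal p (⊥ : Subgroup L) := by
  rw [isPReducedNormal_iff]
  refine ⟨inferInstance, ⟨⟨⟨?_⟩⟩, ?_⟩, ?_⟩
  · rintro ⟨a, ha⟩ ⟨b, hb⟩
    rw [Subgroup.mem_bot] at ha hb
    subst ha; subst hb; rfl
  · intro a ha
    rw [Subgroup.mem_bot] at ha
    subst ha; simp
  · intro D _ _
    intro d _
    rw [Subgroup.mem_centralizer_iff]
    intro v hv
    have : v = 1 := by simpa using hv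
    subst this; simp

theorem isPReducedNormal_sup [Fact p.Prime] (V W : Subgroup L) (hV : Cfsg.IsPReducedNormal p V)
    (hW : Cfsg.IsPReducedNormal p W) : Cfsg.IsPReducedNormal p (V ⊔ W) := by
  rw [isPReducedNormal_iff] at hV hW ⊢
  obtain ⟨hVn, hVe, hVr⟩ := hV
  obtain ⟨hWn, hWe, hWr⟩ := hW
  have hWV : W ≤ Subgroup.centralizer (V : Set L) :=
    (le_pCore_of_normal_isPGroup W hWn (isPGroup_of_isElementaryAbelian W hWe)).trans
      (pCore_le_centralizer_of_redCrit V hVr)
  have hmem : ∀ x ∈ V ⊔ W, ∃ v ∈ V, ∃ w ∈ W, x = v * w := by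
    intro x hx
    have hx' : x ∈ ((V ⊔ W : Subgroup L) : Set L) := hx
    rw [Subgroup.mul_normal] at hx'
    obtain ⟨v, hv, w, hw, rfl⟩ := Set.mem_mul.mp hx'
    exact ⟨v, hv, w, hw, rfl⟩
  have hcomm : ∀ v ∈ V, ∀ w ∈ W, v * w = w * v := by
    intro v hv w hw
    exact (Subgroup.mem_centralizer_iff.mp (hWV hw) v hv)
  have hVc : ∀ a ∈ V, ∀ b ∈ V, a * b = b * a := by
    intro a ha b hb
    have := hVe.1.is_comm.comm ⟨a, ha⟩ ⟨b, hb⟩
    exact congrArg Subtype.val this
  have hWc : ∀ a ∈ W, ∀ b ∈ W, a * b = b * a := by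
    intro a ha b hb
    have := hWe.1.is_comm.comm ⟨a, ha⟩ ⟨b, hb⟩
    exact congrArg Subtype.val this
  refine ⟨inferInstance, ⟨⟨⟨?_⟩⟩, ?_⟩, ?_⟩
  · rintro ⟨a, ha⟩ ⟨b, hb⟩
    apply Subtype.ext
    obtain ⟨v, hv, w, hw, rfl⟩ := hmem a ha
    obtain ⟨v', hv', w', hw', rfl⟩ := hmem b hb
    show v * w * (v' * w') = v' * w' * (v * w)
    calc v * w * (v' * w') = v * (w * v') * w' := by group
      _ = v * (v' * w) * w' := by rw [hcomm v' hv' w hw]
      _ = (v * v') * (w * w') := by group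
      _ = (v' * v) * (w' * w) := by rw [hVc v hv v' hv', hWc w hw w' hw']
      _ = v' * (v * w') * w := by group
      _ = v' * (w' * v) * w := by rw [hcomm v hv w' hw']
      _ = v' * w' * (v * w) := by group
  · intro a ha
    obtain ⟨v, hv, w, hw, rfl⟩ := hmem a ha
    rw [(show Commute v w from hcomm v hv w hw).mul_pow, hVe.2 v hv, hWe.2 w hw, one_mul]
  · intro D hD hpow
    have hcent : Subgroup.centralizer ((V ⊔ W : Subgroup L) : Set L) =
        Subgroup.centralizer (V : Set L) ⊓ Subgroup.centralizer (W : Set L) := by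
      apply le_antisymm
      · exact le_inf (Subgroup.centralizer_le (show (V : Set L) ⊆ ((V ⊔ W : Subgroup L) : Set L) from
          fun x hx => (le_sup_left : V ≤ V ⊔ W) hx))
          (Subgroup.centralizer_le (show (W : Set L) ⊆ ((V ⊔ W : Subgroup L) : Set L) from
          fun x hx => (le_sup_right : W ≤ V ⊔ W) hx))
      · rw [Subgroup.le_centralizer_iff, sup_le_iff]
        exact ⟨Subgroup.le_centralizer_iff.mp inf_le_left, Subgroup.le_centralizer_iff.mp inf_le_right⟩
    rw [hcent] at hpow ⊢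
    apply le_inf
    · apply hVr D hD
      intro d hd
      obtain ⟨k, hk⟩ := hpow d hd
      exact ⟨k, hk.1⟩
    · apply hWr D hD
      intro d hd
      obtain ⟨k, hk⟩ := hpow d hd
      exact ⟨k, hk.2⟩

theorem isPReducedNormal_sSup_of_finite [Fact p.Prime] (s : Set (Subgroup L)) (hs : s.Finite)
    (h : ∀ V ∈ s, Cfsg.IsPReducedNormal p V) : Cfsg.IsPReducedNormal p (sSup s) := by
  induction s, hs using Set.Finite.induction_on with
  | empty => rw [sSup_empty]; exact isPReducedNormal_bot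
  | @insert a s _ _ ih =>
    rw [sSup_insert]
    exact isPReducedNormal_sup _ _ (h a (Set.mem_insert _ _))
      (ih (fun V hV => h V (Set.mem_insert_of_mem _ hV)))

theorem isPReducedNormal_largestPReduced [Finite L] [Fact p.Prime] :
    Cfsg.IsPReducedNormal p (Cfsg.largestPReduced p L) := by
  unfold Cfsg.largestPReduced
  exact isPReducedNormal_sSup_of_finite _ (Set.toFinite _) (fun V hV => hV)

theorem le_largestPReduced (V : Subgroup L) (hV : Cfsg.IsPReducedNormal p V) :
    V ≤ Cfsg.largestPReduced p L := by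
  unfold Cfsg.largestPReduced
  exact le_sSup hV

end

end Cfsg.Agent.Lib.H14
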