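import Cfsg.Agent.Lib.H14.PReduced
set_option autoImplicit false
open Cfsg

namespace Cfsg.Agent.Lib.H14

section
variable {L : Type*} [Group L] [Finite L] {p : ℕ} [Fact p.Prime]

/-- A normal subgroup `D` lies in `B` as soon as `T ∩ D` and the `p'`-elements of `D` do. -/
theorem le_of_sylow_inf_le (D : Subgroup L) [D.Normal] (T : Sylow p L) (B : Subgroup L)
    (h1 : (T : Subgroup L) ⊓ D ≤ B) (h2 : ∀ x ∈ D, (orderOf x).Coprime p → x ∈ B) : D ≤ B := by
  have hsup := pResidual_sup_sylow (sylowInf T D)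
  have hres : Cfsg.pResidual p ↥D ≤ B.subgroupOf D := by
    unfold Cfsg.pResidual
    rw [Subgroup.closure_le]
    intro x hx
    have hx' : (orderOf x).Coprime p := hx
    rw [SetLike.mem_coe, Subgroup.mem_subgroupOf]
    apply h2 _ x.2
    rwa [Subgroup.orderOf_coe]
  have hsy : ((sylowInf T D : Sylow p ↥D) : Subgroup ↥D) ≤ B.subgroupOf D := by
    rw [sylowInf_coe]
    intro x hx
    rw [Subgroup.mem_subgroupOf] at hx ⊢
    exact h1 hx
  intro d hd
  have : (⟨d, hd⟩ : ↥D) ∈ B.subgroupOf D := by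
    have h3 : (⟨d, hd⟩ : ↥D) ∈ (⊤ : Subgroup ↥D) := Subgroup.mem_top _
    rw [← hsup] at h3
    exact (sup_le hres hsy) h3
  exact this

/-- If `X` is a `p`-reduced normal subgroup of `R ≥ T` (ambient form) in a group `L` of
characteristic `p`, then the normal closure of `X` in `L` is `p`-reduced. -/
theorem isPReducedNormal_normalClosure
    (hchar : Subgroup.centralizer (Cfsg.pCore p L : Set L) ≤ Cfsg.pCore p L) (T : Sylow p L)
    (R : Subgroup L) (hTR : (T : Subgroup L) ≤ R) (X : Subgroup ↥R)
    (hX : Cfsg.IsPReducedNormal p X) :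
    Cfsg.IsPReducedNormal p (Subgroup.normalClosure ((X.map R.subtype : Subgroup L) : Set L)) := by
  rw [isPReducedNormal_iff] at hX ⊢
  obtain ⟨hXn, hXe, hXr⟩ := hX
  set X' : Subgroup L := X.map R.subtype with hX'
  set V : Subgroup L := Subgroup.normalClosure (X' : Set L) with hV
  have hOn : (Cfsg.pCore p L).Normal := pCore_normal
  have hCn : (Subgroup.centralizer (Cfsg.pCore p L : Set L)).Normal :=
    centralizer_normal_of_normal _
  -- O_p(L) ≤ R
  have hOR : Cfsg.pCore p L ≤ R := (pCore_le_sylow T).trans hTR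
  -- O_p(L) ∩ R ≤ O_p(R) ≤ C_R(X)
  have hO1 : (Cfsg.pCore p L).subgroupOf R ≤ Subgroup.centralizer (X : Set ↥R) := by
    refine le_trans ?_ (pCore_le_centralizer_of_redCrit X hXr)
    apply le_pCore_of_normal_isPGroup
    · infer_instance
    · exact (pCore_isPGroup (p := p) (G := L)).comap_subtype
  -- X' centralizes O_p(L)
  have hX'c : X' ≤ Subgroup.centralizer (Cfsg.pCore p L : Set L) := by
    rintro x ⟨y, hy, rfl⟩
    rw [Subgroup.mem_centralizer_iff]
    intro o ho
    have ho' : (⟨o, hOR ho⟩ : ↥R) ∈ (Cfsg.pCore p L).subgroupOf R := by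
      rw [Subgroup.mem_subgroupOf]; exact ho
    have := Subgroup.mem_centralizer_iff.mp (hO1 ho') y hy
    have := congrArg Subtype.val this
    simpa using this.symm
  have hZn : (Cfsg.pCore p L ⊓ Subgroup.centralizer (Cfsg.pCore p L : Set L)).Normal :=
    Subgroup.normal_inf_normal _ _
  have hVZ : V ≤ Cfsg.pCore p L ⊓ Subgroup.centralizer (Cfsg.pCore p L : Set L) := by
    apply Subgroup.normalClosure_le_normal
    intro x hx
    exact ⟨hchar (hX'c hx), hX'c hx⟩
  have hVcomm : ∀ a ∈ V, ∀ b ∈ V, a * b = b * a := by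
    intro a ha b hb
    exact (Subgroup.mem_centralizer_iff.mp (hVZ hb).2 a (hVZ ha).1)
  have hX'V : X' ≤ V := Subgroup.le_normalClosure
  refine ⟨Subgroup.normalClosure_normal, ⟨⟨⟨?_⟩⟩, ?_⟩, ?_⟩
  · rintro ⟨a, ha⟩ ⟨b, hb⟩
    exact Subtype.ext (hVcomm a ha b hb)
  · intro a ha
    have key : ∀ a ∈ V, a ∈ V ∧ a ^ p = 1 := by
      intro a ha
      rw [hV, Subgroup.normalClosure] at ha
      induction ha using Subgroup.closure_induction with
      | mem x hx =>
        refine ⟨Subgroup.subset_closure hx, ?_⟩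
        obtain ⟨y, hy, hc⟩ := Group.mem_conjugatesOfSet_iff.mp hx
        obtain ⟨g, rfl⟩ := isConj_iff.mp hc
        obtain ⟨z, hz, rfl⟩ := hy
        have hzp : z ^ p = 1 := hXe.2 z hz
        rw [conj_pow]
        have : (R.subtype z) ^ p = 1 := by rw [← map_pow, hzp, map_one]
        rw [this]; group
      | one => exact ⟨Subgroup.one_mem _, one_pow _⟩
      | mul x y _ _ hx hy =>
        refine ⟨Subgroup.mul_mem _ hx.1 hy.1, ?_⟩
        rw [(show Commute x y from hVcomm x hx.1 y hy.1).mul_pow, hx.2, hy.2, one_mul]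
      | inv x _ hx =>
        exact ⟨Subgroup.inv_mem _ hx.1, by rw [inv_pow, hx.2, inv_one]⟩
    exact (key a ha).2
  · intro D hD hpow
    have hE : (D.subgroupOf R).Normal := inferInstance
    have hER : D.subgroupOf R ≤ Subgroup.centralizer (X : Set ↥R) := by
      apply hXr _ hE
      intro e he
      rw [Subgroup.mem_subgroupOf] at he
      obtain ⟨k, hk⟩ := hpow _ he
      refine ⟨k, ?_⟩
      rw [Subgroup.mem_centralizer_iff] at hk ⊢
      intro x hx
      have := hk (x : L) (hX'V ⟨x, hx, rfl⟩)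
      apply Subtype.ext
      simpa using this
    have hDR : D ⊓ R ≤ Subgroup.centralizer (X' : Set L) := by
      rintro d ⟨hdD, hdR⟩
      have h1 : (⟨d, hdR⟩ : ↥R) ∈ D.subgroupOf R := by rw [Subgroup.mem_subgroupOf]; exact hdD
      have h2 := hER h1
      rw [Subgroup.mem_centralizer_iff] at h2 ⊢
      rintro x ⟨y, hy, rfl⟩
      have := congrArg Subtype.val (h2 y hy)
      simpa using this
    have hDX : D ≤ Subgroup.centralizer (X' : Set L) := by
      apply le_of_sylow_inf_le D T
      · intro x hx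
        exact hDR ⟨hx.2, hTR hx.1⟩
      · intro x hx hc
        obtain ⟨k, hk⟩ := hpow x hx
        apply mem_of_pow_mem_of_coprime p _ x hc k
        exact Subgroup.centralizer_le (show (X' : Set L) ⊆ (V : Set L) from fun y hy => hX'V hy) hk
    have hCD : (Subgroup.centralizer (D : Set L)).Normal := centralizer_normal_of_normal D
    have : V ≤ Subgroup.centralizer (D : Set L) := by
      apply Subgroup.normalClosure_le_normal
      intro x hx
      exact (Subgroup.le_centralizer_iff.mp hDX) hx
    exact Subgroup.le_centralizer_iff.mp this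

end

end Cfsg.Agent.Lib.H14
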