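import Cfsg.Agent.Lib.H14.PReduced5
set_option autoImplicit false
open Cfsg

namespace Cfsg.Agent.Lib.H14

open scoped commutatorElement

section
variable {G : Type*} [Group G] {p : ℕ}

/-- `[V, O^p(H)] ≤ [[V, O^p(K)], O^p(H)]` for `H ≤ K` (coprime action). -/
theorem commutator_presOf_le_commutator_commutator [Finite G] [Fact p.Prime] (K H V : Subgroup G)
    (hHK : H ≤ K) (hKV : K ≤ Subgroup.normalizer (V : Set G))
    (hVe : Cfsg.IsElementaryAbelian p V)
    (hKW : K ≤ Subgroup.normalizer ((⁅⁅V, presOf p K⁆, presOf p H⁆ : Subgroup G) : Set G))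
    (hWV : ⁅⁅V, presOf p K⁆, presOf p H⁆ ≤ V) :
    ⁅V, presOf p H⁆ ≤ ⁅⁅V, presOf p K⁆, presOf p H⁆ := by
  rw [Subgroup.commutator_comm]
  apply commutator_closure_le
  · exact ((presOf_le p H).trans hHK).trans hKW
  · rintro s ⟨hsH, hsc⟩ v hv
    have hsRH : s ∈ presOf p H := Subgroup.subset_closure ⟨hsH, hsc⟩
    have hsRK : s ∈ presOf p K := Subgroup.subset_closure ⟨hHK hsH, hsc⟩
    apply commutator_mem_of_coprime (p := p) V _ (comm_of_isElementaryAbelian V hVe) hVe.2 hWV s hsc
      (hKV (hHK hsH)) (hKW (hHK hsH)) _ v hv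
    intro v hv
    have h1 : ⁅s, v⁆ ∈ ⁅V, presOf p K⁆ := by
      rw [Subgroup.commutator_comm]
      exact Subgroup.commutator_mem_commutator hsRK hv
    rw [Subgroup.commutator_comm]
    exact Subgroup.commutator_mem_commutator hsRH h1

/-- If `V` is a `p`-reduced normal subgroup of the finite group `G` and `K` is subnormal in `G`,
then `[V, O^p(K)]` is (in ambient form) a `p`-reduced normal subgroup of `K`. -/
theorem commutator_presOf_reduced [Finite G] [Fact p.Prime] (V : Subgroup G)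
    (hV : Cfsg.IsPReducedNormal p V) (K : Subgroup G) (hK : K.IsSubnormal) :
    ⁅V, presOf p K⁆ ≤ V ∧
      K ≤ Subgroup.normalizer ((⁅V, presOf p K⁆ : Subgroup G) : Set G) ∧
        RedCritIn p K ⁅V, presOf p K⁆ := by
  rw [isPReducedNormal_iff] at hV
  obtain ⟨hVn, hVe, hVr⟩ := hV
  have hVtop : (⊤ : Subgroup G) ≤ Subgroup.normalizer (V : Set G) := by
    rw [Subgroup.normalizer_eq_top_iff.mpr hVn]
  induction hK with
  | top =>
    exact redCritIn_commutator_presOf ⊤ ⊤ V le_rfl
      (by rw [Subgroup.normalizer_eq_top_iff.mpr (inferInstance : (⊤ : Subgroup G).Normal)])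
      hVtop hVe ((redCrit_iff_redCritIn_top V).mp hVr)
  | step H K hHK hKsub hN ih =>
    obtain ⟨i1, i2, i3⟩ := ih
    rw [Subgroup.normal_subgroupOf_iff_le_normalizer hHK] at hN
    have hKV : K ≤ Subgroup.normalizer (V : Set G) := le_top.trans hVtop
    obtain ⟨j1, j2, j3⟩ := redCritIn_commutator_presOf (p := p) K H ⁅V, presOf p K⁆ hHK hN i2
      (isElementaryAbelian_of_le V _ hVe i1) i3
    have heq : ⁅⁅V, presOf p K⁆, presOf p H⁆ = ⁅V, presOf p H⁆ := by
      apply le_antisymm
      · exact Subgroup.commutator_mono i1 le_rfl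
      · exact commutator_presOf_le_commutator_commutator K H V hHK hKV hVe j2 (j1.trans i1)
    rw [heq] at j1 j2 j3
    exact ⟨j1.trans i1, hHK.trans j2, j3⟩

theorem commutator_presOf_le [Finite G] [Fact p.Prime] (V : Subgroup G) [hVn : V.Normal]
    (hVp : IsPGroup p V) (K : Subgroup G) (hK : K.IsSubnormal) : ⁅V, presOf p K⁆ ≤ K := by
  refine le_trans ?_ (presOf_le p K)
  rw [← Subgroup.le_normalizer_iff_commutator_le_right]
  exact (le_pCore_of_normal_isPGroup V hVn hVp).trans (pCore_le_normalizer_presOf p K hK)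

end

end Cfsg.Agent.Lib.H14
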