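import Cfsg.Agent.Lib.H14.Norm
import Mathlib.GroupTheory.GroupAction.ConjAct
import Mathlib.GroupTheory.Coset.Basic
import Mathlib.GroupTheory.GroupAction.Quotient
set_option autoImplicit false

/-! The relative trace (norm) argument: if `v` is centralized by `T` and lies in a normal abelian
subgroup `V`, then `v ^ |H : T| ∈ C_V(H) [V, R]` whenever `H = R T` with `R` normal. -/

namespace Cfsg.Agent.Lib.H14

open scoped IsMulCommutative commutatorElement

theorem exists_central_mul_commutator {H : Type*} [Group H] [Finite H] (V : Subgroup H)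
    [hVn : V.Normal] [hVc : IsMulCommutative V] (T R : Subgroup H) [hRn : R.Normal]
    (hRT : R ⊔ T = ⊤) (v : H) (hv : v ∈ V) (hvT : ∀ t ∈ T, t * v = v * t) :
    ∃ c ∈ V, (∀ h : H, h * c = c * h) ∧ ∃ w ∈ ⁅V, R⁆, v ^ T.index = c * w := by
  classical
  letI := Fintype.ofFinite (H ⧸ T)
  set v' : V := ⟨v, hv⟩ with hv'
  set tr : V := ∏ q : H ⧸ T, MulAut.conjNormal (q.out) v' with htr
  have hfix : ∀ (g : H) (t : H), t ∈ T →
      MulAut.conjNormal (g * t) v' = MulAut.conjNormal g v' := by
    intro g t ht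
    apply Subtype.ext
    simp only [MulAut.conjNormal_apply, hv']
    have : t * v * t⁻¹ = v := by rw [hvT t ht]; group
    calc g * t * v * (g * t)⁻¹ = g * (t * v * t⁻¹) * g⁻¹ := by group
      _ = g * v * g⁻¹ := by rw [this]
  have hinv : ∀ h : H, MulAut.conjNormal h tr = tr := by
    intro h
    rw [htr, map_prod]
    have h1 : ∀ q : H ⧸ T, MulAut.conjNormal h (MulAut.conjNormal (q.out) v') =
        MulAut.conjNormal ((h • q).out) v' := by
      intro q
      rw [← MulAut.mul_apply, ← map_mul]
      have hmem : ((h • q).out)⁻¹ * (h * q.out) ∈ T := by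
        rw [← QuotientGroup.eq, QuotientGroup.out_eq']
        conv_lhs => rw [← QuotientGroup.out_eq' q]
        rfl
      have e : h * q.out = (h • q).out * (((h • q).out)⁻¹ * (h * q.out)) := by group
      rw [e, hfix _ _ hmem]
    simp_rw [h1]
    exact Fintype.prod_equiv (MulAction.toPerm h) _ _ (fun q => rfl)
  -- representatives in R
  have hrep : ∀ q : H ⧸ T, ∃ r ∈ R, ∃ t ∈ T, q.out = r * t := by
    intro q
    have : q.out ∈ ((R ⊔ T : Subgroup H) : Set H) := by rw [hRT]; trivial
    rw [Subgroup.normal_mul] at this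
    obtain ⟨r, hr, t, ht, e⟩ := Set.mem_mul.mp this
    exact ⟨r, hr, t, ht, e.symm⟩
  choose r hr t ht hrt using hrep
  have hwV : ∀ q : H ⧸ T, ⁅r q, v⁆ ∈ V := by
    intro q
    rw [commutatorElement_def]
    exact V.mul_mem (hVn.conj_mem v hv (r q)) (V.inv_mem hv)
  set w : (H ⧸ T) → V := fun q => ⟨⁅r q, v⁆, hwV q⟩ with hw
  have hterm : ∀ q : H ⧸ T, MulAut.conjNormal (q.out) v' = w q * v' := by
    intro q
    rw [hrt q, hfix _ _ (ht q)]
    apply Subtype.ext
    simp only [MulAut.conjNormal_apply, hw, hv', Subgroup.coe_mul, commutatorElement_def]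
    group
  have htr2 : tr = (∏ q : H ⧸ T, w q) * v' ^ T.index := by
    rw [htr]
    simp_rw [hterm]
    rw [Finset.prod_mul_distrib, Finset.prod_const, Finset.card_univ, Subgroup.index_eq_card,
      Nat.card_eq_fintype_card]
  have hWmem : (∏ q : H ⧸ T, w q) ∈ (⁅V, R⁆).subgroupOf V := by
    apply Subgroup.prod_mem
    intro q _
    rw [Subgroup.mem_subgroupOf, Subgroup.commutator_comm]
    exact Subgroup.commutator_mem_commutator (hr q) hv
  refine ⟨(tr : H), tr.2, ?_, ((∏ q : H ⧸ T, w q)⁻¹ : V), ?_, ?_⟩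
  · intro h
    have := congrArg Subtype.val (hinv h)
    rw [MulAut.conjNormal_apply] at this
    calc h * (tr : H) = (h * tr * h⁻¹) * h := by group
      _ = tr * h := by rw [this]
  · have := Subgroup.inv_mem _ hWmem
    rw [Subgroup.mem_subgroupOf] at this
    exact this
  · have e : v' ^ T.index = tr * (∏ q : H ⧸ T, w q)⁻¹ := by
      rw [htr2]; simp [mul_comm]
    have := congrArg Subtype.val e
    simpa using this

end Cfsg.Agent.Lib.H14
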