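import Cfsg.Agent.Lib.H14.PReduced6
import Cfsg.Agent.Lib.H14.SylowTrace
import Cfsg.Agent.Lib.H14.Amalgam3
set_option autoImplicit false
open Cfsg

namespace Cfsg.Agent.Lib.H14

open scoped commutatorElement

section
variable {G : Type*} [Group G] {p : ℕ}

/-- `Z_L ≤ Y_L` for `L` of characteristic `p`. -/
theorem sylowCenterClosure_le_largestPReducedOf [Fact p.Prime] (L : Subgroup G) [Finite L]
    (hL : Subgroup.centralizer (Cfsg.pCore p ↥L : Set ↥L) ≤ Cfsg.pCore p ↥L) :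
    Cfsg.sylowCenterClosure p L ≤ Cfsg.largestPReducedOf p L := by
  unfold Cfsg.sylowCenterClosure
  apply iSup_le
  intro S
  unfold Cfsg.omegaOne
  rw [Subgroup.closure_le]
  rintro x ⟨⟨⟨x₀, hx₀, rfl⟩, hxC⟩, hxp⟩
  have hx₀C : x₀ ∈ Subgroup.centralizer ((S : Subgroup ↥L) : Set ↥L) := by
    rw [mem_centralizer_map_subtype_iff]
    exact hxC
  have hx₀p : x₀ ^ p = 1 := by
    apply Subtype.ext
    simpa using hxp
  have hmem : x₀ ∈ Cfsg.omegaOne p ((S : Subgroup ↥L) ⊓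
      Subgroup.centralizer ((S : Subgroup ↥L) : Set ↥L)) :=
    Subgroup.subset_closure ⟨⟨hx₀, hx₀C⟩, hx₀p⟩
  exact ⟨x₀, oz_sylow_le_largestPReduced hL S hmem, rfl⟩

theorem le_nzr_sylowCenterClosure (L : Subgroup G) :
    L ≤ Subgroup.normalizer ((Cfsg.sylowCenterClosure p L : Subgroup G) : Set G) :=
  le_nzr_of_conj_mem L _ (fun g hg z hz => sylowCenterClosure_conj_mem p L g hg z hz)

/-- `[Z_L, L] ≤ [Z_L, O^p(L)]`. -/
theorem commutator_sylowCenterClosure_le [Fact p.Prime] (L : Subgroup G) [Finite L] :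
    ⁅Cfsg.sylowCenterClosure p L, L⁆ ≤ ⁅Cfsg.sylowCenterClosure p L, presOf p L⁆ := by
  set Z := Cfsg.sylowCenterClosure p L with hZ
  set R := presOf p L with hR
  have hLZ : L ≤ Subgroup.normalizer (Z : Set G) := le_nzr_sylowCenterClosure L
  have hLR : L ≤ Subgroup.normalizer (R : Set G) :=
    Subgroup.le_normalizer.trans (presOf_normalized p L)
  have hLW : L ≤ Subgroup.normalizer ((⁅Z, R⁆ : Subgroup G) : Set G) :=
    le_nzr_commutator L Z R hLZ hLR
  have hZL : Z ≤ L := sylowCenterClosure_le p L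
  have hcl : Z = Subgroup.closure (⋃ S : Sylow p ↥L, {x : G | x ∈ ((S : Subgroup ↥L).map L.subtype) ⊓
      Subgroup.centralizer (((S : Subgroup ↥L).map L.subtype : Subgroup G) : Set G) ∧ x ^ p = 1}) := by
    rw [Subgroup.closure_iUnion]
    rfl
  have hcl' : Subgroup.closure (⋃ S : Sylow p ↥L, {x : G | x ∈ ((S : Subgroup ↥L).map L.subtype) ⊓
      Subgroup.centralizer (((S : Subgroup ↥L).map L.subtype : Subgroup G) : Set G) ∧ x ^ p = 1}) = Z :=
    hcl.symm
  conv_lhs => rw [hcl]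
  apply commutator_closure_le
  · rw [hcl']; exact hZL.trans hLW
  · intro z hz l hl
    obtain ⟨S, hzS⟩ := Set.mem_iUnion.mp hz
    obtain ⟨⟨hz1, hz2⟩, hzp⟩ := hzS
    have hzZ : z ∈ Z := oz_le_sylowCenterClosure p L S (Subgroup.subset_closure ⟨⟨hz1, hz2⟩, hzp⟩)
    have hn : (Cfsg.pResidual p ↥L).Normal := pResidual_normal'
    have hl' : (⟨l, hl⟩ : ↥L) ∈ ((Cfsg.pResidual p ↥L ⊔ (S : Subgroup ↥L) : Subgroup ↥L) : Set ↥L) := by
      rw [pResidual_sup_sylow S]; trivial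
    rw [Subgroup.normal_mul] at hl'
    obtain ⟨r', hr', s', hs', e⟩ := Set.mem_mul.mp hl'
    have e' : l = (r' : G) * (s' : G) := by
      have := congrArg Subtype.val e
      simpa using this.symm
    have hrR : (r' : G) ∈ R := by
      rw [hR, ← pResidual_map_eq]
      exact ⟨r', hr', rfl⟩
    have hsS : (s' : G) ∈ (S : Subgroup ↥L).map L.subtype := ⟨s', hs', rfl⟩
    have hzs : ⁅z, (s' : G)⁆ = 1 := by
      rw [commutatorElement_eq_one_iff_commute]
      exact (Subgroup.mem_centralizer_iff.mp hz2 _ hsS).symm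
    rw [e', commutatorElement_mul_right_eq_mul_conj, hzs]
    have : ⁅z, (r' : G)⁆ * (r' : G) * 1 * (r' : G)⁻¹ = ⁅z, (r' : G)⁆ := by group
    rw [this]
    exact Subgroup.commutator_mem_commutator hzZ hrR

end

end Cfsg.Agent.Lib.H14
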