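import Cfsg.Agent.Lib.H14.PReduced8
set_option autoImplicit false
open Cfsg

namespace Cfsg.Agent.Lib.H14

open scoped commutatorElement

section
variable {G : Type*} [Group G] {p : ℕ}

theorem centralizer_le' {X Y : Subgroup G} (h : X ≤ Y) :
    Subgroup.centralizer (Y : Set G) ≤ Subgroup.centralizer (X : Set G) :=
  Subgroup.centralizer_le (fun _ ha => h ha)

theorem le_presOf_presOf (B : Subgroup G) : presOf p B ≤ presOf p (presOf p B) := by
  conv_lhs => unfold presOf
  rw [Subgroup.closure_le]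
  rintro x ⟨hxB, hxc⟩
  exact Subgroup.subset_closure ⟨Subgroup.subset_closure ⟨hxB, hxc⟩, hxc⟩

theorem le_centralizer_bot (M : Subgroup G) :
    M ≤ Subgroup.centralizer (((⊥ : Subgroup G) : Subgroup G) : Set G) := by
  intro m _
  rw [Subgroup.mem_centralizer_iff]
  intro y hy
  have : y = 1 := by simpa using hy
  subst this; simp

/-- Normal case of `C_{K'}(Y_K) ≤ C(Y_{K'})` for `K' ⊴ K`. -/
theorem inf_centralizer_largestPReducedOf_le [Finite G] [Fact p.Prime] (K K' : Subgroup G)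
    (hK'K : K' ≤ K) (hKK' : K ≤ Subgroup.normalizer (K' : Set G)) :
    K' ⊓ Subgroup.centralizer ((Cfsg.largestPReducedOf p K : Subgroup G) : Set G) ≤
      Subgroup.centralizer ((Cfsg.largestPReducedOf p K' : Subgroup G) : Set G) := by
  obtain ⟨hY1, hYe, hYr⟩ := largestPReducedOf_props (p := p) K
  obtain ⟨hY'1, hY'e, hY'r⟩ := largestPReducedOf_props (p := p) K'
  set Y := Cfsg.largestPReducedOf p K with hY
  set Y' := Cfsg.largestPReducedOf p K' with hY'
  have hY'K' : Y' ≤ K' := largestPReducedOf_le K'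
  have hKY' : K ≤ Subgroup.normalizer (Y' : Set G) := hKK'.trans (nzr_le_nzr_largestPReducedOf K')
  set C' := K' ⊓ Subgroup.centralizer (Y : Set G) with hC'
  have hKC' : K ≤ Subgroup.normalizer (C' : Set G) :=
    le_nzr_inf K K' _ hKK' (hY1.trans (nzr_le_nzr_centralizer Y))
  have hDC' : presOf p C' ≤ C' := presOf_le p C'
  have hKD : K ≤ Subgroup.normalizer ((presOf p C' : Subgroup G) : Set G) :=
    hKC'.trans (presOf_normalized p C')
  obtain ⟨hUY', hK'U, hUr⟩ := redCritIn_commutator_presOf (p := p) K' C' Y' inf_le_left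
    (hK'K.trans hKC') hY'1 hY'e hY'r
  set D := presOf p C' with hD
  set U := ⁅Y', D⁆ with hU
  have hKU : K ≤ Subgroup.normalizer (U : Set G) := le_nzr_commutator K Y' D hKY' hKD
  have hC'K : C' ≤ K := inf_le_left.trans hK'K
  suffices hDY : D ≤ Subgroup.centralizer (Y' : Set G) by
    apply hY'r C' inf_le_left (hK'K.trans hKC')
    exact pmod_of_presOf_le C' _ hDY
  by_contra hcon
  have hS1 : ¬ D ≤ Subgroup.centralizer (U : Set G) := by
    intro h
    apply hcon
    have h1 : presOf p D ≤ Subgroup.centralizer (Y' : Set G) :=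
      presOf_le_centralizer_of_quadratic D Y' U ((hDC'.trans hC'K).trans hKY') hY'e le_rfl h
    exact (le_presOf_presOf C').trans h1
  obtain ⟨M, hM⟩ := exists_minimal_of_wellFoundedLT
    (fun M : Subgroup G => M ≤ D ∧ K ≤ Subgroup.normalizer (M : Set G) ∧
      ¬ M ≤ Subgroup.centralizer (U : Set G)) ⟨D, le_rfl, hKD, hS1⟩
  obtain ⟨⟨hMD, hKM, hMU⟩, hMmin⟩ := hM
  have hMK : M ≤ K := hMD.trans (hDC'.trans hC'K)
  have hS2 : ∀ X : Subgroup G, X ≤ U → K ≤ Subgroup.normalizer (X : Set G) →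
      ¬ M ≤ Subgroup.centralizer (X : Set G) → ¬ PMod p M (Subgroup.centralizer (X : Set G)) := by
    intro X hXU hKX hMX hpm
    have hN'M : M ⊓ Subgroup.centralizer (X : Set G) ≤ M := inf_le_left
    have hKN' : K ≤ Subgroup.normalizer ((M ⊓ Subgroup.centralizer (X : Set G) : Subgroup G) : Set G) :=
      le_nzr_inf K M _ hKM (hKX.trans (nzr_le_nzr_centralizer X))
    have hN'U : M ⊓ Subgroup.centralizer (X : Set G) ≤ Subgroup.centralizer (U : Set G) := by
      by_contra hc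
      have := hMmin ⟨hN'M.trans hMD, hKN', hc⟩ hN'M
      exact hMX (this.trans inf_le_right)
    have h1 : presOf p M ≤ Subgroup.centralizer (U : Set G) :=
      le_trans (le_inf (presOf_le p M) (presOf_le_of_pmod M _ hpm)) hN'U
    have h2 : M ≤ Subgroup.centralizer (U : Set G) :=
      hUr M (hMD.trans hDC') (hC'K.trans hKM) (pmod_of_presOf_le M _ h1)
    exact hMU h2
  obtain ⟨X₀, hX₀⟩ := exists_minimal_of_wellFoundedLT
    (fun X : Subgroup G => X ≤ U ∧ K ≤ Subgroup.normalizer (X : Set G) ∧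
      ¬ M ≤ Subgroup.centralizer (X : Set G)) ⟨U, le_rfl, hKU, hMU⟩
  obtain ⟨⟨hXU, hKX, hMX⟩, hXmin⟩ := hX₀
  have hXe : Cfsg.IsElementaryAbelian p X₀ := isElementaryAbelian_of_le Y' X₀ hY'e (hXU.trans hUY')
  have hMNX : M ≤ Subgroup.normalizer (X₀ : Set G) := hMK.trans hKX
  have hS3 : ⁅X₀, M⁆ = X₀ := by
    have hle : ⁅X₀, M⁆ ≤ X₀ := Subgroup.le_normalizer_iff_commutator_le_left.mp hMNX
    apply le_antisymm hle
    apply hXmin ⟨hle.trans hXU, le_nzr_commutator K X₀ M hKX hKM, ?_⟩ hle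
    intro hq
    have h1 : presOf p M ≤ Subgroup.centralizer (X₀ : Set G) :=
      presOf_le_centralizer_of_quadratic M X₀ ⁅X₀, M⁆ hMNX hXe le_rfl hq
    exact hS2 X₀ hXU hKX hMX (pmod_of_presOf_le M _ h1)
  have hS4 : RedCritIn p K X₀ := by
    intro Q hQK hKQ hpm
    by_contra hQX
    have hN : Q ⊓ M ≤ Subgroup.centralizer (U : Set G) := by
      by_contra hc
      have := hMmin ⟨inf_le_right.trans hMD, le_nzr_inf K Q M hKQ hKM, hc⟩ inf_le_right
      have hMQ : M ≤ Q := this.trans inf_le_left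
      exact hS2 X₀ hXU hKX hMX (fun m hm => hpm m (hMQ hm))
    have hCUX : Subgroup.centralizer (U : Set G) ≤ Subgroup.centralizer (X₀ : Set G) :=
      centralizer_le' hXU
    have hQM : ⁅Q, M⁆ ≤ Subgroup.centralizer (X₀ : Set G) := by
      refine le_trans (le_inf ?_ ?_) (hN.trans hCUX)
      · exact Subgroup.le_normalizer_iff_commutator_le_left.mp (hMK.trans hKQ)
      · exact Subgroup.le_normalizer_iff_commutator_le_right.mp (hQK.trans hKM)
    have h1 : ⁅⁅Q, M⁆, X₀⁆ = ⊥ := Subgroup.commutator_eq_bot_iff_le_centralizer.mpr hQM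
    have hX₁le : ⁅X₀, Q⁆ ≤ X₀ :=
      Subgroup.le_normalizer_iff_commutator_le_left.mp (hQK.trans hKX)
    have hX₁ne : ¬ X₀ ≤ ⁅X₀, Q⁆ := by
      intro hle
      have := eq_bot_of_le_commutator_of_pmod X₀ Q (isPGroup_of_isElementaryAbelian X₀ hXe)
        (hQK.trans hKX) hpm hle
      apply hMX
      rw [this]
      exact le_centralizer_bot M
    have hMX₁ : M ≤ Subgroup.centralizer ((⁅X₀, Q⁆ : Subgroup G) : Set G) := by
      by_contra hc
      exact hX₁ne (hXmin ⟨hX₁le.trans hXU, le_nzr_commutator K X₀ Q hKX hKQ, hc⟩ hX₁le)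
    have h2 : ⁅⁅X₀, Q⁆, M⁆ = ⊥ := by
      rw [Subgroup.commutator_comm]
      exact Subgroup.commutator_eq_bot_iff_le_centralizer.mpr hMX₁
    have h3 : ⁅⁅M, X₀⁆, Q⁆ = ⊥ := Subgroup.commutator_commutator_eq_bot_of_rotate h2 h1
    rw [Subgroup.commutator_comm M X₀, hS3] at h3
    apply hQX
    rw [Subgroup.commutator_comm] at h3
    exact Subgroup.commutator_eq_bot_iff_le_centralizer.mp h3
  have hX₀Y : X₀ ≤ Y :=
    le_largestPReducedOf K X₀ ((hXU.trans hUY').trans (hY'K'.trans hK'K)) hKX hXe hS4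
  apply hMX
  exact ((hMD.trans hDC').trans inf_le_right).trans (centralizer_le' hX₀Y)

end

end Cfsg.Agent.Lib.H14
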