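import Mathlib
import Cfsg.Agent.Lib.H22.PearlDefs

/-!
# S5239 piece S1IDX (helper14): the two-step centralizer `S₁ = C_G(γ₂/γ₄)` has index `3`
-/

set_option autoImplicit false

namespace Cfsg.Agent.Lib.H14.Pearl

open scoped commutatorElement
open Cfsg.Agent.Lib.H22.Pearl Cfsg.Agent.Lib.H25.R2 Cfsg.Agent.Lib.H25.MCS

/-- `⁅L i, G⁆ ≤ L (i+1)` elementwise, in both orders. -/
theorem s1idx_comm_mem {G : Type*} [Group G] {i : ℕ} {c : G} (hc : c ∈ L G i) (g : G) :
    ⁅g, c⁆ ∈ L G (i + 1) := by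
  have h1 : ⁅c, g⁆ ∈ L G (i + 1) := comm_mem_lcs_succ hc g
  exact b5_comm_mem_symm _ h1

/-- the commutator map `g ↦ ⁅s, g⁆ γ₄` for `s ∈ γ₂` is a homomorphism `G → G ⧸ γ₄`. -/
noncomputable def s1idxHom {G : Type*} [Group G] (s : G) (hs : s ∈ L G 1) : G →* G ⧸ L G 3 :=
  MonoidHom.mk' (fun g => ((⁅s, g⁆ : G) : G ⧸ L G 3)) (by
    intro g h
    have h1 : ⁅s, g * h⁆ = ⁅s, g⁆ * (g * ⁅s, h⁆ * g⁻¹) := by
      simp only [commutatorElement_def]; group
    have h2 : ((g * ⁅s, h⁆ * g⁻¹ : G) : G ⧸ L G 3) = ((⁅s, h⁆ : G) : G ⧸ L G 3) := by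
      rw [QuotientGroup.eq]
      have h3 : ⁅s, h⁆ ∈ L G 2 := comm_mem_lcs_succ hs h
      have h4 : ⁅g, (⁅s, h⁆)⁻¹⁆ ∈ L G 3 := s1idx_comm_mem ((L G 2).inv_mem h3) g
      have h5 : (g * ⁅s, h⁆ * g⁻¹)⁻¹ * ⁅s, h⁆ = ⁅g, (⁅s, h⁆)⁻¹⁆ := by
        simp only [commutatorElement_def]; group
      rw [h5]
      exact h4
    show ((⁅s, g * h⁆ : G) : G ⧸ L G 3) = ((⁅s, g⁆ : G) : G ⧸ L G 3) * ((⁅s, h⁆ : G) : G ⧸ L G 3)
    rw [h1, QuotientGroup.mk_mul, h2])

theorem s1idxHom_apply {G : Type*} [Group G] (s : G) (hs : s ∈ L G 1) (g : G) :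
    s1idxHom s hs g = ((⁅s, g⁆ : G) : G ⧸ L G 3) := rfl

/-- **S1IDX**.  `|G : S₁| = 3`. -/
theorem card_S1 {G : Type*} [Group G] [Finite G] {n : ℕ} (hn : 4 ≤ n) (hG : Nat.card G = 3 ^ n)
    (hcard : ∀ i, 1 ≤ i → i ≤ n - 1 → Nat.card ↥(L G i) = 3 ^ (n - 1 - i)) :
    Nat.card ↥(S1 G) = 3 ^ (n - 1) := by
  classical
  haveI : Fact (Nat.Prime 3) := ⟨by norm_num⟩
  have hP : IsPGroup 3 G := IsPGroup.of_card hG
  haveI : Group.IsNilpotent G := hP.isNilpotent
  have h1 : Nat.card (L G 1) = 3 ^ (n - 2) := by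
    have := hcard 1 le_rfl (by omega)
    rw [this]
    congr 1
  have h2 : Nat.card (L G 2) = 3 ^ (n - 3) := by
    have := hcard 2 (by omega) (by omega)
    rw [this]
    congr 1
  have h3 : Nat.card (L G 3) = 3 ^ (n - 4) := by
    have := hcard 3 (by omega) (by omega)
    rw [this]
    congr 1
  have hle21 : L G 2 ≤ L G 1 := Subgroup.lowerCentralSeries_antitone _ (by omega)
  have hle32 : L G 3 ≤ L G 2 := Subgroup.lowerCentralSeries_antitone _ (by omega)
  have hpow1 : (3 : ℕ) ^ (n - 2) = 3 * 3 ^ (n - 3) := by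
    rw [← pow_succ']
    congr 1
    omega
  have hpow2 : (3 : ℕ) ^ (n - 3) = 3 * 3 ^ (n - 4) := by
    rw [← pow_succ']
    congr 1
    omega
  -- pick `s ∈ L 1 \ L 2`
  have hlt : L G 2 < L G 1 := by
    refine lt_of_le_of_ne hle21 ?_
    intro h
    have : Nat.card (L G 2) = Nat.card (L G 1) := by rw [h]
    rw [h1, h2, hpow1] at this
    have hpos : 0 < 3 ^ (n - 3) := by positivity
    omega
  obtain ⟨s, hs1, hs2⟩ := SetLike.exists_of_lt hlt
  have hsup : Subgroup.zpowers s ⊔ L G 2 = L G 1 :=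
    mcs_sup_eq hP (L G 1) (L G 2) hle21 (by rw [h1, h2, hpow1]) s hs1 hs2
  -- `S₁` is the kernel of the commutator homomorphism
  have hker : (s1idxHom s hs1).ker = S1 G := by
    ext g
    rw [MonoidHom.mem_ker, s1idxHom_apply, QuotientGroup.eq_one_iff, mem_S1]
    constructor
    · intro h x hx
      have hle : Subgroup.zpowers s ⊔ L G 2 ≤ b5Cent (L G 3) g := by
        refine sup_le ?_ ?_
        · rw [Subgroup.zpowers_le, b5_mem_cent]
          exact b5_comm_mem_symm _ h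
        · intro c hc
          rw [b5_mem_cent]
          exact s1idx_comm_mem hc g
      rw [← hsup] at hx
      have := b5_mem_cent.mp (hle hx)
      have h6 := b5_comm_mem_symm _ this
      rwa [commutatorElement_def] at h6
    · intro h
      have := h s hs1
      rwa [commutatorElement_def]
  -- the image lies in `L 2 / L 3` of order `3`
  have hrange : (s1idxHom s hs1).range ≤ (L G 2).map (QuotientGroup.mk' (L G 3)) := by
    rintro _ ⟨g, rfl⟩
    rw [s1idxHom_apply]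
    exact Subgroup.mem_map_of_mem _ (comm_mem_lcs_succ hs1 g)
  have hcardmap : Nat.card ((L G 2).map (QuotientGroup.mk' (L G 3))) = 3 := by
    rw [← Subgroup.relIndex_ker, QuotientGroup.ker_mk']
    have h4 := Subgroup.relIndex_mul_relIndex (H := (⊥ : Subgroup G)) (K := L G 3) (L := L G 2) bot_le hle32
    rw [Subgroup.relIndex_bot_left, Subgroup.relIndex_bot_left, h3, h2, hpow2] at h4
    have hpos : 0 < 3 ^ (n - 4) := by positivity
    have h5 : 3 ^ (n - 4) * (L G 3).relIndex (L G 2) = 3 ^ (n - 4) * 3 := by rw [h4]; ring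
    exact Nat.eq_of_mul_eq_mul_left hpos h5
  have hidx_dvd : (S1 G).index ∣ 3 := by
    have h7 : Nat.card (s1idxHom s hs1).range ∣
        Nat.card ((L G 2).map (QuotientGroup.mk' (L G 3))) := Subgroup.card_dvd_of_le hrange
    rw [hcardmap] at h7
    rw [← hker, Subgroup.index_ker]
    exact h7
  have hne_top : S1 G ≠ ⊤ := by
    unfold S1
    apply mcsD_ne_top
    intro hbot
    have : Nat.card (L G 2) = 1 := by
      rw [show L G 2 = ⊥ from hbot]
      exact Subgroup.card_bot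
    rw [h2, hpow2] at this
    have hpos : 0 < 3 ^ (n - 4) := by positivity
    omega
  have hidx : (S1 G).index = 3 := by
    rcases (Nat.dvd_prime (by norm_num : Nat.Prime 3)).mp hidx_dvd with h | h
    · exact absurd (Subgroup.index_eq_one.mp h) hne_top
    · exact h
  have hmul := Subgroup.card_mul_index (S1 G)
  rw [hidx, hG] at hmul
  have hpow3 : (3 : ℕ) ^ n = 3 ^ (n - 1) * 3 := by
    rw [← pow_succ]
    congr 1
    omega
  rw [hpow3] at hmul
  exact Nat.eq_of_mul_eq_mul_right (by norm_num) hmul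

end Cfsg.Agent.Lib.H14.Pearl
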