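import Cfsg.Agent.Lib.H14.Qd

set_option autoImplicit false

namespace Cfsg.Agent.Lib.H14

/-- The four affine points over `ZMod 2`. -/
def affPt : Fin 4 → (Fin 3 → ZMod 2) := ![![0,0,1], ![1,0,1], ![0,1,1], ![1,1,1]]

/-- Index of an affine point. -/
def affIdx (v : Fin 3 → ZMod 2) : Fin 4 :=
  if v 0 = 0 then (if v 1 = 0 then 0 else 2) else (if v 1 = 0 then 1 else 3)

theorem affIdx_affPt (i : Fin 4) : affIdx (affPt i) = i := by
  fin_cases i <;> decide

theorem affPt_affIdx (v : Fin 3 → ZMod 2) (hv : v 2 = 1) : affPt (affIdx v) = v := by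
  revert hv; revert v; decide

theorem affPt_two (i : Fin 4) : affPt i 2 = 1 := by
  fin_cases i <;> decide

theorem mulVec_two (M : affSub (ZMod 2)) (v : Fin 3 → ZMod 2) :
    ((M : Matrix.SpecialLinearGroup (Fin 3) (ZMod 2)) : Matrix (Fin 3) (Fin 3) (ZMod 2)).mulVec v 2 = v 2 := by
  obtain ⟨a0, a1, a2⟩ := M.2
  simp [Matrix.mulVec, dotProduct, Fin.sum_univ_three, a0, a1, a2]

instance affAction : MulAction (affSub (ZMod 2)) (Fin 4) where
  smul M i := affIdx (((M : Matrix.SpecialLinearGroup (Fin 3) (ZMod 2)) : Matrix (Fin 3) (Fin 3) (ZMod 2)).mulVec (affPt i))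
  one_smul i := by
    change affIdx (((1 : Matrix.SpecialLinearGroup (Fin 3) (ZMod 2)) : Matrix (Fin 3) (Fin 3) (ZMod 2)).mulVec (affPt i)) = i
    simp [affIdx_affPt]
  mul_smul M N i := by
    change affIdx (((M * N : Matrix.SpecialLinearGroup (Fin 3) (ZMod 2)) : Matrix (Fin 3) (Fin 3) (ZMod 2)).mulVec (affPt i))
      = affIdx (((M : Matrix.SpecialLinearGroup (Fin 3) (ZMod 2)) : Matrix (Fin 3) (Fin 3) (ZMod 2)).mulVec
        (affPt (affIdx (((N : Matrix.SpecialLinearGroup (Fin 3) (ZMod 2)) : Matrix (Fin 3) (Fin 3) (ZMod 2)).mulVec (affPt i)))))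
    rw [affPt_affIdx _ (by rw [mulVec_two, affPt_two])]
    rw [Matrix.SpecialLinearGroup.coe_mul, Matrix.mulVec_mulVec]

theorem affAction_smul (M : affSub (ZMod 2)) (i : Fin 4) :
    M • i = affIdx (((M : Matrix.SpecialLinearGroup (Fin 3) (ZMod 2)) : Matrix (Fin 3) (Fin 3) (ZMod 2)).mulVec (affPt i)) := rfl

theorem affPt_smul (M : affSub (ZMod 2)) (i : Fin 4) :
    affPt (M • i) = ((M : Matrix.SpecialLinearGroup (Fin 3) (ZMod 2)) : Matrix (Fin 3) (Fin 3) (ZMod 2)).mulVec (affPt i) := by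
  rw [affAction_smul, affPt_affIdx _ (by rw [mulVec_two, affPt_two])]

end Cfsg.Agent.Lib.H14
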