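import Cfsg.Agent.Lib.H14.Qd2

set_option autoImplicit false

namespace Cfsg.Agent.Lib.H14

theorem affHom_injective : Function.Injective (MulAction.toPermHom (affSub (ZMod 2)) (Fin 4)) := by
  rw [injective_iff_map_eq_one]
  intro M hM
  have h : ∀ i : Fin 4, ((M : Matrix.SpecialLinearGroup (Fin 3) (ZMod 2)) : Matrix (Fin 3) (Fin 3) (ZMod 2)).mulVec (affPt i) = affPt i := by
    intro i
    rw [← affPt_smul]
    have : M • i = (MulAction.toPermHom (affSub (ZMod 2)) (Fin 4) M) i := rfl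
    rw [this, hM]; rfl
  apply Subtype.ext
  apply Subtype.ext
  have h0 := h 0
  have h1 := h 1
  have h2 := h 2
  ext j k
  have e0 := congrFun h0 j
  have e1 := congrFun h1 j
  have e2 := congrFun h2 j
  simp [Matrix.mulVec, dotProduct, Fin.sum_univ_three, affPt] at e0 e1 e2
  fin_cases j <;> fin_cases k <;> simp_all

def qdA : Matrix.SpecialLinearGroup (Fin 3) (ZMod 2) :=
  ⟨!![1,0,1;1,1,0;0,0,1], by decide⟩

def qdB : Matrix.SpecialLinearGroup (Fin 3) (ZMod 2) :=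
  ⟨!![1,1,1;0,1,0;0,0,1], by decide⟩

theorem qdA_mem : qdA ∈ affSub (ZMod 2) := by
  refine ⟨?_, ?_, ?_⟩ <;> decide

theorem qdB_mem : qdB ∈ affSub (ZMod 2) := by
  refine ⟨?_, ?_, ?_⟩ <;> decide

theorem qdA_perm : MulAction.toPermHom (affSub (ZMod 2)) (Fin 4) ⟨qdA, qdA_mem⟩ = finRotate 4 := by
  ext i
  fin_cases i <;> decide

theorem qdB_perm : MulAction.toPermHom (affSub (ZMod 2)) (Fin 4) ⟨qdB, qdB_mem⟩ = Equiv.swap (0 : Fin 4) (finRotate 4 0) := by
  ext i
  fin_cases i <;> decide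

theorem affHom_surjective : Function.Surjective (MulAction.toPermHom (affSub (ZMod 2)) (Fin 4)) := by
  rw [← MonoidHom.range_eq_top, eq_top_iff]
  rw [← Equiv.Perm.closure_cycle_adjacent_swap (isCycle_finRotate (n := 2)) (support_finRotate (n := 2)) 0]
  rw [Subgroup.closure_le]
  intro x hx
  rcases hx with rfl | rfl
  · exact ⟨_, qdA_perm⟩
  · exact ⟨_, qdB_perm⟩

/-- `Qd(2) ≃* S₄`. -/
noncomputable def qdTwoEquiv : ↥(Cfsg.qd 2) ≃* Equiv.Perm (Fin 4) :=
  (MulEquiv.subgroupCongr (qd_eq_affSub 2)).trans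
    (MulEquiv.ofBijective (MulAction.toPermHom (affSub (ZMod 2)) (Fin 4)) ⟨affHom_injective, affHom_surjective⟩)

end Cfsg.Agent.Lib.H14
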