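import Mathlib
import Cfsg.Agent.Lib.H15.QdCtl
import Cfsg.Agent.Lib.H16.PGroupCenter
import Cfsg.Agent.Lib.H1.CharSubgroup

/-!
# Characteristic subgroups of a Sylow `p`-subgroup of `Qd(p)` (helper14), part 1

Linear part homomorphism and coordinates for a `QdData`.
-/

set_option autoImplicit false

namespace Cfsg.Agent.Lib.H14.QdChar

open Cfsg.Agent.Lib.H15.QdCtl Cfsg.Agent.Lib.H1.QdSec

variable {p : ℕ} {Y : Type*} [Group Y] (d : QdData p Y)

/-- the linear part of an element -/
noncomputable def lin (y : Y) : Matrix.SpecialLinearGroup (Fin 2) (ZMod p) :=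
  (d.surj y).choose_spec.choose

/-- the translation part of an element -/
noncomputable def tr (y : Y) : Multiplicative (Fin 2 → ZMod p) := (d.surj y).choose

theorem eq_tr_lin (y : Y) : y = d.τ (tr d y) * d.β (lin d y) :=
  (d.surj y).choose_spec.choose_spec

theorem tau_beta_inj {x x' : Multiplicative (Fin 2 → ZMod p)}
    {A A' : Matrix.SpecialLinearGroup (Fin 2) (ZMod p)}
    (h : d.τ x * d.β A = d.τ x' * d.β A') : x = x' ∧ A = A' := by
  have h1 : d.τ (x'⁻¹ * x) * d.β (A * A'⁻¹) = 1 := by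
    rw [map_mul, map_mul, map_inv, map_inv]
    calc (d.τ x')⁻¹ * d.τ x * (d.β A * (d.β A')⁻¹)
        = (d.τ x')⁻¹ * (d.τ x * d.β A) * (d.β A')⁻¹ := by group
      _ = 1 := by rw [h]; group
  have hA : A = A' := mul_inv_eq_one.mp (d.uniq _ _ h1)
  refine ⟨?_, hA⟩
  subst hA
  exact d.inj (mul_right_cancel h)

theorem lin_eq (x : Multiplicative (Fin 2 → ZMod p))
    (A : Matrix.SpecialLinearGroup (Fin 2) (ZMod p)) : lin d (d.τ x * d.β A) = A :=
  ((tau_beta_inj d (eq_tr_lin d (d.τ x * d.β A))).2).symm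

theorem tr_eq (x : Multiplicative (Fin 2 → ZMod p))
    (A : Matrix.SpecialLinearGroup (Fin 2) (ZMod p)) : tr d (d.τ x * d.β A) = x :=
  ((tau_beta_inj d (eq_tr_lin d (d.τ x * d.β A))).1).symm

theorem tau_beta_mul (x x' : Multiplicative (Fin 2 → ZMod p))
    (A A' : Matrix.SpecialLinearGroup (Fin 2) (ZMod p)) :
    (d.τ x * d.β A) * (d.τ x' * d.β A') =
      d.τ (x * Multiplicative.ofAdd (A.1.mulVec (Multiplicative.toAdd x'))) * d.β (A * A') := by
  have h := d.β_mul_τ A (Multiplicative.toAdd x')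
  rw [ofAdd_toAdd] at h
  rw [map_mul, map_mul]
  calc d.τ x * d.β A * (d.τ x' * d.β A') = d.τ x * (d.β A * d.τ x') * d.β A' := by group
    _ = _ := by rw [h]; group

/-- the linear part as a homomorphism -/
noncomputable def linHom : Y →* Matrix.SpecialLinearGroup (Fin 2) (ZMod p) where
  toFun := lin d
  map_one' := by
    have h : (1 : Y) = d.τ 1 * d.β 1 := by rw [map_one, map_one, mul_one]
    rw [h, lin_eq]
  map_mul' y y' := by
    conv_lhs => rw [eq_tr_lin d y, eq_tr_lin d y', tau_beta_mul, lin_eq]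

theorem linHom_apply (y : Y) : linHom d y = lin d y := rfl

theorem linHom_tau (x : Multiplicative (Fin 2 → ZMod p)) : linHom d (d.τ x) = 1 := by
  have h : d.τ x = d.τ x * d.β 1 := by rw [map_one, mul_one]
  rw [linHom_apply, h, lin_eq]

theorem linHom_beta (A : Matrix.SpecialLinearGroup (Fin 2) (ZMod p)) : linHom d (d.β A) = A := by
  have h : d.β A = d.τ 1 * d.β A := by rw [map_one, one_mul]
  rw [linHom_apply, h, lin_eq]

theorem linHom_ker : (linHom d).ker = d.V := by
  ext y
  rw [MonoidHom.mem_ker]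
  constructor
  · intro h
    have h1 := eq_tr_lin d y
    rw [← linHom_apply, h, map_one, mul_one] at h1
    exact ⟨_, h1.symm⟩
  · rintro ⟨x, rfl⟩
    exact linHom_tau d x

/-- conjugation on translations is through the linear part -/
theorem conj_tau (y : Y) (x : Multiplicative (Fin 2 → ZMod p)) :
    y * d.τ x * y⁻¹ =
      d.τ (Multiplicative.ofAdd ((lin d y).1.mulVec (Multiplicative.toAdd x))) := by
  have h := d.conj' (lin d y) x
  conv_lhs => rw [eq_tr_lin d y]
  calc d.τ (tr d y) * d.β (lin d y) * d.τ x * (d.τ (tr d y) * d.β (lin d y))⁻¹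
      = d.τ (tr d y) * (d.β (lin d y) * d.τ x * (d.β (lin d y))⁻¹) * (d.τ (tr d y))⁻¹ := by group
    _ = _ := by
      rw [h, ← map_inv, ← map_mul, ← map_mul, mul_comm, inv_mul_cancel_left]

end Cfsg.Agent.Lib.H14.QdChar
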