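import Mathlib
import Cfsg.Agent.Lib.H14.QdChar1
import Cfsg.Agent.Lib.H1.QdSec

/-!
# Characteristic subgroups of a Sylow `p`-subgroup of `Qd(p)` (helper14), part 2

The subgroups `Usub`, `Bsub` of `SL₂(p)`, the standard Sylow subgroup `S0`, conjugacy.
-/

set_option autoImplicit false

namespace Cfsg.Agent.Lib.H14.QdChar

open Cfsg.Agent.Lib.H15.QdCtl Cfsg.Agent.Lib.H1.QdSec

variable {p : ℕ}

/-- upper unitriangular subgroup of `SL₂(p)` -/
def Usub (p : ℕ) : Subgroup (Matrix.SpecialLinearGroup (Fin 2) (ZMod p)) where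
  carrier := {A | A.1 0 0 = 1 ∧ A.1 1 0 = 0}
  one_mem' := by simp
  mul_mem' := by
    rintro A B ⟨hA0, hA1⟩ ⟨hB0, hB1⟩
    simp only [Set.mem_ofPred_eq] at *
    rw [Matrix.SpecialLinearGroup.coe_mul]
    simp [Matrix.mul_apply, Fin.sum_univ_two, hA0, hA1, hB0, hB1]
  inv_mem' := by
    rintro A ⟨hA0, hA1⟩
    simp only [Set.mem_ofPred_eq] at *
    have hdet := A.det_coe
    rw [Matrix.det_fin_two, hA0, hA1] at hdet
    rw [Matrix.SpecialLinearGroup.coe_inv, Matrix.adjugate_fin_two]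
    simp [hA1]
    linear_combination hdet

theorem mem_Usub {A : Matrix.SpecialLinearGroup (Fin 2) (ZMod p)} :
    A ∈ Usub p ↔ A.1 0 0 = 1 ∧ A.1 1 0 = 0 := Iff.rfl

theorem mem_Usub_iff {A : Matrix.SpecialLinearGroup (Fin 2) (ZMod p)} :
    A ∈ Usub p ↔ ∃ t : ZMod p, A = uu t := by
  constructor
  · rintro ⟨h0, h1⟩
    refine ⟨A.1 0 1, ?_⟩
    have hdet := A.det_coe
    rw [Matrix.det_fin_two, h0, h1] at hdet
    apply Matrix.SpecialLinearGroup.ext
    intro i j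
    fin_cases i <;> fin_cases j <;> simp [uu_coe, h0, h1]
    linear_combination hdet
  · rintro ⟨t, rfl⟩
    simp [mem_Usub, uu_coe]

/-- upper triangular subgroup of `SL₂(p)` -/
def Bsub (p : ℕ) : Subgroup (Matrix.SpecialLinearGroup (Fin 2) (ZMod p)) where
  carrier := {A | A.1 1 0 = 0}
  one_mem' := by simp
  mul_mem' := by
    rintro A B hA hB
    simp only [Set.mem_ofPred_eq] at *
    rw [Matrix.SpecialLinearGroup.coe_mul]
    simp [Matrix.mul_apply, Fin.sum_univ_two, hA, hB]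
  inv_mem' := by
    rintro A hA
    simp only [Set.mem_ofPred_eq] at *
    rw [Matrix.SpecialLinearGroup.coe_inv, Matrix.adjugate_fin_two]
    simp [hA]

theorem mem_Bsub {A : Matrix.SpecialLinearGroup (Fin 2) (ZMod p)} :
    A ∈ Bsub p ↔ A.1 1 0 = 0 := Iff.rfl

theorem Bsub_le_normalizer : Bsub p ≤ Subgroup.normalizer (Usub p : Set _) := by
  apply Cfsg.Agent.Lib.H16.le_normalizer_of_conj_mem
  rintro A hA U ⟨hU0, hU1⟩
  rw [mem_Bsub] at hA
  have hdet := A.det_coe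
  rw [Matrix.det_fin_two, hA] at hdet
  rw [mem_Usub, Matrix.SpecialLinearGroup.coe_mul, Matrix.SpecialLinearGroup.coe_mul,
    Matrix.SpecialLinearGroup.coe_inv, Matrix.adjugate_fin_two]
  constructor
  · simp [Matrix.mul_apply, Fin.sum_univ_two, hA, hU0, hU1]
    linear_combination hdet
  · simp [Matrix.mul_apply, Fin.sum_univ_two, hA, hU1]

theorem isPGroup_Usub [Fact p.Prime] : IsPGroup p (Usub p) := by
  rintro ⟨A, hA⟩
  obtain ⟨t, rfl⟩ := mem_Usub_iff.mp hA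
  refine ⟨1, Subtype.ext ?_⟩
  rw [pow_one, Subgroup.coe_pow, Subgroup.coe_one]
  exact uu_pow_p p t

theorem mem_Usub_of_fix {A : Matrix.SpecialLinearGroup (Fin 2) (ZMod p)}
    (h : A.1.mulVec ![1, 0] = ![1, 0]) : A ∈ Usub p := by
  have h0 := congrFun h 0
  have h1 := congrFun h 1
  simp [Matrix.mulVec, dotProduct, Fin.sum_univ_two] at h0 h1
  exact ⟨h0, h1⟩

theorem exists_sl_col [Fact p.Prime] (x₀ : Fin 2 → ZMod p) (hx₀ : x₀ ≠ 0) :
    ∃ A₀ : Matrix.SpecialLinearGroup (Fin 2) (ZMod p), A₀.1.mulVec ![1, 0] = x₀ := by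
  by_cases h0 : x₀ 0 = 0
  · have h1 : x₀ 1 ≠ 0 := by
      intro h1
      apply hx₀
      funext i
      fin_cases i
      · exact h0
      · exact h1
    refine ⟨⟨!![0, -(x₀ 1)⁻¹; x₀ 1, 0], by simp [Matrix.det_fin_two, h1]⟩, ?_⟩
    funext i
    fin_cases i <;> simp [Matrix.mulVec, dotProduct, Fin.sum_univ_two, h0]
  · refine ⟨⟨!![x₀ 0, 0; x₀ 1, (x₀ 0)⁻¹], by simp [Matrix.det_fin_two, h0]⟩, ?_⟩
    funext i
    fin_cases i <;> simp [Matrix.mulVec, dotProduct, Fin.sum_univ_two]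

variable {Y : Type*} [Group Y] (d : QdData p Y)

/-- the standard Sylow `p`-subgroup -/
noncomputable def S0 : Subgroup Y := (Usub p).comap (linHom d)

/-- the standard Borel subgroup -/
noncomputable def BQ : Subgroup Y := (Bsub p).comap (linHom d)

theorem mem_S0 {y : Y} : y ∈ S0 d ↔ lin d y ∈ Usub p := Iff.rfl

theorem mem_BQ {y : Y} : y ∈ BQ d ↔ lin d y ∈ Bsub p := Iff.rfl

theorem V_le_S0 : d.V ≤ S0 d := by
  rintro _ ⟨x, rfl⟩
  rw [mem_S0, ← linHom_apply, linHom_tau]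
  exact Subgroup.one_mem _

theorem isPGroup_S0 [Fact p.Prime] : IsPGroup p (S0 d) := by
  apply IsPGroup.comap_of_ker_isPGroup isPGroup_Usub
  rw [linHom_ker]
  exact d.isPGroup_V

theorem BQ_le_normalizer_S0 : BQ d ≤ Subgroup.normalizer (S0 d : Set Y) := by
  have h1 : BQ d ≤ (Subgroup.normalizer (Usub p : Set _)).comap (linHom d) :=
    Subgroup.comap_mono Bsub_le_normalizer
  exact h1.trans (Subgroup.le_normalizer_comap _)

theorem V_ne_bot [Fact p.Prime] : d.V ≠ ⊥ := by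
  intro h
  have h1 : d.τ (Multiplicative.ofAdd ![1, 0]) ∈ d.V := ⟨_, rfl⟩
  rw [h, Subgroup.mem_bot] at h1
  have h2 := d.inj (h1.trans (map_one d.τ).symm)
  have h3 := congrFun (Multiplicative.ofAdd.injective (h2.trans ofAdd_zero.symm)) 0
  simp at h3

/-- every `p`-subgroup is conjugate into the standard Sylow subgroup -/
theorem exists_conj_mem_S0 [Finite Y] [hp : Fact p.Prime] (Q : Subgroup Y) (hQ : IsPGroup p Q) :
    ∃ g : Y, ∀ q ∈ Q, g⁻¹ * q * g ∈ S0 d := by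
  have hVn : d.V.Normal := d.V_normal
  have hQ' : IsPGroup p (Q ⊔ d.V : Subgroup Y) := IsPGroup.to_sup_of_normal_right hQ d.isPGroup_V
  obtain ⟨v, hvV, hv1, hvc⟩ := Cfsg.Agent.Lib.H16.exists_ne_one_central_of_le_normalizer hp.out
    (Q ⊔ d.V) d.V hQ' le_sup_right (by rw [Subgroup.normalizer_eq_top]; exact le_top)
    (V_ne_bot d)
  obtain ⟨x₀, rfl⟩ := hvV
  have hx₀ : Multiplicative.toAdd x₀ ≠ 0 := by
    intro h
    apply hv1
    have : x₀ = 1 := h
    rw [this, map_one]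
  obtain ⟨A₀, hA₀⟩ := exists_sl_col _ hx₀
  refine ⟨d.β A₀, fun q hq => ?_⟩
  have hq' : q * d.τ x₀ * q⁻¹ = d.τ x₀ := by
    rw [hvc q (Subgroup.mem_sup_left hq), mul_inv_cancel_right]
  rw [conj_tau] at hq'
  have hfix : (lin d q).1.mulVec (Multiplicative.toAdd x₀) = Multiplicative.toAdd x₀ :=
    Multiplicative.ofAdd.injective ((d.inj hq').trans (ofAdd_toAdd x₀).symm)
  rw [mem_S0, ← linHom_apply, map_mul, map_mul, map_inv, linHom_beta, linHom_apply]
  apply mem_Usub_of_fix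
  rw [Matrix.SpecialLinearGroup.coe_mul, Matrix.SpecialLinearGroup.coe_mul,
    ← Matrix.mulVec_mulVec, hA₀, ← Matrix.mulVec_mulVec, hfix, ← hA₀, Matrix.mulVec_mulVec,
    ← Matrix.SpecialLinearGroup.coe_mul, inv_mul_cancel, Matrix.SpecialLinearGroup.coe_one,
    Matrix.one_mulVec]

end Cfsg.Agent.Lib.H14.QdChar
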