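import Mathlib
import Cfsg.Agent.Lib.H14.QdChar2

/-!
# Characteristic subgroups of a Sylow `p`-subgroup of `Qd(p)` (helper14), part 3

Sylow subgroups are conjugates of `S0`; Heisenberg coordinates on `S0`; the swap automorphism.
-/

set_option autoImplicit false

namespace Cfsg.Agent.Lib.H14.QdChar

open Cfsg.Agent.Lib.H15.QdCtl Cfsg.Agent.Lib.H1.QdSec

variable {p : ℕ} {Y : Type*} [Group Y] (d : QdData p Y)

theorem sylow_eq_map_S0 [Finite Y] [Fact p.Prime] (S : Sylow p Y) :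
    ∃ g : Y, (S : Subgroup Y) = (S0 d).map (MulAut.conj g).toMonoidHom := by
  obtain ⟨g, hg⟩ := exists_conj_mem_S0 d (S : Subgroup Y) S.isPGroup'
  refine ⟨g, ?_⟩
  have hle : (S : Subgroup Y) ≤ (S0 d).map (MulAut.conj g).toMonoidHom := by
    intro q hq
    refine ⟨g⁻¹ * q * g, hg q hq, ?_⟩
    simp only [MulEquiv.coe_toMonoidHom, MulAut.conj_apply]
    group
  have hP : IsPGroup p ((S0 d).map (MulAut.conj g).toMonoidHom) := (isPGroup_S0 d).map _
  exact (S.is_maximal' hP hle).symm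

theorem lin_ofEquiv {Y' : Type*} [Group Y'] (e : Y ≃* Y') (y : Y) :
    lin (d.ofEquiv e) (e y) = lin d y := by
  conv_lhs => rw [eq_tr_lin d y, map_mul]
  exact lin_eq (d.ofEquiv e) _ _

theorem S0_ofEquiv {Y' : Type*} [Group Y'] (e : Y ≃* Y') :
    S0 (d.ofEquiv e) = (S0 d).map e.toMonoidHom := by
  ext y
  constructor
  · intro hy
    refine ⟨e.symm y, ?_, by simp⟩
    rw [mem_S0] at hy
    rw [SetLike.mem_coe, mem_S0, ← lin_ofEquiv d e, MulEquiv.apply_symm_apply]
    exact hy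
  · rintro ⟨y₀, hy₀, rfl⟩
    rw [SetLike.mem_coe, mem_S0] at hy₀
    rw [mem_S0, MulEquiv.coe_toMonoidHom, lin_ofEquiv]
    exact hy₀

/-- every Sylow `p`-subgroup is the standard one for a suitable structure -/
theorem exists_data_of_sylow [Finite Y] [Fact p.Prime] (d : QdData p Y) (S : Sylow p Y) :
    ∃ d' : QdData p Y, (S : Subgroup Y) = S0 d' := by
  obtain ⟨g, hg⟩ := sylow_eq_map_S0 d S
  exact ⟨d.ofEquiv (MulAut.conj g), by rw [S0_ofEquiv]; exact hg⟩

/-- Heisenberg coordinates -/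
def hh (a b c : ZMod p) : Y := d.τ (Multiplicative.ofAdd ![c, b]) * d.β (uu a)

theorem hh_mul (a b c a' b' c' : ZMod p) :
    hh d a b c * hh d a' b' c' = hh d (a + a') (b + b') (c + c' + a * b') := by
  unfold hh
  rw [tau_beta_mul, toAdd_ofAdd, uu_mulVec, ← ofAdd_add, ← uu_add]
  congr 3
  funext i
  fin_cases i <;> simp [add_assoc]

theorem lin_hh (a b c : ZMod p) : lin d (hh d a b c) = uu a := lin_eq d _ _

theorem tr_hh (a b c : ZMod p) : tr d (hh d a b c) = Multiplicative.ofAdd ![c, b] := tr_eq d _ _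

theorem hh_inj {a b c a' b' c' : ZMod p} (h : hh d a b c = hh d a' b' c') :
    a = a' ∧ b = b' ∧ c = c' := by
  obtain ⟨h1, h2⟩ := tau_beta_inj d h
  have h3 := Multiplicative.ofAdd.injective h1
  refine ⟨?_, ?_, ?_⟩
  · have := congrArg (fun A : Matrix.SpecialLinearGroup (Fin 2) (ZMod p) => A.1 0 1) h2
    simpa [uu_coe] using this
  · simpa using congrFun h3 1
  · simpa using congrFun h3 0

theorem mem_S0_iff_hh {y : Y} : y ∈ S0 d ↔ ∃ a b c, y = hh d a b c := by
  constructor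
  · intro hy
    rw [mem_S0, mem_Usub_iff] at hy
    obtain ⟨t, ht⟩ := hy
    refine ⟨t, Multiplicative.toAdd (tr d y) 1, Multiplicative.toAdd (tr d y) 0, ?_⟩
    have h := eq_tr_lin d y
    rw [ht] at h
    have h2 : (![Multiplicative.toAdd (tr d y) 0, Multiplicative.toAdd (tr d y) 1] :
        Fin 2 → ZMod p) = Multiplicative.toAdd (tr d y) := by
      funext i
      fin_cases i <;> rfl
    unfold hh
    rw [h2, ofAdd_toAdd]
    exact h
  · rintro ⟨a, b, c, rfl⟩
    rw [mem_S0, lin_hh, mem_Usub_iff]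
    exact ⟨a, rfl⟩

theorem hh_zero : hh d 0 0 0 = 1 := by
  unfold hh
  have h0 : (![0, 0] : Fin 2 → ZMod p) = 0 := by
    funext i; fin_cases i <;> rfl
  rw [h0, ofAdd_zero, map_one, uu_zero, map_one, mul_one]

theorem mem_V_iff_hh {y : Y} : y ∈ d.V ↔ ∃ b c, y = hh d 0 b c := by
  constructor
  · rintro ⟨x, rfl⟩
    refine ⟨Multiplicative.toAdd x 1, Multiplicative.toAdd x 0, ?_⟩
    have h2 : (![Multiplicative.toAdd x 0, Multiplicative.toAdd x 1] :
        Fin 2 → ZMod p) = Multiplicative.toAdd x := by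
      funext i
      fin_cases i <;> rfl
    unfold hh
    rw [h2, ofAdd_toAdd, uu_zero, map_one, mul_one]
  · rintro ⟨b, c, rfl⟩
    unfold hh
    rw [uu_zero, map_one, mul_one]
    exact ⟨_, rfl⟩

/-- the swap map -/
noncomputable def rho (y : Y) : Y :=
  hh d (Multiplicative.toAdd (tr d y) 1) ((lin d y).1 0 1)
    ((lin d y).1 0 1 * Multiplicative.toAdd (tr d y) 1 - Multiplicative.toAdd (tr d y) 0)

theorem rho_hh (a b c : ZMod p) : rho d (hh d a b c) = hh d b a (a * b - c) := by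
  unfold rho
  rw [lin_hh, tr_hh]
  simp [uu_coe]

theorem rho_mem (y : Y) : rho d y ∈ S0 d := (mem_S0_iff_hh d).mpr ⟨_, _, _, rfl⟩

/-- the swap automorphism of the standard Sylow subgroup -/
noncomputable def rhoEquiv : ↥(S0 d) ≃* ↥(S0 d) where
  toFun y := ⟨rho d y, rho_mem d y⟩
  invFun y := ⟨rho d y, rho_mem d y⟩
  left_inv y := by
    obtain ⟨a, b, c, h⟩ := (mem_S0_iff_hh d).mp y.2
    apply Subtype.ext
    show rho d (rho d y) = y
    rw [h, rho_hh, rho_hh]
    congr 1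
    ring
  right_inv y := by
    obtain ⟨a, b, c, h⟩ := (mem_S0_iff_hh d).mp y.2
    apply Subtype.ext
    show rho d (rho d y) = y
    rw [h, rho_hh, rho_hh]
    congr 1
    ring
  map_mul' y y' := by
    obtain ⟨a, b, c, h⟩ := (mem_S0_iff_hh d).mp y.2
    obtain ⟨a', b', c', h'⟩ := (mem_S0_iff_hh d).mp y'.2
    apply Subtype.ext
    show rho d ((y : Y) * (y' : Y)) = rho d y * rho d y'
    rw [h, h', hh_mul, rho_hh, rho_hh, rho_hh, hh_mul]
    congr 1
    ring

theorem rhoEquiv_coe (y : ↥(S0 d)) : ((rhoEquiv d y : ↥(S0 d)) : Y) = rho d y := rfl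

end Cfsg.Agent.Lib.H14.QdChar
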