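import Mathlib
import Cfsg.Agent.Lib.H14.QdChar3
import Cfsg.Agent.Lib.H1.QdStable

/-!
# Characteristic subgroups of a Sylow `p`-subgroup of `Qd(p)` (helper14), part 4

Main theorem: the normalizer of a nontrivial characteristic subgroup of a Sylow `p`-subgroup `S`
of `Qd(p)` is `N(S)`, a proper subgroup.
-/

set_option autoImplicit false

namespace Cfsg.Agent.Lib.H14.QdChar

open Cfsg.Agent.Lib.H15.QdCtl Cfsg.Agent.Lib.H1.QdSec

variable {p : ℕ} {Y : Type*} [Group Y] (d : QdData p Y)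

theorem hh00_pow (c : ZMod p) (n : ℕ) : hh d 0 0 c ^ n = hh d 0 0 (n * c) := by
  induction n with
  | zero => rw [pow_zero, Nat.cast_zero, zero_mul, hh_zero]
  | succ n ih =>
    rw [pow_succ, ih, hh_mul]
    congr 1
    · simp
    · simp
    · push_cast; ring

theorem hh0b0_pow (b : ZMod p) (n : ℕ) : hh d 0 b 0 ^ n = hh d 0 (n * b) 0 := by
  induction n with
  | zero => rw [pow_zero, Nat.cast_zero, zero_mul, hh_zero]
  | succ n ih =>
    rw [pow_succ, ih, hh_mul]
    congr 1
    · simp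
    · push_cast; ring
    · simp

theorem hha00_pow (a : ZMod p) (n : ℕ) : hh d a 0 0 ^ n = hh d (n * a) 0 0 := by
  induction n with
  | zero => rw [pow_zero, Nat.cast_zero, zero_mul, hh_zero]
  | succ n ih =>
    rw [pow_succ, ih, hh_mul]
    congr 1
    · push_cast; ring
    · simp
    · simp

theorem exists_nat_mul [hp : Fact p.Prime] {c : ZMod p} (hc : c ≠ 0) (c' : ZMod p) :
    ∃ n : ℕ, (n : ZMod p) * c = c' := by
  refine ⟨(c' * c⁻¹).val, ?_⟩
  rw [ZMod.natCast_zmod_val, mul_assoc, inv_mul_cancel₀ hc, mul_one]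

theorem normalizer_S0_ne_top [hp : Fact p.Prime] : Subgroup.normalizer (S0 d : Set Y) ≠ ⊤ := by
  intro h
  have h1 : d.β ww ∈ Subgroup.normalizer (S0 d : Set Y) := h ▸ Subgroup.mem_top _
  have h2 : d.β (uu 1) ∈ S0 d := by
    rw [mem_S0, ← linHom_apply, linHom_beta, mem_Usub_iff]
    exact ⟨1, rfl⟩
  have h3 := (Subgroup.mem_normalizer_iff.mp h1 _).mp h2
  rw [mem_S0, ← linHom_apply, map_mul, map_mul, map_inv, linHom_beta, linHom_beta,
    Cfsg.Agent.Lib.H1.QdStable.ww_conj_uu, mem_Usub] at h3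
  have h4 := h3.2
  simp [ll_coe] at h4

theorem main_S0 [Finite Y] [hp : Fact p.Prime] (P : Subgroup Y) (hP : P = S0 d)
    (T : Subgroup ↥P) (hT : T ≠ ⊥) (hTc : T.Characteristic) :
    Subgroup.normalizer ((T.map P.subtype : Subgroup Y) : Set Y) =
        Subgroup.normalizer (P : Set Y) ∧
      Subgroup.normalizer (P : Set Y) ≠ ⊤ := by
  subst hP
  refine ⟨?_, normalizer_S0_ne_top d⟩
  have hVn : d.V.Normal := d.V_normal
  have hT'le : T.map (S0 d).subtype ≤ S0 d := Subgroup.map_subtype_le T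
  have hT'ne : T.map (S0 d).subtype ≠ ⊥ := by
    intro h
    exact hT ((Subgroup.map_eq_bot_iff_of_injective _ (S0 d).subtype_injective).mp h)
  have hNS : Subgroup.normalizer (S0 d : Set Y) ≤
      Subgroup.normalizer ((T.map (S0 d).subtype : Subgroup Y) : Set Y) :=
    Cfsg.Agent.Lib.H1.normalizer_le_normalizer_map_of_characteristic T
  -- a central element
  obtain ⟨x, hxT, hx1, hxc⟩ := Cfsg.Agent.Lib.H16.exists_ne_one_central_of_le_normalizer hp.out
    (S0 d) (T.map (S0 d).subtype) (isPGroup_S0 d) hT'le (Subgroup.le_normalizer.trans hNS) hT'ne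
  obtain ⟨a, b, c, rfl⟩ := (mem_S0_iff_hh d).mp (hT'le hxT)
  have ha : a = 0 := by
    have h1 := hxc (hh d 0 1 0) ((mem_S0_iff_hh d).mpr ⟨_, _, _, rfl⟩)
    rw [hh_mul, hh_mul] at h1
    have h2 := (hh_inj d h1).2.2
    have h3 : a = (c + 0 + a * 1) - (0 + c + 0 * b) := by ring
    rw [h3, ← h2]; ring
  have hb : b = 0 := by
    have h1 := hxc (hh d 1 0 0) ((mem_S0_iff_hh d).mpr ⟨_, _, _, rfl⟩)
    rw [hh_mul, hh_mul] at h1
    have h2 := (hh_inj d h1).2.2
    have h3 : b = (0 + c + 1 * b) - (c + 0 + a * 0) := by ring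
    rw [h3, h2]; ring
  subst ha hb
  have hc : c ≠ 0 := by
    intro h
    apply hx1
    rw [h, hh_zero]
  -- the centre lies in `T`
  have hZ : ∀ c' : ZMod p, hh d 0 0 c' ∈ T.map (S0 d).subtype := by
    intro c'
    obtain ⟨n, hn⟩ := exists_nat_mul hc c'
    rw [← hn, ← hh00_pow]
    exact Subgroup.pow_mem _ hxT n
  by_cases hW : ∃ b c, b ≠ 0 ∧ hh d 0 b c ∈ T.map (S0 d).subtype
  · -- `T` contains the translations, hence (swap) everything
    obtain ⟨b, c₁, hb, hbc⟩ := hW
    have h1 : hh d 0 b 0 ∈ T.map (S0 d).subtype := by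
      have := Subgroup.mul_mem _ hbc (hZ (-c₁))
      rw [hh_mul] at this
      have e : hh d (0 + 0) (b + 0) (c₁ + -c₁ + 0 * 0) = hh d 0 b 0 := by
        congr 1 <;> ring
      rwa [e] at this
    have h2 : ∀ b' : ZMod p, hh d 0 b' 0 ∈ T.map (S0 d).subtype := by
      intro b'
      obtain ⟨n, hn⟩ := exists_nat_mul hb b'
      rw [← hn, ← hh0b0_pow]
      exact Subgroup.pow_mem _ h1 n
    have h3 : ∀ b' c' : ZMod p, hh d 0 b' c' ∈ T.map (S0 d).subtype := by
      intro b' c'
      have := Subgroup.mul_mem _ (h2 b') (hZ c')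
      rw [hh_mul] at this
      have e : hh d (0 + 0) (b' + 0) (0 + c' + 0 * 0) = hh d 0 b' c' := by
        congr 1 <;> ring
      rwa [e] at this
    -- swap
    have h4 : hh d 1 0 0 ∈ T.map (S0 d).subtype := by
      obtain ⟨t, ht, hte⟩ := h2 1
      have h5 : T.map (rhoEquiv d).toMonoidHom = T :=
        Subgroup.characteristic_iff_map_eq.mp hTc _
      have h6 : rhoEquiv d t ∈ T := by
        rw [← h5]
        exact ⟨t, ht, rfl⟩
      refine ⟨rhoEquiv d t, h6, ?_⟩
      rw [Subgroup.coe_subtype, rhoEquiv_coe]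
      rw [Subgroup.coe_subtype] at hte
      rw [hte, rho_hh]
      congr 1
      ring
    have h5 : ∀ a' : ZMod p, hh d a' 0 0 ∈ T.map (S0 d).subtype := by
      intro a'
      obtain ⟨n, hn⟩ := exists_nat_mul (one_ne_zero : (1 : ZMod p) ≠ 0) a'
      rw [← hn, ← hha00_pow]
      exact Subgroup.pow_mem _ h4 n
    have h6 : T.map (S0 d).subtype = S0 d := by
      apply le_antisymm hT'le
      intro y hy
      obtain ⟨a', b', c', rfl⟩ := (mem_S0_iff_hh d).mp hy
      have := Subgroup.mul_mem _ (h3 b' c') (h5 a')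
      rw [hh_mul] at this
      have e : hh d (0 + a') (b' + 0) (c' + 0 + 0 * 0) = hh d a' b' c' := by
        congr 1 <;> ring
      rwa [e] at this
    rw [h6]
  · -- `T ∩ V` is the centre
    apply le_antisymm _ hNS
    refine le_trans ?_ (BQ_le_normalizer_S0 d)
    intro g hg
    have h1 : hh d 0 0 1 ∈ T.map (S0 d).subtype := hZ 1
    have h2 := (Subgroup.mem_normalizer_iff.mp hg _).mp h1
    have h3 : hh d 0 0 1 = d.τ (Multiplicative.ofAdd ![1, 0]) := by
      unfold hh
      rw [uu_zero, map_one, mul_one]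
    rw [h3, conj_tau, toAdd_ofAdd] at h2
    have h4 : d.τ (Multiplicative.ofAdd ((lin d g).1.mulVec ![1, 0])) =
        hh d 0 ((lin d g).1 1 0) ((lin d g).1 0 0) := by
      unfold hh
      rw [uu_zero, map_one, mul_one]
      congr 2
      funext i
      fin_cases i <;> simp [Matrix.mulVec, dotProduct, Fin.sum_univ_two]
    rw [h4] at h2
    rw [mem_BQ, mem_Bsub]
    by_contra hne
    exact hW ⟨_, _, hne, h2⟩

/-- **Main theorem** for an arbitrary Sylow `p`-subgroup of a group with `Qd(p)`-structure. -/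
theorem main [Finite Y] [hp : Fact p.Prime] (d : QdData p Y) (S : Sylow p Y)
    (T : Subgroup ↥(S : Subgroup Y)) (hT : T ≠ ⊥) (hTc : T.Characteristic) :
    Subgroup.normalizer ((T.map (S : Subgroup Y).subtype : Subgroup Y) : Set Y) =
        Subgroup.normalizer ((S : Subgroup Y) : Set Y) ∧
      Subgroup.normalizer ((S : Subgroup Y) : Set Y) ≠ ⊤ := by
  obtain ⟨d', hd'⟩ := exists_data_of_sylow d S
  exact main_S0 d' (S : Subgroup Y) hd' T hT hTc

end Cfsg.Agent.Lib.H14.QdChar
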