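import Mathlib
import Cfsg.Agent.Lib.H1.QdRecog
import Cfsg.Agent.Lib.H1.PCore
import Cfsg.Agent.Lib.H14.Qd
import Cfsg.Agent.Lib.H16.PGroupCenter
import Cfsg.Prelude.Def_LocalEven

/-!
# Structure of `Qd` over a finite field (helper14)

`tauF`, `betaF` (translations / linear part in `qdOver F`), `VF = range tauF` is the `p`-core,
`KF = range betaF` a complement isomorphic to `SL₂(F)` acting naturally.
-/

set_option autoImplicit false

namespace Cfsg.Agent.Lib.H14.QdOverF

open Cfsg Cfsg.Agent.Lib.H1.QdRecog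

variable {F : Type*} [Field F]

theorem transl_mem (x : Fin 2 → F) : transl x ∈ qdOver F := by
  rw [Cfsg.Agent.Lib.H14.mem_qdOver_iff]
  refine ⟨?_, ?_, ?_⟩ <;> simp [transl]

theorem blk_mem (A : Matrix.SpecialLinearGroup (Fin 2) F) : blk A ∈ qdOver F := by
  rw [Cfsg.Agent.Lib.H14.mem_qdOver_iff]
  refine ⟨?_, ?_, ?_⟩ <;> simp [blk]

/-- translations in `Qd(F)` -/
def tauF (F : Type*) [Field F] : Multiplicative (Fin 2 → F) →* ↥(qdOver F) :=
  (translHom F).codRestrict (qdOver F) (fun _ => transl_mem _)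

/-- the linear part in `Qd(F)` -/
def betaF (F : Type*) [Field F] : Matrix.SpecialLinearGroup (Fin 2) F →* ↥(qdOver F) :=
  (blkHom F).codRestrict (qdOver F) (fun A => blk_mem A)

theorem tauF_coe (x : Multiplicative (Fin 2 → F)) :
    ((tauF F x : ↥(qdOver F)) : Matrix.SpecialLinearGroup (Fin 3) F) =
      transl (Multiplicative.toAdd x) := rfl

theorem betaF_coe (A : Matrix.SpecialLinearGroup (Fin 2) F) :
    ((betaF F A : ↥(qdOver F)) : Matrix.SpecialLinearGroup (Fin 3) F) = blk A := rfl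

theorem betaF_mul_tauF (A : Matrix.SpecialLinearGroup (Fin 2) F) (x : Multiplicative (Fin 2 → F)) :
    betaF F A * tauF F x =
      tauF F (Multiplicative.ofAdd (A.1.mulVec (Multiplicative.toAdd x))) * betaF F A := by
  apply Subtype.ext
  simp only [Subgroup.coe_mul, tauF_coe, betaF_coe]
  exact blk_mul_transl A _

theorem betaF_conj_tauF (A : Matrix.SpecialLinearGroup (Fin 2) F) (x : Multiplicative (Fin 2 → F)) :
    betaF F A * tauF F x * (betaF F A)⁻¹ =
      tauF F (Multiplicative.ofAdd (A.1.mulVec (Multiplicative.toAdd x))) := by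
  rw [betaF_mul_tauF, mul_inv_cancel_right]

theorem tauF_injective : Function.Injective (tauF F) := by
  intro x y h
  have h1 := congrArg (fun q : ↥(qdOver F) => (q : Matrix.SpecialLinearGroup (Fin 3) F).1) h
  simp only [tauF_coe] at h1
  have e0 := congrFun (congrFun h1 0) 2
  have e1 := congrFun (congrFun h1 1) 2
  simp [transl] at e0 e1
  have : Multiplicative.toAdd x = Multiplicative.toAdd y := by
    funext i; fin_cases i
    · exact e0
    · exact e1
  exact this

theorem betaF_injective : Function.Injective (betaF F) := by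
  intro A B h
  have h1 := congrArg (fun q : ↥(qdOver F) => (q : Matrix.SpecialLinearGroup (Fin 3) F).1) h
  simp only [betaF_coe] at h1
  have e00 := congrFun (congrFun h1 0) 0
  have e01 := congrFun (congrFun h1 0) 1
  have e10 := congrFun (congrFun h1 1) 0
  have e11 := congrFun (congrFun h1 1) 1
  simp [blk] at e00 e01 e10 e11
  apply Matrix.SpecialLinearGroup.ext
  intro i j
  fin_cases i <;> fin_cases j <;> assumption

theorem surjF (y : ↥(qdOver F)) : ∃ (x : Multiplicative (Fin 2 → F))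
    (A : Matrix.SpecialLinearGroup (Fin 2) F), y = tauF F x * betaF F A := by
  obtain ⟨h0, h1, h2⟩ := (Cfsg.Agent.Lib.H14.mem_qdOver_iff y.1).mp y.2
  obtain ⟨x, A, hxA⟩ := exists_transl_blk y.1 h0 h1 h2
  refine ⟨Multiplicative.ofAdd x, A, Subtype.ext ?_⟩
  rw [Subgroup.coe_mul, tauF_coe, betaF_coe, toAdd_ofAdd]
  exact hxA

/-- the translation subgroup -/
abbrev VF (F : Type*) [Field F] : Subgroup ↥(qdOver F) := (tauF F).range

/-- the linear complement -/
abbrev KF (F : Type*) [Field F] : Subgroup ↥(qdOver F) := (betaF F).range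

theorem VF_normal : (VF F).Normal := by
  refine ⟨fun n hn g => ?_⟩
  obtain ⟨x, rfl⟩ := hn
  obtain ⟨y, A, rfl⟩ := surjF g
  have h1 : tauF F y * betaF F A * tauF F x * (tauF F y * betaF F A)⁻¹ =
      tauF F y * (betaF F A * tauF F x * (betaF F A)⁻¹) * (tauF F y)⁻¹ := by group
  rw [h1, betaF_conj_tauF, ← map_inv, ← map_mul, ← map_mul]
  exact ⟨_, rfl⟩

theorem mem_VF_iff (M : ↥(qdOver F)) : M ∈ VF F ↔
    ((M : Matrix.SpecialLinearGroup (Fin 3) F) : Matrix (Fin 3) (Fin 3) F) 0 0 = 1 ∧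
    ((M : Matrix.SpecialLinearGroup (Fin 3) F) : Matrix (Fin 3) (Fin 3) F) 0 1 = 0 ∧
    ((M : Matrix.SpecialLinearGroup (Fin 3) F) : Matrix (Fin 3) (Fin 3) F) 1 0 = 0 ∧
    ((M : Matrix.SpecialLinearGroup (Fin 3) F) : Matrix (Fin 3) (Fin 3) F) 1 1 = 1 := by
  constructor
  · rintro ⟨x, rfl⟩
    rw [tauF_coe]
    simp [transl]
  · rintro ⟨h00, h01, h10, h11⟩
    obtain ⟨h20, h21, h22⟩ := (Cfsg.Agent.Lib.H14.mem_qdOver_iff M.1).mp M.2
    refine ⟨Multiplicative.ofAdd ![M.1.1 0 2, M.1.1 1 2], Subtype.ext ?_⟩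
    rw [tauF_coe, toAdd_ofAdd]
    apply Matrix.SpecialLinearGroup.ext
    intro i j
    fin_cases i <;> fin_cases j <;> simp [transl, h00, h01, h10, h11, h20, h21, h22]

theorem mem_KF_iff (M : ↥(qdOver F)) : M ∈ KF F ↔
    ((M : Matrix.SpecialLinearGroup (Fin 3) F) : Matrix (Fin 3) (Fin 3) F) 0 2 = 0 ∧
    ((M : Matrix.SpecialLinearGroup (Fin 3) F) : Matrix (Fin 3) (Fin 3) F) 1 2 = 0 := by
  constructor
  · rintro ⟨A, rfl⟩
    rw [betaF_coe]
    simp [blk]
  · rintro ⟨h02, h12⟩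
    obtain ⟨x, A, hxA⟩ := surjF M
    have h1 := congrArg (fun q : ↥(qdOver F) => (q : Matrix.SpecialLinearGroup (Fin 3) F).1) hxA
    simp only [Subgroup.coe_mul, tauF_coe, betaF_coe, Matrix.SpecialLinearGroup.coe_mul] at h1
    have e0 := congrFun (congrFun h1 0) 2
    have e1 := congrFun (congrFun h1 1) 2
    simp [transl, blk, Matrix.mul_apply, Fin.sum_univ_three] at e0 e1
    have hx : x = 1 := by
      show Multiplicative.ofAdd (Multiplicative.toAdd x) = Multiplicative.ofAdd 0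
      congr 1
      funext i
      fin_cases i
      · exact e0.symm.trans h02
      · exact e1.symm.trans h12
    rw [hx, map_one, one_mul] at hxA
    exact ⟨A, hxA.symm⟩

theorem KF_inf_VF : KF F ⊓ VF F = ⊥ := by
  rw [eq_bot_iff]
  intro M hM
  obtain ⟨hK, hV⟩ := Subgroup.mem_inf.mp hM
  obtain ⟨h02, h12⟩ := (mem_KF_iff M).mp hK
  obtain ⟨h00, h01, h10, h11⟩ := (mem_VF_iff M).mp hV
  obtain ⟨h20, h21, h22⟩ := (Cfsg.Agent.Lib.H14.mem_qdOver_iff M.1).mp M.2
  rw [Subgroup.mem_bot]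
  apply Subtype.ext
  apply Matrix.SpecialLinearGroup.ext
  intro i j
  fin_cases i <;> fin_cases j <;> simp [h00, h01, h10, h11, h20, h21, h22, h02, h12]

theorem KF_sup_VF : KF F ⊔ VF F = ⊤ := by
  rw [eq_top_iff]
  intro M _
  obtain ⟨x, A, rfl⟩ := surjF M
  exact Subgroup.mul_mem _ (Subgroup.mem_sup_right ⟨x, rfl⟩) (Subgroup.mem_sup_left ⟨A, rfl⟩)

theorem eq_one_of_mulVec (A : Matrix.SpecialLinearGroup (Fin 2) F)
    (h : ∀ x : Fin 2 → F, A.1.mulVec x = x) : A = 1 := by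
  apply Matrix.SpecialLinearGroup.ext
  intro i j
  have h0 := h ![1, 0]
  have h1 := h ![0, 1]
  have e00 := congrFun h0 0
  have e10 := congrFun h0 1
  have e01 := congrFun h1 0
  have e11 := congrFun h1 1
  simp [Matrix.mulVec, dotProduct, Fin.sum_univ_two] at e00 e10 e01 e11
  fin_cases i <;> fin_cases j <;> simp [e00, e10, e01, e11]

theorem centralizer_VF_le : Subgroup.centralizer (VF F : Set ↥(qdOver F)) ≤ VF F := by
  intro y hy
  obtain ⟨x, A, rfl⟩ := surjF y
  have hτ : ∀ v : Multiplicative (Fin 2 → F),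
      tauF F v ∈ Subgroup.centralizer (VF F : Set ↥(qdOver F)) := by
    intro v
    rw [Subgroup.mem_centralizer_iff]
    rintro _ ⟨w, rfl⟩
    rw [← map_mul, ← map_mul, mul_comm]
  have hβ : betaF F A ∈ Subgroup.centralizer (VF F : Set ↥(qdOver F)) := by
    have := Subgroup.mul_mem _ (Subgroup.inv_mem _ (hτ x)) hy
    rwa [inv_mul_cancel_left] at this
  have hA : A = 1 := by
    apply eq_one_of_mulVec
    intro v
    rw [Subgroup.mem_centralizer_iff] at hβ
    have h1 := hβ (tauF F (Multiplicative.ofAdd v)) ⟨_, rfl⟩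
    have h2 : betaF F A * tauF F (Multiplicative.ofAdd v) * (betaF F A)⁻¹ =
        tauF F (Multiplicative.ofAdd v) := by
      rw [← h1, mul_inv_cancel_right]
    rw [betaF_conj_tauF] at h2
    exact Multiplicative.ofAdd.injective (tauF_injective h2)
  rw [hA, map_one, mul_one]
  exact ⟨x, rfl⟩

theorem isPGroup_VF {p : ℕ} [Fact p.Prime] [CharP F p] : IsPGroup p (VF F) := by
  rintro ⟨_, x, rfl⟩
  refine ⟨1, Subtype.ext ?_⟩
  simp only [pow_one, Subgroup.coe_pow, Subgroup.coe_one]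
  rw [← map_pow]
  have : x ^ p = 1 := by
    show Multiplicative.ofAdd (p • Multiplicative.toAdd x) = 1
    have h0 : p • Multiplicative.toAdd x = 0 := by
      funext i
      simp
    rw [h0]; rfl
  rw [this, map_one]

theorem exists_sl_col (x₀ : Fin 2 → F) (hx₀ : x₀ ≠ 0) :
    ∃ A₀ : Matrix.SpecialLinearGroup (Fin 2) F, A₀.1.mulVec ![1, 0] = x₀ := by
  by_cases h0 : x₀ 0 = 0
  · have h1 : x₀ 1 ≠ 0 := by
      intro h1
      apply hx₀
      funext i
      fin_cases i
      · exact h0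
      · exact h1
    refine ⟨⟨!![0, -(x₀ 1)⁻¹; x₀ 1, 0], by simp [Matrix.det_fin_two, h1]⟩, ?_⟩
    funext i
    fin_cases i <;> simp [Matrix.mulVec, dotProduct, Fin.sum_univ_two, h0]
  · refine ⟨⟨!![x₀ 0, 0; x₀ 1, (x₀ 0)⁻¹], by simp [Matrix.det_fin_two, h0]⟩, ?_⟩
    funext i
    fin_cases i <;> simp [Matrix.mulVec, dotProduct, Fin.sum_univ_two]

theorem VF_ne_bot : VF F ≠ ⊥ := by
  intro h
  have h1 : tauF F (Multiplicative.ofAdd ![1, 0]) ∈ VF F := ⟨_, rfl⟩
  rw [h, Subgroup.mem_bot] at h1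
  have h2 := tauF_injective (h1.trans (map_one (tauF F)).symm)
  have h3 := congrFun (Multiplicative.ofAdd.injective (h2.trans ofAdd_zero.symm)) 0
  simp at h3

/-- the `p`-core of `Qd(F)` is the translation subgroup -/
theorem pCore_eq_VF [Fintype F] {p : ℕ} [hp : Fact p.Prime] [CharP F p] :
    Cfsg.pCore p ↥(qdOver F) = VF F := by
  have hVn : (VF F).Normal := VF_normal
  apply le_antisymm _ (Cfsg.Agent.Lib.H1.le_pCore hVn isPGroup_VF)
  have hNn : (Cfsg.pCore p ↥(qdOver F)).Normal := Cfsg.Agent.Lib.H1.pCore_normal p _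
  have hQ : IsPGroup p (Cfsg.pCore p ↥(qdOver F) ⊔ VF F : Subgroup ↥(qdOver F)) :=
    IsPGroup.to_sup_of_normal_right (Cfsg.Agent.Lib.H1.pCore_isPGroup p _) isPGroup_VF
  have hQn : (Cfsg.pCore p ↥(qdOver F) ⊔ VF F : Subgroup ↥(qdOver F)).Normal :=
    Subgroup.sup_normal _ _
  obtain ⟨v, hvV, hv1, hvc⟩ := Cfsg.Agent.Lib.H16.exists_ne_one_central_of_le_normalizer hp.out
    (Cfsg.pCore p ↥(qdOver F) ⊔ VF F) (VF F) hQ le_sup_right
    (by rw [Subgroup.normalizer_eq_top]; exact le_top) VF_ne_bot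
  obtain ⟨x₀, rfl⟩ := hvV
  have hx₀ : Multiplicative.toAdd x₀ ≠ 0 := by
    intro h
    apply hv1
    have : x₀ = 1 := h
    rw [this, map_one]
  obtain ⟨A₀, hA₀⟩ := exists_sl_col _ hx₀
  -- all of `V` is centralized
  have hall : ∀ x : Multiplicative (Fin 2 → F), ∀ g ∈ (Cfsg.pCore p ↥(qdOver F) ⊔ VF F :
      Subgroup ↥(qdOver F)), g * tauF F x = tauF F x * g := by
    intro x g hg
    by_cases hx : Multiplicative.toAdd x = 0
    · have : x = 1 := hx
      rw [this, map_one, mul_one, one_mul]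
    · obtain ⟨A, hA⟩ := exists_sl_col _ hx
      have hvec : (A * A₀⁻¹).1.mulVec (Multiplicative.toAdd x₀) = Multiplicative.toAdd x := by
        rw [← hA₀, Matrix.mulVec_mulVec, ← Matrix.SpecialLinearGroup.coe_mul,
          inv_mul_cancel_right, hA]
      have h1 : tauF F x = betaF F (A * A₀⁻¹) * tauF F x₀ * (betaF F (A * A₀⁻¹))⁻¹ := by
        rw [betaF_conj_tauF, hvec, ofAdd_toAdd]
      have h2 := hvc ((betaF F (A * A₀⁻¹))⁻¹ * g * (betaF F (A * A₀⁻¹)))
        (by
          have := hQn.conj_mem g hg (betaF F (A * A₀⁻¹))⁻¹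
          rwa [inv_inv] at this)
      rw [h1]
      set b := betaF F (A * A₀⁻¹)
      set w := tauF F x₀
      calc g * (b * w * b⁻¹) = b * ((b⁻¹ * g * b) * w) * b⁻¹ := by group
        _ = b * (w * (b⁻¹ * g * b)) * b⁻¹ := by rw [h2]
        _ = b * w * b⁻¹ * g := by group
  refine le_trans (le_sup_left : _ ≤ Cfsg.pCore p ↥(qdOver F) ⊔ VF F)
    (le_trans ?_ centralizer_VF_le)
  intro g hg
  rw [Subgroup.mem_centralizer_iff]
  rintro _ ⟨x, rfl⟩
  exact (hall x g hg).symm

end Cfsg.Agent.Lib.H14.QdOverF
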