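import Mathlib
import Cfsg.Agent.Lib.H14.QdOverF

/-!
# Structure of `Qd` over a finite field (helper14), part 2: the natural module
-/

set_option autoImplicit false

namespace Cfsg.Agent.Lib.H14.QdOverF

open Cfsg Cfsg.Agent.Lib.H1.QdRecog

variable {F : Type*} [Field F]

/-- the complement is `SL₂(F)` -/
noncomputable def rhoF (F : Type*) [Field F] : ↥(KF F) ≃* Matrix.SpecialLinearGroup (Fin 2) F :=
  (MonoidHom.ofInjective (betaF_injective (F := F))).symm

theorem rhoF_beta (A : Matrix.SpecialLinearGroup (Fin 2) F) (h : betaF F A ∈ KF F) :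
    rhoF F ⟨betaF F A, h⟩ = A := by
  unfold rhoF
  rw [MulEquiv.symm_apply_eq]
  rfl

/-- coordinates on the translation subgroup -/
noncomputable def psiF (F : Type*) [Field F] : Additive ↥(VF F) ≃+ (Fin 2 → F) :=
  MulEquiv.toAdditiveLeft (MonoidHom.ofInjective (tauF_injective (F := F))).symm

theorem psiF_tau (x : Multiplicative (Fin 2 → F)) (h : tauF F x ∈ VF F) :
    psiF F (Additive.ofMul ⟨tauF F x, h⟩) = Multiplicative.toAdd x := by
  have h1 : (MonoidHom.ofInjective (tauF_injective (F := F))).symm ⟨tauF F x, h⟩ = x := by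
    rw [MulEquiv.symm_apply_eq]
    rfl
  show Multiplicative.toAdd ((MonoidHom.ofInjective (tauF_injective (F := F))).symm ⟨tauF F x, h⟩) = _
  rw [h1]

theorem natural_VF_KF : Cfsg.IsNaturalSL2Module F (VF F) (KF F) := by
  have hVn : (VF F).Normal := VF_normal
  refine ⟨by rw [Subgroup.normalizer_eq_top]; exact le_top, (rhoF F).toMonoidHom, psiF F,
    (rhoF F).surjective, ?_, ?_⟩
  · -- kernel
    have hker : (rhoF F).toMonoidHom.ker = ⊥ := by
      rw [MonoidHom.ker_eq_bot_iff]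
      exact (rhoF F).injective
    rw [hker, eq_comm, eq_bot_iff]
    intro l hl
    rw [Subgroup.mem_subgroupOf] at hl
    have h1 : (l : ↥(qdOver F)) ∈ KF F ⊓ VF F := ⟨l.2, centralizer_VF_le hl⟩
    rw [KF_inf_VF, Subgroup.mem_bot] at h1
    rw [Subgroup.mem_bot]
    exact Subtype.ext h1
  · rintro ⟨_, A, rfl⟩ ⟨_, x, rfl⟩
    refine ⟨⟨tauF F (Multiplicative.ofAdd (A.1.mulVec (Multiplicative.toAdd x))), ⟨_, rfl⟩⟩, ?_, ?_⟩
    · exact (betaF_conj_tauF A x).symm
    · have e1 := psiF_tau (Multiplicative.ofAdd (A.1.mulVec (Multiplicative.toAdd x))) ⟨_, rfl⟩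
      have e2 := psiF_tau x ⟨x, rfl⟩
      have e3 := rhoF_beta A ⟨A, rfl⟩
      rw [toAdd_ofAdd] at e1
      refine e1.trans ?_
      refine Eq.trans ?_ (congrArg₂ (fun (B : Matrix.SpecialLinearGroup (Fin 2) F) v => B.1.mulVec v)
        e3.symm e2.symm)
      rfl

end Cfsg.Agent.Lib.H14.QdOverF
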