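import Mathlib
import Cfsg.Prelude.Def_OddOrderLocal
import Cfsg.Prelude.Def_CaseTheorems
import Cfsg.Prelude.Def_PLocal
import Cfsg.Agent.Lib.H19.R2Defs
import Cfsg.Agent.Lib.H1.NilpotentBasic
import Cfsg.Agent.Lib.H18.PGroupP4
import Cfsg.Agent.Lib.H22.CyclicIndexP

/-!
# S3888 piece ALPHAZ (helper14): the centre of a non-metacyclic maximal subgroup of maximal class.
-/

set_option autoImplicit false

namespace Cfsg.Agent.Lib.H14.R2

open Cfsg Cfsg.Agent.Lib.H19.R2
open scoped commutatorElement

universe u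

variable {p : ℕ} [Fact p.Prime] {G : Type u} [Group G] [Finite G]

/-- a `p`-group with a cyclic subgroup of index at most `p` is metacyclic -/
theorem az_metacyclic_of_cyclic_index {P : Type*} [Group P] [Finite P] (hP : IsPGroup p P) (g : P)
    (h : Nat.card P ≤ orderOf g * p) : Cfsg.IsMetacyclic P := by
  have hp : p.Prime := Fact.out
  set C := Subgroup.zpowers g with hC
  have hcardC : Nat.card C = orderOf g := Nat.card_zpowers g
  have hmul : Nat.card C * C.index = Nat.card P := Subgroup.card_mul_index C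
  have hCpos : 0 < Nat.card C := Nat.card_pos
  have hidxle : C.index ≤ p := by
    rw [← hmul, ← hcardC] at h
    exact Nat.le_of_mul_le_mul_left h hCpos
  obtain ⟨k, hk⟩ := IsPGroup.iff_card.mp hP
  have hidxdvd : C.index ∣ p ^ k := by rw [← hk]; exact Subgroup.index_dvd_card C
  obtain ⟨j, -, hj⟩ := (Nat.dvd_prime_pow hp).mp hidxdvd
  have hj1 : j ≤ 1 := by
    by_contra hcon
    have : p ^ 2 ≤ p ^ j := Nat.pow_le_pow_right hp.pos (by omega)
    rw [← hj] at this
    have h2 : p ^ 2 ≤ p := this.trans hidxle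
    have h3 : p * p ≤ p * 1 := by rw [mul_one, ← sq]; exact h2
    have := Nat.le_of_mul_le_mul_left h3 hp.pos
    have := hp.two_le
    omega
  have hCn : C.Normal := by
    rcases Nat.lt_or_ge j 1 with h0 | h1
    · have : j = 0 := by omega
      rw [this, pow_zero, Subgroup.index_eq_one] at hj
      rw [hj]; infer_instance
    · have : j = 1 := by omega
      rw [this, pow_one] at hj
      exact Cfsg.Agent.Lib.H22.normal_of_index_eq_prime hP C hj
  refine ⟨C, hCn, inferInstance, ?_⟩
  have hcardQ : Nat.card (P ⧸ C) = p ^ j := by rw [← Subgroup.index_eq_card, hj]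
  rcases Nat.lt_or_ge j 1 with h0 | h1
  · have : j = 0 := by omega
    rw [this, pow_zero] at hcardQ
    haveI : Subsingleton (P ⧸ C) := (Nat.card_eq_one_iff_unique.mp hcardQ).1
    exact isCyclic_of_subsingleton
  · have : j = 1 := by omega
    rw [this, pow_one] at hcardQ
    exact isCyclic_of_prime_card hcardQ

/-- ALPHAZ. -/
theorem alpha_Z (hp2 : p ≠ 2) (hG : IsPGroup p G) {N : Subgroup G} (h : H2 p G N) {n : ℕ}
    (hcard : Nat.card G = p ^ n) (M : Subgroup G) (hM : M.index = p) (hNM : N ≤ M)
    (hMmc : MC p (n - 1) ↥M) (hMn : ¬ Cfsg.IsMetacyclic ↥M) :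
    5 ≤ n ∧ Nat.card ↥(N ⊓ Subgroup.center G) = p ∧
      ∀ g ∈ M, (∀ m ∈ M, g * m = m * g) → g ∈ N ⊓ Subgroup.center G := by
  have hp : p.Prime := Fact.out
  obtain ⟨⟨hNn, hNc, hNe, hNcard⟩, hH2⟩ := h
  obtain ⟨-, h2n, hlcs⟩ := hMmc
  have hMp : IsPGroup p ↥M := hG.to_subgroup M
  -- the order of `M`
  have hn1 : 1 ≤ n := by omega
  have hcardM : Nat.card M = p ^ (n - 1) := by
    have h1 : Nat.card M * M.index = Nat.card G := Subgroup.card_mul_index M
    rw [hM, hcard] at h1
    have h2 : p ^ n = p ^ (n - 1) * p := by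
      rw [← pow_succ]; congr 1; omega
    rw [h2] at h1
    exact Nat.eq_of_mul_eq_mul_right hp.pos h1
  -- Step 1
  have h5 : 5 ≤ n := by
    by_contra hcon
    apply hMn
    have hn4 : n - 1 ≤ 3 := by omega
    by_cases hA : ∃ g : ↥M, (g : G) ^ p ≠ 1
    · obtain ⟨g, hg⟩ := hA
      apply az_metacyclic_of_cyclic_index hMp g
      obtain ⟨j, hj⟩ := (IsPGroup.iff_orderOf.mp hMp) g
      have hj2 : 2 ≤ j := by
        by_contra hcon2
        apply hg
        have h1 : orderOf g ∣ p := by
          rw [hj]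
          have : j ≤ 1 := by omega
          calc p ^ j ∣ p ^ 1 := pow_dvd_pow p this
            _ = p := pow_one p
        have h2 : g ^ p = 1 := orderOf_dvd_iff_pow_eq_one.mp h1
        have := congrArg (fun t : ↥M => (t : G)) h2
        simpa using this
      rw [hcardM, hj, ← pow_succ]
      exact Nat.pow_le_pow_right hp.pos (by omega)
    · push Not at hA
      have hMN : M ≤ N := fun g hg => hH2 g (hA ⟨g, hg⟩)
      have hcle : Nat.card M ≤ p ^ 2 := by
        rw [← hNcard]; exact Subgroup.card_le_of_le hMN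
      have hnt : Nontrivial ↥M := by
        rw [← Finite.one_lt_card_iff_nontrivial, hcardM]
        exact Nat.one_lt_pow (by omega) hp.one_lt
      obtain ⟨g, hg1⟩ := exists_ne (1 : ↥M)
      apply az_metacyclic_of_cyclic_index hMp g
      have hgp : g ^ p = 1 := by
        apply Subtype.ext
        have := hA g
        simpa using this
      rw [orderOf_eq_prime hgp hg1, ← sq]
      exact hcle
  refine ⟨h5, ?_⟩
  -- Step 2: the centre of `M` has order `p`
  haveI hMn' : M.Normal := Cfsg.Agent.Lib.H22.normal_of_index_eq_prime hG M hM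
  haveI hMnil : Group.IsNilpotent ↥M := hMp.isNilpotent
  have hclass : n - 2 ≤ Group.nilpotencyClass ↥M := by
    by_contra hcon
    apply hlcs
    rw [Subgroup.lowerCentralSeries_eq_bot_iff_nilpotencyClass_le]
    omega
  haveI hMnt : Nontrivial ↥M := by
    rw [← Finite.one_lt_card_iff_nontrivial, hcardM]
    exact Nat.one_lt_pow (by omega) hp.one_lt
  obtain ⟨k, hk⟩ := IsPGroup.iff_card.mp (hMp.to_subgroup (Subgroup.center ↥M))
  have hk1 : 1 ≤ k := by
    haveI := hMp.center_nontrivial
    by_contra hcon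
    have : k = 0 := by omega
    rw [this, pow_zero] at hk
    have h1 : 1 < Nat.card (Subgroup.center ↥M) := Finite.one_lt_card
    omega
  have hkn : k ≤ n - 1 := by
    have h1 : Nat.card (Subgroup.center ↥M) ≤ Nat.card ↥M := Subgroup.card_le_card_group _
    rw [hk, hcardM] at h1
    exact (Nat.pow_le_pow_iff_right hp.one_lt).mp h1
  have hk_le : k ≤ 1 := by
    by_contra hcon
    have hcardQ : Nat.card (↥M ⧸ Subgroup.center ↥M) = p ^ (n - 1 - k) := by
      have h1 : Nat.card (Subgroup.center ↥M) * (Subgroup.center ↥M).index = Nat.card ↥M :=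
        Subgroup.card_mul_index _
      rw [hk, hcardM] at h1
      have h2 : p ^ (n - 1) = p ^ k * p ^ (n - 1 - k) := by
        rw [← pow_add]; congr 1; omega
      rw [h2] at h1
      rw [← Subgroup.index_eq_card]
      exact Nat.eq_of_mul_eq_mul_left (pow_pos hp.pos k) h1
    have h3 := Cfsg.Agent.Lib.H1.nilpotencyClass_le_of_card_eq_prime_pow (p := p) (n - 1 - k)
      (↥M ⧸ Subgroup.center ↥M) hcardQ
    rw [Group.nilpotencyClass_quotient_center] at h3
    have h4 : max (n - 1 - k - 1) 1 ≤ n - 4 := by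
      apply max_le <;> omega
    omega
  have hk' : Nat.card (Subgroup.center ↥M) = p := by
    have : k = 1 := by omega
    rw [hk, this, pow_one]
  -- the centre of `M`, as a subgroup of `G`
  set ZM := (Subgroup.center ↥M).map M.subtype with hZM
  have hZMcard : Nat.card ZM = p := by
    rw [hZM, Subgroup.card_map_of_injective M.subtype_injective, hk']
  haveI hZMn : ZM.Normal := ConjAct.normal_of_characteristic_of_normal
  have hZMc : ZM ≤ Subgroup.center G :=
    Cfsg.Agent.Lib.H18.le_center_of_normal_of_card_prime p hG ZM hZMcard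
  have hZMN : ZM ≤ N := by
    intro g hg
    apply hH2
    have h1 : (⟨g, hg⟩ : ↥ZM) ^ p = 1 := by
      rw [← hZMcard]; exact pow_card_eq_one'
    have := congrArg (fun t : ↥ZM => (t : G)) h1
    simpa using this
  have hmemZM : ∀ g ∈ M, (∀ m ∈ M, g * m = m * g) → g ∈ ZM := by
    intro g hg hc
    refine ⟨⟨g, hg⟩, ?_, rfl⟩
    rw [SetLike.mem_coe, Subgroup.mem_center_iff]
    intro m
    apply Subtype.ext
    exact (hc m m.2).symm
  have heq : N ⊓ Subgroup.center G = ZM := by
    apply le_antisymm
    · intro g hg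
      obtain ⟨hgN, hgc⟩ := Subgroup.mem_inf.mp hg
      apply hmemZM g (hNM hgN)
      intro m _
      exact (Subgroup.mem_center_iff.mp hgc m).symm
    · exact le_inf hZMN hZMc
  refine ⟨by rw [heq]; exact hZMcard, ?_⟩
  intro g hg hc
  rw [heq]
  exact hmemZM g hg hc

end Cfsg.Agent.Lib.H14.R2
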