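import Mathlib

/-!
# S4581 piece COUNT (helper14): counting by fibres over the classes of an equivalence relation.
-/

set_option autoImplicit false

namespace Cfsg.Agent.Lib.H14.RO

/-- Auxiliary: if each `c : C` is related exactly to the class of `f c`, then `|C|` is the sum over
the classes `q` of the sizes of the fibres over a representative of `q`. -/
theorem card_eq_sum_fibers_aux {Ω C : Type*} [Finite C] (S : Setoid Ω) [Fintype (Quotient S)]
    (r : C → Ω → Prop) (f : C → Ω) (hf : ∀ c ω, r c ω ↔ S.r (f c) ω) :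
    Nat.card C = ∑ q : Quotient S, Nat.card {c // r c q.out} := by
  classical
  let g : C → Quotient S := fun c => Quotient.mk _ (f c)
  have e1 : Nat.card C = Nat.card (Σ q : Quotient S, {c // g c = q}) :=
    Nat.card_congr (Equiv.sigmaFiberEquiv g).symm
  rw [e1, Nat.card_sigma]
  refine Finset.sum_congr rfl (fun q _ => ?_)
  refine Nat.card_congr (Equiv.subtypeEquivRight (fun c => ?_))
  rw [hf]
  constructor
  · intro h
    have h2 : Quotient.mk S (f c) = Quotient.mk S q.out := by
      rw [Quotient.out_eq]; exact h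
    exact Quotient.exact h2
  · intro h
    have h2 : Quotient.mk S (f c) = Quotient.mk S q.out := Quotient.sound h
    rw [Quotient.out_eq] at h2
    exact h2

/-- COUNT (pure combinatorics).  `A`, `B` finite, each element related to exactly one class of an
equivalence relation `s` on `Ω`, fibres of equal size: `|A| = |B|`. -/
theorem card_eq_of_fibers {Ω A B : Type*} [Finite Ω] [Finite A] [Finite B] (s : Ω → Ω → Prop)
    (hs : Equivalence s) (rA : A → Ω → Prop) (rB : B → Ω → Prop)
    (hA : ∀ a, ∃ ω₀, ∀ ω, rA a ω ↔ s ω₀ ω) (hB : ∀ b, ∃ ω₀, ∀ ω, rB b ω ↔ s ω₀ ω)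
    (hfib : ∀ ω, Nat.card {a // rA a ω} = Nat.card {b // rB b ω}) :
    Nat.card A = Nat.card B := by
  choose fA hfA using hA
  choose fB hfB using hB
  have := Fintype.ofFinite (Quotient (⟨s, hs⟩ : Setoid Ω))
  rw [card_eq_sum_fibers_aux (⟨s, hs⟩ : Setoid Ω) rA fA hfA,
    card_eq_sum_fibers_aux (⟨s, hs⟩ : Setoid Ω) rB fB hfB]
  exact Finset.sum_congr rfl (fun q _ => hfib _)

end Cfsg.Agent.Lib.H14.RO
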