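import Mathlib

/-!
# S4581 piece SYLFIX (helper14): two fixed points of a Sylow subgroup in one orbit are conjugate
under its normalizer.
-/

set_option autoImplicit false

namespace Cfsg.Agent.Lib.H14.RO

/-- SYLFIX.  Two fixed points of a Sylow `p`-subgroup `P` in one orbit are conjugate under `N(P)`. -/
theorem exists_normalizer_smul_eq {B : Type*} [Group B] [Finite B] {α : Type*} [MulAction B α]
    (p : ℕ) [Fact p.Prime] (P : Sylow p B) (a : α) (b : B)
    (ha : ∀ x ∈ (P : Subgroup B), x • a = a) (hb : ∀ x ∈ (P : Subgroup B), x • (b • a) = b • a) :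
    ∃ n ∈ Subgroup.normalizer ((P : Subgroup B) : Set B), n • a = b • a := by
  have h1 : (P : Subgroup B) ≤ MulAction.stabilizer B a := fun x hx =>
    MulAction.mem_stabilizer_iff.mpr (ha x hx)
  have h2 : ((b⁻¹ • P : Sylow p B) : Subgroup B) ≤ MulAction.stabilizer B a := by
    intro y hy
    rw [Sylow.coe_subgroup_smul, Subgroup.mem_pointwise_smul_iff_inv_smul_mem] at hy
    rw [MulAction.mem_stabilizer_iff]
    have hy' : b * y * b⁻¹ ∈ (P : Subgroup B) := by
      simpa [MulAut.smul_def, MulAut.conj_apply] using hy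
    have := hb _ hy'
    rw [mul_smul, mul_smul, inv_smul_smul] at this
    exact smul_left_cancel b this
  obtain ⟨h, hh⟩ :=
    MulAction.exists_smul_eq (MulAction.stabilizer B a) ((b⁻¹ • P).subtype h2) (P.subtype h1)
  simp_rw [Sylow.smul_subtype, Subgroup.smul_def, smul_smul] at hh
  have hn : (h : B) * b⁻¹ ∈ Subgroup.normalizer ((P : Subgroup B) : Set B) :=
    Sylow.smul_eq_iff_mem_normalizer.mp (Sylow.subtype_injective hh)
  refine ⟨((h : B) * b⁻¹)⁻¹, inv_mem hn, ?_⟩
  have hs : (h : B) • a = a := MulAction.mem_stabilizer_iff.mp h.2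
  rw [mul_inv_rev, inv_inv, mul_smul]
  congr 1
  rw [inv_smul_eq_iff, hs]

end Cfsg.Agent.Lib.H14.RO
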