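import Mathlib
import Cfsg.Prelude.Def_Characters
import Cfsg.Prelude.Def_Blocks
import Cfsg.Agent.Lib.L0.CharLinear
import Cfsg.Agent.Lib.H23.DegreeDvd
import Cfsg.Agent.Lib.H24.CharLinearMul
import Cfsg.Agent.Lib.H1.PGroupBasic

/-!
# S4581 piece TWOGRP (helper14): for a finite 2-group `Q`, all irreducible characters of odd degree
are real-valued iff `Q' = Φ(Q)`.
-/

set_option autoImplicit false

universe u

namespace Cfsg.Agent.Lib.H14.RO

open Cfsg

/-- An irreducible character of odd degree of a finite 2-group has `ψ 1 = 1`. -/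
theorem apply_one_eq_one_of_odd {Q : Type u} [Group Q] [Finite Q] (hQ : IsPGroup 2 Q)
    (ψ : IrrCharacter Q) (hodd : Odd (charDegree (ψ : Q → ℂ))) : (ψ : Q → ℂ) 1 = 1 := by
  obtain ⟨n, hn0, hn1, hn2⟩ := Cfsg.Agent.Lib.H23.irr_apply_one_dvd_card (ψ : Q → ℂ) ψ.2
  have hd : charDegree (ψ : Q → ℂ) = n := Cfsg.Agent.Lib.H23.charDegree_eq_of_apply_one hn1
  rw [hd] at hodd
  obtain ⟨k, hk⟩ := IsPGroup.iff_card.mp hQ
  rw [hk] at hn2
  obtain ⟨j, _, hj⟩ := (Nat.dvd_prime_pow Nat.prime_two).mp hn2
  have hj0 : j = 0 := by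
    by_contra hne
    have : Even n := by
      rw [hj]; exact (Nat.even_pow.mpr ⟨even_two, hne⟩)
    exact (Nat.not_even_iff_odd.mpr hodd) this
  rw [hn1, hj, hj0]; simp

/-- A unit of `ℂ` of finite order with zero imaginary part is `1` or `-1`. -/
theorem unit_eq_one_or_neg_one_of_im_eq_zero (w : ℂˣ) (hfin : IsOfFinOrder w)
    (him : (w : ℂ).im = 0) : w = 1 ∨ w = -1 := by
  obtain ⟨n, hn, hpow⟩ := hfin.exists_pow_eq_one
  have hnorm : ‖(w : ℂ)‖ = 1 := by
    have h1 : ‖(w : ℂ)‖ ^ n = 1 := by
      rw [← norm_pow, ← Units.val_pow_eq_pow_val, hpow]; simp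
    exact (pow_eq_one_iff_of_nonneg (norm_nonneg _) hn.ne').mp h1
  have hre : (w : ℂ) = ((w : ℂ).re : ℂ) := by
    apply Complex.ext <;> simp [him]
  have habs : |(w : ℂ).re| = 1 := by
    rw [hre, Complex.norm_real, Real.norm_eq_abs] at hnorm
    exact hnorm
  rcases (abs_eq (by norm_num : (0 : ℝ) ≤ 1)).mp habs with h | h
  · left; apply Units.ext; rw [hre, h]; simp
  · right; apply Units.ext; rw [hre, h]; simp

/-- TWOGRP.  For a finite 2-group `Q`: every irreducible character of odd degree (= every linear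
character) is real-valued iff `Q' = Φ(Q)`. -/
theorem all_odd_real_iff {Q : Type u} [Group Q] [Finite Q] (hQ : IsPGroup 2 Q) :
    (∀ ψ : IrrCharacter Q, Odd (charDegree (ψ : Q → ℂ)) → ∀ g : Q, ((ψ : Q → ℂ) g).im = 0) ↔
      commutator Q = frattini Q := by
  have : Fact (Nat.Prime 2) := ⟨Nat.prime_two⟩
  constructor
  · intro hall
    -- every homomorphism to `ℂˣ` takes values `± 1`
    have hpm : ∀ (f : Q →* ℂˣ) (g : Q), f g = 1 ∨ f g = -1 := by
      intro f g
      apply unit_eq_one_or_neg_one_of_im_eq_zero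
      · exact MonoidHom.isOfFinOrder f (isOfFinOrder_of_finite g)
      · have := hall (Cfsg.Agent.Lib.H24.homIrr f)
          (by rw [Cfsg.Agent.Lib.H24.charDegree_homIrr]; exact odd_one) g
        simpa [Cfsg.Agent.Lib.H24.homIrr_apply] using this
    apply le_antisymm (Cfsg.Agent.Lib.H1.isPGroup_commutator_le_frattini hQ)
    intro x hxΦ
    by_contra hx
    -- a homomorphism of the abelianization not killing `x`
    have hne : (Abelianization.of x : Abelianization Q) ≠ 1 := by
      intro h
      apply hx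
      have : x ∈ (Abelianization.of : Q →* Abelianization Q).ker := h
      rwa [Abelianization.ker_of] at this
    have : Finite (Abelianization Q) := inferInstanceAs (Finite (Q ⧸ commutator Q))
    obtain ⟨φ, hφ⟩ :=
      CommGroup.exists_apply_ne_one_of_hasEnoughRootsOfUnity (Abelianization Q) ℂ hne
    let f : Q →* ℂˣ := φ.comp Abelianization.of
    have hfx : f x ≠ 1 := hφ
    -- the kernel of `f` is a maximal subgroup
    have hco : IsCoatom f.ker := by
      constructor
      · intro h
        apply hfx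
        have : x ∈ f.ker := by rw [h]; exact Subgroup.mem_top x
        exact this
      · intro K hK
        obtain ⟨y, hyK, hyker⟩ := SetLike.exists_of_lt hK
        have hfy : f y = -1 := by
          rcases hpm f y with h | h
          · exact absurd (MonoidHom.mem_ker.mpr h) hyker
          · exact h
        rw [eq_top_iff]
        intro g _
        rcases hpm f g with h | h
        · exact hK.le (MonoidHom.mem_ker.mpr h)
        · have hgy : g * y⁻¹ ∈ f.ker := by
            rw [MonoidHom.mem_ker, map_mul, map_inv, h, hfy]; simp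
          have := K.mul_mem (hK.le hgy) hyK
          simpa using this
    exact hfx (MonoidHom.mem_ker.mp (frattini_le_coatom hco hxΦ))
  · intro heq ψ hodd g
    have h1 : (ψ : Q → ℂ) 1 = 1 := apply_one_eq_one_of_odd hQ ψ hodd
    have hchar : IsCharacter Q (ψ : Q → ℂ) := Cfsg.Agent.Lib.L0.isCharacter_of_irr ψ.2
    let f : Q →* ℂˣ := Cfsg.Agent.Lib.L0.linearCharHom hchar h1
    have hfg : ((f g : ℂˣ) : ℂ) = (ψ : Q → ℂ) g := rfl
    have hsq : (f g) ^ 2 = 1 := by
      rw [← map_pow]
      have hmem : g ^ 2 ∈ commutator Q := by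
        rw [heq]; exact Cfsg.Agent.Lib.H1.isPGroup_pow_mem_frattini hQ g
      exact Cfsg.Agent.Lib.H24.hom_apply_eq_one_of_mem_commutator f hmem
    have hsq' : ((ψ : Q → ℂ) g) ^ 2 = 1 := by
      rw [← hfg, ← Units.val_pow_eq_pow_val, hsq]; simp
    rcases sq_eq_one_iff.mp hsq' with h | h <;> simp [h]
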