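import Mathlib
import Cfsg.Prelude.Def_Blocks
import Cfsg.Prelude.Def_Characters
import Cfsg.Prelude.Def_Local
import Cfsg.Prelude.Def_Transfer
import Cfsg.Agent.Lib.H14.RULIN
import Cfsg.Agent.Lib.H1.RUDEGSYL1
import Cfsg.Agent.Lib.H5.RUEAB
import Cfsg.Agent.Lib.H24.CharAbelian
import Cfsg.Agent.Lib.L0.CharLinear
import Cfsg.Agent.Lib.L0.CharDecomp

/-!
# S4751 piece CENT (architect helper23)
-/

set_option autoImplicit false

namespace Cfsg.Agent.Lib.H14.RU

open Cfsg Cfsg.Agent.Lib.L0
open scoped ComplexConjugate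

/-- a faithful irreducible character: `|χ(b)| = χ(1)` forces `b` central -/
theorem ru_mem_center_of_norm {G : Type*} [Group G] [Finite G] (χ : IrrCharacter G)
    (hfaith : ∀ g : G, (χ : G → ℂ) g = (χ : G → ℂ) 1 → g = 1) (b : G)
    (hb : ‖(χ : G → ℂ) b‖ = ‖(χ : G → ℂ) 1‖) : b ∈ Subgroup.center G := by
  obtain ⟨n, ρ, hirr, hχ⟩ := χ.2
  rw [← hχ] at hb hfaith
  rw [Representation.char_one, Complex.norm_natCast] at hb
  obtain ⟨c, hc⟩ := (norm_char_eq_finrank_iff ρ b).mp hb
  rw [Subgroup.mem_center_iff]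
  intro g
  have h1 : ρ (g * b * (b * g)⁻¹) = 1 := by
    have h2 : ρ (g * b) = ρ (b * g) := by
      rw [map_mul, map_mul, hc]
      rw [mul_smul_comm, smul_mul_assoc, mul_one, one_mul]
    rw [map_mul, h2, ← map_mul, mul_inv_cancel, map_one]
  have h3 := (char_eq_char_one_iff ρ (g * b * (b * g)⁻¹)).mpr h1
  have h4 := hfaith _ h3
  exact mul_inv_eq_one.mp h4

/-- the key coset identity: `ψ` a character of an abelian group `A` whose restriction to the subgroup `Q`
is multiplicity free; then `Σ_{x ∈ Q} |ψ(x a)|² = |Q| ψ(1)` for every `a` (`Q → A` any homomorphism). -/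
theorem ru_sum_coset {A : Type*} [Group A] [Fintype A] (hcomm : ∀ x y : A, x * y = y * x)
    (ψ : A → ℂ) (hψ : IsCharacter A ψ) {Q : Type*} [Group Q] [Fintype Q] (f : Q →* A)
    (hmf : ∀ θ : IrrCharacter Q, classInner (fun x : Q => ψ (f x)) (θ : Q → ℂ) ≠ 0 →
      classInner (fun x : Q => ψ (f x)) (θ : Q → ℂ) = 1) (a : A) :
    ∑ x : Q, ψ (f x * a) * conj (ψ (f x * a)) = (Nat.card Q : ℂ) * ψ 1 := by
  classical
  obtain ⟨l, hl, hsum⟩ := isCharacter_exists_irr_decomp hψ
  set μ : Fin l.length → A → ℂ := fun i => l.get i with hμ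
  have hirr : ∀ i, IsIrrCharacter A (μ i) := fun i => hl _ (List.get_mem l i)
  have hchar : ∀ i, IsCharacter A (μ i) := fun i => isCharacter_of_irr (hirr i)
  have h1 : ∀ i, μ i 1 = 1 := fun i =>
    Cfsg.Agent.Lib.H24.irr_apply_one_of_comm hcomm ⟨μ i, hirr i⟩
  have hψeq : ∀ g : A, ψ g = ∑ i, μ i g := by
    intro g
    rw [hsum]
    have : l.sum = ∑ i, μ i := by
      rw [hμ]
      exact (Fin.sum_univ_getElem l).symm
    rw [this, Finset.sum_apply]
  have hmul : ∀ i (x y : A), μ i (x * y) = μ i x * μ i y := fun i x y =>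
    linear_char_mul (hchar i) (h1 i) x y
  have hnorm : ∀ i (g : A), μ i g * conj (μ i g) = 1 := by
    intro i g
    rw [← isCharacter_apply_inv (hchar i) g, ← hmul, mul_inv_cancel, h1]
  -- restrictions to `Q`
  set r : Fin l.length → Q → ℂ := fun i x => μ i (f x) with hr
  have hrirr : ∀ i, IsIrrCharacter Q (r i) := by
    intro i
    have := isIrrCharacter_of_hom ((linearCharHom (hchar i) (h1 i)).comp f)
    exact this
  have horth : ∀ i j, classInner (r i) (r j) = if r i = r j then 1 else 0 := fun i j =>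
    irr_classInner_eq (hrirr i) (hrirr j)
  have hres : (fun x : Q => ψ (f x)) = ∑ i, r i := by
    funext x
    rw [hψeq, Finset.sum_apply]
  have hinj : ∀ i j, r i = r j → i = j := by
    intro i j hij
    by_contra hne
    have hcount : classInner (fun x : Q => ψ (f x)) (r j) =
        ((Finset.univ.filter (fun k => r k = r j)).card : ℂ) := by
      rw [hres, classInner_sum_left]
      simp_rw [horth]
      rw [Finset.sum_boole]
    have hsub : ({i, j} : Finset (Fin l.length)) ⊆ Finset.univ.filter (fun k => r k = r j) := by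
      intro k hk
      rw [Finset.mem_insert, Finset.mem_singleton] at hk
      rw [Finset.mem_filter]
      rcases hk with rfl | rfl
      · exact ⟨Finset.mem_univ _, hij⟩
      · exact ⟨Finset.mem_univ _, rfl⟩
    have h2 : 2 ≤ (Finset.univ.filter (fun k => r k = r j)).card := by
      calc 2 = ({i, j} : Finset (Fin l.length)).card := (Finset.card_pair hne).symm
        _ ≤ _ := Finset.card_le_card hsub
    have h3 := hmf ⟨r j, hrirr j⟩ (by
      show classInner (fun x : Q => ψ (f x)) (r j) ≠ 0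
      rw [hcount]
      have : 0 < (Finset.univ.filter (fun k => r k = r j)).card := by omega
      exact_mod_cast this.ne')
    change classInner (fun x : Q => ψ (f x)) (r j) = 1 at h3
    rw [hcount] at h3
    have : (Finset.univ.filter (fun k => r k = r j)).card = 1 := by exact_mod_cast h3
    omega
  have hQne : (Nat.card Q : ℂ) ≠ 0 := by exact_mod_cast (Nat.card_pos (α := Q)).ne'
  have hsumx : ∀ i j, ∑ x : Q, r i x * conj (r j x) =
      (Nat.card Q : ℂ) * (if i = j then 1 else 0) := by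
    intro i j
    have h2 := horth i j
    unfold classInner at h2
    rw [inv_mul_eq_iff_eq_mul₀ hQne] at h2
    rw [h2]
    congr 1
    by_cases h : i = j
    · subst h
      rw [if_pos rfl, if_pos rfl]
    · rw [if_neg h, if_neg (fun h' => h (hinj i j h'))]
  have hψ1 : ψ 1 = (l.length : ℂ) := by
    rw [hψeq]
    simp_rw [h1]
    simp
  rw [hψ1]
  calc ∑ x : Q, ψ (f x * a) * conj (ψ (f x * a))
      = ∑ x : Q, ∑ i, ∑ j, (μ i a * conj (μ j a)) * (r i x * conj (r j x)) := by
        refine Finset.sum_congr rfl fun x _ => ?_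
        rw [hψeq, map_sum, Finset.sum_mul_sum]
        refine Finset.sum_congr rfl fun i _ => ?_
        refine Finset.sum_congr rfl fun j _ => ?_
        rw [hmul, hmul, map_mul]
        ring
    _ = ∑ i, ∑ j, (μ i a * conj (μ j a)) * ∑ x : Q, (r i x * conj (r j x)) := by
        rw [Finset.sum_comm]
        refine Finset.sum_congr rfl fun i _ => ?_
        rw [Finset.sum_comm]
        refine Finset.sum_congr rfl fun j _ => ?_
        rw [Finset.mul_sum]
    _ = ∑ i : Fin l.length, (Nat.card Q : ℂ) := by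
        refine Finset.sum_congr rfl fun i _ => ?_
        rw [Finset.sum_eq_single i]
        · rw [hsumx, if_pos rfl, hnorm, one_mul, mul_one]
        · intro j _ hji
          rw [hsumx, if_neg (Ne.symm hji), mul_zero, mul_zero]
        · intro h
          exact absurd (Finset.mem_univ i) h
    _ = (Nat.card Q : ℂ) * (l.length : ℂ) := by
        rw [Finset.sum_const, Finset.card_univ, Fintype.card_fin, nsmul_eq_mul, mul_comm]

/-- the coset identity inside a group: `P` an abelian subgroup on which the character `χ` restricts multiplicity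
freely, `c` centralizing `P`; then `Σ_{x ∈ P} |χ(x c)|² = |P| χ(1)`. -/
theorem ru_sum_centralizer {G : Type*} [Group G] [Fintype G] (χ : G → ℂ) (hχ : IsCharacter G χ)
    (P : Subgroup G) [Fintype P] (hcommP : ∀ x ∈ P, ∀ y ∈ P, x * y = y * x)
    (hmf : ∀ θ : IrrCharacter P, classInner (fun x : P => χ x) (θ : P → ℂ) ≠ 0 →
      classInner (fun x : P => χ x) (θ : P → ℂ) = 1)
    (c : G) (hc : c ∈ Subgroup.centralizer (P : Set G)) :
    ∑ x : P, χ ((x : G) * c) * conj (χ ((x : G) * c)) = (Nat.card P : ℂ) * χ 1 := by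
  classical
  have hk : ∀ x ∈ (P : Set G) ∪ {c}, ∀ y ∈ (P : Set G) ∪ {c}, x * y = y * x := by
    rintro x (hx | hx) y (hy | hy)
    · exact hcommP x hx y hy
    · rw [Set.mem_singleton_iff] at hy
      subst hy
      exact Subgroup.mem_centralizer_iff.mp hc x hx
    · rw [Set.mem_singleton_iff] at hx
      subst hx
      exact (Subgroup.mem_centralizer_iff.mp hc y hy).symm
    · rw [Set.mem_singleton_iff] at hx hy
      rw [hx, hy]
  obtain ⟨A, hA⟩ : ∃ A : Subgroup G, A = Subgroup.closure ((P : Set G) ∪ {c}) := ⟨_, rfl⟩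
  have hcommA : ∀ x y : A, x * y = y * x := by
    subst hA
    have := Subgroup.isMulCommutative_closure hk
    intro x y
    exact this.is_comm.comm x y
  have hPA : P ≤ A := by
    rw [hA]
    exact fun x hx => Subgroup.subset_closure (Or.inl hx)
  have hcA : c ∈ A := by
    rw [hA]
    exact Subgroup.subset_closure (Or.inr rfl)
  letI : Fintype A := Fintype.ofFinite A
  have h := ru_sum_coset hcommA (fun x : A => χ x) (isCharacter_restrict A hχ)
    (Subgroup.inclusion hPA) hmf ⟨c, hcA⟩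
  exact h

/-- **CENT** -/
theorem centralizer_pCore {G : Type*} [Group G] [Finite G] (p : ℕ) [Fact p.Prime]
    (χ : IrrCharacter G) (hfaith : ∀ g : G, (χ : G → ℂ) g = (χ : G → ℂ) 1 → g = 1)
    (hnl : (χ : G → ℂ) 1 ≠ 1)
    (hroot : ∀ g : G, p ∣ orderOf g → ∃ n : ℕ, 0 < n ∧ ((χ : G → ℂ) g) ^ n = 1)
    (hP : pCore p G ≠ ⊥) :
    Subgroup.centralizer ((pCore p G : Subgroup G) : Set G) = pCore p G ⊔ Subgroup.center G ∧
      pCore p G ⊓ Subgroup.center G = ⊥ ∧ (Nat.card ↥(Subgroup.center G)).Coprime p := by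
  classical
  letI : Fintype G := Fintype.ofFinite G
  have hp : p.Prime := Fact.out
  haveI hPn : (pCore p G).Normal := Cfsg.Agent.Lib.H1.pCore_normal p G
  have hPp : IsPGroup p (pCore p G) := Cfsg.Agent.Lib.H1.pCore_isPGroup p G
  have hχc : IsCharacter G (χ : G → ℂ) := isCharacter_of_irr χ.2
  have hdeg : (χ : G → ℂ) 1 = (Nat.card (pCore p G) : ℂ) - 1 :=
    Cfsg.Agent.Lib.H1.RU.degree_eq_card_sub_one p χ hnl hroot (pCore p G) hPp hP
  have hcard : ∀ N : Subgroup G, N.Normal → IsPGroup p N → N ≠ ⊥ →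
      Nat.card N = Nat.card (pCore p G) := by
    intro N hN hNp hN1
    haveI := hN
    have h := Cfsg.Agent.Lib.H1.RU.degree_eq_card_sub_one p χ hnl hroot N hNp hN1
    rw [hdeg] at h
    have : (Nat.card (pCore p G) : ℂ) = Nat.card N := by linear_combination h
    exact_mod_cast this.symm
  obtain ⟨hPcomm, hPexp⟩ := Cfsg.Agent.Lib.H5.RU.isElementaryAbelian_pCore p hP hcard
  have hcommP : ∀ x ∈ pCore p G, ∀ y ∈ pCore p G, x * y = y * x := by
    intro x hx y hy
    exact congrArg Subtype.val (hPcomm.is_comm.comm ⟨x, hx⟩ ⟨y, hy⟩)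
  -- Goal 2
  have hPZ : pCore p G ⊓ Subgroup.center G = ⊥ := by
    rw [eq_bot_iff]
    intro z hz
    rw [Subgroup.mem_bot]
    by_contra hz1
    obtain ⟨hzP, hzZ⟩ := Subgroup.mem_inf.mp hz
    have hsing : p ∣ orderOf z := Cfsg.Agent.Lib.H1.RU.ru_dvd_orderOf p (pCore p G) hPp ⟨z, hzP⟩
      (fun h => hz1 (congrArg Subtype.val h))
    obtain ⟨n, hn, hzn⟩ := hroot z hsing
    have hmc := Cfsg.Agent.Lib.H1.RU.ru_mul_conj_eq_one _ n hn hzn
    have h := Cfsg.Agent.Lib.H23.irr_mul_center χ z⁻¹ hzZ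
    rw [inv_mul_cancel, isCharacter_apply_inv hχc, hmc] at h
    obtain ⟨d, hd⟩ := isCharacter_apply_one hχc
    rw [hd] at h
    have h2 : d * d = 1 := by exact_mod_cast h
    have h3 : d = 1 := Nat.eq_one_of_mul_eq_one_left h2
    exact hnl (by rw [hd, h3]; simp)
  -- Goal 3
  have hZp : (Nat.card ↥(Subgroup.center G)).Coprime p := by
    rw [Nat.coprime_comm, hp.coprime_iff_not_dvd]
    intro hdvd
    obtain ⟨z, hz⟩ := exists_prime_orderOf_dvd_card' p hdvd
    have hzn : (Subgroup.zpowers (z : G)).Normal := by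
      constructor
      intro n hn g
      obtain ⟨k, rfl⟩ := Subgroup.mem_zpowers_iff.mp hn
      have hk : (z : G) ^ k ∈ Subgroup.center G := Subgroup.zpow_mem _ z.2 k
      rw [Subgroup.mem_center_iff.mp hk g, mul_inv_cancel_right]
      exact Subgroup.zpow_mem_zpowers _ k
    have hzp : IsPGroup p (Subgroup.zpowers (z : G)) := by
      refine IsPGroup.of_card (n := 1) ?_
      rw [Nat.card_zpowers, Subgroup.orderOf_coe, hz, pow_one]
    have hle := Cfsg.Agent.Lib.H1.le_pCore hzn hzp
    have hmem : (z : G) ∈ pCore p G ⊓ Subgroup.center G :=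
      Subgroup.mem_inf.mpr ⟨hle (Subgroup.mem_zpowers _), z.2⟩
    rw [hPZ, Subgroup.mem_bot] at hmem
    have h1 : orderOf (z : G) = 1 := by rw [hmem, orderOf_one]
    rw [Subgroup.orderOf_coe, hz] at h1
    exact hp.one_lt.ne' h1
  refine ⟨?_, hPZ, hZp⟩
  letI : Fintype ↥(pCore p G) := Fintype.ofFinite _
  have hmf : ∀ θ : IrrCharacter ↥(pCore p G),
      classInner (fun x : ↥(pCore p G) => (χ : G → ℂ) x) (θ : ↥(pCore p G) → ℂ) ≠ 0 →
      classInner (fun x : ↥(pCore p G) => (χ : G → ℂ) x) (θ : ↥(pCore p G) → ℂ) = 1 :=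
    fun θ hθ => (constituent_linear p χ hroot (pCore p G) hPp hP θ hθ).2
  have key := fun c hc => ru_sum_centralizer (χ : G → ℂ) hχc (pCore p G) hcommP hmf c hc
  have hPle : pCore p G ≤ Subgroup.centralizer ((pCore p G : Subgroup G) : Set G) := by
    intro x hx
    rw [Subgroup.mem_centralizer_iff]
    intro y hy
    exact hcommP y hy x hx
  have hq0 : (Nat.card ↥(pCore p G) : ℂ) ≠ 0 := by
    exact_mod_cast (Nat.card_pos (α := ↥(pCore p G))).ne'
  have hterm : ∀ g : G, p ∣ orderOf g → (χ : G → ℂ) g * conj ((χ : G → ℂ) g) = 1 := by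
    intro g hg
    obtain ⟨n, hn, hgn⟩ := hroot g hg
    exact Cfsg.Agent.Lib.H1.RU.ru_mul_conj_eq_one _ n hn hgn
  apply le_antisymm
  · intro a ha
    -- some element of the coset `P a` is `p`-regular
    obtain ⟨x₀, hx₀⟩ : ∃ x₀ : ↥(pCore p G), ¬ p ∣ orderOf ((x₀ : G) * a) := by
      by_contra hall0
      have hall : ∀ x₀ : ↥(pCore p G), p ∣ orderOf ((x₀ : G) * a) := by
        intro x
        by_contra hx
        exact hall0 ⟨x, hx⟩
      have h1 := key a ha
      rw [Finset.sum_congr rfl (fun x _ => hterm _ (hall x)), Finset.sum_const, Finset.card_univ,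
        ← Nat.card_eq_fintype_card, nsmul_eq_mul, mul_one] at h1
      have h2 : (χ : G → ℂ) 1 = 1 := by
        have := mul_left_cancel₀ hq0 (a := (Nat.card ↥(pCore p G) : ℂ)) (b := 1)
          (c := (χ : G → ℂ) 1) (by rw [mul_one]; exact h1)
        exact this.symm
      exact hnl h2
    set b : G := (x₀ : G) * a with hb
    have hbC : b ∈ Subgroup.centralizer ((pCore p G : Subgroup G) : Set G) :=
      Subgroup.mul_mem _ (hPle x₀.2) ha
    have hsing : ∀ x : ↥(pCore p G), x ≠ 1 → p ∣ orderOf ((x : G) * b) := by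
      intro x hx1
      have hox : orderOf (x : G) = p := by
        refine orderOf_eq_prime (hPexp _ x.2) ?_
        intro h
        exact hx1 (Subtype.ext h)
      have hcm : Commute (x : G) b := Subgroup.mem_centralizer_iff.mp hbC x x.2
      have hco : (orderOf (x : G)).Coprime (orderOf b) := by
        rw [hox]
        exact (Nat.Prime.coprime_iff_not_dvd hp).mpr hx₀
      rw [hcm.orderOf_mul_eq_mul_orderOf_of_coprime hco, hox]
      exact dvd_mul_right _ _
    have h1 := key b hbC
    rw [← Finset.add_sum_erase Finset.univ _ (Finset.mem_univ (1 : ↥(pCore p G)))] at h1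
    rw [Finset.sum_congr rfl (fun x hx => hterm _ (hsing x (Finset.mem_erase.mp hx).1)),
      Finset.sum_const, Finset.card_erase_of_mem (Finset.mem_univ _), Finset.card_univ,
      ← Nat.card_eq_fintype_card, nsmul_eq_mul, mul_one, Subgroup.coe_one, one_mul,
      Nat.cast_sub Nat.card_pos, Nat.cast_one] at h1
    have h2 : (χ : G → ℂ) b * conj ((χ : G → ℂ) b) = (χ : G → ℂ) 1 * (χ : G → ℂ) 1 := by
      rw [hdeg] at h1 ⊢
      linear_combination h1
    have h3 : ‖(χ : G → ℂ) b‖ = ‖(χ : G → ℂ) 1‖ := by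
      have h4 : ‖(χ : G → ℂ) b‖ ^ 2 = ‖(χ : G → ℂ) 1‖ ^ 2 := by
        have h5 := congrArg (fun z : ℂ => ‖z‖) h2
        simp only [norm_mul, Complex.norm_conj] at h5
        rw [sq, sq]
        exact h5
      exact (sq_eq_sq₀ (norm_nonneg _) (norm_nonneg _)).mp h4
    have hbZ := ru_mem_center_of_norm χ hfaith b h3
    have ha' : a = (x₀ : G)⁻¹ * b := by rw [hb, inv_mul_cancel_left]
    rw [ha']
    exact Subgroup.mul_mem_sup (Subgroup.inv_mem _ x₀.2) hbZ
  · exact sup_le hPle (Subgroup.center_le_centralizer _)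

end Cfsg.Agent.Lib.H14.RU
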