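import Mathlib
import Cfsg.Agent.Lib.H15.Tbl

set_option autoImplicit false

/-! # Two generating tuples with the same Schreier table generate isomorphic groups -/

namespace Cfsg.Agent.Lib.H14.SchreierIso

open Function Cfsg.Agent.Lib.H15.Tbl

variable {G H : Type*} [Group G] [Group H]

/-- every element of the closure is one of the listed words -/
theorem mem_closure_iff_word {n r : ℕ} (γ : Fin r → G) (w : Fin n → List (Fin r))
    (ρ : Fin r → Fin n → Fin n) (i₀ : Fin n) (hw0 : w i₀ = [])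
    (hf : ∀ k i, wprod γ (w i) * γ k = wprod γ (w (ρ k i)))
    (hfinj : Injective (fun i => wprod γ (w i))) (x : G) :
    x ∈ Subgroup.closure (Set.range γ) ↔ ∃ i, x = wprod γ (w i) := by
  have hρ : ∀ k, Surjective (ρ k) := by
    intro k
    apply Finite.injective_iff_surjective.1
    intro i j hij
    apply hfinj
    have h1 := hf k i
    have h2 := hf k j
    rw [hij] at h1
    exact mul_right_cancel (h1.trans h2.symm)
  constructor
  · intro hx
    induction hx using Subgroup.closure_induction_right with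
    | one => exact ⟨i₀, by rw [hw0]; rfl⟩
    | mul_right x hx y hy ih =>
      obtain ⟨i, rfl⟩ := ih
      obtain ⟨k, rfl⟩ := hy
      exact ⟨ρ k i, by rw [hf]⟩
    | mul_inv_cancel x hx y hy ih =>
      obtain ⟨i, rfl⟩ := ih
      obtain ⟨k, rfl⟩ := hy
      obtain ⟨j, rfl⟩ := hρ k i
      refine ⟨j, ?_⟩
      rw [← hf, mul_inv_cancel_right]
  · rintro ⟨i, rfl⟩
    generalize w i = l
    induction l with
    | nil => exact one_mem _
    | cons k l ih =>
      rw [wprod_cons]
      exact mul_mem (Subgroup.subset_closure ⟨k, rfl⟩) ih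

theorem card_closure {n r : ℕ} (γ : Fin r → G) (w : Fin n → List (Fin r))
    (ρ : Fin r → Fin n → Fin n) (i₀ : Fin n) (hw0 : w i₀ = [])
    (hf : ∀ k i, wprod γ (w i) * γ k = wprod γ (w (ρ k i)))
    (hfinj : Injective (fun i => wprod γ (w i))) :
    Nat.card (Subgroup.closure (Set.range γ)) = n := by
  have hmem := mem_closure_iff_word γ w ρ i₀ hw0 hf hfinj
  have e : Fin n ≃ ↥(Subgroup.closure (Set.range γ)) := by
    refine Equiv.ofBijective (fun i => ⟨wprod γ (w i), (hmem _).2 ⟨i, rfl⟩⟩) ⟨?_, ?_⟩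
    · intro i j hij
      apply hfinj
      exact congrArg Subtype.val hij
    · rintro ⟨x, hx⟩
      obtain ⟨i, rfl⟩ := (hmem x).1 hx
      exact ⟨i, rfl⟩
  rw [← Nat.card_congr e, Nat.card_fin]

/-- the isomorphism -/
theorem closure_equiv {n r : ℕ} (γ : Fin r → G) (γ' : Fin r → H) (w : Fin n → List (Fin r))
    (ρ : Fin r → Fin n → Fin n) (i₀ : Fin n) (hw0 : w i₀ = [])
    (hf : ∀ k i, wprod γ (w i) * γ k = wprod γ (w (ρ k i)))
    (hg : ∀ k i, wprod γ' (w i) * γ' k = wprod γ' (w (ρ k i)))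
    (hfinj : Injective (fun i => wprod γ (w i)))
    (hgker : ∀ i, wprod γ' (w i) = 1 → i = i₀) :
    Nonempty (↥(Subgroup.closure (Set.range γ)) ≃* ↥(Subgroup.closure (Set.range γ'))) := by
  classical
  set s : Set (G × H) := Set.range fun k => (γ k, γ' k) with hs
  set Γ : Subgroup (G × H) := Subgroup.closure s with hΓ
  have hρ : ∀ k, Surjective (ρ k) := by
    intro k
    apply Finite.injective_iff_surjective.1
    intro i j hij
    apply hfinj
    have h1 := hf k i
    have h2 := hf k j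
    rw [hij] at h1
    exact mul_right_cancel (h1.trans h2.symm)
  have hC : ∀ x ∈ Γ, ∃ i, x = (wprod γ (w i), wprod γ' (w i)) := by
    intro x hx
    induction hx using Subgroup.closure_induction_right with
    | one => exact ⟨i₀, by rw [hw0]; rfl⟩
    | mul_right x hx y hy ih =>
      obtain ⟨i, rfl⟩ := ih
      obtain ⟨k, rfl⟩ := hy
      exact ⟨ρ k i, by rw [Prod.mk_mul_mk, hf, hg]⟩
    | mul_inv_cancel x hx y hy ih =>
      obtain ⟨i, rfl⟩ := ih
      obtain ⟨k, rfl⟩ := hy
      obtain ⟨j, rfl⟩ := hρ k i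
      refine ⟨j, ?_⟩
      rw [← hf, ← hg, Prod.inv_mk, Prod.mk_mul_mk, mul_inv_cancel_right, mul_inv_cancel_right]
  have h1 : Injective ((MonoidHom.fst G H).comp Γ.subtype) := by
    rw [injective_iff_map_eq_one]
    rintro ⟨x, hx⟩ h1
    obtain ⟨i, rfl⟩ := hC x hx
    have h2 : wprod γ (w i) = 1 := h1
    have h3 : i = i₀ := by
      apply hfinj
      show wprod γ (w i) = wprod γ (w i₀)
      rw [h2, hw0]; rfl
    subst h3
    apply Subtype.ext
    show (wprod γ (w i), wprod γ' (w i)) = 1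
    rw [hw0]; rfl
  have h2 : Injective ((MonoidHom.snd G H).comp Γ.subtype) := by
    rw [injective_iff_map_eq_one]
    rintro ⟨x, hx⟩ h1
    obtain ⟨i, rfl⟩ := hC x hx
    have h2 : wprod γ' (w i) = 1 := h1
    have h3 : i = i₀ := hgker i h2
    subst h3
    apply Subtype.ext
    show (wprod γ (w i), wprod γ' (w i)) = 1
    rw [hw0]; rfl
  have r1 : ((MonoidHom.fst G H).comp Γ.subtype).range = Subgroup.closure (Set.range γ) := by
    rw [MonoidHom.range_comp, Subgroup.range_subtype, hΓ, MonoidHom.map_closure]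
    congr 1
    ext x
    constructor
    · rintro ⟨_, ⟨k, rfl⟩, rfl⟩
      exact ⟨k, rfl⟩
    · rintro ⟨k, rfl⟩
      exact ⟨_, ⟨k, rfl⟩, rfl⟩
  have r2 : ((MonoidHom.snd G H).comp Γ.subtype).range = Subgroup.closure (Set.range γ') := by
    rw [MonoidHom.range_comp, Subgroup.range_subtype, hΓ, MonoidHom.map_closure]
    congr 1
    ext x
    constructor
    · rintro ⟨_, ⟨k, rfl⟩, rfl⟩
      exact ⟨k, rfl⟩
    · rintro ⟨k, rfl⟩
      exact ⟨_, ⟨k, rfl⟩, rfl⟩
  have e1 : ↥Γ ≃* ↥(Subgroup.closure (Set.range γ)) :=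
    (MonoidHom.ofInjective h1).trans (MulEquiv.subgroupCongr r1)
  have e2 : ↥Γ ≃* ↥(Subgroup.closure (Set.range γ')) :=
    (MonoidHom.ofInjective h2).trans (MulEquiv.subgroupCongr r2)
  exact ⟨e1.symm.trans e2⟩

end Cfsg.Agent.Lib.H14.SchreierIso
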