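import Mathlib
import Cfsg.Agent.Lib.H14.ReeA
import Cfsg.Agent.Lib.H14.SchreierIso
import Cfsg.Agent.Lib.H14.CommClosure

set_option autoImplicit false
set_option linter.unusedSimpArgs false

/-! # The derived subgroup of `²G₂(3)` has order 504, with an explicit Schreier table -/

namespace Cfsg.Agent.Lib.H14.ReeB

open Cfsg.Lie Matrix Cfsg.Agent.Lib.H14.ReeTab Cfsg.Agent.Lib.H14.ReeA
  Cfsg.Agent.Lib.H15.Tbl
open scoped commutatorElement

/-- the two generators of the derived subgroup -/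
noncomputable def gam : Fin 2 → R3 := ![⁅rg 3, rg 30⁆, ⁅rg 1, rg 29⁆ ^ 3]

/-- the two generators of the whole group -/
noncomputable def ab : Fin 2 → R3 := ![rg 1, rg 30]

theorem eq_of_rhoR {g h : R3} (hgh : ∀ x, rhoR g x = rhoR h x) : g = h :=
  rhoR_injective (Equiv.Perm.ext hgh)

theorem rhoR_inv_rg (j : Fin 54) (x : Fin 56) : rhoR (rg j)⁻¹ x = gq (ginv j) x := by
  rw [rg_inv, rhoR_rg]

theorem rhoR_comm (i j : Fin 54) (x : Fin 56) :
    rhoR ⁅rg i, rg j⁆ x = gq i (gq j (gq (ginv i) (gq (ginv j) x))) := by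
  rw [commutatorElement_def, map_mul, map_mul, map_mul, Equiv.Perm.mul_apply,
    Equiv.Perm.mul_apply, Equiv.Perm.mul_apply, rhoR_inv_rg, rhoR_inv_rg, rhoR_rg, rhoR_rg]

theorem rhoR_gam (k : Fin 2) (x : Fin 56) : rhoR (gam k) x = gamF k x := by
  rcases Fin.exists_fin_two.1 ⟨k, rfl⟩ with h | h
  · rw [h]
    show rhoR ⁅rg 3, rg 30⁆ x = _
    rw [rhoR_comm, Sa]
  · rw [h]
    show rhoR (⁅rg 1, rg 29⁆ ^ 3) x = _
    rw [pow_succ, pow_two, map_mul, map_mul, Equiv.Perm.mul_apply, Equiv.Perm.mul_apply, Sb]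
    have hc : ∀ y, rhoR ⁅rg 1, rg 29⁆ y = cF y := fun y => rhoR_comm 1 29 y
    rw [hc, hc, hc]

theorem rhoR_wprod_gam (w : List (Fin 2)) (x : Fin 56) :
    rhoR (wprod gam w) x = wptS w x := by
  induction w with
  | nil => simp [wprod, wptS]
  | cons k w ih =>
    rw [wprod_cons, map_mul, Equiv.Perm.mul_apply, ih, rhoR_gam]
    rfl

theorem rhoR_ab (k : Fin 2) (x : Fin 56) : rhoR (ab k) x = abF k x := by
  rcases Fin.exists_fin_two.1 ⟨k, rfl⟩ with h | h
  · rw [h]
    show rhoR (rg 1) x = _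
    rw [rhoR_rg]
    rfl
  · rw [h]
    show rhoR (rg 30) x = _
    rw [rhoR_rg]
    rfl

theorem rhoR_ab_inv (k : Fin 2) (x : Fin 56) : rhoR (ab k)⁻¹ x = abFi k x := by
  rcases Fin.exists_fin_two.1 ⟨k, rfl⟩ with h | h
  · rw [h]
    show rhoR (rg 1)⁻¹ x = _
    rw [rhoR_inv_rg]
    rfl
  · rw [h]
    show rhoR (rg 30)⁻¹ x = _
    rw [rhoR_inv_rg]
    rfl

theorem rhoR_wprod_ab (w : List (Fin 2)) (x : Fin 56) :
    rhoR (wprod ab w) x = wptG w x := by
  induction w with
  | nil => simp [wprod, wptG]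
  | cons k w ih =>
    rw [wprod_cons, map_mul, Equiv.Perm.mul_apply, ih, rhoR_ab]
    rfl

theorem hf_gam (k : Fin 2) (i : Fin 504) :
    wprod gam (wS i) * gam k = wprod gam (wS (rhoS k i)) := by
  apply eq_of_rhoR
  intro x
  rw [map_mul, Equiv.Perm.mul_apply, rhoR_gam, rhoR_wprod_gam, rhoR_wprod_gam, S1]

theorem hfinj_gam : Function.Injective (fun i => wprod gam (wS i)) := by
  intro i j hij
  have h := List.nodup_ofFn.1 S2
  apply h
  have hij' : wprod gam (wS i) = wprod gam (wS j) := hij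
  show (wptS (wS i) 0).val + 64 * (wptS (wS i) 2).val
    = (wptS (wS j) 0).val + 64 * (wptS (wS j) 2).val
  rw [← rhoR_wprod_gam, ← rhoR_wprod_gam, ← rhoR_wprod_gam, ← rhoR_wprod_gam, hij']

/-- the subgroup generated by the two elements -/
noncomputable def T : Subgroup R3 := Subgroup.closure (Set.range gam)

theorem card_T : Nat.card T = 504 :=
  SchreierIso.card_closure gam wS rhoS 0 wS_zero hf_gam hfinj_gam

theorem wprod_mem_T (w : List (Fin 2)) : wprod gam w ∈ T := by
  induction w with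
  | nil => exact one_mem _
  | cons k w ih =>
    rw [wprod_cons]
    exact mul_mem (Subgroup.subset_closure ⟨k, rfl⟩) ih

theorem closure_ab : Subgroup.closure (Set.range ab) = ⊤ := by
  rw [eq_top_iff, ← closure_rg, Subgroup.closure_le]
  rintro _ ⟨j, rfl⟩
  have h : rg j = wprod ab (gwS j) := by
    apply eq_of_rhoR
    intro x
    rw [rhoR_rg, rhoR_wprod_ab, S3]
  rw [h]
  generalize gwS j = w
  induction w with
  | nil => exact one_mem _
  | cons k w ih =>
    rw [wprod_cons]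
    exact mul_mem (Subgroup.subset_closure ⟨k, rfl⟩) ih

theorem conj_mem_closure {G : Type*} [Group G] (g : G) (S : Set G) (U : Subgroup G)
    (h : ∀ s ∈ S, g * s * g⁻¹ ∈ U) : ∀ x ∈ Subgroup.closure S, g * x * g⁻¹ ∈ U := by
  intro x hx
  induction hx using Subgroup.closure_induction with
  | mem s hs => exact h s hs
  | one => simp
  | mul x y hx hy h1 h2 =>
    have : g * (x * y) * g⁻¹ = (g * x * g⁻¹) * (g * y * g⁻¹) := by group
    rw [this]
    exact mul_mem h1 h2
  | inv x hx h1 =>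
    have : g * x⁻¹ * g⁻¹ = (g * x * g⁻¹)⁻¹ := by group
    rw [this]
    exact inv_mem h1

theorem conj_gam (s k : Fin 2) :
    ab s * gam k * (ab s)⁻¹ = wprod gam (wS (nidx s k)) ∧
      (ab s)⁻¹ * gam k * ab s = wprod gam (wS (nidxi s k)) := by
  constructor
  · apply eq_of_rhoR
    intro x
    rw [map_mul, map_mul, Equiv.Perm.mul_apply, Equiv.Perm.mul_apply, rhoR_ab, rhoR_gam,
      rhoR_ab_inv, rhoR_wprod_gam, (S4 s k x).1]
  · apply eq_of_rhoR
    intro x
    rw [map_mul, map_mul, Equiv.Perm.mul_apply, Equiv.Perm.mul_apply, rhoR_ab, rhoR_gam,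
      rhoR_ab_inv, rhoR_wprod_gam, (S4 s k x).2]

theorem comm_ab : ⁅ab 0, ab 1⁆ = wprod gam (wS 357) ∧ ⁅ab 1, ab 0⁆ = wprod gam (wS 448) := by
  constructor
  · apply eq_of_rhoR
    intro x
    rw [commutatorElement_def, map_mul, map_mul, map_mul, Equiv.Perm.mul_apply,
      Equiv.Perm.mul_apply, Equiv.Perm.mul_apply, rhoR_ab, rhoR_ab, rhoR_ab_inv, rhoR_ab_inv,
      rhoR_wprod_gam, (S5 x).1]
  · apply eq_of_rhoR
    intro x
    rw [commutatorElement_def, map_mul, map_mul, map_mul, Equiv.Perm.mul_apply,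
      Equiv.Perm.mul_apply, Equiv.Perm.mul_apply, rhoR_ab, rhoR_ab, rhoR_ab_inv, rhoR_ab_inv,
      rhoR_wprod_gam, (S5 x).2]

theorem commutator_eq_T : commutator R3 = T := by
  apply le_antisymm
  · rw [commutator_def, ← closure_ab]
    apply CommClosure.commutator_closure_le
    · rintro _ ⟨s, rfl⟩ h hh
      constructor
      · refine conj_mem_closure (ab s) (Set.range gam) T ?_ h hh
        rintro _ ⟨k, rfl⟩
        rw [(conj_gam s k).1]
        exact wprod_mem_T _
      · have := conj_mem_closure (ab s)⁻¹ (Set.range gam) T ?_ h hh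
        · rwa [inv_inv] at this
        · rintro _ ⟨k, rfl⟩
          rw [inv_inv, (conj_gam s k).2]
          exact wprod_mem_T _
    · rintro _ ⟨s, rfl⟩ _ ⟨t, rfl⟩
      rcases Fin.exists_fin_two.1 ⟨s, rfl⟩ with hs | hs <;>
        rcases Fin.exists_fin_two.1 ⟨t, rfl⟩ with ht | ht <;> rw [hs, ht]
      · rw [commutatorElement_self]; exact one_mem _
      · rw [comm_ab.1]; exact wprod_mem_T _
      · rw [comm_ab.2]; exact wprod_mem_T _
      · rw [commutatorElement_self]; exact one_mem _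
  · unfold T
    rw [Subgroup.closure_le]
    rintro _ ⟨k, rfl⟩
    have hc : ∀ a b : R3, ⁅a, b⁆ ∈ commutator R3 := by
      intro a b
      rw [commutator_def]
      exact Subgroup.commutator_mem_commutator (Subgroup.mem_top a) (Subgroup.mem_top b)
    rcases Fin.exists_fin_two.1 ⟨k, rfl⟩ with h | h
    · rw [h]
      exact hc _ _
    · rw [h]
      exact pow_mem (hc _ _) 3

end Cfsg.Agent.Lib.H14.ReeB
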