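import Mathlib
import Cfsg.Agent.Lib.H14.ReeTab2
import Cfsg.Agent.Lib.H14.F8

set_option autoImplicit false
set_option maxRecDepth 100000

/-! # `SL(2,8)` with the Schreier table of the derived subgroup of `²G₂(3)` -/

namespace Cfsg.Agent.Lib.H14.SL8Tab

open Matrix Cfsg.Agent.Lib.H14 Cfsg.Agent.Lib.H14.ReeTab

/-- two by two matrices as tuples -/
abbrev M2 : Type := F8 × F8 × F8 × F8

/-- product -/
def mul2 (x y : M2) : M2 :=
  (x.1 * y.1 + x.2.1 * y.2.2.1, x.1 * y.2.1 + x.2.1 * y.2.2.2,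
    x.2.2.1 * y.1 + x.2.2.2 * y.2.2.1, x.2.2.1 * y.2.1 + x.2.2.2 * y.2.2.2)

/-- identity -/
def one2 : M2 := (1, 0, 0, 1)

/-- the two generators -/
def g2 (k : Fin 2) : M2 := if k = 0 then (0, 1, 1, 0) else (0, F8.f2, F8.f5, 1)

/-- the product along a word -/
def wm2 (w : List (Fin 2)) : M2 := w.foldr (fun k y => mul2 (g2 k) y) one2

/-- indices of the upper transvections -/
def tU : F8 → Fin 504
  | .f0 => 0 | .f1 => 301 | .f2 => 393 | .f3 => 442 | .f4 => 104 | .f5 => 230 | .f6 => 68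
  | .f7 => 498

/-- indices of the lower transvections -/
def tL : F8 → Fin 504
  | .f0 => 0 | .f1 => 223 | .f2 => 363 | .f3 => 465 | .f4 => 74 | .f5 => 308 | .f6 => 99
  | .f7 => 472

theorem H1 : ∀ (k : Fin 2) (i : Fin 504), mul2 (wm2 (wS i)) (g2 k) = wm2 (wS (rhoS k i)) := by
  decide +kernel

theorem H2 : ∀ i : Fin 504, wm2 (wS i) = one2 → i = 0 := by decide +kernel

theorem H3 : ∀ t : F8, wm2 (wS (tU t)) = (1, t, 0, 1) ∧ wm2 (wS (tL t)) = (1, 0, t, 1) := by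
  decide +kernel

theorem H4 : ∀ k : Fin 2, (g2 k).1 * (g2 k).2.2.2 - (g2 k).2.1 * (g2 k).2.2.1 = 1 := by decide

end Cfsg.Agent.Lib.H14.SL8Tab
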