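import Mathlib
import Cfsg.Agent.Lib.H14.ReeB
import Cfsg.Agent.Lib.H14.SL8Tab
import Cfsg.Agent.Lib.H2.SLGen
import Cfsg.Agent.Lib.H3.CenterIso

set_option autoImplicit false
set_option linter.unusedSimpArgs false

/-! # The derived subgroup of `²G₂(3)` is `PSL(2,8)` -/

namespace Cfsg.Agent.Lib.H14.ReeC

open Cfsg.Lie Matrix Cfsg.Agent.Lib.H14.ReeTab Cfsg.Agent.Lib.H14.ReeA
  Cfsg.Agent.Lib.H14.ReeB Cfsg.Agent.Lib.H14.SL8Tab Cfsg.Agent.Lib.H15.Tbl Cfsg.Agent.Lib.H14

/-- the matrix of a tuple -/
def toMat (m : M2) : Matrix (Fin 2) (Fin 2) F8 := !![m.1, m.2.1; m.2.2.1, m.2.2.2]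

theorem toMat_mul (x y : M2) : toMat (mul2 x y) = toMat x * toMat y := by
  ext i j
  fin_cases i <;> fin_cases j <;> simp [toMat, mul2, Matrix.mul_apply, Fin.sum_univ_two]

theorem toMat_one : toMat one2 = 1 := by
  ext i j
  fin_cases i <;> fin_cases j <;> simp [toMat, one2]

theorem toMat_inj {x y : M2} (h : toMat x = toMat y) : x = y := by
  have h00 := congrFun (congrFun h 0) 0
  have h01 := congrFun (congrFun h 0) 1
  have h10 := congrFun (congrFun h 1) 0
  have h11 := congrFun (congrFun h 1) 1
  simp [toMat] at h00 h01 h10 h11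
  obtain ⟨a, b, c, d⟩ := x
  obtain ⟨a', b', c', d'⟩ := y
  simp only at h00 h01 h10 h11
  rw [h00, h01, h10, h11]

/-- the group `SL(2,8)` -/
abbrev SL8 : Type := SpecialLinearGroup (Fin 2) F8

/-- the two generators in `SL(2,8)` -/
def gam' (k : Fin 2) : SL8 :=
  ⟨toMat (g2 k), by
    rw [Matrix.det_fin_two]
    simpa [toMat] using H4 k⟩

theorem val_wprod (w : List (Fin 2)) :
    ((wprod gam' w : SL8) : Matrix (Fin 2) (Fin 2) F8) = toMat (wm2 w) := by
  induction w with
  | nil =>
    rw [wprod_nil]
    exact toMat_one.symm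
  | cons k w ih =>
    rw [wprod_cons, Matrix.SpecialLinearGroup.coe_mul, ih]
    show toMat (g2 k) * _ = toMat (mul2 (g2 k) (wm2 w))
    rw [toMat_mul]

theorem hg_gam' (k : Fin 2) (i : Fin 504) :
    wprod gam' (wS i) * gam' k = wprod gam' (wS (rhoS k i)) := by
  apply Subtype.ext
  rw [Matrix.SpecialLinearGroup.coe_mul, val_wprod, val_wprod]
  show toMat _ * toMat (g2 k) = _
  rw [← toMat_mul, H1]

theorem hgker_gam' (i : Fin 504) (h : wprod gam' (wS i) = 1) : i = 0 := by
  apply H2
  apply toMat_inj
  rw [← val_wprod, h, toMat_one]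
  rfl

theorem transv_mem (i j : Fin 2) (h : i ≠ j) (c : F8) :
    SpecialLinearGroup.transvection h c ∈ Subgroup.closure (Set.range gam') := by
  have hw : ∀ w : List (Fin 2), wprod gam' w ∈ Subgroup.closure (Set.range gam') := by
    intro w
    induction w with
    | nil => exact one_mem _
    | cons k w ih =>
      rw [wprod_cons]
      exact mul_mem (Subgroup.subset_closure ⟨k, rfl⟩) ih
  fin_cases i <;> fin_cases j
  · exact absurd rfl h
  · have : SpecialLinearGroup.transvection h c = wprod gam' (wS (tU c)) := by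
      apply Subtype.ext
      rw [val_wprod, (H3 c).1]
      ext a b
      fin_cases a <;> fin_cases b <;>
        simp [toMat, SpecialLinearGroup.transvection, Matrix.transvection, Matrix.single,
          Matrix.one_apply]
    rw [this]
    exact hw _
  · have : SpecialLinearGroup.transvection h c = wprod gam' (wS (tL c)) := by
      apply Subtype.ext
      rw [val_wprod, (H3 c).2]
      ext a b
      fin_cases a <;> fin_cases b <;>
        simp [toMat, SpecialLinearGroup.transvection, Matrix.transvection, Matrix.single,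
          Matrix.one_apply]
    rw [this]
    exact hw _
  · exact absurd rfl h

theorem closure_gam' : Subgroup.closure (Set.range gam') = ⊤ := by
  rw [eq_top_iff, ← Cfsg.Agent.Lib.H2.SL_closure_transvection, Subgroup.closure_le]
  rintro _ ⟨i, j, h, c, rfl⟩
  exact transv_mem i j h c

theorem sq_eq_one : ∀ r : F8, r ^ 2 = 1 → r = 1 := by decide

theorem center_SL8 : Subgroup.center SL8 = ⊥ := by
  rw [eq_bot_iff]
  intro A hA
  rw [Matrix.SpecialLinearGroup.mem_center_iff] at hA
  obtain ⟨r, hr, hA⟩ := hA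
  rw [Fintype.card_fin] at hr
  rw [sq_eq_one r hr] at hA
  rw [Subgroup.mem_bot]
  apply Subtype.ext
  rw [← hA]
  simp

/-- ring isomorphisms induce isomorphisms of special linear groups -/
noncomputable def slEquiv {n : Type*} [DecidableEq n] [Fintype n] {R S : Type*} [CommRing R]
    [CommRing S] (e : R ≃+* S) : SpecialLinearGroup n R ≃* SpecialLinearGroup n S :=
  { toFun := SpecialLinearGroup.map (e : R →+* S)
    invFun := SpecialLinearGroup.map (e.symm : S →+* R)
    left_inv := fun g => by
      apply Subtype.ext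
      ext i j
      show e.symm (e (g i j)) = g i j
      simp
    right_inv := fun g => by
      apply Subtype.ext
      ext i j
      show e (e.symm (g i j)) = g i j
      simp
    map_mul' := fun g h => map_mul _ g h }

theorem main {L : Type*} [Field L] [Fintype L] (hL : Fintype.card L = 8) :
    Nat.card ↥(commutator ↥(twistedG2 (ZMod 3) 1)) = 504 ∧
      Nonempty (↥(commutator ↥(twistedG2 (ZMod 3) 1)) ≃*
        Matrix.ProjectiveSpecialLinearGroup (Fin 2) L) := by
  have hcomm : commutator ↥(twistedG2 (ZMod 3) 1) = T := commutator_eq_T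
  constructor
  · rw [hcomm]
    exact card_T
  · obtain ⟨e1⟩ := SchreierIso.closure_equiv gam gam' wS rhoS 0 wS_zero hf_gam hg_gam' hfinj_gam
      hgker_gam'
    have e0 : ↥(commutator ↥(twistedG2 (ZMod 3) 1)) ≃* ↥T := MulEquiv.subgroupCongr hcomm
    have e2 : ↥(Subgroup.closure (Set.range gam')) ≃* SL8 :=
      (MulEquiv.subgroupCongr closure_gam').trans Subgroup.topEquiv
    have e3 : SL8 ≃* Matrix.ProjectiveSpecialLinearGroup (Fin 2) F8 :=
      ((QuotientGroup.quotientBot (G := SL8)).symm).trans
        (QuotientGroup.quotientMulEquivOfEq center_SL8.symm)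
    have eF : F8 ≃+* L := FiniteField.ringEquivOfCardEq (by rw [F8.card_eq, hL])
    have e4 : Matrix.ProjectiveSpecialLinearGroup (Fin 2) F8 ≃*
        Matrix.ProjectiveSpecialLinearGroup (Fin 2) L :=
      Cfsg.Agent.Lib.H3.CenterIso.quotCenterCongr (slEquiv eF)
    exact ⟨((e0.trans e1).trans e2).trans (e3.trans e4)⟩

end Cfsg.Agent.Lib.H14.ReeC
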