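import Cfsg.Agent.Lib.H9.S3571Defs

/-! S3571 GR block, piece (M6C) of helper9's cut: inside `A_6`, a proper subgroup `K` and the largest
prime divisor `r` of its index; some element of order `r` has no conjugate in `K`. -/

set_option autoImplicit false

namespace Cfsg.Agent.Lib.H14.S3571M6C

open Equiv
open scoped Pointwise


/-- (L1) if the prime `r` divides `|G|` but not `|K|`, a Cauchy element of order `r` has no conjugate in `K`. -/
theorem exists_of_not_dvd {G : Type*} [Group G] [Finite G] (K : Subgroup G) (r : ℕ) (hr : r.Prime)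
    (hG : r ∣ Nat.card G) (hK : ¬ r ∣ Nat.card ↥K) :
    ∃ t : G, orderOf t = r ∧ ∀ g : G, g⁻¹ * t * g ∉ K := by
  have := Fact.mk hr
  obtain ⟨t, ht⟩ := exists_prime_orderOf_dvd_card' r hG
  refine ⟨t, ht, fun g hg => hK ?_⟩
  have h1 : orderOf (g⁻¹ * t * g) = r := by
    have hs : SemiconjBy g (g⁻¹ * t * g) t := by
      unfold SemiconjBy; group
    rw [hs.orderOf_eq, ht]
  have h2 : orderOf (⟨g⁻¹ * t * g, hg⟩ : ↥K) = r := by
    rw [← h1]; exact (Subgroup.orderOf_mk _ hg)
  rw [← h2]
  exact orderOf_dvd_natCard _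

/-- (L2) in a finite group whose order is not divisible by `p²`, any two elements of order `p`
generate conjugate subgroups. -/
theorem conj_mem_zpowers {K : Type*} [Group K] [Finite K] (p : ℕ) [hp : Fact p.Prime]
    (hp2 : ¬ p ^ 2 ∣ Nat.card K) (x y : K) (hx : orderOf x = p) (hy : orderOf y = p) :
    ∃ k : K, k * x * k⁻¹ ∈ Subgroup.zpowers y := by
  have hpx : IsPGroup p ↥(Subgroup.zpowers x) :=
    IsPGroup.of_card (n := 1) (by rw [Nat.card_zpowers, hx, pow_one])
  have hpy : IsPGroup p ↥(Subgroup.zpowers y) :=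
    IsPGroup.of_card (n := 1) (by rw [Nat.card_zpowers, hy, pow_one])
  obtain ⟨P, hP⟩ := hpx.exists_le_sylow
  obtain ⟨Q, hQ⟩ := hpy.exists_le_sylow
  have hcard : ∀ R : Sylow p K, Nat.card ↥(R : Subgroup K) ≤ p := by
    intro R
    obtain ⟨n, hn⟩ := (IsPGroup.iff_card.mp R.isPGroup')
    have hdvd : p ^ n ∣ Nat.card K := hn ▸ Subgroup.card_subgroup_dvd_card (R : Subgroup K)
    have hn1 : n ≤ 1 := by
      by_contra h
      have h2 : 2 ≤ n := by omega
      exact hp2 (dvd_trans (pow_dvd_pow p h2) hdvd)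
    rw [hn]
    calc p ^ n ≤ p ^ 1 := Nat.pow_le_pow_right hp.out.pos hn1
      _ = p := pow_one p
  have hPx : Subgroup.zpowers x = (P : Subgroup K) := by
    apply Subgroup.eq_of_le_of_card_ge hP
    rw [Nat.card_zpowers, hx]; exact hcard P
  have hQy : Subgroup.zpowers y = (Q : Subgroup K) := by
    apply Subgroup.eq_of_le_of_card_ge hQ
    rw [Nat.card_zpowers, hy]; exact hcard Q
  obtain ⟨k, hk⟩ := MulAction.exists_smul_eq K P Q
  refine ⟨k, ?_⟩
  rw [hQy, ← hk]
  have hxP : x ∈ (P : Subgroup K) := hPx ▸ Subgroup.mem_zpowers x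
  have h3 : ((k • P : Sylow p K) : Subgroup K) = MulAut.conj k • (P : Subgroup K) :=
    Sylow.coe_subgroup_smul
  rw [h3]
  exact Subgroup.smul_mem_pointwise_smul x (MulAut.conj k) (P : Subgroup K) hxP



/-- in a finite simple group the order divides `index!` for every proper subgroup -/
theorem card_dvd_factorial_index {G : Type*} [Group G] [Finite G] [IsSimpleGroup G]
    (K : Subgroup G) (hK : K ≠ ⊤) : Nat.card G ∣ (K.index).factorial := by
  have hker : (MulAction.toPermHom G (G ⧸ K)).ker = ⊥ := by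
    rw [← Subgroup.normalCore_eq_ker]
    rcases (Subgroup.normalCore_normal K).eq_bot_or_eq_top with h | h
    · exact h
    · exfalso
      apply hK
      rw [eq_top_iff, ← h]
      exact Subgroup.normalCore_le K
  have hinj : Function.Injective (MulAction.toPermHom G (G ⧸ K)) :=
    (MonoidHom.ker_eq_bot_iff _).mp hker
  have h1 := Subgroup.card_dvd_of_injective _ hinj
  rwa [Nat.card_perm, ← Subgroup.index_eq_card] at h1

theorem card_A6 : Nat.card ↥(alternatingGroup (Fin 6)) = 360 := by
  rw [nat_card_alternatingGroup]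
  simp [Nat.factorial]

/-- the `3`-cycle `(0 1 2)` -/
def t1 : Perm (Fin 6) := swap 0 1 * swap 1 2
/-- the product `(0 1 2)(3 4 5)` -/
def t2 : Perm (Fin 6) := swap 0 1 * swap 1 2 * (swap 3 4 * swap 4 5)

theorem t1_mem : t1 ∈ alternatingGroup (Fin 6) := by
  rw [Equiv.Perm.mem_alternatingGroup]; decide
theorem t2_mem : t2 ∈ alternatingGroup (Fin 6) := by
  rw [Equiv.Perm.mem_alternatingGroup]; decide

theorem t1_supp : t1.support.card = 3 := by decide
theorem t2_supp : t2.support.card = 6 := by decide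
theorem t1_cube : t1 ^ 3 = 1 := by decide
theorem t2_cube : t2 ^ 3 = 1 := by decide
theorem t1_ne : t1 ≠ 1 := by decide
theorem t2_ne : t2 ≠ 1 := by decide


theorem orderOf_conj_inv {G : Type*} [Group G] (g t : G) : orderOf (g⁻¹ * t * g) = orderOf t := by
  have hs : SemiconjBy g (g⁻¹ * t * g) t := by
    unfold SemiconjBy; group
  exact hs.orderOf_eq

theorem card_support_conj_inv (σ τ : Perm (Fin 6)) :
    (σ⁻¹ * τ * σ).support.card = τ.support.card := by
  have h := Equiv.Perm.card_support_conj (σ := σ⁻¹) (τ := τ)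
  rwa [inv_inv] at h

/-- **(M6C)** in the exact shape of helper9's cut. -/
theorem m6core : Cfsg.Agent.Lib.H9.S3571.M6CoreStmt := by
  intro K r hK hr hrd hmax
  have hcard := card_A6
  have hmul : K.index * Nat.card ↥K = 360 := by
    rw [← hcard]; exact Subgroup.index_mul_card K
  have hsimple : IsSimpleGroup ↥(alternatingGroup (Fin 6)) :=
    alternatingGroup.isSimpleGroup (by simp)
  have hrG : r ∣ Nat.card ↥(alternatingGroup (Fin 6)) := by
    rw [hcard, ← hmul]; exact dvd_mul_of_dvd_left hrd _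
  have hr360 : r ∣ 360 := hcard ▸ hrG
  have hr235 : r = 2 ∨ r = 3 ∨ r = 5 := by
    have h360 : (360 : ℕ) = 2 ^ 3 * 3 ^ 2 * 5 := by norm_num
    rw [h360] at hr360
    rcases (Nat.Prime.dvd_mul hr).1 hr360 with h | h
    · rcases (Nat.Prime.dvd_mul hr).1 h with h | h
      · left; exact (Nat.prime_dvd_prime_iff_eq hr Nat.prime_two).1 (hr.dvd_of_dvd_pow h)
      · right; left
        exact (Nat.prime_dvd_prime_iff_eq hr Nat.prime_three).1 (hr.dvd_of_dvd_pow h)
    · right; right; exact (Nat.prime_dvd_prime_iff_eq hr Nat.prime_five).1 h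
  by_cases hrK : r ∣ Nat.card ↥K
  swap
  · exact exists_of_not_dvd K r hr hrG hrK
  have hr2 : r * r ∣ 360 := by rw [← hmul]; exact Nat.mul_dvd_mul hrd hrK
  rcases hr235 with rfl | rfl | rfl
  · -- r = 2 : the index is 8 and `|K| = 45` is odd
    exfalso
    have h3 : ¬ 3 ∣ K.index := fun h => by have := hmax 3 Nat.prime_three h; omega
    have h5 : ¬ 5 ∣ K.index := fun h => by have := hmax 5 Nat.prime_five h; omega
    have hidx : K.index ∣ 8 * 45 := by
      have : (8 * 45 : ℕ) = 360 := by norm_num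
      rw [this, ← hmul]; exact dvd_mul_right _ _
    have hc3 : Nat.Coprime K.index 3 :=
      (Nat.coprime_comm.mp ((Nat.Prime.coprime_iff_not_dvd Nat.prime_three).2 h3))
    have hc5 : Nat.Coprime K.index 5 :=
      (Nat.coprime_comm.mp ((Nat.Prime.coprime_iff_not_dvd Nat.prime_five).2 h5))
    have hc45 : Nat.Coprime K.index 45 := by
      have : (45 : ℕ) = 3 * 3 * 5 := by norm_num
      rw [this]
      exact Nat.Coprime.mul_right (Nat.Coprime.mul_right hc3 hc3) hc5
    have h8 : K.index ∣ 8 := Nat.Coprime.dvd_of_dvd_mul_right hc45 hidx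
    have hle : K.index ≤ 8 := Nat.le_of_dvd (by norm_num) h8
    have hfac := card_dvd_factorial_index K hK
    rw [hcard] at hfac
    have hpos : 0 < K.index := Nat.pos_of_ne_zero (fun h => by rw [h] at hrd; omega)
    interval_cases hi : K.index
    · omega
    · norm_num [Nat.factorial] at hfac
    · omega
    · norm_num [Nat.factorial] at hfac
    · omega
    · omega
    · omega
    · have h45 : Nat.card ↥K = 45 := by omega
      rw [h45] at hrK; omega
  · -- r = 3
    have h9 : ¬ 3 ^ 2 ∣ Nat.card ↥K := by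
      intro h
      have h27 : 3 * 3 ^ 2 ∣ 360 := by rw [← hmul]; exact Nat.mul_dvd_mul hrd h
      omega
    let T1 : ↥(alternatingGroup (Fin 6)) := ⟨t1, t1_mem⟩
    let T2 : ↥(alternatingGroup (Fin 6)) := ⟨t2, t2_mem⟩
    have hT1 : orderOf T1 = 3 := by
      have := Fact.mk Nat.prime_three
      apply orderOf_eq_prime
      · apply Subtype.ext; exact t1_cube
      · intro h; exact t1_ne (congrArg Subtype.val h)
    have hT2 : orderOf T2 = 3 := by
      have := Fact.mk Nat.prime_three
      apply orderOf_eq_prime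
      · apply Subtype.ext; exact t2_cube
      · intro h; exact t2_ne (congrArg Subtype.val h)
    by_cases h1 : ∃ g, g⁻¹ * T1 * g ∈ K
    swap
    · push Not at h1; exact ⟨T1, hT1, h1⟩
    by_cases h2 : ∃ g, g⁻¹ * T2 * g ∈ K
    swap
    · push Not at h2; exact ⟨T2, hT2, h2⟩
    exfalso
    obtain ⟨g1, hg1⟩ := h1
    obtain ⟨g2, hg2⟩ := h2
    have := Fact.mk Nat.prime_three
    let y : ↥K := ⟨g1⁻¹ * T1 * g1, hg1⟩
    let x : ↥K := ⟨g2⁻¹ * T2 * g2, hg2⟩
    have hy : orderOf y = 3 := by
      rw [← hT1, ← orderOf_conj_inv g1 T1]; exact Subgroup.orderOf_mk _ hg1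
    have hx : orderOf x = 3 := by
      rw [← hT2, ← orderOf_conj_inv g2 T2]; exact Subgroup.orderOf_mk _ hg2
    obtain ⟨k, hk⟩ := conj_mem_zpowers 3 h9 x y hx hy
    obtain ⟨i, hi⟩ := Subgroup.mem_zpowers_iff.mp hk
    let φ : ↥K →* Perm (Fin 6) := (alternatingGroup (Fin 6)).subtype.comp K.subtype
    have hφ := congrArg φ hi
    rw [map_zpow, map_mul, map_mul, map_inv] at hφ
    have hφy : φ y = (g1 : Perm (Fin 6))⁻¹ * t1 * g1 := rfl
    have hφx : φ x = (g2 : Perm (Fin 6))⁻¹ * t2 * g2 := rfl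
    have hc1 : (φ y ^ i).support.card ≤ 3 := by
      calc (φ y ^ i).support.card ≤ (φ y).support.card :=
            Finset.card_le_card (Equiv.Perm.support_zpow_le _ i)
        _ = 3 := by rw [hφy, card_support_conj_inv, t1_supp]
    have hc2 : (φ k * φ x * (φ k)⁻¹).support.card = 6 := by
      rw [Equiv.Perm.card_support_conj, hφx, card_support_conj_inv, t2_supp]
    rw [hφ] at hc1
    omega
  · -- r = 5
    exfalso; omega

end Cfsg.Agent.Lib.H14.S3571M6C
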