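import Cfsg.Agent.Lib.H9.S3776Defs

/-!
# S3776, piece (9) K1EX (helper14)

`K1 := {x | x² ∈ V ∧ ∀ g, [x,g] ∈ V}` is an `E`-invariant normal subgroup containing `V`, and if `G`
is not commutative it contains an element outside `V` (a central element of order 2 of `G ⧸ V`).
-/

set_option autoImplicit false

namespace Cfsg.Agent.Lib.H14.S3776K1Ex

open Cfsg.Agent.Lib.H9.S3776

universe u

section
variable {G : Type u} [Group G]

theorem conj_eq_of_central {V : Subgroup G} (hcen : ∀ v ∈ V, ∀ g : G, g * v = v * g)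
    {c : G} (hc : c ∈ V) (h : G) : h * c * h⁻¹ = c := by
  rw [hcen c hc h, mul_assoc, mul_inv_cancel, mul_one]

/-- the subgroup `K1` -/
def kSub (V : Subgroup G) (hcen : ∀ v ∈ V, ∀ g : G, g * v = v * g) : Subgroup G where
  carrier := {x | x ^ 2 ∈ V ∧ ∀ g : G, x * g * x⁻¹ * g⁻¹ ∈ V}
  one_mem' := by
    refine ⟨?_, fun g => ?_⟩
    · simp only [one_pow]; exact V.one_mem
    · have : (1 : G) * g * (1 : G)⁻¹ * g⁻¹ = 1 := by group
      rw [this]; exact V.one_mem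
  mul_mem' := by
    intro x y hx hy
    obtain ⟨hx2, hxc⟩ := hx
    obtain ⟨hy2, hyc⟩ := hy
    refine ⟨?_, fun g => ?_⟩
    · have hc : y * x * y⁻¹ * x⁻¹ ∈ V := hyc x
      have e1 : (x * y) ^ 2 = x * (y * x * y⁻¹ * x⁻¹) * x * y * y := by
        rw [pow_two]; group
      have e2 : x * (y * x * y⁻¹ * x⁻¹) = (y * x * y⁻¹ * x⁻¹) * x := hcen _ hc x
      have e3 : (x * y) ^ 2 = (y * x * y⁻¹ * x⁻¹) * x ^ 2 * y ^ 2 := by
        rw [e1, e2, pow_two, pow_two]; simp only [mul_assoc]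
      rw [e3]
      exact V.mul_mem (V.mul_mem hc hx2) hy2
    · have hd : y * g * y⁻¹ * g⁻¹ ∈ V := hyc g
      have e1 : x * y * g * (x * y)⁻¹ * g⁻¹ = x * (y * g * y⁻¹ * g⁻¹) * g * x⁻¹ * g⁻¹ := by group
      have e2 : x * (y * g * y⁻¹ * g⁻¹) = (y * g * y⁻¹ * g⁻¹) * x := hcen _ hd x
      have e3 : x * y * g * (x * y)⁻¹ * g⁻¹ = (y * g * y⁻¹ * g⁻¹) * (x * g * x⁻¹ * g⁻¹) := by
        rw [e1, e2]; group
      rw [e3]
      exact V.mul_mem hd (hxc g)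
  inv_mem' := by
    intro x hx
    obtain ⟨hx2, hxc⟩ := hx
    refine ⟨?_, fun g => ?_⟩
    · have : x⁻¹ ^ 2 = (x ^ 2)⁻¹ := inv_pow x 2
      rw [this]; exact V.inv_mem hx2
    · have hc : (x * g * x⁻¹ * g⁻¹)⁻¹ ∈ V := V.inv_mem (hxc g)
      have e1 : x⁻¹ * g * x⁻¹⁻¹ * g⁻¹ = x⁻¹ * (x * g * x⁻¹ * g⁻¹)⁻¹ * x⁻¹⁻¹ := by group
      rw [e1, conj_eq_of_central hcen hc x⁻¹]
      exact hc

theorem mem_kSub {V : Subgroup G} (hcen : ∀ v ∈ V, ∀ g : G, g * v = v * g) (x : G) :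
    x ∈ kSub V hcen ↔ (x ^ 2 ∈ V ∧ ∀ g : G, x * g * x⁻¹ * g⁻¹ ∈ V) := Iff.rfl

theorem kSub_normal {V : Subgroup G} (hcen : ∀ v ∈ V, ∀ g : G, g * v = v * g) :
    (kSub V hcen).Normal := by
  refine ⟨fun n hn h => ?_⟩
  obtain ⟨hn2, hnc⟩ := hn
  refine ⟨?_, fun g => ?_⟩
  · have e1 : (h * n * h⁻¹) ^ 2 = h * n ^ 2 * h⁻¹ := by
      rw [pow_two, pow_two]; group
    rw [e1, conj_eq_of_central hcen hn2 h]
    exact hn2
  · have hc : n * (h⁻¹ * g * h) * n⁻¹ * (h⁻¹ * g * h)⁻¹ ∈ V := hnc _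
    have e1 : h * n * h⁻¹ * g * (h * n * h⁻¹)⁻¹ * g⁻¹ =
        h * (n * (h⁻¹ * g * h) * n⁻¹ * (h⁻¹ * g * h)⁻¹) * h⁻¹ := by group
    rw [e1, conj_eq_of_central hcen hc h]
    exact hc

end

theorem k1ex : K1ExStmt.{u} := by
  intro G E _ _ _ _ φ V hyp fr
  have hcen := fr.cen
  refine ⟨kSub V hcen, ⟨mem_kSub hcen, kSub_normal hcen, ?_, ?_⟩, ?_⟩
  · -- E-invariance
    intro e x hx
    obtain ⟨hx2, hxc⟩ := hx
    refine ⟨?_, fun g => ?_⟩
    · have : (φ e x) ^ 2 = φ e (x ^ 2) := (map_pow (φ e) x 2).symm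
      rw [this]
      exact fr.inv e _ hx2
    · have hg : φ e ((φ e).symm g) = g := (φ e).apply_symm_apply g
      have e1 : φ e x * g * (φ e x)⁻¹ * g⁻¹ =
          φ e (x * (φ e).symm g * x⁻¹ * ((φ e).symm g)⁻¹) := by
        rw [map_mul, map_mul, map_mul, map_inv, map_inv, hg]
      rw [e1]
      exact fr.inv e _ (hxc _)
  · -- V ≤ K
    intro v hv
    refine ⟨?_, fun g => ?_⟩
    · rw [(fr.mem v).mp hv]; exact V.one_mem
    · have e1 : v * g * v⁻¹ * g⁻¹ = (g * v) * v⁻¹ * g⁻¹ := by rw [hcen v hv g]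
      have e2 : (g * v) * v⁻¹ * g⁻¹ = 1 := by group
      rw [e1, e2]; exact V.one_mem
  · -- an element outside V
    rintro ⟨a, b, hab⟩
    have hVn : V.Normal := ⟨fun n hn g => by rw [conj_eq_of_central hcen hn g]; exact hn⟩
    have haV : a ∉ V := fun ha => hab (hcen a ha b).symm
    have ha1 : ((a : G) : G ⧸ V) ≠ 1 := fun h => haV ((QuotientGroup.eq_one_iff a).mp h)
    have : Nontrivial (G ⧸ V) := ⟨⟨_, _, ha1⟩⟩
    have hQ : IsPGroup 2 (G ⧸ V) := hyp.pG.to_quotient V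
    have : Nontrivial (Subgroup.center (G ⧸ V)) := hQ.center_nontrivial
    obtain ⟨⟨z, hz⟩, hz1⟩ := exists_ne (1 : Subgroup.center (G ⧸ V))
    have hz1' : z ≠ 1 := fun h => hz1 (Subtype.ext h)
    -- minimal k with z^(2^k) = 1
    have hex : ∃ k : ℕ, z ^ (2 ^ k) = 1 := hQ z
    classical
    let k := Nat.find hex
    have hk : z ^ (2 ^ k) = 1 := Nat.find_spec hex
    have hk0 : k ≠ 0 := by
      intro h0
      rw [h0] at hk
      exact hz1' (by simpa using hk)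
    obtain ⟨m, hm⟩ := Nat.exists_eq_succ_of_ne_zero hk0
    have hm' : m < k := by omega
    have hzm : z ^ (2 ^ m) ≠ 1 := Nat.find_min hex hm'
    have hzm2 : (z ^ (2 ^ m)) ^ 2 = 1 := by
      have hk' : z ^ (2 ^ (m + 1)) = 1 := by
        have : k = m + 1 := hm
        rw [← this]; exact hk
      rw [← pow_mul, ← pow_succ]; exact hk'
    have hzmc : z ^ (2 ^ m) ∈ Subgroup.center (G ⧸ V) := Subgroup.pow_mem _ hz _
    obtain ⟨x, hx⟩ := QuotientGroup.mk_surjective (z ^ (2 ^ m))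
    refine ⟨x, ⟨?_, fun g => ?_⟩, ?_⟩
    · have : ((x ^ 2 : G) : G ⧸ V) = 1 := by
        rw [QuotientGroup.mk_pow, hx]; exact hzm2
      exact (QuotientGroup.eq_one_iff _).mp this
    · have hcomm : ((g : G) : G ⧸ V) * (x : G ⧸ V) = (x : G ⧸ V) * (g : G ⧸ V) := by
        rw [hx]; exact Subgroup.mem_center_iff.mp hzmc _
      have : ((x * g * x⁻¹ * g⁻¹ : G) : G ⧸ V) = 1 := by
        rw [QuotientGroup.mk_mul, QuotientGroup.mk_mul, QuotientGroup.mk_mul, QuotientGroup.mk_inv,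
          QuotientGroup.mk_inv, ← hcomm]
        group
      exact (QuotientGroup.eq_one_iff _).mp this
    · intro hxV
      apply hzm
      rw [← hx]
      exact (QuotientGroup.eq_one_iff x).mpr hxV

example : K1ExStmt.{0} := k1ex

end Cfsg.Agent.Lib.H14.S3776K1Ex
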