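import Cfsg.Agent.S0071
import Cfsg.Agent.Lib.H22.S3901Defs

/-!
# S3901 piece (3) STEP B (helper14, twin)

A finite group whose order is not a prime power has a nontrivial `p`-subgroup normalised by an
element of prime order `q ≠ p`; via the landed Frobenius normal `p`-complement theorem.
-/

set_option autoImplicit false

namespace Cfsg.Agent.Lib.H14.S3901StepB

universe u

/-- Case A: the Frobenius condition fails at the Sylow `p`-subgroup `P`. -/
theorem stepB_caseA {X : Type u} [Group X] [Finite X] {p : ℕ} (hp : p.Prime)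
    (Q : Subgroup X) (hQp : IsPGroup p Q) (g : X)
    (hgN : g ∈ Subgroup.normalizer (Q : Set X)) (hcop : Nat.Coprime (orderOf g) p)
    (hgC : g ∉ Subgroup.centralizer (Q : Set X)) :
    ∃ p q : ℕ, p.Prime ∧ q.Prime ∧ p ≠ q ∧ ∃ H : Subgroup X, IsPGroup p H ∧ H ≠ ⊥ ∧
      ∃ y : X, y ∈ Subgroup.normalizer (H : Set X) ∧ orderOf y = q := by
  have hQne : Q ≠ ⊥ := by
    rintro rfl
    apply hgC
    rw [Subgroup.mem_centralizer_iff]
    intro h hh
    have : h = 1 := by simpa using hh
    subst this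
    simp
  have hg1 : orderOf g ≠ 1 := by
    intro h
    rw [orderOf_eq_one_iff] at h
    apply hgC
    rw [h]
    exact one_mem _
  obtain ⟨q, hq, hqd⟩ := Nat.exists_prime_and_dvd hg1
  have hpq : p ≠ q := by
    rintro rfl
    have : p ∣ Nat.gcd (orderOf g) p := Nat.dvd_gcd hqd dvd_rfl
    rw [hcop] at this
    exact hp.one_lt.ne' (Nat.dvd_one.mp this)
  have hg0 : orderOf g ≠ 0 := (orderOf_pos g).ne'
  refine ⟨p, q, hp, hq, hpq, Q, hQp, hQne, g ^ (orderOf g / q), ?_, ?_⟩
  · exact pow_mem hgN _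
  · exact orderOf_pow_orderOf_div hg0 hqd

theorem stepB : Cfsg.Agent.Lib.H22.S3901Defs.StepBStmt.{u} := by
  intro X _ _ hnpp
  have hX1 : Nat.card X ≠ 1 := by
    intro h
    exact hnpp ⟨2, 0, Nat.prime_two, by rw [h, pow_zero]⟩
  obtain ⟨p, hp, hpd⟩ := Nat.exists_prime_and_dvd hX1
  haveI : Fact p.Prime := ⟨hp⟩
  obtain ⟨P⟩ : Nonempty (Sylow p X) := inferInstance
  by_cases hcond : ∀ Q : Subgroup X, Q ≤ (P : Subgroup X) →
      ∀ g ∈ Subgroup.normalizer (Q : Set X), Nat.Coprime (orderOf g) p →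
        g ∈ Subgroup.centralizer (Q : Set X)
  · -- normal complement
    obtain ⟨N, hNn, hNc⟩ := (Cfsg.Agent.S0071.result P).2 hcond
    haveI := hNn
    have hcard : Nat.card N * Nat.card (P : Subgroup X) = Nat.card X := hNc.card_mul
    have hPidx : (P : Subgroup X).index * Nat.card (P : Subgroup X) = Nat.card X :=
      (P : Subgroup X).index_mul_card
    have hNidx : N.index * Nat.card N = Nat.card X := N.index_mul_card
    have hPpos : 0 < Nat.card (P : Subgroup X) := Nat.card_pos
    have hNpos : 0 < Nat.card N := Nat.card_pos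
    have hNeqidx : Nat.card N = (P : Subgroup X).index :=
      Nat.eq_of_mul_eq_mul_right hPpos (hcard.trans hPidx.symm)
    have hNidxP : N.index = Nat.card (P : Subgroup X) := by
      have : N.index * Nat.card N = Nat.card (P : Subgroup X) * Nat.card N := by
        rw [hNidx, mul_comm, hcard]
      exact Nat.eq_of_mul_eq_mul_right hNpos this
    have hpN : ¬ p ∣ Nat.card N := by
      rw [hNeqidx]
      exact P.not_dvd_index
    have hN1 : Nat.card N ≠ 1 := by
      intro h
      obtain ⟨k, hk⟩ := IsPGroup.iff_card.mp P.isPGroup'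
      apply hnpp
      refine ⟨p, k, hp, ?_⟩
      rw [← hcard, h, one_mul]
      exact hk
    obtain ⟨q, hq, hqd⟩ := Nat.exists_prime_and_dvd hN1
    have hqp : q ≠ p := by
      rintro rfl
      exact hpN hqd
    haveI : Fact q.Prime := ⟨hq⟩
    obtain ⟨Q0⟩ : Nonempty (Sylow q N) := inferInstance
    have hfr : Subgroup.normalizer (((Q0 : Subgroup N).map N.subtype : Subgroup X) : Set X) ⊔ N
        = ⊤ := Sylow.normalizer_sup_eq_top Q0
    set Q1 : Subgroup X := (Q0 : Subgroup N).map N.subtype with hQ1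
    set H : Subgroup X := Subgroup.normalizer (Q1 : Set X) with hH
    have hQ1p : IsPGroup q Q1 := Q0.isPGroup'.map N.subtype
    have hQ0ne : (Q0 : Subgroup N) ≠ ⊥ := Q0.ne_bot_of_dvd_card hqd
    have hQ1ne : Q1 ≠ ⊥ := by
      intro h
      apply hQ0ne
      rw [hQ1] at h
      exact (Subgroup.map_eq_bot_iff_of_injective _ N.subtype_injective).mp h
    have hrel : N.relIndex H = N.index := by
      have h1 : N.relIndex (H ⊔ N) = N.relIndex H := Subgroup.relIndex_sup_right H N
      rw [hfr, Subgroup.relIndex_top_right] at h1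
      exact h1.symm
    have hpH : p ∣ Nat.card H := by
      have h1 : N.relIndex H ∣ Nat.card H := Subgroup.relIndex_dvd_card N H
      rw [hrel, hNidxP] at h1
      exact (P.dvd_card_of_dvd_card hpd).trans h1
    obtain ⟨y, hy⟩ := exists_prime_orderOf_dvd_card' (G := H) p hpH
    refine ⟨q, p, hq, hp, hqp, Q1, hQ1p, hQ1ne, (y : X), y.2, ?_⟩
    rw [Subgroup.orderOf_coe]
    exact hy
  · simp only [not_forall] at hcond
    obtain ⟨Q, hQP, g, hgN, hcop, hgC⟩ := hcond
    exact stepB_caseA hp Q (P.isPGroup'.to_le hQP) g hgN hcop hgC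

example : Cfsg.Agent.Lib.H22.S3901Defs.StepBStmt.{0} := stepB
example : Cfsg.Agent.Lib.H22.S3901Defs.StepBStmt.{3} := stepB

end Cfsg.Agent.Lib.H14.S3901StepB
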