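import Cfsg.Agent.Lib.H10.S4415BadDefs
import Cfsg.Agent.Lib.H27.Extraspecial

/-!
helper14: pieces `B9`, `B4'`, `B10` of the BAD block of S4415, in the exact shapes of
`Cfsg.Agent.Lib.H10.S4415BadDefs`.
-/

set_option autoImplicit false

namespace Cfsg.Agent.Lib.H14.S4415

open Cfsg Cfsg.Agent.Lib.H10.S4415

/-- (B9) recognition: `XS z R`, `|R| = 32` and an `E_8` inside give `Concl R`. -/
theorem b9 : B9Stmt := by
  intro S _ _ z R hXS hcard hA
  right
  refine ⟨?_, hcard, hA⟩
  have : Fact (Nat.Prime 2) := ⟨Nat.prime_two⟩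
  have hz2 : orderOf z = 2 := orderOf_eq_prime (by rw [pow_two]; exact hXS.z_sq) hXS.z_ne
  refine Cfsg.Agent.Lib.H27.isExtraspecial_subgroup 2 R (Subgroup.zpowers z) ?_ ?_ ?_ ?_ ?_ ?_
  · exact IsPGroup.of_card (n := 5) (by rw [hcard]; norm_num)
  · rw [Subgroup.zpowers_le]; exact hXS.zX
  · rw [Nat.card_zpowers, hz2]
  · apply le_antisymm
    · intro g hg
      obtain ⟨hgR, hgC⟩ := Subgroup.mem_inf.mp hg
      rw [Subgroup.mem_centralizer_iff] at hgC
      rcases hXS.center g hgR (fun h hh => (hgC h hh).symm) with rfl | rfl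
      · exact one_mem _
      · exact Subgroup.mem_zpowers _
    · rw [Subgroup.zpowers_le]
      refine Subgroup.mem_inf.mpr ⟨hXS.zX, ?_⟩
      rw [Subgroup.mem_centralizer_iff]
      intro h hh
      exact hXS.z_central h hh
  · apply le_antisymm
    · rw [Subgroup.commutator_le]
      intro g₁ h₁ g₂ h₂
      rw [commutatorElement_def]
      rcases hXS.comm g₁ h₁ g₂ h₂ with h | h <;> rw [h]
      · exact one_mem _
      · exact Subgroup.mem_zpowers _
    · rw [Subgroup.zpowers_le]
      obtain ⟨g, hg, hg1, hgz⟩ := hXS.big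
      by_contra hz
      have hcen : ∀ h ∈ R, g * h = h * g := by
        intro h hh
        rcases hXS.comm g hg h hh with hc | hc
        · have h1 : g * h * g⁻¹ = h := mul_inv_eq_one.mp hc
          exact mul_inv_eq_iff_eq_mul.mp h1
        · exfalso
          apply hz
          rw [← hc, ← commutatorElement_def]
          exact Subgroup.commutator_mem_commutator hg hh
      rcases hXS.center g hg hcen with h | h
      · exact hg1 h
      · exact hgz h
  · intro x hx
    rw [pow_two]
    rcases hXS.sq x hx with h | h <;> rw [h]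
    · exact one_mem _
    · exact Subgroup.mem_zpowers _

/-- (B4') `|X| ≡ 2 (mod 3)`: conjugation by `b` on `X` has exactly the fixed points `1, z`. -/
theorem b4' : B4'Stmt := by
  intro S _ _ b z X hb3 hbX hzX hz1 hbz hfix
  classical
  have : Fact (Nat.Prime 3) := ⟨Nat.prime_three⟩
  have : Fintype ↥X := Fintype.ofFinite _
  let f : Function.End ↥X := fun g => ⟨b * (g : S) * b⁻¹, hbX g g.2⟩
  have hf : f ^ 3 ^ 1 = 1 := by
    rw [pow_one, pow_succ, pow_succ, pow_one]
    funext g
    apply Subtype.ext
    show b * (b * (b * (g : S) * b⁻¹) * b⁻¹) * b⁻¹ = (g : S)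
    have h3 : b * b * b = 1 := hb3
    have h3' : b⁻¹ * b⁻¹ * b⁻¹ = 1 := by
      have : (b * b * b)⁻¹ = 1 := by rw [h3, inv_one]
      simpa [mul_inv_rev, mul_assoc] using this
    calc b * (b * (b * (g : S) * b⁻¹) * b⁻¹) * b⁻¹
        = (b * b * b) * (g : S) * (b⁻¹ * b⁻¹ * b⁻¹) := by group
      _ = (g : S) := by rw [h3, h3', one_mul, mul_one]
  have h1 := Equiv.Perm.card_fixedPoints_modEq (f := f) (p := 3) (n := 1) hf
  have hset : Function.fixedPoints f = {(⟨1, one_mem X⟩ : ↥X), (⟨z, hzX⟩ : ↥X)} := by
    ext g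
    simp only [Set.mem_insert_iff, Set.mem_singleton_iff]
    constructor
    · intro hg
      have hg' : f g = g := hg
      have h2 : b * (g : S) * b⁻¹ = (g : S) := congrArg Subtype.val hg'
      have h3 : b * (g : S) = (g : S) * b := mul_inv_eq_iff_eq_mul.mp h2
      rcases hfix g g.2 h3 with h | h
      · left; exact Subtype.ext h
      · right; exact Subtype.ext h
    · rintro (h | h)
      · rw [h]
        show f _ = _
        apply Subtype.ext
        show b * 1 * b⁻¹ = 1
        group
      · rw [h]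
        show f _ = _
        apply Subtype.ext
        show b * z * b⁻¹ = z
        rw [hbz, mul_assoc, mul_inv_cancel, mul_one]
  have hne : (⟨1, one_mem X⟩ : ↥X) ≠ (⟨z, hzX⟩ : ↥X) := by
    intro h
    exact hz1 (congrArg Subtype.val h).symm
  rw [Fintype.card_eq_nat_card, Fintype.card_eq_nat_card, Nat.card_coe_set_eq, hset,
    Set.ncard_pair hne] at h1
  exact h1

section Eight

variable {S : Type*} [Group S]

/-- the eight products `a^i c^j d^k`, `i, j, k ∈ {0, 1}` -/
def eightFun (a c d : S) (p : Bool × Bool × Bool) : S :=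
  (if p.1 then a else 1) * ((if p.2.1 then c else 1) * (if p.2.2 then d else 1))

theorem eightFun_mul (a c d : S) (ha : a * a = 1) (hc : c * c = 1) (hd : d * d = 1)
    (hac : a * c = c * a) (had : a * d = d * a) (hcd : c * d = d * c)
    (p q : Bool × Bool × Bool) :
    eightFun a c d p * eightFun a c d q =
      eightFun a c d (p.1 != q.1, p.2.1 != q.2.1, p.2.2 != q.2.2) := by
  have ha' : ∀ t : S, a * (a * t) = t := fun t => by rw [← mul_assoc, ha, one_mul]
  have hc' : ∀ t : S, c * (c * t) = t := fun t => by rw [← mul_assoc, hc, one_mul]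
  have hd' : ∀ t : S, d * (d * t) = t := fun t => by rw [← mul_assoc, hd, one_mul]
  have hca : c * a = a * c := hac.symm
  have hda : d * a = a * d := had.symm
  have hdc : d * c = c * d := hcd.symm
  have hca' : ∀ t : S, c * (a * t) = a * (c * t) := fun t => by
    rw [← mul_assoc, hca, mul_assoc]
  have hda' : ∀ t : S, d * (a * t) = a * (d * t) := fun t => by
    rw [← mul_assoc, hda, mul_assoc]
  have hdc' : ∀ t : S, d * (c * t) = c * (d * t) := fun t => by
    rw [← mul_assoc, hdc, mul_assoc]
  obtain ⟨i, j, k⟩ := p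
  obtain ⟨i', j', k'⟩ := q
  cases i <;> cases j <;> cases k <;> cases i' <;> cases j' <;> cases k' <;>
    simp [eightFun, mul_assoc, ha, hc, hd, ha', hc', hca, hda, hdc, hca', hda', hdc']

end Eight

/-- (B10) `D⁺ = Q × ⟨z⟩`: an elementary abelian subgroup of order `8` of `R`. -/
theorem b10 : B10Stmt := by
  intro S _ _ E _ _ _ ρ R b W x₁ x₂ x₃ e₁ e₂ e₃ z hL hQ hzR hneg
  classical
  have hRle : R ≤ RB R b := le_sup_left
  -- vectors
  have h3 : ∀ e : E, e + e + e = 0 := by
    intro e
    have h : ((1 : ZMod 3) + 1 + 1) • e = e + e + e := by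
      rw [add_smul, add_smul, one_smul]
    have h0 : ((1 : ZMod 3) + 1 + 1) = 0 := by decide
    rw [h0, zero_smul] at h
    exact h.symm
  have hnegne : ∀ e : E, e ≠ 0 → -e ≠ e := by
    intro e he h
    apply he
    have h1 : e + e = 0 := by
      nth_rewrite 1 [← h]
      exact neg_add_cancel e
    have h2 := h3 e
    rw [h1, zero_add] at h2
    exact h2
  have he₂ : e₂ ≠ 0 := by
    intro h
    apply hQ.e₁ne
    have h1 : e₃ = 0 := by rw [← hQ.be₂, h, map_zero]
    rw [← hQ.be₃, h1, map_zero]
  have he₃ : e₃ ≠ 0 := by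
    intro h
    apply hQ.e₁ne
    rw [← hQ.be₃, h, map_zero]
  -- `z` is a central involution
  have hinvmul : ∀ g : S, ∀ w : E, ρ g⁻¹ (ρ g w) = w := by
    intro g w
    rw [← Module.End.mul_apply, ← map_mul, inv_mul_cancel, map_one, Module.End.one_apply]
  have hzz : z * z = 1 := by
    apply hL.faithful (z * z) (mul_mem (hRle hzR) (hRle hzR))
    intro w hw
    rw [map_mul, Module.End.mul_apply, hneg w hw, map_neg, hneg w hw, neg_neg]
  have hzc : ∀ x ∈ R, x * z = z * x := by
    intro x hx
    have hxRB := hRle hx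
    have hzRB := hRle hzR
    have h1 : (z * x)⁻¹ * (x * z) = 1 := by
      apply hL.faithful _ (mul_mem (inv_mem (mul_mem hzRB hxRB)) (mul_mem hxRB hzRB))
      intro w hw
      have hxw : ρ x w ∈ W := hL.W_inv x hxRB w hw
      have h2 : ρ (x * z) w = ρ (z * x) w := by
        rw [map_mul, Module.End.mul_apply, hneg w hw, map_neg, map_mul, Module.End.mul_apply,
          hneg _ hxw]
      rw [map_mul, Module.End.mul_apply, h2, hinvmul]
    exact (inv_mul_eq_one.mp h1).symm
  -- the subgroup
  have hx₁z : x₁ * z = z * x₁ := hzc x₁ hQ.x₁R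
  have hx₂z : x₂ * z = z * x₂ := hzc x₂ hQ.x₂R
  have hx₁x₂ : x₁ * x₂ = x₂ * x₁ := by rw [hQ.x₁x₂, hQ.x₂x₁]
  have hmul := eightFun_mul x₁ x₂ z hQ.x₁sq hQ.x₂sq hzz hx₁x₂ hx₁z hx₂z
  have hone : eightFun x₁ x₂ z (false, false, false) = 1 := by simp [eightFun]
  have hsq : ∀ p : Bool × Bool × Bool, eightFun x₁ x₂ z p * eightFun x₁ x₂ z p = 1 := by
    intro p
    rw [hmul p p]
    obtain ⟨i, j, k⟩ := p
    cases i <;> cases j <;> cases k <;> simp [eightFun]
  let A : Subgroup S :=
    { carrier := Set.range (eightFun x₁ x₂ z)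
      one_mem' := ⟨(false, false, false), hone⟩
      mul_mem' := by
        rintro _ _ ⟨p, rfl⟩ ⟨q, rfl⟩
        exact ⟨_, (hmul p q).symm⟩
      inv_mem' := by
        rintro _ ⟨p, rfl⟩
        exact ⟨p, (inv_eq_of_mul_eq_one_right (hsq p)).symm⟩ }
  have hAmem : ∀ g : S, g ∈ A ↔ ∃ p, eightFun x₁ x₂ z p = g := fun g => Iff.rfl
  refine ⟨A, ?_, ⟨?_, ?_⟩, ?_⟩
  · intro g hg
    obtain ⟨p, rfl⟩ := (hAmem g).mp hg
    obtain ⟨i, j, k⟩ := p
    unfold eightFun
    refine mul_mem ?_ (mul_mem ?_ ?_)
    · cases i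
      · exact one_mem R
      · exact hQ.x₁R
    · cases j
      · exact one_mem R
      · exact hQ.x₂R
    · cases k
      · exact one_mem R
      · exact hzR
  · refine ⟨⟨fun g h => ?_⟩⟩
    obtain ⟨p, hp⟩ := (hAmem g).mp g.2
    obtain ⟨q, hq⟩ := (hAmem h).mp h.2
    apply Subtype.ext
    show (g : S) * (h : S) = (h : S) * (g : S)
    rw [← hp, ← hq, hmul p q, hmul q p]
    obtain ⟨i, j, k⟩ := p
    obtain ⟨i', j', k'⟩ := q
    cases i <;> cases j <;> cases k <;> cases i' <;> cases j' <;> cases k' <;> rfl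
  · intro g hg
    obtain ⟨p, rfl⟩ := (hAmem g).mp hg
    rw [pow_two]
    exact hsq p
  · -- cardinality
    have hinj : Function.Injective (eightFun x₁ x₂ z) := by
      -- a nonidentity index gives a nonidentity element
      have hker : ∀ r : Bool × Bool × Bool, eightFun x₁ x₂ z r = 1 → r = (false, false, false) := by
        intro r hr
        have hact : ∀ e : E, ρ (eightFun x₁ x₂ z r) e = e := by
          intro e; rw [hr, map_one, Module.End.one_apply]
        have hz₁ : ρ z e₁ = -e₁ := hneg e₁ hQ.e₁W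
        have hz₂ : ρ z e₂ = -e₂ := hneg e₂ hQ.e₂W
        have hz₃ : ρ z e₃ = -e₃ := hneg e₃ hQ.e₃W
        obtain ⟨i, j, k⟩ := r
        cases i <;> cases j <;> cases k
        · rfl
        · -- z
          exfalso
          have h := hact e₁
          simp only [eightFun, Bool.false_eq_true, if_false, if_true, one_mul] at h
          rw [hz₁] at h
          exact hnegne e₁ hQ.e₁ne h
        · -- x₂
          exfalso
          have h := hact e₁
          simp only [eightFun, Bool.false_eq_true, if_false, if_true, one_mul, mul_one] at h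
          rw [hQ.x₂e₁] at h
          exact hnegne e₁ hQ.e₁ne h
        · -- x₂ z
          exfalso
          have h := hact e₂
          simp only [eightFun, Bool.false_eq_true, if_false, if_true, one_mul] at h
          rw [map_mul, Module.End.mul_apply, hz₂, map_neg, hQ.x₂e₂] at h
          exact hnegne e₂ he₂ h
        · -- x₁
          exfalso
          have h := hact e₂
          simp only [eightFun, Bool.false_eq_true, if_false, if_true, mul_one] at h
          rw [hQ.x₁e₂] at h
          exact hnegne e₂ he₂ h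
        · -- x₁ z
          exfalso
          have h := hact e₁
          simp only [eightFun, Bool.false_eq_true, if_false, if_true, one_mul] at h
          rw [map_mul, Module.End.mul_apply, hz₁, map_neg, hQ.x₁e₁] at h
          exact hnegne e₁ hQ.e₁ne h
        · -- x₁ x₂
          exfalso
          have h := hact e₁
          simp only [eightFun, Bool.false_eq_true, if_false, if_true, mul_one] at h
          rw [map_mul, Module.End.mul_apply, hQ.x₂e₁, map_neg, hQ.x₁e₁] at h
          exact hnegne e₁ hQ.e₁ne h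
        · -- x₁ x₂ z
          exfalso
          have h := hact e₃
          simp only [eightFun, if_true] at h
          rw [map_mul, Module.End.mul_apply, map_mul, Module.End.mul_apply, hz₃, map_neg, map_neg,
            hQ.x₂e₃, map_neg, hQ.x₁e₃, neg_neg] at h
          exact hnegne e₃ he₃ h
      intro p q hpq
      have h1 : eightFun x₁ x₂ z (p.1 != q.1, p.2.1 != q.2.1, p.2.2 != q.2.2) = 1 := by
        rw [← hmul p q, hpq, hsq q]
      have h2 := hker _ h1
      obtain ⟨i, j, k⟩ := p
      obtain ⟨i', j', k'⟩ := q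
      simp only [Prod.mk.injEq] at h2 ⊢
      obtain ⟨ha, hb, hc⟩ := h2
      refine ⟨?_, ?_, ?_⟩
      · cases i <;> cases i' <;> simp_all
      · cases j <;> cases j' <;> simp_all
      · cases k <;> cases k' <;> simp_all
    have hcard : Nat.card ↥A = Nat.card (Set.range (eightFun x₁ x₂ z)) := rfl
    rw [hcard, Nat.card_range_of_injective hinj]
    simp [Nat.card_eq_fintype_card]

end Cfsg.Agent.Lib.H14.S4415
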