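import Mathlib

/-!
# S0429, piece (OVOID): in an srg(15,6,1,3) every vertex lies in exactly two 5-cocliques

Abstract version: `K` a finset of 15 points with a symmetric irreflexive relation `R`,
6-regular, `λ = 1`, `μ = 3`.  Two distinct non-adjacent points lie in exactly one 5-coclique
(`exists_unique_coclique`), and double counting gives the result.
-/

set_option autoImplicit false
set_option linter.unusedSectionVars false
set_option linter.unusedVariables false

namespace Cfsg.Agent.Lib.H14.S77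

open Finset

section Ovoid

variable {U : Type*} [DecidableEq U] (K : Finset U) (R : U → U → Prop) [DecidableRel R]

/-- neighbours of `x` inside `K` -/
def onb (x : U) : Finset U := K.filter (fun c => R x c)

/-- the points of `K` other than `a`, `x` and adjacent to neither -/
def oB (a x : U) : Finset U := K.filter (fun t => t ≠ a ∧ t ≠ x ∧ ¬ R a t ∧ ¬ R x t)

variable {K R}

theorem mem_onb {x c : U} : c ∈ onb K R x ↔ c ∈ K ∧ R x c := by simp [onb]

theorem mem_oB {a x t : U} : t ∈ oB K R a x ↔ t ∈ K ∧ t ≠ a ∧ t ≠ x ∧ ¬ R a t ∧ ¬ R x t := by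
  simp [oB]

variable (K R)

/-- the srg(15,6,1,3) hypotheses -/
structure IsW2 : Prop where
  symm : ∀ a b, R a b → R b a
  irr : ∀ a ∈ K, ¬ R a a
  card : K.card = 15
  deg : ∀ a ∈ K, (onb K R a).card = 6
  lam : ∀ a ∈ K, ∀ b ∈ K, R a b → (onb K R a ∩ onb K R b).card = 1
  mu : ∀ a ∈ K, ∀ b ∈ K, a ≠ b → ¬ R a b → (onb K R a ∩ onb K R b).card = 3

variable {K R}

namespace IsW2

/-- two common neighbours of an adjacent pair coincide -/
theorem lam_unique (h : IsW2 K R) {p q c c' : U} (hp : p ∈ K) (hq : q ∈ K) (hpq : R p q)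
    (hc : c ∈ K) (hc' : c' ∈ K) (h1 : R p c) (h2 : R q c) (h3 : R p c') (h4 : R q c') :
    c = c' := by
  have hl := h.lam p hp q hq hpq
  exact Finset.card_le_one.mp hl.le c (by simp [mem_onb, *]) c' (by simp [mem_onb, *])

end IsW2

variable (K R)

/-- two distinct non-adjacent points of an srg(15,6,1,3) -/
structure Pair (a x : U) : Prop where
  w : IsW2 K R
  ha : a ∈ K
  hx : x ∈ K
  ne : a ≠ x
  nadj : ¬ R a x

variable {K R}

namespace Pair

variable {a x : U}

theorem nadj' (P : Pair K R a x) : ¬ R x a := fun h => P.nadj (P.w.symm _ _ h)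

theorem irra (P : Pair K R a x) : ¬ R a a := P.w.irr a P.ha

theorem irrx (P : Pair K R a x) : ¬ R x x := P.w.irr x P.hx

theorem symm (P : Pair K R a x) : Pair K R x a :=
  ⟨P.w, P.hx, P.ha, P.ne.symm, P.nadj'⟩

/-- the basic count: a subset `Y` of `K` splits over `B`, `{a,x}`, `N(a)`, `N(x)` -/
theorem count_gen (P : Pair K R a x) {Y : Finset U} (hY : Y ⊆ K) :
    (Y ∩ oB K R a x).card + (Y ∩ {a, x}).card + (Y ∩ onb K R a).card
      + (Y ∩ onb K R x).card = Y.card + (Y ∩ (onb K R a ∩ onb K R x)).card := by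
  have key : ∀ Z : Finset U,
      (Y ∩ Z).card = ∑ c ∈ Y, if c ∈ Z then 1 else 0 := by
    intro Z
    rw [← Finset.filter_mem_eq_inter, Finset.card_filter]
  rw [key, key, key, key, key, Finset.card_eq_sum_ones Y, ← Finset.sum_add_distrib,
    ← Finset.sum_add_distrib, ← Finset.sum_add_distrib, ← Finset.sum_add_distrib]
  apply Finset.sum_congr rfl
  intro c hc
  have hcK : c ∈ K := hY hc
  have h1 := P.irra
  have h2 := P.irrx
  have h3 := P.nadj
  have h4 := P.nadj'
  simp only [mem_oB, mem_onb, Finset.mem_inter, Finset.mem_insert, Finset.mem_singleton, hcK,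
    true_and]
  by_cases e1 : c = a
  · subst e1
    simp [h1, h4]
  by_cases e2 : c = x
  · subst e2
    simp [h2, h3, e1]
  by_cases r1 : R a c <;> by_cases r2 : R x c <;> simp [e1, e2, r1, r2]

theorem count (P : Pair K R a x) {y : U} (hy : y ∈ K) :
    (onb K R y ∩ oB K R a x).card + (onb K R y ∩ {a, x}).card + (onb K R y ∩ onb K R a).card
      + (onb K R y ∩ onb K R x).card = 6 + (onb K R y ∩ (onb K R a ∩ onb K R x)).card := by
  have h := P.count_gen (Y := onb K R y) (Finset.filter_subset _ _)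
  rwa [P.w.deg y hy] at h

theorem cardC (P : Pair K R a x) : (onb K R a ∩ onb K R x).card = 3 :=
  P.w.mu a P.ha x P.hx P.ne P.nadj

theorem memC (P : Pair K R a x) {u : U} (hu : u ∈ onb K R a ∩ onb K R x) :
    u ∈ K ∧ R a u ∧ R x u ∧ R u a ∧ R u x := by
  rw [Finset.mem_inter, mem_onb, mem_onb] at hu
  exact ⟨hu.1.1, hu.1.2, hu.2.2, P.w.symm _ _ hu.1.2, P.w.symm _ _ hu.2.2⟩

/-- the common neighbours of `a` and `x` are pairwise non-adjacent -/
theorem C_coclique (P : Pair K R a x) {u v : U} (hu : u ∈ onb K R a ∩ onb K R x)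
    (hv : v ∈ onb K R a ∩ onb K R x) : ¬ R u v := by
  intro huv
  obtain ⟨huK, -, -, hua, hux⟩ := P.memC hu
  obtain ⟨hvK, -, -, hva, hvx⟩ := P.memC hv
  exact P.ne (P.w.lam_unique huK hvK huv P.ha P.hx hua hva hux hvx)

theorem memB (P : Pair K R a x) {t : U} (ht : t ∈ oB K R a x) :
    t ∈ K ∧ t ≠ a ∧ t ≠ x ∧ ¬ R a t ∧ ¬ R x t ∧ ¬ R t a ∧ ¬ R t x := by
  rw [mem_oB] at ht
  exact ⟨ht.1, ht.2.1, ht.2.2.1, ht.2.2.2.1, ht.2.2.2.2, fun h => ht.2.2.2.1 (P.w.symm _ _ h),
    fun h => ht.2.2.2.2 (P.w.symm _ _ h)⟩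

/-- a point of `C` is not in `B` -/
theorem C_not_B (P : Pair K R a x) {u : U} (hu : u ∈ onb K R a ∩ onb K R x) :
    u ∉ oB K R a x := by
  intro hB
  exact (P.memB hB).2.2.2.1 (P.memC hu).2.1

/-- two distinct points of `C` have a third common neighbour, and it lies in `B` -/
theorem exists_third (P : Pair K R a x) {u v : U} (hu : u ∈ onb K R a ∩ onb K R x)
    (hv : v ∈ onb K R a ∩ onb K R x) (huv : u ≠ v) :
    ∃ t ∈ oB K R a x, R t u ∧ R t v := by
  have hnuv := P.C_coclique hu hv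
  obtain ⟨huK, hau, hxu, hua, hux⟩ := P.memC hu
  obtain ⟨hvK, hav, hxv, hva, hvx⟩ := P.memC hv
  have h3 := P.w.mu u huK v hvK huv hnuv
  have hlt : ({a, x} : Finset U).card < (onb K R u ∩ onb K R v).card := by
    rw [h3, Finset.card_pair P.ne]; norm_num
  obtain ⟨t, ht, htn⟩ := Finset.exists_mem_notMem_of_card_lt_card hlt
  rw [Finset.mem_inter, mem_onb, mem_onb] at ht
  obtain ⟨⟨htK, hut⟩, -, hvt⟩ := ht
  have htu := P.w.symm _ _ hut
  have htv := P.w.symm _ _ hvt
  simp only [Finset.mem_insert, Finset.mem_singleton, not_or] at htn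
  refine ⟨t, ?_, htu, htv⟩
  rw [mem_oB]
  refine ⟨htK, htn.1, htn.2, ?_, ?_⟩
  · intro hat
    exact huv (P.w.lam_unique P.ha htK hat huK hvK hau htu hav htv)
  · intro hxt
    exact huv (P.w.lam_unique P.hx htK hxt huK hvK hxu htu hxv htv)

/-- a point of `C` has exactly two neighbours in `B` -/
theorem card_nbC_B (P : Pair K R a x) {u : U} (hu : u ∈ onb K R a ∩ onb K R x) :
    (onb K R u ∩ oB K R a x).card = 2 := by
  obtain ⟨huK, hau, hxu, hua, hux⟩ := P.memC hu
  have hc := P.count huK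
  have e1 : onb K R u ∩ {a, x} = {a, x} := by
    apply Finset.inter_eq_right.mpr
    intro c hc
    simp only [Finset.mem_insert, Finset.mem_singleton] at hc
    rcases hc with rfl | rfl
    · exact mem_onb.mpr ⟨P.ha, hua⟩
    · exact mem_onb.mpr ⟨P.hx, hux⟩
  have e2 : (onb K R u ∩ onb K R a).card = 1 := P.w.lam u huK a P.ha hua
  have e3 : (onb K R u ∩ onb K R x).card = 1 := P.w.lam u huK x P.hx hux
  have e4 : onb K R u ∩ (onb K R a ∩ onb K R x) = ∅ := by
    apply Finset.eq_empty_of_forall_notMem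
    intro c hc
    rw [Finset.mem_inter] at hc
    exact P.C_coclique hu hc.2 (mem_onb.mp hc.1).2
  rw [e1, e2, e3, e4, Finset.card_pair P.ne, Finset.card_empty] at hc
  omega

/-- two distinct neighbours in `B` of a point of `C` are adjacent -/
theorem adj_of_common (P : Pair K R a x) {u p q : U} (hu : u ∈ onb K R a ∩ onb K R x)
    (hp : p ∈ oB K R a x) (hq : q ∈ oB K R a x) (hpq : p ≠ q) (hpu : R p u) (hqu : R q u) :
    R p q := by
  obtain ⟨huK, hau, hxu, hua, hux⟩ := P.memC hu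
  obtain ⟨hpK, hpa, hpx, hap, hxp, hpa', hpx'⟩ := P.memB hp
  obtain ⟨hqK, -, -, -, -, -, -⟩ := P.memB hq
  have hup := P.w.symm _ _ hpu
  have huq := P.w.symm _ _ hqu
  obtain ⟨c, hc⟩ := Finset.card_eq_one.mp (P.w.lam u huK p hpK hup)
  have hcm : c ∈ onb K R u ∩ onb K R p := by rw [hc]; exact Finset.mem_singleton_self c
  rw [Finset.mem_inter, mem_onb, mem_onb] at hcm
  obtain ⟨⟨hcK, huc⟩, -, hpc⟩ := hcm
  have hcu := P.w.symm _ _ huc
  have hcp := P.w.symm _ _ hpc
  have hcB : c ∈ oB K R a x := by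
    rw [mem_oB]
    refine ⟨hcK, ?_, ?_, ?_, ?_⟩
    · rintro rfl; exact hpa' hpc
    · rintro rfl; exact hpx' hpc
    · intro hac
      exact hpa (P.w.lam_unique huK hcK huc P.ha hpK hua (P.w.symm _ _ hac) hup hcp).symm
    · intro hxc
      exact hpx (P.w.lam_unique huK hcK huc P.hx hpK hux (P.w.symm _ _ hxc) hup hcp).symm
  have h2 := P.card_nbC_B hu
  have hsub : ({p, q} : Finset U) ⊆ onb K R u ∩ oB K R a x := by
    intro z hz
    simp only [Finset.mem_insert, Finset.mem_singleton] at hz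
    rcases hz with rfl | rfl
    · exact Finset.mem_inter.mpr ⟨mem_onb.mpr ⟨hpK, hup⟩, hp⟩
    · exact Finset.mem_inter.mpr ⟨mem_onb.mpr ⟨hqK, huq⟩, hq⟩
  have heq : ({p, q} : Finset U) = onb K R u ∩ oB K R a x :=
    Finset.eq_of_subset_of_card_le hsub (by rw [h2, Finset.card_pair hpq])
  have hcpq : c ∈ ({p, q} : Finset U) := by
    rw [heq]; exact Finset.mem_inter.mpr ⟨mem_onb.mpr ⟨hcK, huc⟩, hcB⟩
  simp only [Finset.mem_insert, Finset.mem_singleton] at hcpq
  rcases hcpq with rfl | rfl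
  · exact absurd hpc (P.w.irr _ hpK)
  · exact hpc

/-- (E) some point of `B` is adjacent to all of `C` -/
theorem exists_star (P : Pair K R a x) :
    ∃ s ∈ oB K R a x, ∀ u ∈ onb K R a ∩ onb K R x, R s u := by
  obtain ⟨u, v, w, huv, huw, hvw, hC⟩ := Finset.card_eq_three.mp P.cardC
  have hu : u ∈ onb K R a ∩ onb K R x := by rw [hC]; simp
  have hv : v ∈ onb K R a ∩ onb K R x := by rw [hC]; simp
  have hw : w ∈ onb K R a ∩ onb K R x := by rw [hC]; simp
  obtain ⟨t1, ht1, h1u, h1v⟩ := P.exists_third hu hv huv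
  obtain ⟨t2, ht2, h2u, h2w⟩ := P.exists_third hu hw huw
  obtain ⟨t3, ht3, h3v, h3w⟩ := P.exists_third hv hw hvw
  by_cases e12 : t1 = t2
  · subst e12
    refine ⟨t1, ht1, ?_⟩
    intro z hz
    rw [hC] at hz
    simp only [Finset.mem_insert, Finset.mem_singleton] at hz
    rcases hz with rfl | rfl | rfl <;> assumption
  by_cases e13 : t1 = t3
  · subst e13
    refine ⟨t1, ht1, ?_⟩
    intro z hz
    rw [hC] at hz
    simp only [Finset.mem_insert, Finset.mem_singleton] at hz
    rcases hz with rfl | rfl | rfl <;> assumption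
  by_cases e23 : t2 = t3
  · subst e23
    refine ⟨t2, ht2, ?_⟩
    intro z hz
    rw [hC] at hz
    simp only [Finset.mem_insert, Finset.mem_singleton] at hz
    rcases hz with rfl | rfl | rfl <;> assumption
  exfalso
  have a12 : R t1 t2 := P.adj_of_common hu ht1 ht2 e12 h1u h2u
  have a13 : R t1 t3 := P.adj_of_common hv ht1 ht3 e13 h1v h3v
  have a23 : R t2 t3 := P.adj_of_common hw ht2 ht3 e23 h2w h3w
  have hK1 := (P.memB ht1).1
  have hK2 := (P.memB ht2).1
  have hK3 := (P.memB ht3).1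
  have : u = t3 := P.w.lam_unique hK1 hK2 a12 (P.memC hu).1 hK3 h1u h2u a13 a23
  exact P.C_not_B hu (this ▸ ht3)

/-- `B` has four points -/
theorem cardB (P : Pair K R a x) : (oB K R a x).card = 4 := by
  have h := P.count_gen (Y := K) (Finset.Subset.refl _)
  have e0 : K ∩ oB K R a x = oB K R a x :=
    Finset.inter_eq_right.mpr (Finset.filter_subset _ _)
  have e1 : K ∩ {a, x} = {a, x} := by
    apply Finset.inter_eq_right.mpr
    intro c hc
    simp only [Finset.mem_insert, Finset.mem_singleton] at hc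
    rcases hc with rfl | rfl
    · exact P.ha
    · exact P.hx
  have e2 : K ∩ onb K R a = onb K R a := Finset.inter_eq_right.mpr (Finset.filter_subset _ _)
  have e3 : K ∩ onb K R x = onb K R x := Finset.inter_eq_right.mpr (Finset.filter_subset _ _)
  have e4 : K ∩ (onb K R a ∩ onb K R x) = onb K R a ∩ onb K R x :=
    Finset.inter_eq_right.mpr (Finset.inter_subset_left.trans (Finset.filter_subset _ _))
  rw [e0, e1, e2, e3, e4, Finset.card_pair P.ne, P.w.deg a P.ha, P.w.deg x P.hx, P.cardC,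
    P.w.card] at h
  omega

/-- (D) for `t ∈ B`: the number of neighbours in `B` equals the number of neighbours in `C` -/
theorem degB_eq (P : Pair K R a x) {t : U} (ht : t ∈ oB K R a x) :
    (onb K R t ∩ oB K R a x).card = (onb K R t ∩ (onb K R a ∩ onb K R x)).card := by
  obtain ⟨htK, hta, htx, hat, hxt, hta', htx'⟩ := P.memB ht
  have hc := P.count htK
  have e1 : onb K R t ∩ {a, x} = ∅ := by
    apply Finset.eq_empty_of_forall_notMem
    intro c hc
    simp only [Finset.mem_inter, mem_onb, Finset.mem_insert, Finset.mem_singleton] at hc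
    rcases hc.2 with rfl | rfl
    · exact hta' hc.1.2
    · exact htx' hc.1.2
  have e2 : (onb K R t ∩ onb K R a).card = 3 := P.w.mu t htK a P.ha hta hta'
  have e3 : (onb K R t ∩ onb K R x).card = 3 := P.w.mu t htK x P.hx htx htx'
  rw [e1, e2, e3, Finset.card_empty] at hc
  omega

/-- the star point is adjacent to all other points of `B` -/
theorem star_adj (P : Pair K R a x) {s : U} (hs : s ∈ oB K R a x)
    (hsC : ∀ u ∈ onb K R a ∩ onb K R x, R s u) :
    (oB K R a x).erase s ⊆ onb K R s := by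
  obtain ⟨hsK, -, -, -, -, -, -⟩ := P.memB hs
  have h1 := P.degB_eq hs
  have e : onb K R s ∩ (onb K R a ∩ onb K R x) = onb K R a ∩ onb K R x := by
    apply Finset.inter_eq_right.mpr
    intro u hu
    exact mem_onb.mpr ⟨(P.memC hu).1, hsC u hu⟩
  rw [e, P.cardC] at h1
  have hsub : onb K R s ∩ oB K R a x ⊆ (oB K R a x).erase s := by
    intro c hc
    rw [Finset.mem_inter, mem_onb] at hc
    refine Finset.mem_erase.mpr ⟨?_, hc.2⟩
    rintro rfl
    exact P.w.irr _ hsK hc.1.2
  have heq : onb K R s ∩ oB K R a x = (oB K R a x).erase s :=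
    Finset.eq_of_subset_of_card_le hsub (by rw [Finset.card_erase_of_mem hs, P.cardB, h1])
  rw [← heq]
  exact Finset.inter_subset_left

/-- (T) the other three points of `B` are pairwise non-adjacent -/
theorem leaves_coclique (P : Pair K R a x) {s : U} (hs : s ∈ oB K R a x)
    (hsC : ∀ u ∈ onb K R a ∩ onb K R x, R s u) {p q : U}
    (hp : p ∈ (oB K R a x).erase s) (hq : q ∈ (oB K R a x).erase s) : ¬ R p q := by
  intro hpq
  obtain ⟨hsK, -, -, -, -, -, -⟩ := P.memB hs
  have hpB := Finset.mem_of_mem_erase hp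
  have hqB := Finset.mem_of_mem_erase hq
  obtain ⟨hpK, -, -, -, -, -, -⟩ := P.memB hpB
  obtain ⟨hqK, -, -, -, -, -, -⟩ := P.memB hqB
  have hsp : R s p := (mem_onb.mp (P.star_adj hs hsC hp)).2
  have hsq : R s q := (mem_onb.mp (P.star_adj hs hsC hq)).2
  have hps := P.w.symm _ _ hsp
  have hqs : q ≠ s := Finset.ne_of_mem_erase hq
  -- `p` has two neighbours `s`, `q` in `B`
  have h2 : 2 ≤ (onb K R p ∩ oB K R a x).card := by
    have hsub : ({s, q} : Finset U) ⊆ onb K R p ∩ oB K R a x := by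
      intro z hz
      simp only [Finset.mem_insert, Finset.mem_singleton] at hz
      rcases hz with rfl | rfl
      · exact Finset.mem_inter.mpr ⟨mem_onb.mpr ⟨hsK, hps⟩, hs⟩
      · exact Finset.mem_inter.mpr ⟨mem_onb.mpr ⟨hqK, hpq⟩, hqB⟩
    calc 2 = ({s, q} : Finset U).card := (Finset.card_pair hqs.symm).symm
      _ ≤ _ := Finset.card_le_card hsub
  rw [P.degB_eq hpB] at h2
  have hne : (onb K R p ∩ (onb K R a ∩ onb K R x)).Nonempty := by
    rw [← Finset.card_pos]; omega
  obtain ⟨u, hu⟩ := hne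
  rw [Finset.mem_inter, mem_onb] at hu
  have huC := hu.2
  have : u = q := P.w.lam_unique hsK hpK hsp (P.memC huC).1 hqK (hsC u huC) hu.1.2 hsq hpq
  exact P.C_not_B huC (this ▸ hqB)

/-- two distinct non-adjacent points lie in exactly one 5-coclique -/
theorem exists_unique_coclique (P : Pair K R a x) :
    ∃ S : Finset U, (S ⊆ K ∧ S.card = 5 ∧ a ∈ S ∧ x ∈ S ∧ ∀ p ∈ S, ∀ q ∈ S, ¬ R p q) ∧
      ∀ S' : Finset U, (S' ⊆ K ∧ S'.card = 5 ∧ a ∈ S' ∧ x ∈ S' ∧ ∀ p ∈ S', ∀ q ∈ S', ¬ R p q) →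
        S' = S := by
  obtain ⟨s, hs, hsC⟩ := P.exists_star
  obtain ⟨hsK, hsa, hsx, -, -, -, -⟩ := P.memB hs
  set L := (oB K R a x).erase s with hL
  have hLcard : L.card = 3 := by rw [hL, Finset.card_erase_of_mem hs, P.cardB]
  have hLB : ∀ z ∈ L, z ∈ oB K R a x := fun z hz => Finset.mem_of_mem_erase hz
  have haL : a ∉ L := fun h => (P.memB (hLB a h)).2.1 rfl
  have hxL : x ∉ L := fun h => (P.memB (hLB x h)).2.2.1 rfl
  have haxL : a ∉ insert x L := by
    rw [Finset.mem_insert, not_or]; exact ⟨P.ne, haL⟩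
  have hmemS : ∀ z, z ∈ insert a (insert x L) ↔ z = a ∨ z = x ∨ z ∈ L := by
    intro z; simp only [Finset.mem_insert]
  refine ⟨insert a (insert x L), ⟨?_, ?_, ?_, ?_, ?_⟩, ?_⟩
  · intro z hz
    rcases (hmemS z).mp hz with rfl | rfl | hz
    · exact P.ha
    · exact P.hx
    · exact (P.memB (hLB z hz)).1
  · rw [Finset.card_insert_of_notMem haxL, Finset.card_insert_of_notMem hxL, hLcard]
  · exact Finset.mem_insert_self _ _
  · exact Finset.mem_insert_of_mem (Finset.mem_insert_self _ _)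
  · intro p hp q hq
    rcases (hmemS p).mp hp with rfl | rfl | hp
    · rcases (hmemS q).mp hq with rfl | rfl | hq
      · exact P.irra
      · exact P.nadj
      · exact (P.memB (hLB q hq)).2.2.2.1
    · rcases (hmemS q).mp hq with rfl | rfl | hq
      · exact P.nadj'
      · exact P.irrx
      · exact (P.memB (hLB q hq)).2.2.2.2.1
    · rcases (hmemS q).mp hq with rfl | rfl | hq
      · exact (P.memB (hLB p hp)).2.2.2.2.2.1
      · exact (P.memB (hLB p hp)).2.2.2.2.2.2
      · exact P.leaves_coclique hs hsC hp hq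
  · rintro S' ⟨hS'K, hS'c, haS', hxS', hco⟩
    -- every point of `S'` other than `a`, `x` is in `B`
    have hB : ∀ z ∈ S', z ≠ a → z ≠ x → z ∈ oB K R a x := by
      intro z hz hza hzx
      rw [mem_oB]
      exact ⟨hS'K hz, hza, hzx, hco a haS' z hz, hco x hxS' z hz⟩
    have hsS' : s ∉ S' := by
      intro hsS'
      have hlt : ({a, x, s} : Finset U).card < S'.card := by
        rw [hS'c]
        exact lt_of_le_of_lt Finset.card_le_three (by norm_num)
      obtain ⟨z, hz, hzn⟩ := Finset.exists_mem_notMem_of_card_lt_card hlt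
      simp only [Finset.mem_insert, Finset.mem_singleton, not_or] at hzn
      have hzL : z ∈ L := Finset.mem_erase.mpr ⟨hzn.2.2, hB z hz hzn.1 hzn.2.1⟩
      exact hco s hsS' z hz (mem_onb.mp (P.star_adj hs hsC hzL)).2
    apply Finset.eq_of_subset_of_card_le
    · intro z hz
      rw [hmemS]
      by_cases hza : z = a
      · exact Or.inl hza
      by_cases hzx : z = x
      · exact Or.inr (Or.inl hzx)
      refine Or.inr (Or.inr (Finset.mem_erase.mpr ⟨?_, hB z hz hza hzx⟩))
      rintro rfl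
      exact hsS' hz
    · rw [hS'c, Finset.card_insert_of_notMem haxL, Finset.card_insert_of_notMem hxL, hLcard]

end Pair

end Ovoid

/-- (OVOID) in an srg(15,6,1,3), given as a finset with a relation, every vertex lies in exactly
two 5-cocliques. -/
theorem ovoid_count {U : Type*} [DecidableEq U] (K : Finset U) (R : U → U → Prop) [DecidableRel R]
    (hsymm : ∀ a b, R a b → R b a) (hirr : ∀ a ∈ K, ¬ R a a) (hcard : K.card = 15)
    (hdeg : ∀ a ∈ K, (K.filter (fun c => R a c)).card = 6)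
    (hlam : ∀ a ∈ K, ∀ b ∈ K, R a b → (K.filter (fun c => R a c ∧ R b c)).card = 1)
    (hmu : ∀ a ∈ K, ∀ b ∈ K, a ≠ b → ¬ R a b → (K.filter (fun c => R a c ∧ R b c)).card = 3) :
    ∀ a ∈ K, (K.powerset.filter
      (fun S => S.card = 5 ∧ a ∈ S ∧ ∀ x ∈ S, ∀ y ∈ S, ¬ R x y)).card = 2 := by
  have hfil : ∀ a b : U, K.filter (fun c => R a c ∧ R b c) = onb K R a ∩ onb K R b := by
    intro a b
    ext c
    simp only [Finset.mem_filter, Finset.mem_inter, mem_onb]
    tauto
  have hW : IsW2 K R :=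
    ⟨hsymm, hirr, hcard, hdeg, fun a ha b hb hab => by rw [← hfil]; exact hlam a ha b hb hab,
      fun a ha b hb hab hn => by rw [← hfil]; exact hmu a ha b hb hab hn⟩
  intro a ha
  set 𝒮 := K.powerset.filter (fun S => S.card = 5 ∧ a ∈ S ∧ ∀ x ∈ S, ∀ y ∈ S, ¬ R x y) with h𝒮
  have hmem𝒮 : ∀ S, S ∈ 𝒮 ↔ S ⊆ K ∧ S.card = 5 ∧ a ∈ S ∧ ∀ x ∈ S, ∀ y ∈ S, ¬ R x y := by
    intro S
    rw [h𝒮, Finset.mem_filter, Finset.mem_powerset]
  set Ξ := K.filter (fun x => x ≠ a ∧ ¬ R a x) with hΞ
  have hmemΞ : ∀ x, x ∈ Ξ ↔ x ∈ K ∧ x ≠ a ∧ ¬ R a x := by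
    intro x
    rw [hΞ, Finset.mem_filter]
  have hΞcard : Ξ.card = 8 := by
    have h1 := Finset.card_filter_add_card_filter_not (s := K) (fun c => R a c)
    have h2 : K.filter (fun c => ¬ R a c) = insert a Ξ := by
      ext c
      simp only [Finset.mem_filter, Finset.mem_insert, hmemΞ]
      constructor
      · rintro ⟨hc, hn⟩
        by_cases e : c = a
        · exact Or.inl e
        · exact Or.inr ⟨hc, e, hn⟩
      · rintro (rfl | ⟨hc, -, hn⟩)
        · exact ⟨ha, hirr _ ha⟩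
        · exact ⟨hc, hn⟩
    have h3 : a ∉ Ξ := fun h => ((hmemΞ a).mp h).2.1 rfl
    rw [h2, Finset.card_insert_of_notMem h3, hdeg a ha, hcard] at h1
    omega
  have hdc := Finset.sum_card_bipartiteAbove_eq_sum_card_bipartiteBelow (s := 𝒮) (t := Ξ)
    (fun S x => x ∈ S)
  have hL : ∀ S ∈ 𝒮, (Finset.bipartiteAbove (fun S x => x ∈ S) Ξ S).card = 4 := by
    intro S hS
    obtain ⟨hSK, hSc, haS, hco⟩ := (hmem𝒮 S).mp hS
    have : Finset.bipartiteAbove (fun S x => x ∈ S) Ξ S = S.erase a := by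
      ext z
      simp only [Finset.bipartiteAbove, Finset.mem_filter, Finset.mem_erase, hmemΞ]
      constructor
      · rintro ⟨⟨-, hza, -⟩, hzS⟩
        exact ⟨hza, hzS⟩
      · rintro ⟨hza, hzS⟩
        exact ⟨⟨hSK hzS, hza, hco a haS z hzS⟩, hzS⟩
    rw [this, Finset.card_erase_of_mem haS, hSc]
  have hR : ∀ x ∈ Ξ, (Finset.bipartiteBelow (fun S x => x ∈ S) 𝒮 x).card = 1 := by
    intro x hx
    obtain ⟨hxK, hxa, hnax⟩ := (hmemΞ x).mp hx
    have P : Pair K R a x := ⟨hW, ha, hxK, fun e => hxa e.symm, hnax⟩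
    obtain ⟨S0, hS0, huniq⟩ := P.exists_unique_coclique
    rw [Finset.card_eq_one]
    refine ⟨S0, ?_⟩
    ext S
    simp only [Finset.bipartiteBelow, Finset.mem_filter, Finset.mem_singleton, hmem𝒮]
    constructor
    · rintro ⟨⟨hSK, hSc, haS, hco⟩, hxS⟩
      exact huniq S ⟨hSK, hSc, haS, hxS, hco⟩
    · rintro rfl
      exact ⟨⟨hS0.1, hS0.2.1, hS0.2.2.1, hS0.2.2.2.2⟩, hS0.2.2.2.1⟩
  rw [Finset.sum_congr rfl hL, Finset.sum_congr rfl hR, Finset.sum_const, Finset.sum_const,
    hΞcard] at hdc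
  simp only [smul_eq_mul] at hdc
  omega

end Cfsg.Agent.Lib.H14.S77
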