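import Mathlib
import Cfsg.Prelude.Def_TwoFusion
import Cfsg.Prelude.Def_CaseTheorems
import Cfsg.Agent.S0215
import Cfsg.Agent.Lib.H10.PGroup
import Cfsg.Agent.Lib.H9.PPrimeCore
import Cfsg.Agent.Lib.H22.PPrimeCore

set_option autoImplicit false

namespace Cfsg.Agent.Lib.H14.SClZ

universe u

open Subgroup

/-- an involution of a nontrivial strongly closed subgroup `A` of the Sylow 2-subgroup `T` which is
central in `T`. -/
theorem exists_central_involution {G : Type u} [Group G] [Finite G] (T : Sylow 2 G)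
    (A : Subgroup G) (hA : Cfsg.IsStronglyClosed A (T : Subgroup G)) (hAbot : A ≠ ⊥) :
    ∃ a ∈ A, orderOf a = 2 ∧ ∀ t ∈ (T : Subgroup G), t * a = a * t := by
  have hAT : A ≤ (T : Subgroup G) := hA.1
  have hN : (A.subgroupOf (T : Subgroup G)).Normal := by
    constructor
    intro x hx t
    rw [Subgroup.mem_subgroupOf] at hx ⊢
    have : ((t * x * t⁻¹ : (T : Subgroup G)) : G) = (t : G) * x * (t : G)⁻¹ := by simp
    rw [this]
    apply hA.2 _ hx
    rw [← this]; exact (t * x * t⁻¹).2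
  have hNbot : A.subgroupOf (T : Subgroup G) ≠ ⊥ := by
    intro h
    apply hAbot
    rw [Subgroup.subgroupOf_eq_bot] at h
    rw [eq_bot_iff]
    intro x hx
    have : x ∈ A ⊓ (T : Subgroup G) := ⟨hx, hAT hx⟩
    rw [disjoint_iff.mp h] at this
    exact this
  obtain ⟨x, hxN, hx1, hxc⟩ := Cfsg.Agent.Lib.H10.exists_ne_one_mem_center_of_normal
    (p := 2) T.2 (A.subgroupOf (T : Subgroup G)) hNbot
  obtain ⟨k, hk⟩ := (IsPGroup.iff_orderOf.mp T.2) x
  have hk0 : k ≠ 0 := by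
    rintro rfl
    rw [pow_zero, orderOf_eq_one_iff] at hk
    exact hx1 hk
  obtain ⟨j, rfl⟩ := Nat.exists_eq_succ_of_ne_zero hk0
  refine ⟨((x ^ 2 ^ j : (T : Subgroup G)) : G), ?_, ?_, ?_⟩
  · have := Subgroup.pow_mem _ hxN (2 ^ j)
    rwa [Subgroup.mem_subgroupOf] at this
  · rw [Subgroup.orderOf_coe, orderOf_pow' x (by positivity), hk,
      Nat.gcd_eq_right (by rw [pow_succ]; exact dvd_mul_right _ _), pow_succ,
      Nat.mul_div_cancel_left _ (by positivity)]
  · intro t ht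
    have h1 : x ^ 2 ^ j ∈ Subgroup.center (T : Subgroup G) := Subgroup.pow_mem _ hxc _
    rw [Subgroup.mem_center_iff] at h1
    have := congrArg Subtype.val (h1 ⟨t, ht⟩)
    simpa using this


/-- the reduced setting: `G = H A` with `H` normal; by induction on the order of `G`. -/
theorem reduced_aux : ∀ (n : ℕ) (G : Type u) [Group G] [Finite G] (T : Sylow 2 G)
    (A H : Subgroup G) [H.Normal], Nat.card G = n →
    Cfsg.IsStronglyClosed A (T : Subgroup G) → H ⊔ A = ⊤ →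
    Cfsg.oddCore ↥H = ⊥ → A ⊓ H = ⊥ → A ≤ Subgroup.centralizer (H : Set G) := by
  intro n
  induction n using Nat.strong_induction_on with
  | _ n ih =>
  intro G _ _ T A H hHn hn hA hHA hO hdisj
  by_cases hAbot : A = ⊥
  · rw [hAbot]; exact bot_le
  have hAT : A ≤ (T : Subgroup G) := hA.1
  obtain ⟨a, haA, ha2, haT⟩ := exists_central_involution T A hA hAbot
  have haa : a * a = 1 := by rw [← sq, ← ha2]; exact pow_orderOf_eq_one a
  have hainv : a⁻¹ = a := inv_eq_of_mul_eq_one_left haa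
  have ha1 : a ≠ 1 := by
    intro h; rw [h, orderOf_one] at ha2; omega
  -- decomposition of elements
  have hdec : ∀ g : G, ∃ h ∈ H, ∃ b ∈ A, g = h * b := by
    intro g
    have hg : g ∈ ((H ⊔ A : Subgroup G) : Set G) := by rw [hHA]; trivial
    rw [Subgroup.normal_mul] at hg
    obtain ⟨h, hh, b, hb, rfl⟩ := Set.mem_mul.mp hg
    exact ⟨h, hh, b, hb, rfl⟩
  -- a is isolated
  have hiso : ∀ g : G, g * a * g⁻¹ ∈ T → g * a * g⁻¹ = a := by
    intro g hg
    have hgA : g * a * g⁻¹ ∈ A := hA.2 a haA g hg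
    obtain ⟨h, hh, b, hb, rfl⟩ := hdec g
    have hb' : b * a * b⁻¹ = a := by
      rw [haT b (hAT hb)]; group
    have e1 : h * b * a * (h * b)⁻¹ = h * (b * a * b⁻¹) * h⁻¹ := by group
    rw [e1, hb'] at hgA ⊢
    have h2 : h * a * h⁻¹ * a⁻¹ ∈ A ⊓ H := by
      refine ⟨Subgroup.mul_mem _ hgA (Subgroup.inv_mem _ haA), ?_⟩
      have : h * a * h⁻¹ * a⁻¹ = h * (a * h⁻¹ * a⁻¹) := by group
      rw [this]
      exact Subgroup.mul_mem _ hh (hHn.conj_mem _ (Subgroup.inv_mem _ hh) a)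
    rw [hdisj, Subgroup.mem_bot] at h2
    exact mul_inv_eq_one.mp h2
  -- Z*
  obtain ⟨N, hNn, hNodd, hN⟩ := Cfsg.Agent.S0215.result T a ha2 (hAT haA) hiso
  have hNH : N ⊓ H = ⊥ := by
    have h1 : (N.subgroupOf H) ≤ Cfsg.pPrimeCore 2 ↥H := by
      apply Cfsg.Agent.Lib.H22.le_pPrimeCore 2 _ inferInstance
      rw [Nat.coprime_two_right]
      have e : Nat.card (N.subgroupOf H) = Nat.card (N ⊓ H : Subgroup G) := by
        rw [← Subgroup.inf_subgroupOf_right]
        exact Nat.card_congr (Subgroup.subgroupOfEquivOfLe inf_le_right).toEquiv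
      rw [e]
      exact Odd.of_dvd_nat hNodd (Subgroup.card_dvd_of_le inf_le_left)
    have h2 : N.subgroupOf H = ⊥ := by
      have hO' : Cfsg.pPrimeCore 2 ↥H = ⊥ := hO
      rw [hO'] at h1; exact le_bot_iff.mp h1
    rw [Subgroup.subgroupOf_eq_bot] at h2
    exact disjoint_iff.mp h2
  have haH : ∀ h ∈ H, a * h = h * a := by
    intro h hh
    have h1 : a * h * a⁻¹ * h⁻¹ ∈ N ⊓ H :=
      ⟨hN h, Subgroup.mul_mem _ (hHn.conj_mem _ hh a) (Subgroup.inv_mem _ hh)⟩
    rw [hNH, Subgroup.mem_bot] at h1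
    have h2 : a * h * a⁻¹ = h := mul_inv_eq_one.mp h1
    calc a * h = a * h * a⁻¹ * a := by group
      _ = h * a := by rw [h2]
  have hacen : ∀ g : G, g * a = a * g := by
    intro g
    obtain ⟨h, hh, b, hb, rfl⟩ := hdec g
    rw [mul_assoc, haT b (hAT hb), ← mul_assoc, ← haH h hh, mul_assoc]
  -- the quotient by ⟨a⟩
  set B : Subgroup G := Subgroup.zpowers a with hB
  have hBn : B.Normal := by
    constructor
    intro x hx g
    obtain ⟨k, rfl⟩ := Subgroup.mem_zpowers_iff.mp hx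
    have hc : Commute g (a ^ k) := Commute.zpow_right (hacen g) k
    have : g * a ^ k * g⁻¹ = a ^ k := by rw [hc.eq]; group
    rw [this]; exact Subgroup.zpow_mem _ (Subgroup.mem_zpowers a) k
  have hBA : B ≤ A := by rw [hB, Subgroup.zpowers_le]; exact haA
  have hcardB : Nat.card B = 2 := by rw [hB, Nat.card_zpowers, ha2]
  let f : G →* G ⧸ B := QuotientGroup.mk' B
  have hf : Function.Surjective f := QuotientGroup.mk'_surjective B
  have hker : f.ker = B := QuotientGroup.ker_mk' B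
  have hfmem : ∀ x : G, f x = 1 ↔ x ∈ B := fun x => by rw [← MonoidHom.mem_ker, hker]
  let T' : Sylow 2 (G ⧸ B) := T.mapSurjective hf
  have hcard : Nat.card (G ⧸ B) < n := by
    have := Subgroup.card_eq_card_quotient_mul_card_subgroup B
    rw [hcardB, hn] at this
    have hpos : 0 < Nat.card (G ⧸ B) := Nat.card_pos
    omega
  have hA' : Cfsg.IsStronglyClosed (A.map f) (T' : Subgroup (G ⧸ B)) := by
    refine ⟨?_, ?_⟩
    · rw [Sylow.coe_mapSurjective]; exact Subgroup.map_mono hAT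
    · rintro _ ⟨x, hx, rfl⟩ g' hg'
      obtain ⟨g, rfl⟩ := hf g'
      rw [Sylow.coe_mapSurjective] at hg'
      obtain ⟨t, ht, hte⟩ := hg'
      have h1 : g * x * g⁻¹ ∈ (T : Subgroup G) := by
        have h2 : f (t⁻¹ * (g * x * g⁻¹)) = 1 := by
          rw [map_mul, map_inv, hte, map_mul, map_mul, map_inv]; group
        have h3 := (hfmem _).mp h2
        have h4 : t⁻¹ * (g * x * g⁻¹) ∈ (T : Subgroup G) := hAT (hBA h3)
        have : g * x * g⁻¹ = t * (t⁻¹ * (g * x * g⁻¹)) := by group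
        rw [this]; exact Subgroup.mul_mem _ ht h4
      have h5 := hA.2 x hx g h1
      refine ⟨g * x * g⁻¹, h5, ?_⟩
      simp [map_mul]
  have hHn' : (H.map f).Normal := hHn.map f hf
  have hsup' : H.map f ⊔ A.map f = ⊤ := by
    rw [← Subgroup.map_sup, hHA, ← MonoidHom.range_eq_map, MonoidHom.range_eq_top]
    exact hf
  have hdisj' : A.map f ⊓ H.map f = ⊥ := by
    rw [eq_bot_iff]
    rintro y ⟨⟨x, hx, rfl⟩, ⟨h, hh, hxe⟩⟩
    have h2 : f (x⁻¹ * h) = 1 := by rw [map_mul, map_inv, hxe, inv_mul_cancel]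
    have h3 : x⁻¹ * h ∈ A := hBA ((hfmem _).mp h2)
    have h4 : h ∈ A := by
      have : h = x * (x⁻¹ * h) := by group
      rw [this]; exact Subgroup.mul_mem _ hx h3
    have h5 : h ∈ A ⊓ H := ⟨h4, hh⟩
    rw [hdisj, Subgroup.mem_bot] at h5
    rw [Subgroup.mem_bot, ← hxe, h5, map_one]
  have hO' : Cfsg.oddCore ↥(H.map f) = ⊥ := by
    have hinj : Function.Injective (f.comp H.subtype) := by
      rw [injective_iff_map_eq_one]
      intro x hx
      have h1 : (x : G) ∈ A ⊓ H := ⟨hBA ((hfmem _).mp hx), x.2⟩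
      rw [hdisj, Subgroup.mem_bot] at h1
      exact Subtype.ext h1
    have hrange : (f.comp H.subtype).range = H.map f := by
      rw [MonoidHom.range_comp, Subgroup.range_subtype]
    let e : ↥H ≃* ↥(H.map f) :=
      (MonoidHom.ofInjective hinj).trans (MulEquiv.subgroupCongr hrange)
    have := Cfsg.Agent.Lib.H9.pPrimeCore_map_equiv 2 e
    have hO2 : Cfsg.pPrimeCore 2 ↥H = ⊥ := hO
    rw [hO2, Subgroup.map_bot] at this
    exact this.symm
  have key := ih (Nat.card (G ⧸ B)) hcard (G ⧸ B) T' (A.map f) (H.map f) rfl hA' hsup' hO' hdisj'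
  intro x hx
  rw [Subgroup.mem_centralizer_iff]
  intro h hh
  have h1 : f x ∈ Subgroup.centralizer ((H.map f : Subgroup (G ⧸ B)) : Set (G ⧸ B)) :=
    key (Subgroup.mem_map_of_mem f hx)
  rw [Subgroup.mem_centralizer_iff] at h1
  have h2 := h1 (f h) (Subgroup.mem_map_of_mem f hh)
  have h3 : f (h * x * h⁻¹ * x⁻¹) = 1 := by
    rw [map_mul, map_mul, map_mul, map_inv, map_inv, h2]; group
  have h4 : h * x * h⁻¹ * x⁻¹ ∈ A ⊓ H := by
    refine ⟨hBA ((hfmem _).mp h3), ?_⟩
    have : h * x * h⁻¹ * x⁻¹ = h * (x * h⁻¹ * x⁻¹) := by group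
    rw [this]
    exact Subgroup.mul_mem _ hh (hHn.conj_mem _ (Subgroup.inv_mem _ hh) x)
  rw [hdisj, Subgroup.mem_bot] at h4
  have h5 : h * x * h⁻¹ = x := mul_inv_eq_one.mp h4
  calc h * x = h * x * h⁻¹ * h := by group
    _ = x * h := by rw [h5]

theorem reduced {G : Type u} [Group G] [Finite G] (T : Sylow 2 G)
    (A H : Subgroup G) [H.Normal] (hA : Cfsg.IsStronglyClosed A (T : Subgroup G))
    (hHA : H ⊔ A = ⊤) (hO : Cfsg.oddCore ↥H = ⊥) (hdisj : A ⊓ H = ⊥) :
    A ≤ Subgroup.centralizer (H : Set G) :=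
  reduced_aux (Nat.card G) G T A H rfl hA hHA hO hdisj

/-- **Goldschmidt's lemma** (via Glauberman's `Z*`-theorem): a strongly closed subgroup `A` of a
Sylow 2-subgroup centralizes every subgroup `H` with `O(H) = 1`, `A ∩ H = 1` normalized by `A`. -/
theorem strongly_closed_centralizes {G : Type u} [Group G] [Finite G] (S : Sylow 2 G)
    (A : Subgroup G) (hA : Cfsg.IsStronglyClosed A (S : Subgroup G)) (H : Subgroup G)
    (hAH : A ≤ Subgroup.normalizer (H : Set G)) (hO : Cfsg.oddCore ↥H = ⊥)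
    (hdisj : A ⊓ H = ⊥) : A ≤ Subgroup.centralizer (H : Set G) := by
  set X : Subgroup G := H ⊔ A with hX
  have hHX : H ≤ X := le_sup_left
  have hAX : A ≤ X := le_sup_right
  have hXN : X ≤ Subgroup.normalizer (H : Set G) := sup_le Subgroup.le_normalizer hAH
  have hHn : (H.subgroupOf X).Normal := (Subgroup.normal_subgroupOf_iff_le_normalizer hHX).mpr hXN
  have hA2 : IsPGroup 2 (A.subgroupOf X) := by
    rw [← Subgroup.comap_subtype]
    exact (S.2.to_le hA.1).comap_of_injective X.subtype X.subtype_injective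
  obtain ⟨T, hT⟩ := hA2.exists_le_sylow
  have hT2 : IsPGroup 2 ((T : Subgroup X).map X.subtype) := T.2.map _
  obtain ⟨S', hS'⟩ := hT2.exists_le_sylow
  obtain ⟨c, hc⟩ := MulAction.exists_smul_eq G S S'
  have hcS : ∀ x ∈ (S' : Subgroup G), c⁻¹ * x * c ∈ (S : Subgroup G) := by
    intro x hx
    rw [← hc, Sylow.coe_subgroup_smul, Subgroup.mem_pointwise_smul_iff_inv_smul_mem] at hx
    simpa [MulAut.smul_def] using hx
  have hAS' : A ≤ (S' : Subgroup G) := by
    intro y hy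
    apply hS'
    exact ⟨⟨y, hAX hy⟩, hT (Subgroup.mem_subgroupOf.mpr hy), rfl⟩
  -- conjugation by c⁻¹ maps A into A
  have hcA : ∀ y ∈ A, c⁻¹ * y * c ∈ A := by
    intro y hy
    have h1 := hcS y (hAS' hy)
    have h2 := hA.2 y hy c⁻¹
    rw [inv_inv] at h2
    exact h2 h1
  have hcA' : ∀ y ∈ A, c * y * c⁻¹ ∈ A := by
    intro y hy
    let φ : A → A := fun z => ⟨c⁻¹ * z * c, hcA z z.2⟩
    have hφ : Function.Injective φ := by
      intro z w hzw
      have := congrArg Subtype.val hzw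
      simp only [φ] at this
      apply Subtype.ext
      have h3 : c * (c⁻¹ * (z : G) * c) * c⁻¹ = c * (c⁻¹ * (w : G) * c) * c⁻¹ := by rw [this]
      simpa [mul_assoc] using h3
    obtain ⟨z, hz⟩ := (Finite.injective_iff_surjective.mp hφ) ⟨y, hy⟩
    have := congrArg Subtype.val hz
    simp only [φ] at this
    rw [← this]
    have : c * (c⁻¹ * (z : G) * c) * c⁻¹ = z := by group
    rw [this]; exact z.2
  have hA' : Cfsg.IsStronglyClosed (A.subgroupOf X) (T : Subgroup X) := by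
    refine ⟨hT, ?_⟩
    intro x hx g hg
    rw [Subgroup.mem_subgroupOf] at hx ⊢
    have h1 : ((g * x * g⁻¹ : X) : G) ∈ (S' : Subgroup G) := hS' ⟨_, hg, rfl⟩
    have h2 := hcS _ h1
    have h3 : c⁻¹ * ((g * x * g⁻¹ : X) : G) * c = (c⁻¹ * g) * x * (c⁻¹ * g)⁻¹ := by
      simp only [Subgroup.coe_mul, Subgroup.coe_inv]; group
    rw [h3] at h2
    have h4 := hA.2 x hx (c⁻¹ * g) h2
    have h5 := hcA' _ h4
    have h6 : c * (c⁻¹ * ↑g * ↑x * (c⁻¹ * ↑g)⁻¹) * c⁻¹ = ((g * x * g⁻¹ : X) : G) := by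
      simp only [Subgroup.coe_mul, Subgroup.coe_inv]; group
    rwa [h6] at h5
  have hsup : H.subgroupOf X ⊔ A.subgroupOf X = ⊤ := by
    rw [← Subgroup.subgroupOf_sup hHX hAX, Subgroup.subgroupOf_self]
  have hO' : Cfsg.oddCore ↥(H.subgroupOf X) = ⊥ := by
    have := Cfsg.Agent.Lib.H9.pPrimeCore_map_equiv 2 (Subgroup.subgroupOfEquivOfLe hHX).symm
    have hO2 : Cfsg.pPrimeCore 2 ↥H = ⊥ := hO
    rw [hO2, Subgroup.map_bot] at this
    exact this.symm
  have hdisj' : A.subgroupOf X ⊓ H.subgroupOf X = ⊥ := by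
    rw [eq_bot_iff]
    rintro x ⟨hxA, hxH⟩
    have hxA' : (x : G) ∈ A := hxA
    have hxH' : (x : G) ∈ H := hxH
    have : (x : G) ∈ A ⊓ H := ⟨hxA', hxH'⟩
    rw [hdisj, Subgroup.mem_bot] at this
    rw [Subgroup.mem_bot]; exact Subtype.ext this
  have key := reduced T (A.subgroupOf X) (H.subgroupOf X) hA' hsup hO' hdisj'
  intro x hx
  rw [Subgroup.mem_centralizer_iff]
  intro h hh
  have h1 := key (Subgroup.mem_subgroupOf.mpr (show ((⟨x, hAX hx⟩ : X) : G) ∈ A from hx))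
  rw [Subgroup.mem_centralizer_iff] at h1
  have h2 := h1 ⟨h, hHX hh⟩ (Subgroup.mem_subgroupOf.mpr hh)
  exact congrArg Subtype.val h2

end Cfsg.Agent.Lib.H14.SClZ
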