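import Mathlib

/-!
# S3016 (odd-p Shult), CASE B with `|H| = 3`: the pure arithmetic endgame (piece Q3-ARITH)

Data for the characters of the principal block: `d = χ(a) ∈ ℤ`, `f = χ(1)`, `R` = the average of
`χ` over the bad pairs.  Class sums give `2 d² = f (d + R)`, block orthogonality gives
`∑ d R = 0` and `∑ d f = 0`, and the pointwise bound on the Frobenius kernels gives
`2 d - f ≤ R`.  These are contradictory.
-/

set_option autoImplicit false

namespace Cfsg.Agent.Lib.H14.SHQ3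

/-- for a nontrivial index: `2 d ≤ f` -/
theorem two_mul_le_of_bound {D F R : ℝ} (hF : 0 < F) (hDF : D < F)
    (hCS : 2 * D ^ 2 = F * (D + R)) (hQ3 : 2 * D - F ≤ R) : 2 * D ≤ F := by
  by_contra h
  push Not at h
  have h1 : F * (2 * D - F) ≤ F * R := mul_le_mul_of_nonneg_left hQ3 hF.le
  have h2 : 0 < (2 * D - F) * (F - D) := mul_pos (by linarith) (by linarith)
  nlinarith

/-- for a nontrivial index: `d R ≤ 0` -/
theorem mul_nonpos_of_bound {D F R : ℝ} (hF : 0 < F) (hDF : D < F)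
    (hCS : 2 * D ^ 2 = F * (D + R)) (hQ3 : 2 * D - F ≤ R) : D * R ≤ 0 := by
  have h2 : 2 * D ≤ F := two_mul_le_of_bound hF hDF hCS hQ3
  have h3 : F * (D * R) = D ^ 2 * (2 * D - F) := by
    have : F * R = 2 * D ^ 2 - F * D := by linarith
    calc F * (D * R) = D * (F * R) := by ring
      _ = D * (2 * D ^ 2 - F * D) := by rw [this]
      _ = D ^ 2 * (2 * D - F) := by ring
  have h4 : D ^ 2 * (2 * D - F) ≤ 0 :=
    mul_nonpos_of_nonneg_of_nonpos (sq_nonneg D) (by linarith)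
  by_contra h
  push Not at h
  have : 0 < F * (D * R) := mul_pos hF h
  linarith

/-- for a nontrivial index with `d ≤ -1`: `d R < -1` -/
theorem mul_lt_neg_one_of_neg {D F R : ℝ} (hF : 0 < F) (hD : D ≤ -1)
    (hCS : 2 * D ^ 2 = F * (D + R)) : D * R < -1 := by
  have h3 : F * (D * R) = D ^ 2 * (2 * D - F) := by
    have : F * R = 2 * D ^ 2 - F * D := by linarith
    calc F * (D * R) = D * (F * R) := by ring
      _ = D * (2 * D ^ 2 - F * D) := by rw [this]
      _ = D ^ 2 * (2 * D - F) := by ring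
  have h5 : 1 ≤ D ^ 2 := by nlinarith
  have h6 : F < F - 2 * D := by linarith
  have h7 : F < D ^ 2 * (F - 2 * D) := by nlinarith
  by_contra h
  push Not at h
  have h8 : F * (-1) ≤ F * (D * R) := mul_le_mul_of_nonneg_left h hF.le
  nlinarith

/-- **Q3-ARITH**: the arithmetic endgame of CASE B for `|H| = 3`. -/
theorem endb_q3_arith {ι : Type*} (s : Finset ι) (i₀ : ι) (hi₀ : i₀ ∈ s)
    (d : ι → ℤ) (f : ι → ℕ) (R : ι → ℝ)
    (hd0 : d i₀ = 1) (hf0 : f i₀ = 1)
    (hfpos : ∀ i ∈ s, 0 < f i)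
    (hdle : ∀ i ∈ s, i ≠ i₀ → d i < (f i : ℤ))
    (hCS : ∀ i ∈ s, 2 * (d i : ℝ) ^ 2 = (f i : ℝ) * ((d i : ℝ) + R i))
    (hORTH : ∑ i ∈ s, (d i : ℝ) * R i = 0)
    (hdf : ∑ i ∈ s, (d i : ℝ) * (f i : ℝ) = 0)
    (hQ3 : ∀ i ∈ s, 2 * (d i : ℝ) - (f i : ℝ) ≤ R i) : False := by
  classical
  -- the trivial index contributes `1` to both sums
  have hR0 : R i₀ = 1 := by
    have h := hCS i₀ hi₀
    rw [hd0, hf0] at h
    norm_num at h
    linarith
  have hFpos : ∀ i ∈ s, (0 : ℝ) < (f i : ℝ) := fun i hi => by exact_mod_cast hfpos i hi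
  have hDF : ∀ i ∈ s, i ≠ i₀ → (d i : ℝ) < (f i : ℝ) := fun i hi hne => by
    have := hdle i hi hne
    exact_mod_cast this
  -- all other terms of `∑ d R` are nonpositive
  have hterm : ∀ i ∈ s.erase i₀, (d i : ℝ) * R i ≤ 0 := fun i hi => by
    obtain ⟨hne, his⟩ := Finset.mem_erase.1 hi
    exact mul_nonpos_of_bound (hFpos i his) (hDF i his hne) (hCS i his) (hQ3 i his)
  have hsum1 : (d i₀ : ℝ) * R i₀ + ∑ i ∈ s.erase i₀, (d i : ℝ) * R i = 0 := by
    rw [Finset.add_sum_erase s (fun i => (d i : ℝ) * R i) hi₀]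
    exact hORTH
  have hsum2 : ∑ i ∈ s.erase i₀, (d i : ℝ) * R i = -1 := by
    rw [hd0, hR0] at hsum1
    norm_num at hsum1
    linarith
  -- no negative `d`
  have hnonneg : ∀ i ∈ s.erase i₀, 0 ≤ d i := by
    intro j hj
    by_contra hneg
    push Not at hneg
    obtain ⟨hne, hjs⟩ := Finset.mem_erase.1 hj
    have hD : (d j : ℝ) ≤ -1 := by
      have : d j ≤ -1 := by omega
      exact_mod_cast this
    have h1 : (d j : ℝ) * R j < -1 := mul_lt_neg_one_of_neg (hFpos j hjs) hD (hCS j hjs)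
    have h2 : ∑ i ∈ (s.erase i₀).erase j, (d i : ℝ) * R i ≤ 0 :=
      Finset.sum_nonpos fun i hi => hterm i (Finset.mem_of_mem_erase hi)
    have h3 : (d j : ℝ) * R j + ∑ i ∈ (s.erase i₀).erase j, (d i : ℝ) * R i = -1 := by
      rw [Finset.add_sum_erase (s.erase i₀) (fun i => (d i : ℝ) * R i) hj]
      exact hsum2
    linarith
  -- hence `∑ d f ≥ 1`
  have hsum3 : (d i₀ : ℝ) * (f i₀ : ℝ) + ∑ i ∈ s.erase i₀, (d i : ℝ) * (f i : ℝ) = 0 := by
    rw [Finset.add_sum_erase s (fun i => (d i : ℝ) * (f i : ℝ)) hi₀]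
    exact hdf
  have h4 : 0 ≤ ∑ i ∈ s.erase i₀, (d i : ℝ) * (f i : ℝ) :=
    Finset.sum_nonneg fun i hi => by
      have h1 : (0 : ℝ) ≤ (d i : ℝ) := by exact_mod_cast hnonneg i hi
      exact mul_nonneg h1 (Nat.cast_nonneg _)
  rw [hd0, hf0] at hsum3
  norm_num at hsum3
  linarith

end Cfsg.Agent.Lib.H14.SHQ3
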