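import Mathlib
import Cfsg.Prelude.Def_Characters
import Cfsg.Agent.Lib.L0.FiniteOrderEnd
import Cfsg.Agent.Lib.H17.SHINV2

/-!
# S3016 (odd-p Shult), CASE B with `|H| = 3`: the pointwise bound (piece Q3-REP)

`χ` a character of a finite group, `L` a subgroup, `a` normalising `L` with `χ (a l) = χ a` for all
`l ∈ L`.  Then `2 Re χ(a) - χ(1) ≤ Re χ(y)` for every `y ∈ L`.

Proof: `e` = the average of `ρ` over `L` is an idempotent commuting with `ρ a`, `tr (ρ a * e) = χ a`,
`F = ρ a * e + (1 - e)` has finite order, so `Re χ(a) + dim V - tr e ≤ dim V`; `y ∈ L` fixes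
`range e` pointwise, so `Re χ(y) ≥ 2 tr e - dim V`.
-/

set_option autoImplicit false

open Module

namespace Cfsg.Agent.Lib.H14.SHQ3

open Cfsg.Agent.Lib.L0

section LinAlg

variable {G : Type*} [Group G] {V : Type*} [AddCommGroup V] [Module ℂ V]

/-- the averaging operator over a finite subgroup -/
noncomputable def avgOp (ρ : Representation ℂ G V) (L : Subgroup G) [Fintype ↥L] : End ℂ V :=
  (Fintype.card ↥L : ℂ)⁻¹ • ∑ l : ↥L, ρ (l : G)

theorem card_ne_zero (L : Subgroup G) [Fintype ↥L] : (Fintype.card ↥L : ℂ) ≠ 0 := by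
  have : 0 < Fintype.card ↥L := Fintype.card_pos
  exact_mod_cast this.ne'

theorem mul_avgOp (ρ : Representation ℂ G V) (L : Subgroup G) [Fintype ↥L] (y : G) (hy : y ∈ L) :
    ρ y * avgOp ρ L = avgOp ρ L := by
  unfold avgOp
  rw [mul_smul_comm, Finset.mul_sum]
  congr 1
  have h1 : ∀ l : ↥L, ρ y * ρ (l : G) = ρ (((⟨y, hy⟩ : ↥L) * l : ↥L) : G) := by
    intro l
    rw [Subgroup.coe_mul, map_mul]
  rw [Finset.sum_congr rfl fun l _ => h1 l]
  exact Fintype.sum_equiv (Equiv.mulLeft (⟨y, hy⟩ : ↥L)) _ _ fun l => rfl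

theorem avgOp_mul_avgOp (ρ : Representation ℂ G V) (L : Subgroup G) [Fintype ↥L] :
    avgOp ρ L * avgOp ρ L = avgOp ρ L := by
  have h1 : avgOp ρ L * avgOp ρ L =
      (Fintype.card ↥L : ℂ)⁻¹ • ∑ l : ↥L, (ρ (l : G) * avgOp ρ L) := by
    show ((Fintype.card ↥L : ℂ)⁻¹ • ∑ l : ↥L, ρ (l : G)) * avgOp ρ L = _
    rw [smul_mul_assoc, Finset.sum_mul]
  rw [h1, Finset.sum_congr rfl fun (l : ↥L) _ => mul_avgOp ρ L (l : G) l.2, Finset.sum_const,
    Finset.card_univ, ← Nat.cast_smul_eq_nsmul ℂ, smul_smul, inv_mul_cancel₀ (card_ne_zero L),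
    one_smul]

theorem avgOp_comm (ρ : Representation ℂ G V) (L : Subgroup G) [Fintype ↥L] (a : G)
    (hnorm : ∀ l ∈ L, a * l * a⁻¹ ∈ L) : ρ a * avgOp ρ L = avgOp ρ L * ρ a := by
  unfold avgOp
  rw [mul_smul_comm, smul_mul_assoc, Finset.mul_sum, Finset.sum_mul]
  congr 1
  let φ : ↥L → ↥L := fun l => ⟨a * l * a⁻¹, hnorm l l.2⟩
  have hφi : Function.Injective φ := by
    intro l l' h
    have h1 : a * (l : G) * a⁻¹ = a * (l' : G) * a⁻¹ := congrArg Subtype.val h
    have h2 : (l : G) = l' := by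
      have := congrArg (fun t => a⁻¹ * t * a) h1
      simpa [mul_assoc] using this
    exact Subtype.ext h2
  have hφ : Function.Bijective φ := Finite.injective_iff_bijective.1 hφi
  have h1 : ∀ l : ↥L, ρ a * ρ (l : G) = ρ ((φ l : ↥L) : G) * ρ a := by
    intro l
    rw [← map_mul, ← map_mul]
    congr 1
    show a * (l : G) = a * (l : G) * a⁻¹ * a
    group
  rw [Finset.sum_congr rfl fun l _ => h1 l]
  exact hφ.sum_comp fun l : ↥L => ρ (l : G) * ρ a

theorem trace_mul_avgOp [FiniteDimensional ℂ V] (ρ : Representation ℂ G V) (L : Subgroup G) [Fintype ↥L] (a : G) :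
    LinearMap.trace ℂ V (ρ a * avgOp ρ L) =
      (Fintype.card ↥L : ℂ)⁻¹ * ∑ l : ↥L, LinearMap.trace ℂ V (ρ (a * (l : G))) := by
  unfold avgOp
  rw [mul_smul_comm, map_smul, Finset.mul_sum, map_sum, smul_eq_mul]
  congr 1
  refine Finset.sum_congr rfl fun l _ => ?_
  rw [← map_mul ρ a (l : G)]

/-- `F = A e + (1 - e)` for commuting `A`, `e` with `e` idempotent: `F ^ k = A ^ k e + (1 - e)` -/
theorem pow_glue (A e : End ℂ V) (hc : A * e = e * A) (he : e * e = e) (k : ℕ) :
    (A * e + (1 - e)) ^ k = A ^ k * e + (1 - e) := by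
  induction k with
  | zero => simp
  | succ k ih =>
    rw [pow_succ, ih]
    have h1 : A ^ k * e * (A * e) = A ^ (k + 1) * e := by
      calc A ^ k * e * (A * e) = A ^ k * (e * A) * e := by simp only [mul_assoc]
        _ = A ^ k * (A * e) * e := by rw [hc]
        _ = A ^ k * A * (e * e) := by simp only [mul_assoc]
        _ = A ^ (k + 1) * e := by rw [he, pow_succ]
    have h2 : A ^ k * e * (1 - e) = 0 := by
      rw [mul_sub, mul_one, mul_assoc, he, sub_self]
    have h3 : (1 - e) * (A * e) = 0 := by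
      rw [sub_mul, one_mul, ← mul_assoc, ← hc, mul_assoc, he, sub_self]
    have h4 : (1 - e) * (1 - e) = 1 - e := by
      rw [mul_sub, mul_one, sub_mul, one_mul, he, sub_self, sub_zero]
    rw [add_mul, mul_add, mul_add, h1, h2, h3, h4]
    abel

/-- the core: `Re tr (A e) ≤ tr e` and the eigenvalue bound for operators fixing `range e` -/
theorem re_trace_ge_of_fix [FiniteDimensional ℂ V] (A e B : End ℂ V) (hc : A * e = e * A) (he : e * e = e)
    (mA : ℕ) (hmA : 0 < mA) (hA : A ^ mA = 1) (mB : ℕ) (hmB : 0 < mB) (hB : B ^ mB = 1)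
    (hBe : B * e = e) :
    2 * (LinearMap.trace ℂ V (A * e)).re - finrank ℂ V ≤ (LinearMap.trace ℂ V B).re := by
  have hproj : LinearMap.IsProj (LinearMap.range e) e :=
    LinearMap.IsIdempotentElem.isProj_range e he
  have htre : LinearMap.trace ℂ V e = (finrank ℂ (LinearMap.range e) : ℂ) := hproj.trace
  -- `Re tr (A e) ≤ dim range e`
  have hF : (A * e + (1 - e)) ^ mA = 1 := by
    rw [pow_glue A e hc he, hA, one_mul]
    abel
  have hnorm := norm_trace_le hmA hF
  have htrF : LinearMap.trace ℂ V (A * e + (1 - e)) =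
      LinearMap.trace ℂ V (A * e) + (finrank ℂ V : ℂ) - (finrank ℂ (LinearMap.range e) : ℂ) := by
    rw [map_add, map_sub, htre, LinearMap.trace_one]
    ring
  have hre : (LinearMap.trace ℂ V (A * e + (1 - e))).re ≤ finrank ℂ V :=
    (Complex.re_le_norm _).trans hnorm
  rw [htrF] at hre
  simp only [Complex.add_re, Complex.sub_re, Complex.natCast_re] at hre
  -- `range e ≤ Fix B`
  have hle : LinearMap.range e ≤ B.eigenspace 1 := by
    rintro v ⟨w, rfl⟩
    rw [Module.End.mem_eigenspace_iff, one_smul, ← Module.End.mul_apply, hBe]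
  have hdim : finrank ℂ (LinearMap.range e) ≤ finrank ℂ (B.eigenspace 1) :=
    Submodule.finrank_mono hle
  have hdim' : (finrank ℂ (LinearMap.range e) : ℝ) ≤ (finrank ℂ (B.eigenspace 1) : ℝ) := by
    exact_mod_cast hdim
  have hB' := Cfsg.Agent.Lib.H17.SH.re_trace_ge_of_pow_eq_one B mB hmB hB
  linarith

end LinAlg

section Character

variable {G : Type*} [Group G] [Finite G]

/-- **Lemma Q3**: if `a` normalises `L` and `χ` is constant on the coset `a L`, then
`2 Re χ(a) - χ(1) ≤ Re χ(y)` for every `y ∈ L`. -/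
theorem char_ge_of_const_on_coset (χ : G → ℂ) (hχ : Cfsg.IsCharacter G χ) (L : Subgroup G) (a : G)
    (hnorm : ∀ l ∈ L, a * l * a⁻¹ ∈ L) (hconst : ∀ l ∈ L, χ (a * l) = χ a) (y : G) (hy : y ∈ L) :
    2 * (χ a).re - (χ 1).re ≤ (χ y).re := by
  classical
  obtain ⟨n, ρ, rfl⟩ := hχ
  have : Fintype ↥L := Fintype.ofFinite _
  have hc := avgOp_comm ρ L a hnorm
  have he := avgOp_mul_avgOp ρ L
  have hBe := mul_avgOp ρ L y hy
  have hA : (ρ a) ^ orderOf a = 1 := by rw [← map_pow, pow_orderOf_eq_one, map_one]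
  have hB : (ρ y) ^ orderOf y = 1 := by rw [← map_pow, pow_orderOf_eq_one, map_one]
  have h := re_trace_ge_of_fix (ρ a) (avgOp ρ L) (ρ y) hc he (orderOf a) (orderOf_pos a) hA
    (orderOf y) (orderOf_pos y) hB hBe
  have htr : LinearMap.trace ℂ (Fin n → ℂ) (ρ a * avgOp ρ L) = ρ.character a := by
    rw [trace_mul_avgOp]
    have h1 : ∀ l : ↥L, LinearMap.trace ℂ (Fin n → ℂ) (ρ (a * (l : G))) = ρ.character a :=
      fun l => hconst (l : G) l.2
    rw [Finset.sum_congr rfl fun l _ => h1 l, Finset.sum_const, Finset.card_univ,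
      nsmul_eq_mul, ← mul_assoc, inv_mul_cancel₀ (card_ne_zero L), one_mul]
  have h1 : (ρ.character 1).re = (finrank ℂ (Fin n → ℂ) : ℝ) := by
    rw [Representation.char_one]
    simp
  rw [htr] at h
  rw [h1]
  exact h

end Character

end Cfsg.Agent.Lib.H14.SHQ3
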