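import Cfsg.Agent.Lib.H14.SSChainDefs

/-! Generated: chain primes 1366303 .. 5278349 (part B) for SS11 (Sylvester-Schur, S3571 NT block). -/

set_option autoImplicit false
set_option maxRecDepth 100000

namespace Cfsg.Agent.Lib.H14.SS

theorem pr_1366303 : Nat.Prime 1366303 := by norm_num
theorem seg_1366303 : ∀ n : ℕ, 1366303 ≤ n → n < 1378613 → ChainP n :=
  chainP_leaf 1366303 1378613 pr_1366303 (by norm_num)
theorem pr_1378613 : Nat.Prime 1378613 := by norm_num
theorem seg_1378613 : ∀ n : ℕ, 1378613 ≤ n → n < 1390993 → ChainP n :=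
  chainP_leaf 1378613 1390993 pr_1378613 (by norm_num)
theorem pr_1390993 : Nat.Prime 1390993 := by norm_num
theorem seg_1390993 : ∀ n : ℕ, 1390993 ≤ n → n < 1403453 → ChainP n :=
  chainP_leaf 1390993 1403453 pr_1390993 (by norm_num)
theorem pr_1403453 : Nat.Prime 1403453 := by norm_num
theorem seg_1403453 : ∀ n : ℕ, 1403453 ≤ n → n < 1415977 → ChainP n :=
  chainP_leaf 1403453 1415977 pr_1403453 (by norm_num)
theorem pr_1415977 : Nat.Prime 1415977 := by norm_num
theorem seg_1415977 : ∀ n : ℕ, 1415977 ≤ n → n < 1428571 → ChainP n :=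
  chainP_leaf 1415977 1428571 pr_1415977 (by norm_num)
theorem pr_1428571 : Nat.Prime 1428571 := by norm_num
theorem seg_1428571 : ∀ n : ℕ, 1428571 ≤ n → n < 1441241 → ChainP n :=
  chainP_leaf 1428571 1441241 pr_1428571 (by norm_num)
theorem pr_1441241 : Nat.Prime 1441241 := by norm_num
theorem seg_1441241 : ∀ n : ℕ, 1441241 ≤ n → n < 1453997 → ChainP n :=
  chainP_leaf 1441241 1453997 pr_1441241 (by norm_num)
theorem pr_1453997 : Nat.Prime 1453997 := by norm_num
theorem seg_1453997 : ∀ n : ℕ, 1453997 ≤ n → n < 1466821 → ChainP n :=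
  chainP_leaf 1453997 1466821 pr_1453997 (by norm_num)
theorem pr_1466821 : Nat.Prime 1466821 := by norm_num
theorem seg_1466821 : ∀ n : ℕ, 1466821 ≤ n → n < 1479727 → ChainP n :=
  chainP_leaf 1466821 1479727 pr_1466821 (by norm_num)
theorem pr_1479727 : Nat.Prime 1479727 := by norm_num
theorem seg_1479727 : ∀ n : ℕ, 1479727 ≤ n → n < 1492709 → ChainP n :=
  chainP_leaf 1479727 1492709 pr_1479727 (by norm_num)
theorem pr_1492709 : Nat.Prime 1492709 := by norm_num
theorem seg_1492709 : ∀ n : ℕ, 1492709 ≤ n → n < 1505761 → ChainP n :=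
  chainP_leaf 1492709 1505761 pr_1492709 (by norm_num)
theorem pr_1505761 : Nat.Prime 1505761 := by norm_num
theorem seg_1505761 : ∀ n : ℕ, 1505761 ≤ n → n < 1518893 → ChainP n :=
  chainP_leaf 1505761 1518893 pr_1505761 (by norm_num)
theorem pr_1518893 : Nat.Prime 1518893 := by norm_num
theorem seg_1518893 : ∀ n : ℕ, 1518893 ≤ n → n < 1532093 → ChainP n :=
  chainP_leaf 1518893 1532093 pr_1518893 (by norm_num)
theorem pr_1532093 : Nat.Prime 1532093 := by norm_num
theorem seg_1532093 : ∀ n : ℕ, 1532093 ≤ n → n < 1545371 → ChainP n :=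
  chainP_leaf 1532093 1545371 pr_1532093 (by norm_num)
theorem pr_1545371 : Nat.Prime 1545371 := by norm_num
theorem seg_1545371 : ∀ n : ℕ, 1545371 ≤ n → n < 1558729 → ChainP n :=
  chainP_leaf 1545371 1558729 pr_1545371 (by norm_num)
theorem pr_1558729 : Nat.Prime 1558729 := by norm_num
theorem seg_1558729 : ∀ n : ℕ, 1558729 ≤ n → n < 1572163 → ChainP n :=
  chainP_leaf 1558729 1572163 pr_1558729 (by norm_num)
theorem pr_1572163 : Nat.Prime 1572163 := by norm_num
theorem seg_1572163 : ∀ n : ℕ, 1572163 ≤ n → n < 1585679 → ChainP n :=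
  chainP_leaf 1572163 1585679 pr_1572163 (by norm_num)
theorem pr_1585679 : Nat.Prime 1585679 := by norm_num
theorem seg_1585679 : ∀ n : ℕ, 1585679 ≤ n → n < 1599271 → ChainP n :=
  chainP_leaf 1585679 1599271 pr_1585679 (by norm_num)
theorem pr_1599271 : Nat.Prime 1599271 := by norm_num
theorem seg_1599271 : ∀ n : ℕ, 1599271 ≤ n → n < 1612937 → ChainP n :=
  chainP_leaf 1599271 1612937 pr_1599271 (by norm_num)
theorem pr_1612937 : Nat.Prime 1612937 := by norm_num
theorem seg_1612937 : ∀ n : ℕ, 1612937 ≤ n → n < 1626673 → ChainP n :=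
  chainP_leaf 1612937 1626673 pr_1612937 (by norm_num)
theorem pr_1626673 : Nat.Prime 1626673 := by norm_num
theorem seg_1626673 : ∀ n : ℕ, 1626673 ≤ n → n < 1640503 → ChainP n :=
  chainP_leaf 1626673 1640503 pr_1626673 (by norm_num)
theorem pr_1640503 : Nat.Prime 1640503 := by norm_num
theorem seg_1640503 : ∀ n : ℕ, 1640503 ≤ n → n < 1654403 → ChainP n :=
  chainP_leaf 1640503 1654403 pr_1640503 (by norm_num)
theorem pr_1654403 : Nat.Prime 1654403 := by norm_num
theorem seg_1654403 : ∀ n : ℕ, 1654403 ≤ n → n < 1668379 → ChainP n :=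
  chainP_leaf 1654403 1668379 pr_1654403 (by norm_num)
theorem pr_1668379 : Nat.Prime 1668379 := by norm_num
theorem seg_1668379 : ∀ n : ℕ, 1668379 ≤ n → n < 1682423 → ChainP n :=
  chainP_leaf 1668379 1682423 pr_1668379 (by norm_num)
theorem pr_1682423 : Nat.Prime 1682423 := by norm_num
theorem seg_1682423 : ∀ n : ℕ, 1682423 ≤ n → n < 1696547 → ChainP n :=
  chainP_leaf 1682423 1696547 pr_1682423 (by norm_num)
theorem pr_1696547 : Nat.Prime 1696547 := by norm_num
theorem seg_1696547 : ∀ n : ℕ, 1696547 ≤ n → n < 1710767 → ChainP n :=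
  chainP_leaf 1696547 1710767 pr_1696547 (by norm_num)
theorem pr_1710767 : Nat.Prime 1710767 := by norm_num
theorem seg_1710767 : ∀ n : ℕ, 1710767 ≤ n → n < 1725071 → ChainP n :=
  chainP_leaf 1710767 1725071 pr_1710767 (by norm_num)
theorem pr_1725071 : Nat.Prime 1725071 := by norm_num
theorem seg_1725071 : ∀ n : ℕ, 1725071 ≤ n → n < 1739453 → ChainP n :=
  chainP_leaf 1725071 1739453 pr_1725071 (by norm_num)
theorem pr_1739453 : Nat.Prime 1739453 := by norm_num
theorem seg_1739453 : ∀ n : ℕ, 1739453 ≤ n → n < 1753903 → ChainP n :=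
  chainP_leaf 1739453 1753903 pr_1739453 (by norm_num)
theorem pr_1753903 : Nat.Prime 1753903 := by norm_num
theorem seg_1753903 : ∀ n : ℕ, 1753903 ≤ n → n < 1768441 → ChainP n :=
  chainP_leaf 1753903 1768441 pr_1753903 (by norm_num)
theorem pr_1768441 : Nat.Prime 1768441 := by norm_num
theorem seg_1768441 : ∀ n : ℕ, 1768441 ≤ n → n < 1783051 → ChainP n :=
  chainP_leaf 1768441 1783051 pr_1768441 (by norm_num)
theorem pr_1783051 : Nat.Prime 1783051 := by norm_num
theorem seg_1783051 : ∀ n : ℕ, 1783051 ≤ n → n < 1797751 → ChainP n :=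
  chainP_leaf 1783051 1797751 pr_1783051 (by norm_num)
theorem pr_1797751 : Nat.Prime 1797751 := by norm_num
theorem seg_1797751 : ∀ n : ℕ, 1797751 ≤ n → n < 1812527 → ChainP n :=
  chainP_leaf 1797751 1812527 pr_1797751 (by norm_num)
theorem pr_1812527 : Nat.Prime 1812527 := by norm_num
theorem seg_1812527 : ∀ n : ℕ, 1812527 ≤ n → n < 1827389 → ChainP n :=
  chainP_leaf 1812527 1827389 pr_1812527 (by norm_num)
theorem pr_1827389 : Nat.Prime 1827389 := by norm_num
theorem seg_1827389 : ∀ n : ℕ, 1827389 ≤ n → n < 1842329 → ChainP n :=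
  chainP_leaf 1827389 1842329 pr_1827389 (by norm_num)
theorem pr_1842329 : Nat.Prime 1842329 := by norm_num
theorem seg_1842329 : ∀ n : ℕ, 1842329 ≤ n → n < 1857353 → ChainP n :=
  chainP_leaf 1842329 1857353 pr_1842329 (by norm_num)
theorem pr_1857353 : Nat.Prime 1857353 := by norm_num
theorem seg_1857353 : ∀ n : ℕ, 1857353 ≤ n → n < 1872461 → ChainP n :=
  chainP_leaf 1857353 1872461 pr_1857353 (by norm_num)
theorem pr_1872461 : Nat.Prime 1872461 := by norm_num
theorem seg_1872461 : ∀ n : ℕ, 1872461 ≤ n → n < 1887643 → ChainP n :=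
  chainP_leaf 1872461 1887643 pr_1872461 (by norm_num)
theorem pr_1887643 : Nat.Prime 1887643 := by norm_num
theorem seg_1887643 : ∀ n : ℕ, 1887643 ≤ n → n < 1902899 → ChainP n :=
  chainP_leaf 1887643 1902899 pr_1887643 (by norm_num)
theorem pr_1902899 : Nat.Prime 1902899 := by norm_num
theorem seg_1902899 : ∀ n : ℕ, 1902899 ≤ n → n < 1918247 → ChainP n :=
  chainP_leaf 1902899 1918247 pr_1902899 (by norm_num)
theorem pr_1918247 : Nat.Prime 1918247 := by norm_num
theorem seg_1918247 : ∀ n : ℕ, 1918247 ≤ n → n < 1933681 → ChainP n :=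
  chainP_leaf 1918247 1933681 pr_1918247 (by norm_num)
theorem pr_1933681 : Nat.Prime 1933681 := by norm_num
theorem seg_1933681 : ∀ n : ℕ, 1933681 ≤ n → n < 1949201 → ChainP n :=
  chainP_leaf 1933681 1949201 pr_1933681 (by norm_num)
theorem pr_1949201 : Nat.Prime 1949201 := by norm_num
theorem seg_1949201 : ∀ n : ℕ, 1949201 ≤ n → n < 1964801 → ChainP n :=
  chainP_leaf 1949201 1964801 pr_1949201 (by norm_num)
theorem pr_1964801 : Nat.Prime 1964801 := by norm_num
theorem seg_1964801 : ∀ n : ℕ, 1964801 ≤ n → n < 1980469 → ChainP n :=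
  chainP_leaf 1964801 1980469 pr_1964801 (by norm_num)
theorem pr_1980469 : Nat.Prime 1980469 := by norm_num
theorem seg_1980469 : ∀ n : ℕ, 1980469 ≤ n → n < 1996237 → ChainP n :=
  chainP_leaf 1980469 1996237 pr_1980469 (by norm_num)
theorem pr_1996237 : Nat.Prime 1996237 := by norm_num
theorem seg_1996237 : ∀ n : ℕ, 1996237 ≤ n → n < 2012083 → ChainP n :=
  chainP_leaf 1996237 2012083 pr_1996237 (by norm_num)
theorem pr_2012083 : Nat.Prime 2012083 := by norm_num
theorem seg_2012083 : ∀ n : ℕ, 2012083 ≤ n → n < 2028017 → ChainP n :=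
  chainP_leaf 2012083 2028017 pr_2012083 (by norm_num)
theorem pr_2028017 : Nat.Prime 2028017 := by norm_num
theorem seg_2028017 : ∀ n : ℕ, 2028017 ≤ n → n < 2044037 → ChainP n :=
  chainP_leaf 2028017 2044037 pr_2028017 (by norm_num)
theorem pr_2044037 : Nat.Prime 2044037 := by norm_num
theorem seg_2044037 : ∀ n : ℕ, 2044037 ≤ n → n < 2060141 → ChainP n :=
  chainP_leaf 2044037 2060141 pr_2044037 (by norm_num)
theorem pr_2060141 : Nat.Prime 2060141 := by norm_num
theorem seg_2060141 : ∀ n : ℕ, 2060141 ≤ n → n < 2076331 → ChainP n :=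
  chainP_leaf 2060141 2076331 pr_2060141 (by norm_num)
theorem pr_2076331 : Nat.Prime 2076331 := by norm_num
theorem seg_2076331 : ∀ n : ℕ, 2076331 ≤ n → n < 2092591 → ChainP n :=
  chainP_leaf 2076331 2092591 pr_2076331 (by norm_num)
theorem pr_2092591 : Nat.Prime 2092591 := by norm_num
theorem seg_2092591 : ∀ n : ℕ, 2092591 ≤ n → n < 2108941 → ChainP n :=
  chainP_leaf 2092591 2108941 pr_2092591 (by norm_num)
theorem pr_2108941 : Nat.Prime 2108941 := by norm_num
theorem seg_2108941 : ∀ n : ℕ, 2108941 ≤ n → n < 2125373 → ChainP n :=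
  chainP_leaf 2108941 2125373 pr_2108941 (by norm_num)
theorem pr_2125373 : Nat.Prime 2125373 := by norm_num
theorem seg_2125373 : ∀ n : ℕ, 2125373 ≤ n → n < 2141903 → ChainP n :=
  chainP_leaf 2125373 2141903 pr_2125373 (by norm_num)
theorem pr_2141903 : Nat.Prime 2141903 := by norm_num
theorem seg_2141903 : ∀ n : ℕ, 2141903 ≤ n → n < 2158501 → ChainP n :=
  chainP_leaf 2141903 2158501 pr_2141903 (by norm_num)
theorem pr_2158501 : Nat.Prime 2158501 := by norm_num
theorem seg_2158501 : ∀ n : ℕ, 2158501 ≤ n → n < 2175197 → ChainP n :=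
  chainP_leaf 2158501 2175197 pr_2158501 (by norm_num)
theorem pr_2175197 : Nat.Prime 2175197 := by norm_num
theorem seg_2175197 : ∀ n : ℕ, 2175197 ≤ n → n < 2191967 → ChainP n :=
  chainP_leaf 2175197 2191967 pr_2175197 (by norm_num)
theorem pr_2191967 : Nat.Prime 2191967 := by norm_num
theorem seg_2191967 : ∀ n : ℕ, 2191967 ≤ n → n < 2208839 → ChainP n :=
  chainP_leaf 2191967 2208839 pr_2191967 (by norm_num)
theorem pr_2208839 : Nat.Prime 2208839 := by norm_num
theorem seg_2208839 : ∀ n : ℕ, 2208839 ≤ n → n < 2225791 → ChainP n :=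
  chainP_leaf 2208839 2225791 pr_2208839 (by norm_num)
theorem pr_2225791 : Nat.Prime 2225791 := by norm_num
theorem seg_2225791 : ∀ n : ℕ, 2225791 ≤ n → n < 2242813 → ChainP n :=
  chainP_leaf 2225791 2242813 pr_2225791 (by norm_num)
theorem pr_2242813 : Nat.Prime 2242813 := by norm_num
theorem seg_2242813 : ∀ n : ℕ, 2242813 ≤ n → n < 2259937 → ChainP n :=
  chainP_leaf 2242813 2259937 pr_2242813 (by norm_num)
theorem pr_2259937 : Nat.Prime 2259937 := by norm_num
theorem seg_2259937 : ∀ n : ℕ, 2259937 ≤ n → n < 2277139 → ChainP n :=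
  chainP_leaf 2259937 2277139 pr_2259937 (by norm_num)
theorem pr_2277139 : Nat.Prime 2277139 := by norm_num
theorem seg_2277139 : ∀ n : ℕ, 2277139 ≤ n → n < 2294431 → ChainP n :=
  chainP_leaf 2277139 2294431 pr_2277139 (by norm_num)
theorem pr_2294431 : Nat.Prime 2294431 := by norm_num
theorem seg_2294431 : ∀ n : ℕ, 2294431 ≤ n → n < 2311823 → ChainP n :=
  chainP_leaf 2294431 2311823 pr_2294431 (by norm_num)
theorem pr_2311823 : Nat.Prime 2311823 := by norm_num
theorem seg_2311823 : ∀ n : ℕ, 2311823 ≤ n → n < 2329303 → ChainP n :=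
  chainP_leaf 2311823 2329303 pr_2311823 (by norm_num)
theorem pr_2329303 : Nat.Prime 2329303 := by norm_num
theorem seg_2329303 : ∀ n : ℕ, 2329303 ≤ n → n < 2346863 → ChainP n :=
  chainP_leaf 2329303 2346863 pr_2329303 (by norm_num)
theorem pr_2346863 : Nat.Prime 2346863 := by norm_num
theorem seg_2346863 : ∀ n : ℕ, 2346863 ≤ n → n < 2364521 → ChainP n :=
  chainP_leaf 2346863 2364521 pr_2346863 (by norm_num)
theorem pr_2364521 : Nat.Prime 2364521 := by norm_num
theorem seg_2364521 : ∀ n : ℕ, 2364521 ≤ n → n < 2382269 → ChainP n :=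
  chainP_leaf 2364521 2382269 pr_2364521 (by norm_num)
theorem pr_2382269 : Nat.Prime 2382269 := by norm_num
theorem seg_2382269 : ∀ n : ℕ, 2382269 ≤ n → n < 2400089 → ChainP n :=
  chainP_leaf 2382269 2400089 pr_2382269 (by norm_num)
theorem pr_2400089 : Nat.Prime 2400089 := by norm_num
theorem seg_2400089 : ∀ n : ℕ, 2400089 ≤ n → n < 2418007 → ChainP n :=
  chainP_leaf 2400089 2418007 pr_2400089 (by norm_num)
theorem pr_2418007 : Nat.Prime 2418007 := by norm_num
theorem seg_2418007 : ∀ n : ℕ, 2418007 ≤ n → n < 2436017 → ChainP n :=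
  chainP_leaf 2418007 2436017 pr_2418007 (by norm_num)
theorem pr_2436017 : Nat.Prime 2436017 := by norm_num
theorem seg_2436017 : ∀ n : ℕ, 2436017 ≤ n → n < 2454121 → ChainP n :=
  chainP_leaf 2436017 2454121 pr_2436017 (by norm_num)
theorem pr_2454121 : Nat.Prime 2454121 := by norm_num
theorem seg_2454121 : ∀ n : ℕ, 2454121 ≤ n → n < 2472313 → ChainP n :=
  chainP_leaf 2454121 2472313 pr_2454121 (by norm_num)
theorem pr_2472313 : Nat.Prime 2472313 := by norm_num
theorem seg_2472313 : ∀ n : ℕ, 2472313 ≤ n → n < 2490589 → ChainP n :=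
  chainP_leaf 2472313 2490589 pr_2472313 (by norm_num)
theorem pr_2490589 : Nat.Prime 2490589 := by norm_num
theorem seg_2490589 : ∀ n : ℕ, 2490589 ≤ n → n < 2508953 → ChainP n :=
  chainP_leaf 2490589 2508953 pr_2490589 (by norm_num)
theorem pr_2508953 : Nat.Prime 2508953 := by norm_num
theorem seg_2508953 : ∀ n : ℕ, 2508953 ≤ n → n < 2527409 → ChainP n :=
  chainP_leaf 2508953 2527409 pr_2508953 (by norm_num)
theorem pr_2527409 : Nat.Prime 2527409 := by norm_num
theorem seg_2527409 : ∀ n : ℕ, 2527409 ≤ n → n < 2545927 → ChainP n :=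
  chainP_leaf 2527409 2545927 pr_2527409 (by norm_num)
theorem pr_2545927 : Nat.Prime 2545927 := by norm_num
theorem seg_2545927 : ∀ n : ℕ, 2545927 ≤ n → n < 2564567 → ChainP n :=
  chainP_leaf 2545927 2564567 pr_2545927 (by norm_num)
theorem pr_2564567 : Nat.Prime 2564567 := by norm_num
theorem seg_2564567 : ∀ n : ℕ, 2564567 ≤ n → n < 2583299 → ChainP n :=
  chainP_leaf 2564567 2583299 pr_2564567 (by norm_num)
theorem pr_2583299 : Nat.Prime 2583299 := by norm_num
theorem seg_2583299 : ∀ n : ℕ, 2583299 ≤ n → n < 2602121 → ChainP n :=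
  chainP_leaf 2583299 2602121 pr_2583299 (by norm_num)
theorem pr_2602121 : Nat.Prime 2602121 := by norm_num
theorem seg_2602121 : ∀ n : ℕ, 2602121 ≤ n → n < 2621033 → ChainP n :=
  chainP_leaf 2602121 2621033 pr_2602121 (by norm_num)
theorem pr_2621033 : Nat.Prime 2621033 := by norm_num
theorem seg_2621033 : ∀ n : ℕ, 2621033 ≤ n → n < 2640041 → ChainP n :=
  chainP_leaf 2621033 2640041 pr_2621033 (by norm_num)
theorem pr_2640041 : Nat.Prime 2640041 := by norm_num
theorem seg_2640041 : ∀ n : ℕ, 2640041 ≤ n → n < 2659133 → ChainP n :=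
  chainP_leaf 2640041 2659133 pr_2640041 (by norm_num)
theorem pr_2659133 : Nat.Prime 2659133 := by norm_num
theorem seg_2659133 : ∀ n : ℕ, 2659133 ≤ n → n < 2678323 → ChainP n :=
  chainP_leaf 2659133 2678323 pr_2659133 (by norm_num)
theorem pr_2678323 : Nat.Prime 2678323 := by norm_num
theorem seg_2678323 : ∀ n : ℕ, 2678323 ≤ n → n < 2697599 → ChainP n :=
  chainP_leaf 2678323 2697599 pr_2678323 (by norm_num)
theorem pr_2697599 : Nat.Prime 2697599 := by norm_num
theorem seg_2697599 : ∀ n : ℕ, 2697599 ≤ n → n < 2716969 → ChainP n :=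
  chainP_leaf 2697599 2716969 pr_2697599 (by norm_num)
theorem pr_2716969 : Nat.Prime 2716969 := by norm_num
theorem seg_2716969 : ∀ n : ℕ, 2716969 ≤ n → n < 2736431 → ChainP n :=
  chainP_leaf 2716969 2736431 pr_2716969 (by norm_num)
theorem pr_2736431 : Nat.Prime 2736431 := by norm_num
theorem seg_2736431 : ∀ n : ℕ, 2736431 ≤ n → n < 2755981 → ChainP n :=
  chainP_leaf 2736431 2755981 pr_2736431 (by norm_num)
theorem pr_2755981 : Nat.Prime 2755981 := by norm_num
theorem seg_2755981 : ∀ n : ℕ, 2755981 ≤ n → n < 2775637 → ChainP n :=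
  chainP_leaf 2755981 2775637 pr_2755981 (by norm_num)
theorem pr_2775637 : Nat.Prime 2775637 := by norm_num
theorem seg_2775637 : ∀ n : ℕ, 2775637 ≤ n → n < 2795383 → ChainP n :=
  chainP_leaf 2775637 2795383 pr_2775637 (by norm_num)
theorem pr_2795383 : Nat.Prime 2795383 := by norm_num
theorem seg_2795383 : ∀ n : ℕ, 2795383 ≤ n → n < 2815207 → ChainP n :=
  chainP_leaf 2795383 2815207 pr_2795383 (by norm_num)
theorem pr_2815207 : Nat.Prime 2815207 := by norm_num
theorem seg_2815207 : ∀ n : ℕ, 2815207 ≤ n → n < 2835139 → ChainP n :=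
  chainP_leaf 2815207 2835139 pr_2815207 (by norm_num)
theorem pr_2835139 : Nat.Prime 2835139 := by norm_num
theorem seg_2835139 : ∀ n : ℕ, 2835139 ≤ n → n < 2855161 → ChainP n :=
  chainP_leaf 2835139 2855161 pr_2835139 (by norm_num)
theorem pr_2855161 : Nat.Prime 2855161 := by norm_num
theorem seg_2855161 : ∀ n : ℕ, 2855161 ≤ n → n < 2875267 → ChainP n :=
  chainP_leaf 2855161 2875267 pr_2855161 (by norm_num)
theorem pr_2875267 : Nat.Prime 2875267 := by norm_num
theorem seg_2875267 : ∀ n : ℕ, 2875267 ≤ n → n < 2895479 → ChainP n :=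
  chainP_leaf 2875267 2895479 pr_2875267 (by norm_num)
theorem pr_2895479 : Nat.Prime 2895479 := by norm_num
theorem seg_2895479 : ∀ n : ℕ, 2895479 ≤ n → n < 2915791 → ChainP n :=
  chainP_leaf 2895479 2915791 pr_2895479 (by norm_num)
theorem pr_2915791 : Nat.Prime 2915791 := by norm_num
theorem seg_2915791 : ∀ n : ℕ, 2915791 ≤ n → n < 2936191 → ChainP n :=
  chainP_leaf 2915791 2936191 pr_2915791 (by norm_num)
theorem pr_2936191 : Nat.Prime 2936191 := by norm_num
theorem seg_2936191 : ∀ n : ℕ, 2936191 ≤ n → n < 2956693 → ChainP n :=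
  chainP_leaf 2936191 2956693 pr_2936191 (by norm_num)
theorem pr_2956693 : Nat.Prime 2956693 := by norm_num
theorem seg_2956693 : ∀ n : ℕ, 2956693 ≤ n → n < 2977283 → ChainP n :=
  chainP_leaf 2956693 2977283 pr_2956693 (by norm_num)
theorem pr_2977283 : Nat.Prime 2977283 := by norm_num
theorem seg_2977283 : ∀ n : ℕ, 2977283 ≤ n → n < 2997977 → ChainP n :=
  chainP_leaf 2977283 2997977 pr_2977283 (by norm_num)
theorem pr_2997977 : Nat.Prime 2997977 := by norm_num
theorem seg_2997977 : ∀ n : ℕ, 2997977 ≤ n → n < 3018733 → ChainP n :=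
  chainP_leaf 2997977 3018733 pr_2997977 (by norm_num)
theorem pr_3018733 : Nat.Prime 3018733 := by norm_num
theorem seg_3018733 : ∀ n : ℕ, 3018733 ≤ n → n < 3039571 → ChainP n :=
  chainP_leaf 3018733 3039571 pr_3018733 (by norm_num)
theorem pr_3039571 : Nat.Prime 3039571 := by norm_num
theorem seg_3039571 : ∀ n : ℕ, 3039571 ≤ n → n < 3060517 → ChainP n :=
  chainP_leaf 3039571 3060517 pr_3039571 (by norm_num)
theorem pr_3060517 : Nat.Prime 3060517 := by norm_num
theorem seg_3060517 : ∀ n : ℕ, 3060517 ≤ n → n < 3081583 → ChainP n :=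
  chainP_leaf 3060517 3081583 pr_3060517 (by norm_num)
theorem pr_3081583 : Nat.Prime 3081583 := by norm_num
theorem seg_3081583 : ∀ n : ℕ, 3081583 ≤ n → n < 3102733 → ChainP n :=
  chainP_leaf 3081583 3102733 pr_3081583 (by norm_num)
theorem pr_3102733 : Nat.Prime 3102733 := by norm_num
theorem seg_3102733 : ∀ n : ℕ, 3102733 ≤ n → n < 3124001 → ChainP n :=
  chainP_leaf 3102733 3124001 pr_3102733 (by norm_num)
theorem pr_3124001 : Nat.Prime 3124001 := by norm_num
theorem seg_3124001 : ∀ n : ℕ, 3124001 ≤ n → n < 3145367 → ChainP n :=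
  chainP_leaf 3124001 3145367 pr_3124001 (by norm_num)
theorem pr_3145367 : Nat.Prime 3145367 := by norm_num
theorem seg_3145367 : ∀ n : ℕ, 3145367 ≤ n → n < 3166831 → ChainP n :=
  chainP_leaf 3145367 3166831 pr_3145367 (by norm_num)
theorem pr_3166831 : Nat.Prime 3166831 := by norm_num
theorem seg_3166831 : ∀ n : ℕ, 3166831 ≤ n → n < 3188387 → ChainP n :=
  chainP_leaf 3166831 3188387 pr_3166831 (by norm_num)
theorem pr_3188387 : Nat.Prime 3188387 := by norm_num
theorem seg_3188387 : ∀ n : ℕ, 3188387 ≤ n → n < 3210049 → ChainP n :=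
  chainP_leaf 3188387 3210049 pr_3188387 (by norm_num)
theorem pr_3210049 : Nat.Prime 3210049 := by norm_num
theorem seg_3210049 : ∀ n : ℕ, 3210049 ≤ n → n < 3231803 → ChainP n :=
  chainP_leaf 3210049 3231803 pr_3210049 (by norm_num)
theorem pr_3231803 : Nat.Prime 3231803 := by norm_num
theorem seg_3231803 : ∀ n : ℕ, 3231803 ≤ n → n < 3253631 → ChainP n :=
  chainP_leaf 3231803 3253631 pr_3231803 (by norm_num)
theorem pr_3253631 : Nat.Prime 3253631 := by norm_num
theorem seg_3253631 : ∀ n : ℕ, 3253631 ≤ n → n < 3275567 → ChainP n :=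
  chainP_leaf 3253631 3275567 pr_3253631 (by norm_num)
theorem pr_3275567 : Nat.Prime 3275567 := by norm_num
theorem seg_3275567 : ∀ n : ℕ, 3275567 ≤ n → n < 3297617 → ChainP n :=
  chainP_leaf 3275567 3297617 pr_3275567 (by norm_num)
theorem pr_3297617 : Nat.Prime 3297617 := by norm_num
theorem seg_3297617 : ∀ n : ℕ, 3297617 ≤ n → n < 3319763 → ChainP n :=
  chainP_leaf 3297617 3319763 pr_3297617 (by norm_num)
theorem pr_3319763 : Nat.Prime 3319763 := by norm_num
theorem seg_3319763 : ∀ n : ℕ, 3319763 ≤ n → n < 3341993 → ChainP n :=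
  chainP_leaf 3319763 3341993 pr_3319763 (by norm_num)
theorem pr_3341993 : Nat.Prime 3341993 := by norm_num
theorem seg_3341993 : ∀ n : ℕ, 3341993 ≤ n → n < 3364343 → ChainP n :=
  chainP_leaf 3341993 3364343 pr_3341993 (by norm_num)
theorem pr_3364343 : Nat.Prime 3364343 := by norm_num
theorem seg_3364343 : ∀ n : ℕ, 3364343 ≤ n → n < 3386767 → ChainP n :=
  chainP_leaf 3364343 3386767 pr_3364343 (by norm_num)
theorem pr_3386767 : Nat.Prime 3386767 := by norm_num
theorem seg_3386767 : ∀ n : ℕ, 3386767 ≤ n → n < 3409309 → ChainP n :=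
  chainP_leaf 3386767 3409309 pr_3386767 (by norm_num)
theorem pr_3409309 : Nat.Prime 3409309 := by norm_num
theorem seg_3409309 : ∀ n : ℕ, 3409309 ≤ n → n < 3431933 → ChainP n :=
  chainP_leaf 3409309 3431933 pr_3409309 (by norm_num)
theorem pr_3431933 : Nat.Prime 3431933 := by norm_num
theorem seg_3431933 : ∀ n : ℕ, 3431933 ≤ n → n < 3454681 → ChainP n :=
  chainP_leaf 3431933 3454681 pr_3431933 (by norm_num)
theorem pr_3454681 : Nat.Prime 3454681 := by norm_num
theorem seg_3454681 : ∀ n : ℕ, 3454681 ≤ n → n < 3477527 → ChainP n :=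
  chainP_leaf 3454681 3477527 pr_3454681 (by norm_num)
theorem pr_3477527 : Nat.Prime 3477527 := by norm_num
theorem seg_3477527 : ∀ n : ℕ, 3477527 ≤ n → n < 3500477 → ChainP n :=
  chainP_leaf 3477527 3500477 pr_3477527 (by norm_num)
theorem pr_3500477 : Nat.Prime 3500477 := by norm_num
theorem seg_3500477 : ∀ n : ℕ, 3500477 ≤ n → n < 3523519 → ChainP n :=
  chainP_leaf 3500477 3523519 pr_3500477 (by norm_num)
theorem pr_3523519 : Nat.Prime 3523519 := by norm_num
theorem seg_3523519 : ∀ n : ℕ, 3523519 ≤ n → n < 3546661 → ChainP n :=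
  chainP_leaf 3523519 3546661 pr_3523519 (by norm_num)
theorem pr_3546661 : Nat.Prime 3546661 := by norm_num
theorem seg_3546661 : ∀ n : ℕ, 3546661 ≤ n → n < 3569897 → ChainP n :=
  chainP_leaf 3546661 3569897 pr_3546661 (by norm_num)
theorem pr_3569897 : Nat.Prime 3569897 := by norm_num
theorem seg_3569897 : ∀ n : ℕ, 3569897 ≤ n → n < 3593203 → ChainP n :=
  chainP_leaf 3569897 3593203 pr_3569897 (by norm_num)
theorem pr_3593203 : Nat.Prime 3593203 := by norm_num
theorem seg_3593203 : ∀ n : ℕ, 3593203 ≤ n → n < 3616661 → ChainP n :=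
  chainP_leaf 3593203 3616661 pr_3593203 (by norm_num)
theorem pr_3616661 : Nat.Prime 3616661 := by norm_num
theorem seg_3616661 : ∀ n : ℕ, 3616661 ≤ n → n < 3640207 → ChainP n :=
  chainP_leaf 3616661 3640207 pr_3616661 (by norm_num)
theorem pr_3640207 : Nat.Prime 3640207 := by norm_num
theorem seg_3640207 : ∀ n : ℕ, 3640207 ≤ n → n < 3663833 → ChainP n :=
  chainP_leaf 3640207 3663833 pr_3640207 (by norm_num)
theorem pr_3663833 : Nat.Prime 3663833 := by norm_num
theorem seg_3663833 : ∀ n : ℕ, 3663833 ≤ n → n < 3687583 → ChainP n :=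
  chainP_leaf 3663833 3687583 pr_3663833 (by norm_num)
theorem pr_3687583 : Nat.Prime 3687583 := by norm_num
theorem seg_3687583 : ∀ n : ℕ, 3687583 ≤ n → n < 3711451 → ChainP n :=
  chainP_leaf 3687583 3711451 pr_3687583 (by norm_num)
theorem pr_3711451 : Nat.Prime 3711451 := by norm_num
theorem seg_3711451 : ∀ n : ℕ, 3711451 ≤ n → n < 3735401 → ChainP n :=
  chainP_leaf 3711451 3735401 pr_3711451 (by norm_num)
theorem pr_3735401 : Nat.Prime 3735401 := by norm_num
theorem seg_3735401 : ∀ n : ℕ, 3735401 ≤ n → n < 3759461 → ChainP n :=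
  chainP_leaf 3735401 3759461 pr_3735401 (by norm_num)
theorem pr_3759461 : Nat.Prime 3759461 := by norm_num
theorem seg_3759461 : ∀ n : ℕ, 3759461 ≤ n → n < 3783631 → ChainP n :=
  chainP_leaf 3759461 3783631 pr_3759461 (by norm_num)
theorem pr_3783631 : Nat.Prime 3783631 := by norm_num
theorem seg_3783631 : ∀ n : ℕ, 3783631 ≤ n → n < 3807911 → ChainP n :=
  chainP_leaf 3783631 3807911 pr_3783631 (by norm_num)
theorem pr_3807911 : Nat.Prime 3807911 := by norm_num
theorem seg_3807911 : ∀ n : ℕ, 3807911 ≤ n → n < 3832291 → ChainP n :=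
  chainP_leaf 3807911 3832291 pr_3807911 (by norm_num)
theorem pr_3832291 : Nat.Prime 3832291 := by norm_num
theorem seg_3832291 : ∀ n : ℕ, 3832291 ≤ n → n < 3856777 → ChainP n :=
  chainP_leaf 3832291 3856777 pr_3832291 (by norm_num)
theorem pr_3856777 : Nat.Prime 3856777 := by norm_num
theorem seg_3856777 : ∀ n : ℕ, 3856777 ≤ n → n < 3881363 → ChainP n :=
  chainP_leaf 3856777 3881363 pr_3856777 (by norm_num)
theorem pr_3881363 : Nat.Prime 3881363 := by norm_num
theorem seg_3881363 : ∀ n : ℕ, 3881363 ≤ n → n < 3906059 → ChainP n :=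
  chainP_leaf 3881363 3906059 pr_3881363 (by norm_num)
theorem pr_3906059 : Nat.Prime 3906059 := by norm_num
theorem seg_3906059 : ∀ n : ℕ, 3906059 ≤ n → n < 3930841 → ChainP n :=
  chainP_leaf 3906059 3930841 pr_3906059 (by norm_num)
theorem pr_3930841 : Nat.Prime 3930841 := by norm_num
theorem seg_3930841 : ∀ n : ℕ, 3930841 ≤ n → n < 3955733 → ChainP n :=
  chainP_leaf 3930841 3955733 pr_3930841 (by norm_num)
theorem pr_3955733 : Nat.Prime 3955733 := by norm_num
theorem seg_3955733 : ∀ n : ℕ, 3955733 ≤ n → n < 3980729 → ChainP n :=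
  chainP_leaf 3955733 3980729 pr_3955733 (by norm_num)
theorem pr_3980729 : Nat.Prime 3980729 := by norm_num
theorem seg_3980729 : ∀ n : ℕ, 3980729 ≤ n → n < 4005839 → ChainP n :=
  chainP_leaf 3980729 4005839 pr_3980729 (by norm_num)
theorem pr_4005839 : Nat.Prime 4005839 := by norm_num
theorem seg_4005839 : ∀ n : ℕ, 4005839 ≤ n → n < 4031047 → ChainP n :=
  chainP_leaf 4005839 4031047 pr_4005839 (by norm_num)
theorem pr_4031047 : Nat.Prime 4031047 := by norm_num
theorem seg_4031047 : ∀ n : ℕ, 4031047 ≤ n → n < 4056359 → ChainP n :=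
  chainP_leaf 4031047 4056359 pr_4031047 (by norm_num)
theorem pr_4056359 : Nat.Prime 4056359 := by norm_num
theorem seg_4056359 : ∀ n : ℕ, 4056359 ≤ n → n < 4081793 → ChainP n :=
  chainP_leaf 4056359 4081793 pr_4056359 (by norm_num)
theorem pr_4081793 : Nat.Prime 4081793 := by norm_num
theorem seg_4081793 : ∀ n : ℕ, 4081793 ≤ n → n < 4107329 → ChainP n :=
  chainP_leaf 4081793 4107329 pr_4081793 (by norm_num)
theorem pr_4107329 : Nat.Prime 4107329 := by norm_num
theorem seg_4107329 : ∀ n : ℕ, 4107329 ≤ n → n < 4132969 → ChainP n :=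
  chainP_leaf 4107329 4132969 pr_4107329 (by norm_num)
theorem pr_4132969 : Nat.Prime 4132969 := by norm_num
theorem seg_4132969 : ∀ n : ℕ, 4132969 ≤ n → n < 4158697 → ChainP n :=
  chainP_leaf 4132969 4158697 pr_4132969 (by norm_num)
theorem pr_4158697 : Nat.Prime 4158697 := by norm_num
theorem seg_4158697 : ∀ n : ℕ, 4158697 ≤ n → n < 4184549 → ChainP n :=
  chainP_leaf 4158697 4184549 pr_4158697 (by norm_num)
theorem pr_4184549 : Nat.Prime 4184549 := by norm_num
theorem seg_4184549 : ∀ n : ℕ, 4184549 ≤ n → n < 4210499 → ChainP n :=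
  chainP_leaf 4184549 4210499 pr_4184549 (by norm_num)
theorem pr_4210499 : Nat.Prime 4210499 := by norm_num
theorem seg_4210499 : ∀ n : ℕ, 4210499 ≤ n → n < 4236541 → ChainP n :=
  chainP_leaf 4210499 4236541 pr_4210499 (by norm_num)
theorem pr_4236541 : Nat.Prime 4236541 := by norm_num
theorem seg_4236541 : ∀ n : ℕ, 4236541 ≤ n → n < 4262701 → ChainP n :=
  chainP_leaf 4236541 4262701 pr_4236541 (by norm_num)
theorem pr_4262701 : Nat.Prime 4262701 := by norm_num
theorem seg_4262701 : ∀ n : ℕ, 4262701 ≤ n → n < 4288979 → ChainP n :=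
  chainP_leaf 4262701 4288979 pr_4262701 (by norm_num)
theorem pr_4288979 : Nat.Prime 4288979 := by norm_num
theorem seg_4288979 : ∀ n : ℕ, 4288979 ≤ n → n < 4315369 → ChainP n :=
  chainP_leaf 4288979 4315369 pr_4288979 (by norm_num)
theorem pr_4315369 : Nat.Prime 4315369 := by norm_num
theorem seg_4315369 : ∀ n : ℕ, 4315369 ≤ n → n < 4341853 → ChainP n :=
  chainP_leaf 4315369 4341853 pr_4315369 (by norm_num)
theorem pr_4341853 : Nat.Prime 4341853 := by norm_num
theorem seg_4341853 : ∀ n : ℕ, 4341853 ≤ n → n < 4368451 → ChainP n :=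
  chainP_leaf 4341853 4368451 pr_4341853 (by norm_num)
theorem pr_4368451 : Nat.Prime 4368451 := by norm_num
theorem seg_4368451 : ∀ n : ℕ, 4368451 ≤ n → n < 4395173 → ChainP n :=
  chainP_leaf 4368451 4395173 pr_4368451 (by norm_num)
theorem pr_4395173 : Nat.Prime 4395173 := by norm_num
theorem seg_4395173 : ∀ n : ℕ, 4395173 ≤ n → n < 4421999 → ChainP n :=
  chainP_leaf 4395173 4421999 pr_4395173 (by norm_num)
theorem pr_4421999 : Nat.Prime 4421999 := by norm_num
theorem seg_4421999 : ∀ n : ℕ, 4421999 ≤ n → n < 4448933 → ChainP n :=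
  chainP_leaf 4421999 4448933 pr_4421999 (by norm_num)
theorem pr_4448933 : Nat.Prime 4448933 := by norm_num
theorem seg_4448933 : ∀ n : ℕ, 4448933 ≤ n → n < 4475983 → ChainP n :=
  chainP_leaf 4448933 4475983 pr_4448933 (by norm_num)
theorem pr_4475983 : Nat.Prime 4475983 := by norm_num
theorem seg_4475983 : ∀ n : ℕ, 4475983 ≤ n → n < 4503139 → ChainP n :=
  chainP_leaf 4475983 4503139 pr_4475983 (by norm_num)
theorem pr_4503139 : Nat.Prime 4503139 := by norm_num
theorem seg_4503139 : ∀ n : ℕ, 4503139 ≤ n → n < 4530401 → ChainP n :=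
  chainP_leaf 4503139 4530401 pr_4503139 (by norm_num)
theorem pr_4530401 : Nat.Prime 4530401 := by norm_num
theorem seg_4530401 : ∀ n : ℕ, 4530401 ≤ n → n < 4557767 → ChainP n :=
  chainP_leaf 4530401 4557767 pr_4530401 (by norm_num)
theorem pr_4557767 : Nat.Prime 4557767 := by norm_num
theorem seg_4557767 : ∀ n : ℕ, 4557767 ≤ n → n < 4585249 → ChainP n :=
  chainP_leaf 4557767 4585249 pr_4557767 (by norm_num)
theorem pr_4585249 : Nat.Prime 4585249 := by norm_num
theorem seg_4585249 : ∀ n : ℕ, 4585249 ≤ n → n < 4612847 → ChainP n :=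
  chainP_leaf 4585249 4612847 pr_4585249 (by norm_num)
theorem pr_4612847 : Nat.Prime 4612847 := by norm_num
theorem seg_4612847 : ∀ n : ℕ, 4612847 ≤ n → n < 4640557 → ChainP n :=
  chainP_leaf 4612847 4640557 pr_4612847 (by norm_num)
theorem pr_4640557 : Nat.Prime 4640557 := by norm_num
theorem seg_4640557 : ∀ n : ℕ, 4640557 ≤ n → n < 4668373 → ChainP n :=
  chainP_leaf 4640557 4668373 pr_4640557 (by norm_num)
theorem pr_4668373 : Nat.Prime 4668373 := by norm_num
theorem seg_4668373 : ∀ n : ℕ, 4668373 ≤ n → n < 4696303 → ChainP n :=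
  chainP_leaf 4668373 4696303 pr_4668373 (by norm_num)
theorem pr_4696303 : Nat.Prime 4696303 := by norm_num
theorem seg_4696303 : ∀ n : ℕ, 4696303 ≤ n → n < 4724339 → ChainP n :=
  chainP_leaf 4696303 4724339 pr_4696303 (by norm_num)
theorem pr_4724339 : Nat.Prime 4724339 := by norm_num
theorem seg_4724339 : ∀ n : ℕ, 4724339 ≤ n → n < 4752481 → ChainP n :=
  chainP_leaf 4724339 4752481 pr_4724339 (by norm_num)
theorem pr_4752481 : Nat.Prime 4752481 := by norm_num
theorem seg_4752481 : ∀ n : ℕ, 4752481 ≤ n → n < 4780739 → ChainP n :=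
  chainP_leaf 4752481 4780739 pr_4752481 (by norm_num)
theorem pr_4780739 : Nat.Prime 4780739 := by norm_num
theorem seg_4780739 : ∀ n : ℕ, 4780739 ≤ n → n < 4809107 → ChainP n :=
  chainP_leaf 4780739 4809107 pr_4780739 (by norm_num)
theorem pr_4809107 : Nat.Prime 4809107 := by norm_num
theorem seg_4809107 : ∀ n : ℕ, 4809107 ≤ n → n < 4837589 → ChainP n :=
  chainP_leaf 4809107 4837589 pr_4809107 (by norm_num)
theorem pr_4837589 : Nat.Prime 4837589 := by norm_num
theorem seg_4837589 : ∀ n : ℕ, 4837589 ≤ n → n < 4866187 → ChainP n :=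
  chainP_leaf 4837589 4866187 pr_4837589 (by norm_num)
theorem pr_4866187 : Nat.Prime 4866187 := by norm_num
theorem seg_4866187 : ∀ n : ℕ, 4866187 ≤ n → n < 4894889 → ChainP n :=
  chainP_leaf 4866187 4894889 pr_4866187 (by norm_num)
theorem pr_4894889 : Nat.Prime 4894889 := by norm_num
theorem seg_4894889 : ∀ n : ℕ, 4894889 ≤ n → n < 4923703 → ChainP n :=
  chainP_leaf 4894889 4923703 pr_4894889 (by norm_num)
theorem pr_4923703 : Nat.Prime 4923703 := by norm_num
theorem seg_4923703 : ∀ n : ℕ, 4923703 ≤ n → n < 4952639 → ChainP n :=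
  chainP_leaf 4923703 4952639 pr_4923703 (by norm_num)
theorem pr_4952639 : Nat.Prime 4952639 := by norm_num
theorem seg_4952639 : ∀ n : ℕ, 4952639 ≤ n → n < 4981673 → ChainP n :=
  chainP_leaf 4952639 4981673 pr_4952639 (by norm_num)
theorem pr_4981673 : Nat.Prime 4981673 := by norm_num
theorem seg_4981673 : ∀ n : ℕ, 4981673 ≤ n → n < 5010827 → ChainP n :=
  chainP_leaf 4981673 5010827 pr_4981673 (by norm_num)
theorem pr_5010827 : Nat.Prime 5010827 := by norm_num
theorem seg_5010827 : ∀ n : ℕ, 5010827 ≤ n → n < 5040071 → ChainP n :=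
  chainP_leaf 5010827 5040071 pr_5010827 (by norm_num)
theorem pr_5040071 : Nat.Prime 5040071 := by norm_num
theorem seg_5040071 : ∀ n : ℕ, 5040071 ≤ n → n < 5069437 → ChainP n :=
  chainP_leaf 5040071 5069437 pr_5040071 (by norm_num)
theorem pr_5069437 : Nat.Prime 5069437 := by norm_num
theorem seg_5069437 : ∀ n : ℕ, 5069437 ≤ n → n < 5098943 → ChainP n :=
  chainP_leaf 5069437 5098943 pr_5069437 (by norm_num)
theorem pr_5098943 : Nat.Prime 5098943 := by norm_num
theorem seg_5098943 : ∀ n : ℕ, 5098943 ≤ n → n < 5128553 → ChainP n :=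
  chainP_leaf 5098943 5128553 pr_5098943 (by norm_num)
theorem pr_5128553 : Nat.Prime 5128553 := by norm_num
theorem seg_5128553 : ∀ n : ℕ, 5128553 ≤ n → n < 5158289 → ChainP n :=
  chainP_leaf 5128553 5158289 pr_5128553 (by norm_num)
theorem pr_5158289 : Nat.Prime 5158289 := by norm_num
theorem seg_5158289 : ∀ n : ℕ, 5158289 ≤ n → n < 5188123 → ChainP n :=
  chainP_leaf 5158289 5188123 pr_5158289 (by norm_num)
theorem pr_5188123 : Nat.Prime 5188123 := by norm_num
theorem seg_5188123 : ∀ n : ℕ, 5188123 ≤ n → n < 5218091 → ChainP n :=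
  chainP_leaf 5188123 5218091 pr_5188123 (by norm_num)
theorem pr_5218091 : Nat.Prime 5218091 := by norm_num
theorem seg_5218091 : ∀ n : ℕ, 5218091 ≤ n → n < 5248169 → ChainP n :=
  chainP_leaf 5218091 5248169 pr_5218091 (by norm_num)
theorem pr_5248169 : Nat.Prime 5248169 := by norm_num
theorem seg_5248169 : ∀ n : ℕ, 5248169 ≤ n → n < 5278349 → ChainP n :=
  chainP_leaf 5248169 5278349 pr_5248169 (by norm_num)

theorem chainB : ∀ n : ℕ, 1366303 ≤ n → n < 5278349 → ChainP n :=
  (chainP_join 1366303 2895479 5278349 (chainP_join 1366303 2028017 2895479 (chainP_join 1366303 1668379 2028017 (chainP_join 1366303 1505761 1668379 (chainP_join 1366303 1428571 1505761 (chainP_join 1366303 1390993 1428571 (chainP_join 1366303 1378613 1390993 seg_1366303 seg_1378613) (chainP_join 1390993 1403453 1428571 seg_1390993 (chainP_join 1403453 1415977 1428571 seg_1403453 seg_1415977))) (chainP_join 1428571 1466821 1505761 (chainP_join 1428571 1441241 1466821 seg_1428571 (chainP_join 1441241 1453997 1466821 seg_1441241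 seg_1453997)) (chainP_join 1466821 1479727 1505761 seg_1466821 (chainP_join 1479727 1492709 1505761 seg_1479727 seg_1492709)))) (chainP_join 1505761 1585679 1668379 (chainP_join 1505761 1545371 1585679 (chainP_join 1505761 1518893 1545371 seg_1505761 (chainP_join 1518893 1532093 1545371 seg_1518893 seg_1532093)) (chainP_join 1545371 1558729 1585679 seg_1545371 (chainP_join 1558729 1572163 1585679 seg_1558729 seg_1572163))) (chainP_join 1585679 1626673 1668379 (chainP_join 1585679 1599271 1626673 seg_1585679 (chainP_join 1599271 1612937 1626673 seg_1599271 seg_1612937)) (chainP_join 1626673 1640503 1668379 seg_1626673 (chainP_join 1640503 1654403 1668379 seg_1640503 seg_1654403))))) (chainP_join 1668379 1842329 2028017 (chainP_join 1668379 1753903 1842329 (chainP_join 1668379 1710767 1753903 (chainP_join 1668379 1682423 1710767 seg_1668379 (chainP_join 1682423 1696547 1710767 seg_1682423 seg_1696547)) (chainP_join 1710767 1725071 1753903 seg_1710767 (chainP_join 1725071 1739453 1753903 seg_1725071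 seg_1739453))) (chainP_join 1753903 1797751 1842329 (chainP_join 1753903 1768441 1797751 seg_1753903 (chainP_join 1768441 1783051 1797751 seg_1768441 seg_1783051)) (chainP_join 1797751 1812527 1842329 seg_1797751 (chainP_join 1812527 1827389 1842329 seg_1812527 seg_1827389)))) (chainP_join 1842329 1933681 2028017 (chainP_join 1842329 1887643 1933681 (chainP_join 1842329 1857353 1887643 seg_1842329 (chainP_join 1857353 1872461 1887643 seg_1857353 seg_1872461)) (chainP_join 1887643 1902899 1933681 seg_1887643 (chainP_join 1902899 1918247 1933681 seg_1902899 seg_1918247))) (chainP_join 1933681 1980469 2028017 (chainP_join 1933681 1949201 1980469 seg_1933681 (chainP_join 1949201 1964801 1980469 seg_1949201 seg_1964801)) (chainP_join 1980469 1996237 2028017 seg_1980469 (chainP_join 1996237 2012083 2028017 seg_1996237 seg_2012083)))))) (chainP_join 2028017 2436017 2895479 (chainP_join 2028017 2225791 2436017 (chainP_join 2028017 2125373 2225791 (chainP_join 2028017 2076331 2125373 (chainP_join 2028017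 2044037 2076331 seg_2028017 (chainP_join 2044037 2060141 2076331 seg_2044037 seg_2060141)) (chainP_join 2076331 2092591 2125373 seg_2076331 (chainP_join 2092591 2108941 2125373 seg_2092591 seg_2108941))) (chainP_join 2125373 2175197 2225791 (chainP_join 2125373 2141903 2175197 seg_2125373 (chainP_join 2141903 2158501 2175197 seg_2141903 seg_2158501)) (chainP_join 2175197 2191967 2225791 seg_2175197 (chainP_join 2191967 2208839 2225791 seg_2191967 seg_2208839)))) (chainP_join 2225791 2329303 2436017 (chainP_join 2225791 2277139 2329303 (chainP_join 2225791 2242813 2277139 seg_2225791 (chainP_join 2242813 2259937 2277139 seg_2242813 seg_2259937)) (chainP_join 2277139 2294431 2329303 seg_2277139 (chainP_join 2294431 2311823 2329303 seg_2294431 seg_2311823))) (chainP_join 2329303 2382269 2436017 (chainP_join 2329303 2346863 2382269 seg_2329303 (chainP_join 2346863 2364521 2382269 seg_2346863 seg_2364521)) (chainP_join 2382269 2400089 2436017 seg_2382269 (chainP_join 2400089 2418007 2436017 seg_2400089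 seg_2418007))))) (chainP_join 2436017 2659133 2895479 (chainP_join 2436017 2545927 2659133 (chainP_join 2436017 2490589 2545927 (chainP_join 2436017 2454121 2490589 seg_2436017 (chainP_join 2454121 2472313 2490589 seg_2454121 seg_2472313)) (chainP_join 2490589 2508953 2545927 seg_2490589 (chainP_join 2508953 2527409 2545927 seg_2508953 seg_2527409))) (chainP_join 2545927 2602121 2659133 (chainP_join 2545927 2564567 2602121 seg_2545927 (chainP_join 2564567 2583299 2602121 seg_2564567 seg_2583299)) (chainP_join 2602121 2621033 2659133 seg_2602121 (chainP_join 2621033 2640041 2659133 seg_2621033 seg_2640041)))) (chainP_join 2659133 2775637 2895479 (chainP_join 2659133 2716969 2775637 (chainP_join 2659133 2678323 2716969 seg_2659133 (chainP_join 2678323 2697599 2716969 seg_2678323 seg_2697599)) (chainP_join 2716969 2736431 2775637 seg_2716969 (chainP_join 2736431 2755981 2775637 seg_2736431 seg_2755981))) (chainP_join 2775637 2835139 2895479 (chainP_join 2775637 2795383 2835139 seg_2775637 (chainP_join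 2795383 2815207 2835139 seg_2795383 seg_2815207)) (chainP_join 2835139 2855161 2895479 seg_2835139 (chainP_join 2855161 2875267 2895479 seg_2855161 seg_2875267))))))) (chainP_join 2895479 3955733 5278349 (chainP_join 2895479 3386767 3955733 (chainP_join 2895479 3124001 3386767 (chainP_join 2895479 2997977 3124001 (chainP_join 2895479 2936191 2997977 (chainP_join 2895479 2915791 2936191 seg_2895479 seg_2915791) (chainP_join 2936191 2956693 2997977 seg_2936191 (chainP_join 2956693 2977283 2997977 seg_2956693 seg_2977283))) (chainP_join 2997977 3060517 3124001 (chainP_join 2997977 3018733 3060517 seg_2997977 (chainP_join 3018733 3039571 3060517 seg_3018733 seg_3039571)) (chainP_join 3060517 3081583 3124001 seg_3060517 (chainP_join 3081583 3102733 3124001 seg_3081583 seg_3102733)))) (chainP_join 3124001 3253631 3386767 (chainP_join 3124001 3188387 3253631 (chainP_join 3124001 3145367 3188387 seg_3124001 (chainP_join 3145367 3166831 3188387 seg_3145367 seg_3166831)) (chainP_join 3188387 3210049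 3253631 seg_3188387 (chainP_join 3210049 3231803 3253631 seg_3210049 seg_3231803))) (chainP_join 3253631 3319763 3386767 (chainP_join 3253631 3275567 3319763 seg_3253631 (chainP_join 3275567 3297617 3319763 seg_3275567 seg_3297617)) (chainP_join 3319763 3341993 3386767 seg_3319763 (chainP_join 3341993 3364343 3386767 seg_3341993 seg_3364343))))) (chainP_join 3386767 3663833 3955733 (chainP_join 3386767 3523519 3663833 (chainP_join 3386767 3454681 3523519 (chainP_join 3386767 3409309 3454681 seg_3386767 (chainP_join 3409309 3431933 3454681 seg_3409309 seg_3431933)) (chainP_join 3454681 3477527 3523519 seg_3454681 (chainP_join 3477527 3500477 3523519 seg_3477527 seg_3500477))) (chainP_join 3523519 3593203 3663833 (chainP_join 3523519 3546661 3593203 seg_3523519 (chainP_join 3546661 3569897 3593203 seg_3546661 seg_3569897)) (chainP_join 3593203 3616661 3663833 seg_3593203 (chainP_join 3616661 3640207 3663833 seg_3616661 seg_3640207)))) (chainP_join 3663833 3807911 3955733 (chainP_join 3663833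 3735401 3807911 (chainP_join 3663833 3687583 3735401 seg_3663833 (chainP_join 3687583 3711451 3735401 seg_3687583 seg_3711451)) (chainP_join 3735401 3759461 3807911 seg_3735401 (chainP_join 3759461 3783631 3807911 seg_3759461 seg_3783631))) (chainP_join 3807911 3881363 3955733 (chainP_join 3807911 3832291 3881363 seg_3807911 (chainP_join 3832291 3856777 3881363 seg_3832291 seg_3856777)) (chainP_join 3881363 3906059 3955733 seg_3881363 (chainP_join 3906059 3930841 3955733 seg_3906059 seg_3930841)))))) (chainP_join 3955733 4585249 5278349 (chainP_join 3955733 4262701 4585249 (chainP_join 3955733 4107329 4262701 (chainP_join 3955733 4031047 4107329 (chainP_join 3955733 3980729 4031047 seg_3955733 (chainP_join 3980729 4005839 4031047 seg_3980729 seg_4005839)) (chainP_join 4031047 4056359 4107329 seg_4031047 (chainP_join 4056359 4081793 4107329 seg_4056359 seg_4081793))) (chainP_join 4107329 4184549 4262701 (chainP_join 4107329 4132969 4184549 seg_4107329 (chainP_join 4132969 4158697 4184549 seg_4132969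 seg_4158697)) (chainP_join 4184549 4210499 4262701 seg_4184549 (chainP_join 4210499 4236541 4262701 seg_4210499 seg_4236541)))) (chainP_join 4262701 4421999 4585249 (chainP_join 4262701 4341853 4421999 (chainP_join 4262701 4288979 4341853 seg_4262701 (chainP_join 4288979 4315369 4341853 seg_4288979 seg_4315369)) (chainP_join 4341853 4368451 4421999 seg_4341853 (chainP_join 4368451 4395173 4421999 seg_4368451 seg_4395173))) (chainP_join 4421999 4503139 4585249 (chainP_join 4421999 4448933 4503139 seg_4421999 (chainP_join 4448933 4475983 4503139 seg_4448933 seg_4475983)) (chainP_join 4503139 4530401 4585249 seg_4503139 (chainP_join 4530401 4557767 4585249 seg_4530401 seg_4557767))))) (chainP_join 4585249 4923703 5278349 (chainP_join 4585249 4752481 4923703 (chainP_join 4585249 4668373 4752481 (chainP_join 4585249 4612847 4668373 seg_4585249 (chainP_join 4612847 4640557 4668373 seg_4612847 seg_4640557)) (chainP_join 4668373 4696303 4752481 seg_4668373 (chainP_join 4696303 4724339 4752481 seg_4696303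 seg_4724339))) (chainP_join 4752481 4837589 4923703 (chainP_join 4752481 4780739 4837589 seg_4752481 (chainP_join 4780739 4809107 4837589 seg_4780739 seg_4809107)) (chainP_join 4837589 4866187 4923703 seg_4837589 (chainP_join 4866187 4894889 4923703 seg_4866187 seg_4894889)))) (chainP_join 4923703 5098943 5278349 (chainP_join 4923703 5010827 5098943 (chainP_join 4923703 4952639 5010827 seg_4923703 (chainP_join 4952639 4981673 5010827 seg_4952639 seg_4981673)) (chainP_join 5010827 5040071 5098943 seg_5010827 (chainP_join 5040071 5069437 5098943 seg_5040071 seg_5069437))) (chainP_join 5098943 5188123 5278349 (chainP_join 5098943 5128553 5188123 seg_5098943 (chainP_join 5128553 5158289 5188123 seg_5128553 seg_5158289)) (chainP_join 5188123 5218091 5278349 seg_5188123 (chainP_join 5218091 5248169 5278349 seg_5218091 seg_5248169))))))))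

end Cfsg.Agent.Lib.H14.SS
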