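import Cfsg.Agent.Lib.H14.SSChainDefs

/-! Generated: chain primes 5278349 .. 10748011 (part C) for SS11 (Sylvester-Schur, S3571 NT block). -/

set_option autoImplicit false
set_option maxRecDepth 100000

namespace Cfsg.Agent.Lib.H14.SS

theorem pr_5278349 : Nat.Prime 5278349 := by norm_num
theorem seg_5278349 : ∀ n : ℕ, 5278349 ≤ n → n < 5308663 → ChainP n :=
  chainP_leaf 5278349 5308663 pr_5278349 (by norm_num)
theorem pr_5308663 : Nat.Prime 5308663 := by norm_num
theorem seg_5308663 : ∀ n : ℕ, 5308663 ≤ n → n < 5339093 → ChainP n :=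
  chainP_leaf 5308663 5339093 pr_5308663 (by norm_num)
theorem pr_5339093 : Nat.Prime 5339093 := by norm_num
theorem seg_5339093 : ∀ n : ℕ, 5339093 ≤ n → n < 5369627 → ChainP n :=
  chainP_leaf 5339093 5369627 pr_5339093 (by norm_num)
theorem pr_5369627 : Nat.Prime 5369627 := by norm_num
theorem seg_5369627 : ∀ n : ℕ, 5369627 ≤ n → n < 5400287 → ChainP n :=
  chainP_leaf 5369627 5400287 pr_5369627 (by norm_num)
theorem pr_5400287 : Nat.Prime 5400287 := by norm_num
theorem seg_5400287 : ∀ n : ℕ, 5400287 ≤ n → n < 5431067 → ChainP n :=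
  chainP_leaf 5400287 5431067 pr_5400287 (by norm_num)
theorem pr_5431067 : Nat.Prime 5431067 := by norm_num
theorem seg_5431067 : ∀ n : ℕ, 5431067 ≤ n → n < 5461957 → ChainP n :=
  chainP_leaf 5431067 5461957 pr_5431067 (by norm_num)
theorem pr_5461957 : Nat.Prime 5461957 := by norm_num
theorem seg_5461957 : ∀ n : ℕ, 5461957 ≤ n → n < 5492953 → ChainP n :=
  chainP_leaf 5461957 5492953 pr_5461957 (by norm_num)
theorem pr_5492953 : Nat.Prime 5492953 := by norm_num
theorem seg_5492953 : ∀ n : ℕ, 5492953 ≤ n → n < 5524073 → ChainP n :=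
  chainP_leaf 5492953 5524073 pr_5492953 (by norm_num)
theorem pr_5524073 : Nat.Prime 5524073 := by norm_num
theorem seg_5524073 : ∀ n : ℕ, 5524073 ≤ n → n < 5555321 → ChainP n :=
  chainP_leaf 5524073 5555321 pr_5524073 (by norm_num)
theorem pr_5555321 : Nat.Prime 5555321 := by norm_num
theorem seg_5555321 : ∀ n : ℕ, 5555321 ≤ n → n < 5586671 → ChainP n :=
  chainP_leaf 5555321 5586671 pr_5555321 (by norm_num)
theorem pr_5586671 : Nat.Prime 5586671 := by norm_num
theorem seg_5586671 : ∀ n : ℕ, 5586671 ≤ n → n < 5618149 → ChainP n :=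
  chainP_leaf 5586671 5618149 pr_5586671 (by norm_num)
theorem pr_5618149 : Nat.Prime 5618149 := by norm_num
theorem seg_5618149 : ∀ n : ℕ, 5618149 ≤ n → n < 5649739 → ChainP n :=
  chainP_leaf 5618149 5649739 pr_5618149 (by norm_num)
theorem pr_5649739 : Nat.Prime 5649739 := by norm_num
theorem seg_5649739 : ∀ n : ℕ, 5649739 ≤ n → n < 5681453 → ChainP n :=
  chainP_leaf 5649739 5681453 pr_5649739 (by norm_num)
theorem pr_5681453 : Nat.Prime 5681453 := by norm_num
theorem seg_5681453 : ∀ n : ℕ, 5681453 ≤ n → n < 5713289 → ChainP n :=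
  chainP_leaf 5681453 5713289 pr_5681453 (by norm_num)
theorem pr_5713289 : Nat.Prime 5713289 := by norm_num
theorem seg_5713289 : ∀ n : ℕ, 5713289 ≤ n → n < 5745221 → ChainP n :=
  chainP_leaf 5713289 5745221 pr_5713289 (by norm_num)
theorem pr_5745221 : Nat.Prime 5745221 := by norm_num
theorem seg_5745221 : ∀ n : ℕ, 5745221 ≤ n → n < 5777279 → ChainP n :=
  chainP_leaf 5745221 5777279 pr_5745221 (by norm_num)
theorem pr_5777279 : Nat.Prime 5777279 := by norm_num
theorem seg_5777279 : ∀ n : ℕ, 5777279 ≤ n → n < 5809469 → ChainP n :=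
  chainP_leaf 5777279 5809469 pr_5777279 (by norm_num)
theorem pr_5809469 : Nat.Prime 5809469 := by norm_num
theorem seg_5809469 : ∀ n : ℕ, 5809469 ≤ n → n < 5841779 → ChainP n :=
  chainP_leaf 5809469 5841779 pr_5809469 (by norm_num)
theorem pr_5841779 : Nat.Prime 5841779 := by norm_num
theorem seg_5841779 : ∀ n : ℕ, 5841779 ≤ n → n < 5874199 → ChainP n :=
  chainP_leaf 5841779 5874199 pr_5841779 (by norm_num)
theorem pr_5874199 : Nat.Prime 5874199 := by norm_num
theorem seg_5874199 : ∀ n : ℕ, 5874199 ≤ n → n < 5906753 → ChainP n :=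
  chainP_leaf 5874199 5906753 pr_5874199 (by norm_num)
theorem pr_5906753 : Nat.Prime 5906753 := by norm_num
theorem seg_5906753 : ∀ n : ℕ, 5906753 ≤ n → n < 5939429 → ChainP n :=
  chainP_leaf 5906753 5939429 pr_5906753 (by norm_num)
theorem pr_5939429 : Nat.Prime 5939429 := by norm_num
theorem seg_5939429 : ∀ n : ℕ, 5939429 ≤ n → n < 5972209 → ChainP n :=
  chainP_leaf 5939429 5972209 pr_5939429 (by norm_num)
theorem pr_5972209 : Nat.Prime 5972209 := by norm_num
theorem seg_5972209 : ∀ n : ℕ, 5972209 ≤ n → n < 6005113 → ChainP n :=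
  chainP_leaf 5972209 6005113 pr_5972209 (by norm_num)
theorem pr_6005113 : Nat.Prime 6005113 := by norm_num
theorem seg_6005113 : ∀ n : ℕ, 6005113 ≤ n → n < 6038129 → ChainP n :=
  chainP_leaf 6005113 6038129 pr_6005113 (by norm_num)
theorem pr_6038129 : Nat.Prime 6038129 := by norm_num
theorem seg_6038129 : ∀ n : ℕ, 6038129 ≤ n → n < 6071267 → ChainP n :=
  chainP_leaf 6038129 6071267 pr_6038129 (by norm_num)
theorem pr_6071267 : Nat.Prime 6071267 := by norm_num
theorem seg_6071267 : ∀ n : ℕ, 6071267 ≤ n → n < 6104537 → ChainP n :=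
  chainP_leaf 6071267 6104537 pr_6071267 (by norm_num)
theorem pr_6104537 : Nat.Prime 6104537 := by norm_num
theorem seg_6104537 : ∀ n : ℕ, 6104537 ≤ n → n < 6137917 → ChainP n :=
  chainP_leaf 6104537 6137917 pr_6104537 (by norm_num)
theorem pr_6137917 : Nat.Prime 6137917 := by norm_num
theorem seg_6137917 : ∀ n : ℕ, 6137917 ≤ n → n < 6171427 → ChainP n :=
  chainP_leaf 6137917 6171427 pr_6137917 (by norm_num)
theorem pr_6171427 : Nat.Prime 6171427 := by norm_num
theorem seg_6171427 : ∀ n : ℕ, 6171427 ≤ n → n < 6205033 → ChainP n :=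
  chainP_leaf 6171427 6205033 pr_6171427 (by norm_num)
theorem pr_6205033 : Nat.Prime 6205033 := by norm_num
theorem seg_6205033 : ∀ n : ℕ, 6205033 ≤ n → n < 6238787 → ChainP n :=
  chainP_leaf 6205033 6238787 pr_6205033 (by norm_num)
theorem pr_6238787 : Nat.Prime 6238787 := by norm_num
theorem seg_6238787 : ∀ n : ℕ, 6238787 ≤ n → n < 6272663 → ChainP n :=
  chainP_leaf 6238787 6272663 pr_6238787 (by norm_num)
theorem pr_6272663 : Nat.Prime 6272663 := by norm_num
theorem seg_6272663 : ∀ n : ℕ, 6272663 ≤ n → n < 6306673 → ChainP n :=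
  chainP_leaf 6272663 6306673 pr_6272663 (by norm_num)
theorem pr_6306673 : Nat.Prime 6306673 := by norm_num
theorem seg_6306673 : ∀ n : ℕ, 6306673 ≤ n → n < 6340787 → ChainP n :=
  chainP_leaf 6306673 6340787 pr_6306673 (by norm_num)
theorem pr_6340787 : Nat.Prime 6340787 := by norm_num
theorem seg_6340787 : ∀ n : ℕ, 6340787 ≤ n → n < 6375043 → ChainP n :=
  chainP_leaf 6340787 6375043 pr_6340787 (by norm_num)
theorem pr_6375043 : Nat.Prime 6375043 := by norm_num
theorem seg_6375043 : ∀ n : ℕ, 6375043 ≤ n → n < 6409409 → ChainP n :=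
  chainP_leaf 6375043 6409409 pr_6375043 (by norm_num)
theorem pr_6409409 : Nat.Prime 6409409 := by norm_num
theorem seg_6409409 : ∀ n : ℕ, 6409409 ≤ n → n < 6443911 → ChainP n :=
  chainP_leaf 6409409 6443911 pr_6409409 (by norm_num)
theorem pr_6443911 : Nat.Prime 6443911 := by norm_num
theorem seg_6443911 : ∀ n : ℕ, 6443911 ≤ n → n < 6478519 → ChainP n :=
  chainP_leaf 6443911 6478519 pr_6443911 (by norm_num)
theorem pr_6478519 : Nat.Prime 6478519 := by norm_num
theorem seg_6478519 : ∀ n : ℕ, 6478519 ≤ n → n < 6513239 → ChainP n :=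
  chainP_leaf 6478519 6513239 pr_6478519 (by norm_num)
theorem pr_6513239 : Nat.Prime 6513239 := by norm_num
theorem seg_6513239 : ∀ n : ℕ, 6513239 ≤ n → n < 6548107 → ChainP n :=
  chainP_leaf 6513239 6548107 pr_6513239 (by norm_num)
theorem pr_6548107 : Nat.Prime 6548107 := by norm_num
theorem seg_6548107 : ∀ n : ℕ, 6548107 ≤ n → n < 6583103 → ChainP n :=
  chainP_leaf 6548107 6583103 pr_6548107 (by norm_num)
theorem pr_6583103 : Nat.Prime 6583103 := by norm_num
theorem seg_6583103 : ∀ n : ℕ, 6583103 ≤ n → n < 6618223 → ChainP n :=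
  chainP_leaf 6583103 6618223 pr_6583103 (by norm_num)
theorem pr_6618223 : Nat.Prime 6618223 := by norm_num
theorem seg_6618223 : ∀ n : ℕ, 6618223 ≤ n → n < 6653467 → ChainP n :=
  chainP_leaf 6618223 6653467 pr_6618223 (by norm_num)
theorem pr_6653467 : Nat.Prime 6653467 := by norm_num
theorem seg_6653467 : ∀ n : ℕ, 6653467 ≤ n → n < 6688831 → ChainP n :=
  chainP_leaf 6653467 6688831 pr_6653467 (by norm_num)
theorem pr_6688831 : Nat.Prime 6688831 := by norm_num
theorem seg_6688831 : ∀ n : ℕ, 6688831 ≤ n → n < 6724307 → ChainP n :=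
  chainP_leaf 6688831 6724307 pr_6688831 (by norm_num)
theorem pr_6724307 : Nat.Prime 6724307 := by norm_num
theorem seg_6724307 : ∀ n : ℕ, 6724307 ≤ n → n < 6759917 → ChainP n :=
  chainP_leaf 6724307 6759917 pr_6724307 (by norm_num)
theorem pr_6759917 : Nat.Prime 6759917 := by norm_num
theorem seg_6759917 : ∀ n : ℕ, 6759917 ≤ n → n < 6795667 → ChainP n :=
  chainP_leaf 6759917 6795667 pr_6759917 (by norm_num)
theorem pr_6795667 : Nat.Prime 6795667 := by norm_num
theorem seg_6795667 : ∀ n : ℕ, 6795667 ≤ n → n < 6831533 → ChainP n :=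
  chainP_leaf 6795667 6831533 pr_6795667 (by norm_num)
theorem pr_6831533 : Nat.Prime 6831533 := by norm_num
theorem seg_6831533 : ∀ n : ℕ, 6831533 ≤ n → n < 6867529 → ChainP n :=
  chainP_leaf 6831533 6867529 pr_6831533 (by norm_num)
theorem pr_6867529 : Nat.Prime 6867529 := by norm_num
theorem seg_6867529 : ∀ n : ℕ, 6867529 ≤ n → n < 6903647 → ChainP n :=
  chainP_leaf 6867529 6903647 pr_6867529 (by norm_num)
theorem pr_6903647 : Nat.Prime 6903647 := by norm_num
theorem seg_6903647 : ∀ n : ℕ, 6903647 ≤ n → n < 6939901 → ChainP n :=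
  chainP_leaf 6903647 6939901 pr_6903647 (by norm_num)
theorem pr_6939901 : Nat.Prime 6939901 := by norm_num
theorem seg_6939901 : ∀ n : ℕ, 6939901 ≤ n → n < 6976279 → ChainP n :=
  chainP_leaf 6939901 6976279 pr_6939901 (by norm_num)
theorem pr_6976279 : Nat.Prime 6976279 := by norm_num
theorem seg_6976279 : ∀ n : ℕ, 6976279 ≤ n → n < 7012787 → ChainP n :=
  chainP_leaf 6976279 7012787 pr_6976279 (by norm_num)
theorem pr_7012787 : Nat.Prime 7012787 := by norm_num
theorem seg_7012787 : ∀ n : ℕ, 7012787 ≤ n → n < 7049411 → ChainP n :=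
  chainP_leaf 7012787 7049411 pr_7012787 (by norm_num)
theorem pr_7049411 : Nat.Prime 7049411 := by norm_num
theorem seg_7049411 : ∀ n : ℕ, 7049411 ≤ n → n < 7086173 → ChainP n :=
  chainP_leaf 7049411 7086173 pr_7049411 (by norm_num)
theorem pr_7086173 : Nat.Prime 7086173 := by norm_num
theorem seg_7086173 : ∀ n : ℕ, 7086173 ≤ n → n < 7123063 → ChainP n :=
  chainP_leaf 7086173 7123063 pr_7086173 (by norm_num)
theorem pr_7123063 : Nat.Prime 7123063 := by norm_num
theorem seg_7123063 : ∀ n : ℕ, 7123063 ≤ n → n < 7160081 → ChainP n :=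
  chainP_leaf 7123063 7160081 pr_7123063 (by norm_num)
theorem pr_7160081 : Nat.Prime 7160081 := by norm_num
theorem seg_7160081 : ∀ n : ℕ, 7160081 ≤ n → n < 7197227 → ChainP n :=
  chainP_leaf 7160081 7197227 pr_7160081 (by norm_num)
theorem pr_7197227 : Nat.Prime 7197227 := by norm_num
theorem seg_7197227 : ∀ n : ℕ, 7197227 ≤ n → n < 7234483 → ChainP n :=
  chainP_leaf 7197227 7234483 pr_7197227 (by norm_num)
theorem pr_7234483 : Nat.Prime 7234483 := by norm_num
theorem seg_7234483 : ∀ n : ℕ, 7234483 ≤ n → n < 7271881 → ChainP n :=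
  chainP_leaf 7234483 7271881 pr_7234483 (by norm_num)
theorem pr_7271881 : Nat.Prime 7271881 := by norm_num
theorem seg_7271881 : ∀ n : ℕ, 7271881 ≤ n → n < 7309403 → ChainP n :=
  chainP_leaf 7271881 7309403 pr_7271881 (by norm_num)
theorem pr_7309403 : Nat.Prime 7309403 := by norm_num
theorem seg_7309403 : ∀ n : ℕ, 7309403 ≤ n → n < 7347059 → ChainP n :=
  chainP_leaf 7309403 7347059 pr_7309403 (by norm_num)
theorem pr_7347059 : Nat.Prime 7347059 := by norm_num
theorem seg_7347059 : ∀ n : ℕ, 7347059 ≤ n → n < 7384847 → ChainP n :=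
  chainP_leaf 7347059 7384847 pr_7347059 (by norm_num)
theorem pr_7384847 : Nat.Prime 7384847 := by norm_num
theorem seg_7384847 : ∀ n : ℕ, 7384847 ≤ n → n < 7422743 → ChainP n :=
  chainP_leaf 7384847 7422743 pr_7384847 (by norm_num)
theorem pr_7422743 : Nat.Prime 7422743 := by norm_num
theorem seg_7422743 : ∀ n : ℕ, 7422743 ≤ n → n < 7460779 → ChainP n :=
  chainP_leaf 7422743 7460779 pr_7422743 (by norm_num)
theorem pr_7460779 : Nat.Prime 7460779 := by norm_num
theorem seg_7460779 : ∀ n : ℕ, 7460779 ≤ n → n < 7498957 → ChainP n :=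
  chainP_leaf 7460779 7498957 pr_7460779 (by norm_num)
theorem pr_7498957 : Nat.Prime 7498957 := by norm_num
theorem seg_7498957 : ∀ n : ℕ, 7498957 ≤ n → n < 7537259 → ChainP n :=
  chainP_leaf 7498957 7537259 pr_7498957 (by norm_num)
theorem pr_7537259 : Nat.Prime 7537259 := by norm_num
theorem seg_7537259 : ∀ n : ℕ, 7537259 ≤ n → n < 7575691 → ChainP n :=
  chainP_leaf 7537259 7575691 pr_7537259 (by norm_num)
theorem pr_7575691 : Nat.Prime 7575691 := by norm_num
theorem seg_7575691 : ∀ n : ℕ, 7575691 ≤ n → n < 7614263 → ChainP n :=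
  chainP_leaf 7575691 7614263 pr_7575691 (by norm_num)
theorem pr_7614263 : Nat.Prime 7614263 := by norm_num
theorem seg_7614263 : ∀ n : ℕ, 7614263 ≤ n → n < 7652959 → ChainP n :=
  chainP_leaf 7614263 7652959 pr_7614263 (by norm_num)
theorem pr_7652959 : Nat.Prime 7652959 := by norm_num
theorem seg_7652959 : ∀ n : ℕ, 7652959 ≤ n → n < 7691779 → ChainP n :=
  chainP_leaf 7652959 7691779 pr_7652959 (by norm_num)
theorem pr_7691779 : Nat.Prime 7691779 := by norm_num
theorem seg_7691779 : ∀ n : ℕ, 7691779 ≤ n → n < 7730731 → ChainP n :=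
  chainP_leaf 7691779 7730731 pr_7691779 (by norm_num)
theorem pr_7730731 : Nat.Prime 7730731 := by norm_num
theorem seg_7730731 : ∀ n : ℕ, 7730731 ≤ n → n < 7769819 → ChainP n :=
  chainP_leaf 7730731 7769819 pr_7730731 (by norm_num)
theorem pr_7769819 : Nat.Prime 7769819 := by norm_num
theorem seg_7769819 : ∀ n : ℕ, 7769819 ≤ n → n < 7808989 → ChainP n :=
  chainP_leaf 7769819 7808989 pr_7769819 (by norm_num)
theorem pr_7808989 : Nat.Prime 7808989 := by norm_num
theorem seg_7808989 : ∀ n : ℕ, 7808989 ≤ n → n < 7848331 → ChainP n :=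
  chainP_leaf 7808989 7848331 pr_7808989 (by norm_num)
theorem pr_7848331 : Nat.Prime 7848331 := by norm_num
theorem seg_7848331 : ∀ n : ℕ, 7848331 ≤ n → n < 7887823 → ChainP n :=
  chainP_leaf 7848331 7887823 pr_7848331 (by norm_num)
theorem pr_7887823 : Nat.Prime 7887823 := by norm_num
theorem seg_7887823 : ∀ n : ℕ, 7887823 ≤ n → n < 7927441 → ChainP n :=
  chainP_leaf 7887823 7927441 pr_7887823 (by norm_num)
theorem pr_7927441 : Nat.Prime 7927441 := by norm_num
theorem seg_7927441 : ∀ n : ℕ, 7927441 ≤ n → n < 7967143 → ChainP n :=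
  chainP_leaf 7927441 7967143 pr_7927441 (by norm_num)
theorem pr_7967143 : Nat.Prime 7967143 := by norm_num
theorem seg_7967143 : ∀ n : ℕ, 7967143 ≤ n → n < 8007019 → ChainP n :=
  chainP_leaf 7967143 8007019 pr_7967143 (by norm_num)
theorem pr_8007019 : Nat.Prime 8007019 := by norm_num
theorem seg_8007019 : ∀ n : ℕ, 8007019 ≤ n → n < 8047037 → ChainP n :=
  chainP_leaf 8007019 8047037 pr_8007019 (by norm_num)
theorem pr_8047037 : Nat.Prime 8047037 := by norm_num
theorem seg_8047037 : ∀ n : ℕ, 8047037 ≤ n → n < 8087153 → ChainP n :=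
  chainP_leaf 8047037 8087153 pr_8047037 (by norm_num)
theorem pr_8087153 : Nat.Prime 8087153 := by norm_num
theorem seg_8087153 : ∀ n : ℕ, 8087153 ≤ n → n < 8127437 → ChainP n :=
  chainP_leaf 8087153 8127437 pr_8087153 (by norm_num)
theorem pr_8127437 : Nat.Prime 8127437 := by norm_num
theorem seg_8127437 : ∀ n : ℕ, 8127437 ≤ n → n < 8167847 → ChainP n :=
  chainP_leaf 8127437 8167847 pr_8127437 (by norm_num)
theorem pr_8167847 : Nat.Prime 8167847 := by norm_num
theorem seg_8167847 : ∀ n : ℕ, 8167847 ≤ n → n < 8208383 → ChainP n :=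
  chainP_leaf 8167847 8208383 pr_8167847 (by norm_num)
theorem pr_8208383 : Nat.Prime 8208383 := by norm_num
theorem seg_8208383 : ∀ n : ℕ, 8208383 ≤ n → n < 8249071 → ChainP n :=
  chainP_leaf 8208383 8249071 pr_8208383 (by norm_num)
theorem pr_8249071 : Nat.Prime 8249071 := by norm_num
theorem seg_8249071 : ∀ n : ℕ, 8249071 ≤ n → n < 8289881 → ChainP n :=
  chainP_leaf 8249071 8289881 pr_8249071 (by norm_num)
theorem pr_8289881 : Nat.Prime 8289881 := by norm_num
theorem seg_8289881 : ∀ n : ℕ, 8289881 ≤ n → n < 8330837 → ChainP n :=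
  chainP_leaf 8289881 8330837 pr_8289881 (by norm_num)
theorem pr_8330837 : Nat.Prime 8330837 := by norm_num
theorem seg_8330837 : ∀ n : ℕ, 8330837 ≤ n → n < 8371927 → ChainP n :=
  chainP_leaf 8330837 8371927 pr_8330837 (by norm_num)
theorem pr_8371927 : Nat.Prime 8371927 := by norm_num
theorem seg_8371927 : ∀ n : ℕ, 8371927 ≤ n → n < 8413157 → ChainP n :=
  chainP_leaf 8371927 8413157 pr_8371927 (by norm_num)
theorem pr_8413157 : Nat.Prime 8413157 := by norm_num
theorem seg_8413157 : ∀ n : ℕ, 8413157 ≤ n → n < 8454503 → ChainP n :=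
  chainP_leaf 8413157 8454503 pr_8413157 (by norm_num)
theorem pr_8454503 : Nat.Prime 8454503 := by norm_num
theorem seg_8454503 : ∀ n : ℕ, 8454503 ≤ n → n < 8496001 → ChainP n :=
  chainP_leaf 8454503 8496001 pr_8454503 (by norm_num)
theorem pr_8496001 : Nat.Prime 8496001 := by norm_num
theorem seg_8496001 : ∀ n : ℕ, 8496001 ≤ n → n < 8537603 → ChainP n :=
  chainP_leaf 8496001 8537603 pr_8496001 (by norm_num)
theorem pr_8537603 : Nat.Prime 8537603 := by norm_num
theorem seg_8537603 : ∀ n : ℕ, 8537603 ≤ n → n < 8579357 → ChainP n :=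
  chainP_leaf 8537603 8579357 pr_8537603 (by norm_num)
theorem pr_8579357 : Nat.Prime 8579357 := by norm_num
theorem seg_8579357 : ∀ n : ℕ, 8579357 ≤ n → n < 8621243 → ChainP n :=
  chainP_leaf 8579357 8621243 pr_8579357 (by norm_num)
theorem pr_8621243 : Nat.Prime 8621243 := by norm_num
theorem seg_8621243 : ∀ n : ℕ, 8621243 ≤ n → n < 8663279 → ChainP n :=
  chainP_leaf 8621243 8663279 pr_8621243 (by norm_num)
theorem pr_8663279 : Nat.Prime 8663279 := by norm_num
theorem seg_8663279 : ∀ n : ℕ, 8663279 ≤ n → n < 8705453 → ChainP n :=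
  chainP_leaf 8663279 8705453 pr_8663279 (by norm_num)
theorem pr_8705453 : Nat.Prime 8705453 := by norm_num
theorem seg_8705453 : ∀ n : ℕ, 8705453 ≤ n → n < 8747759 → ChainP n :=
  chainP_leaf 8705453 8747759 pr_8705453 (by norm_num)
theorem pr_8747759 : Nat.Prime 8747759 := by norm_num
theorem seg_8747759 : ∀ n : ℕ, 8747759 ≤ n → n < 8790193 → ChainP n :=
  chainP_leaf 8747759 8790193 pr_8747759 (by norm_num)
theorem pr_8790193 : Nat.Prime 8790193 := by norm_num
theorem seg_8790193 : ∀ n : ℕ, 8790193 ≤ n → n < 8832779 → ChainP n :=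
  chainP_leaf 8790193 8832779 pr_8790193 (by norm_num)
theorem pr_8832779 : Nat.Prime 8832779 := by norm_num
theorem seg_8832779 : ∀ n : ℕ, 8832779 ≤ n → n < 8875499 → ChainP n :=
  chainP_leaf 8832779 8875499 pr_8832779 (by norm_num)
theorem pr_8875499 : Nat.Prime 8875499 := by norm_num
theorem seg_8875499 : ∀ n : ℕ, 8875499 ≤ n → n < 8918347 → ChainP n :=
  chainP_leaf 8875499 8918347 pr_8875499 (by norm_num)
theorem pr_8918347 : Nat.Prime 8918347 := by norm_num
theorem seg_8918347 : ∀ n : ℕ, 8918347 ≤ n → n < 8961347 → ChainP n :=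
  chainP_leaf 8918347 8961347 pr_8918347 (by norm_num)
theorem pr_8961347 : Nat.Prime 8961347 := by norm_num
theorem seg_8961347 : ∀ n : ℕ, 8961347 ≤ n → n < 9004481 → ChainP n :=
  chainP_leaf 8961347 9004481 pr_8961347 (by norm_num)
theorem pr_9004481 : Nat.Prime 9004481 := by norm_num
theorem seg_9004481 : ∀ n : ℕ, 9004481 ≤ n → n < 9047761 → ChainP n :=
  chainP_leaf 9004481 9047761 pr_9004481 (by norm_num)
theorem pr_9047761 : Nat.Prime 9047761 := by norm_num
theorem seg_9047761 : ∀ n : ℕ, 9047761 ≤ n → n < 9091157 → ChainP n :=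
  chainP_leaf 9047761 9091157 pr_9047761 (by norm_num)
theorem pr_9091157 : Nat.Prime 9091157 := by norm_num
theorem seg_9091157 : ∀ n : ℕ, 9091157 ≤ n → n < 9134711 → ChainP n :=
  chainP_leaf 9091157 9134711 pr_9091157 (by norm_num)
theorem pr_9134711 : Nat.Prime 9134711 := by norm_num
theorem seg_9134711 : ∀ n : ℕ, 9134711 ≤ n → n < 9178409 → ChainP n :=
  chainP_leaf 9134711 9178409 pr_9134711 (by norm_num)
theorem pr_9178409 : Nat.Prime 9178409 := by norm_num
theorem seg_9178409 : ∀ n : ℕ, 9178409 ≤ n → n < 9222229 → ChainP n :=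
  chainP_leaf 9178409 9222229 pr_9178409 (by norm_num)
theorem pr_9222229 : Nat.Prime 9222229 := by norm_num
theorem seg_9222229 : ∀ n : ℕ, 9222229 ≤ n → n < 9266197 → ChainP n :=
  chainP_leaf 9222229 9266197 pr_9222229 (by norm_num)
theorem pr_9266197 : Nat.Prime 9266197 := by norm_num
theorem seg_9266197 : ∀ n : ℕ, 9266197 ≤ n → n < 9310309 → ChainP n :=
  chainP_leaf 9266197 9310309 pr_9266197 (by norm_num)
theorem pr_9310309 : Nat.Prime 9310309 := by norm_num
theorem seg_9310309 : ∀ n : ℕ, 9310309 ≤ n → n < 9354557 → ChainP n :=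
  chainP_leaf 9310309 9354557 pr_9310309 (by norm_num)
theorem pr_9354557 : Nat.Prime 9354557 := by norm_num
theorem seg_9354557 : ∀ n : ℕ, 9354557 ≤ n → n < 9398953 → ChainP n :=
  chainP_leaf 9354557 9398953 pr_9354557 (by norm_num)
theorem pr_9398953 : Nat.Prime 9398953 := by norm_num
theorem seg_9398953 : ∀ n : ℕ, 9398953 ≤ n → n < 9443479 → ChainP n :=
  chainP_leaf 9398953 9443479 pr_9398953 (by norm_num)
theorem pr_9443479 : Nat.Prime 9443479 := by norm_num
theorem seg_9443479 : ∀ n : ℕ, 9443479 ≤ n → n < 9488131 → ChainP n :=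
  chainP_leaf 9443479 9488131 pr_9443479 (by norm_num)
theorem pr_9488131 : Nat.Prime 9488131 := by norm_num
theorem seg_9488131 : ∀ n : ℕ, 9488131 ≤ n → n < 9532949 → ChainP n :=
  chainP_leaf 9488131 9532949 pr_9488131 (by norm_num)
theorem pr_9532949 : Nat.Prime 9532949 := by norm_num
theorem seg_9532949 : ∀ n : ℕ, 9532949 ≤ n → n < 9577879 → ChainP n :=
  chainP_leaf 9532949 9577879 pr_9532949 (by norm_num)
theorem pr_9577879 : Nat.Prime 9577879 := by norm_num
theorem seg_9577879 : ∀ n : ℕ, 9577879 ≤ n → n < 9622979 → ChainP n :=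
  chainP_leaf 9577879 9622979 pr_9577879 (by norm_num)
theorem pr_9622979 : Nat.Prime 9622979 := by norm_num
theorem seg_9622979 : ∀ n : ℕ, 9622979 ≤ n → n < 9668213 → ChainP n :=
  chainP_leaf 9622979 9668213 pr_9622979 (by norm_num)
theorem pr_9668213 : Nat.Prime 9668213 := by norm_num
theorem seg_9668213 : ∀ n : ℕ, 9668213 ≤ n → n < 9713591 → ChainP n :=
  chainP_leaf 9668213 9713591 pr_9668213 (by norm_num)
theorem pr_9713591 : Nat.Prime 9713591 := by norm_num
theorem seg_9713591 : ∀ n : ℕ, 9713591 ≤ n → n < 9759091 → ChainP n :=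
  chainP_leaf 9713591 9759091 pr_9713591 (by norm_num)
theorem pr_9759091 : Nat.Prime 9759091 := by norm_num
theorem seg_9759091 : ∀ n : ℕ, 9759091 ≤ n → n < 9804757 → ChainP n :=
  chainP_leaf 9759091 9804757 pr_9759091 (by norm_num)
theorem pr_9804757 : Nat.Prime 9804757 := by norm_num
theorem seg_9804757 : ∀ n : ℕ, 9804757 ≤ n → n < 9850559 → ChainP n :=
  chainP_leaf 9804757 9850559 pr_9804757 (by norm_num)
theorem pr_9850559 : Nat.Prime 9850559 := by norm_num
theorem seg_9850559 : ∀ n : ℕ, 9850559 ≤ n → n < 9896507 → ChainP n :=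
  chainP_leaf 9850559 9896507 pr_9850559 (by norm_num)
theorem pr_9896507 : Nat.Prime 9896507 := by norm_num
theorem seg_9896507 : ∀ n : ℕ, 9896507 ≤ n → n < 9942593 → ChainP n :=
  chainP_leaf 9896507 9942593 pr_9896507 (by norm_num)
theorem pr_9942593 : Nat.Prime 9942593 := by norm_num
theorem seg_9942593 : ∀ n : ℕ, 9942593 ≤ n → n < 9988817 → ChainP n :=
  chainP_leaf 9942593 9988817 pr_9942593 (by norm_num)
theorem pr_9988817 : Nat.Prime 9988817 := by norm_num
theorem seg_9988817 : ∀ n : ℕ, 9988817 ≤ n → n < 10035169 → ChainP n :=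
  chainP_leaf 9988817 10035169 pr_9988817 (by norm_num)
theorem pr_10035169 : Nat.Prime 10035169 := by norm_num
theorem seg_10035169 : ∀ n : ℕ, 10035169 ≤ n → n < 10081681 → ChainP n :=
  chainP_leaf 10035169 10081681 pr_10035169 (by norm_num)
theorem pr_10081681 : Nat.Prime 10081681 := by norm_num
theorem seg_10081681 : ∀ n : ℕ, 10081681 ≤ n → n < 10128347 → ChainP n :=
  chainP_leaf 10081681 10128347 pr_10081681 (by norm_num)
theorem pr_10128347 : Nat.Prime 10128347 := by norm_num
theorem seg_10128347 : ∀ n : ℕ, 10128347 ≤ n → n < 10175159 → ChainP n :=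
  chainP_leaf 10128347 10175159 pr_10128347 (by norm_num)
theorem pr_10175159 : Nat.Prime 10175159 := by norm_num
theorem seg_10175159 : ∀ n : ℕ, 10175159 ≤ n → n < 10222111 → ChainP n :=
  chainP_leaf 10175159 10222111 pr_10175159 (by norm_num)
theorem pr_10222111 : Nat.Prime 10222111 := by norm_num
theorem seg_10222111 : ∀ n : ℕ, 10222111 ≤ n → n < 10269191 → ChainP n :=
  chainP_leaf 10222111 10269191 pr_10222111 (by norm_num)
theorem pr_10269191 : Nat.Prime 10269191 := by norm_num
theorem seg_10269191 : ∀ n : ℕ, 10269191 ≤ n → n < 10316407 → ChainP n :=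
  chainP_leaf 10269191 10316407 pr_10269191 (by norm_num)
theorem pr_10316407 : Nat.Prime 10316407 := by norm_num
theorem seg_10316407 : ∀ n : ℕ, 10316407 ≤ n → n < 10363781 → ChainP n :=
  chainP_leaf 10316407 10363781 pr_10316407 (by norm_num)
theorem pr_10363781 : Nat.Prime 10363781 := by norm_num
theorem seg_10363781 : ∀ n : ℕ, 10363781 ≤ n → n < 10411307 → ChainP n :=
  chainP_leaf 10363781 10411307 pr_10363781 (by norm_num)
theorem pr_10411307 : Nat.Prime 10411307 := by norm_num
theorem seg_10411307 : ∀ n : ℕ, 10411307 ≤ n → n < 10458983 → ChainP n :=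
  chainP_leaf 10411307 10458983 pr_10411307 (by norm_num)
theorem pr_10458983 : Nat.Prime 10458983 := by norm_num
theorem seg_10458983 : ∀ n : ℕ, 10458983 ≤ n → n < 10506767 → ChainP n :=
  chainP_leaf 10458983 10506767 pr_10458983 (by norm_num)
theorem pr_10506767 : Nat.Prime 10506767 := by norm_num
theorem seg_10506767 : ∀ n : ℕ, 10506767 ≤ n → n < 10554727 → ChainP n :=
  chainP_leaf 10506767 10554727 pr_10506767 (by norm_num)
theorem pr_10554727 : Nat.Prime 10554727 := by norm_num
theorem seg_10554727 : ∀ n : ℕ, 10554727 ≤ n → n < 10602829 → ChainP n :=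
  chainP_leaf 10554727 10602829 pr_10554727 (by norm_num)
theorem pr_10602829 : Nat.Prime 10602829 := by norm_num
theorem seg_10602829 : ∀ n : ℕ, 10602829 ≤ n → n < 10651063 → ChainP n :=
  chainP_leaf 10602829 10651063 pr_10602829 (by norm_num)
theorem pr_10651063 : Nat.Prime 10651063 := by norm_num
theorem seg_10651063 : ∀ n : ℕ, 10651063 ≤ n → n < 10699471 → ChainP n :=
  chainP_leaf 10651063 10699471 pr_10651063 (by norm_num)
theorem pr_10699471 : Nat.Prime 10699471 := by norm_num
theorem seg_10699471 : ∀ n : ℕ, 10699471 ≤ n → n < 10748011 → ChainP n :=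
  chainP_leaf 10699471 10748011 pr_10699471 (by norm_num)

theorem chainC : ∀ n : ℕ, 5278349 ≤ n → n < 10748011 → ChainP n :=
  (chainP_join 5278349 7691779 10748011 (chainP_join 5278349 6409409 7691779 (chainP_join 5278349 5809469 6409409 (chainP_join 5278349 5524073 5809469 (chainP_join 5278349 5400287 5524073 (chainP_join 5278349 5339093 5400287 (chainP_join 5278349 5308663 5339093 seg_5278349 seg_5308663) (chainP_join 5339093 5369627 5400287 seg_5339093 seg_5369627)) (chainP_join 5400287 5461957 5524073 (chainP_join 5400287 5431067 5461957 seg_5400287 seg_5431067) (chainP_join 5461957 5492953 5524073 seg_5461957 seg_5492953))) (chainP_join 5524073 5649739 5809469 (chainP_join 5524073 5586671 5649739 (chainP_join 5524073 5555321 5586671 seg_5524073 seg_5555321) (chainP_join 5586671 5618149 5649739 seg_5586671 seg_5618149)) (chainP_join 5649739 5713289 5809469 (chainP_join 5649739 5681453 5713289 seg_5649739 seg_5681453) (chainP_join 5713289 5745221 5809469 seg_5713289 (chainP_join 5745221 5777279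 5809469 seg_5745221 seg_5777279))))) (chainP_join 5809469 6104537 6409409 (chainP_join 5809469 5939429 6104537 (chainP_join 5809469 5874199 5939429 (chainP_join 5809469 5841779 5874199 seg_5809469 seg_5841779) (chainP_join 5874199 5906753 5939429 seg_5874199 seg_5906753)) (chainP_join 5939429 6005113 6104537 (chainP_join 5939429 5972209 6005113 seg_5939429 seg_5972209) (chainP_join 6005113 6038129 6104537 seg_6005113 (chainP_join 6038129 6071267 6104537 seg_6038129 seg_6071267)))) (chainP_join 6104537 6238787 6409409 (chainP_join 6104537 6171427 6238787 (chainP_join 6104537 6137917 6171427 seg_6104537 seg_6137917) (chainP_join 6171427 6205033 6238787 seg_6171427 seg_6205033)) (chainP_join 6238787 6306673 6409409 (chainP_join 6238787 6272663 6306673 seg_6238787 seg_6272663) (chainP_join 6306673 6340787 6409409 seg_6306673 (chainP_join 6340787 6375043 6409409 seg_6340787 seg_6375043)))))) (chainP_join 6409409 7012787 7691779 (chainP_join 6409409 6688831 7012787 (chainP_join 6409409 6548107 6688831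 (chainP_join 6409409 6478519 6548107 (chainP_join 6409409 6443911 6478519 seg_6409409 seg_6443911) (chainP_join 6478519 6513239 6548107 seg_6478519 seg_6513239)) (chainP_join 6548107 6618223 6688831 (chainP_join 6548107 6583103 6618223 seg_6548107 seg_6583103) (chainP_join 6618223 6653467 6688831 seg_6618223 seg_6653467))) (chainP_join 6688831 6831533 7012787 (chainP_join 6688831 6759917 6831533 (chainP_join 6688831 6724307 6759917 seg_6688831 seg_6724307) (chainP_join 6759917 6795667 6831533 seg_6759917 seg_6795667)) (chainP_join 6831533 6903647 7012787 (chainP_join 6831533 6867529 6903647 seg_6831533 seg_6867529) (chainP_join 6903647 6939901 7012787 seg_6903647 (chainP_join 6939901 6976279 7012787 seg_6939901 seg_6976279))))) (chainP_join 7012787 7347059 7691779 (chainP_join 7012787 7160081 7347059 (chainP_join 7012787 7086173 7160081 (chainP_join 7012787 7049411 7086173 seg_7012787 seg_7049411) (chainP_join 7086173 7123063 7160081 seg_7086173 seg_7123063)) (chainP_join 7160081 7234483 7347059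 (chainP_join 7160081 7197227 7234483 seg_7160081 seg_7197227) (chainP_join 7234483 7271881 7347059 seg_7234483 (chainP_join 7271881 7309403 7347059 seg_7271881 seg_7309403)))) (chainP_join 7347059 7498957 7691779 (chainP_join 7347059 7422743 7498957 (chainP_join 7347059 7384847 7422743 seg_7347059 seg_7384847) (chainP_join 7422743 7460779 7498957 seg_7422743 seg_7460779)) (chainP_join 7498957 7575691 7691779 (chainP_join 7498957 7537259 7575691 seg_7498957 seg_7537259) (chainP_join 7575691 7614263 7691779 seg_7575691 (chainP_join 7614263 7652959 7691779 seg_7614263 seg_7652959))))))) (chainP_join 7691779 9134711 10748011 (chainP_join 7691779 8371927 9134711 (chainP_join 7691779 8007019 8371927 (chainP_join 7691779 7848331 8007019 (chainP_join 7691779 7769819 7848331 (chainP_join 7691779 7730731 7769819 seg_7691779 seg_7730731) (chainP_join 7769819 7808989 7848331 seg_7769819 seg_7808989)) (chainP_join 7848331 7927441 8007019 (chainP_join 7848331 7887823 7927441 seg_7848331 seg_7887823) (chainP_join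 7927441 7967143 8007019 seg_7927441 seg_7967143))) (chainP_join 8007019 8167847 8371927 (chainP_join 8007019 8087153 8167847 (chainP_join 8007019 8047037 8087153 seg_8007019 seg_8047037) (chainP_join 8087153 8127437 8167847 seg_8087153 seg_8127437)) (chainP_join 8167847 8249071 8371927 (chainP_join 8167847 8208383 8249071 seg_8167847 seg_8208383) (chainP_join 8249071 8289881 8371927 seg_8249071 (chainP_join 8289881 8330837 8371927 seg_8289881 seg_8330837))))) (chainP_join 8371927 8747759 9134711 (chainP_join 8371927 8537603 8747759 (chainP_join 8371927 8454503 8537603 (chainP_join 8371927 8413157 8454503 seg_8371927 seg_8413157) (chainP_join 8454503 8496001 8537603 seg_8454503 seg_8496001)) (chainP_join 8537603 8621243 8747759 (chainP_join 8537603 8579357 8621243 seg_8537603 seg_8579357) (chainP_join 8621243 8663279 8747759 seg_8621243 (chainP_join 8663279 8705453 8747759 seg_8663279 seg_8705453)))) (chainP_join 8747759 8918347 9134711 (chainP_join 8747759 8832779 8918347 (chainP_join 8747759 8790193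 8832779 seg_8747759 seg_8790193) (chainP_join 8832779 8875499 8918347 seg_8832779 seg_8875499)) (chainP_join 8918347 9004481 9134711 (chainP_join 8918347 8961347 9004481 seg_8918347 seg_8961347) (chainP_join 9004481 9047761 9134711 seg_9004481 (chainP_join 9047761 9091157 9134711 seg_9047761 seg_9091157)))))) (chainP_join 9134711 9896507 10748011 (chainP_join 9134711 9488131 9896507 (chainP_join 9134711 9310309 9488131 (chainP_join 9134711 9222229 9310309 (chainP_join 9134711 9178409 9222229 seg_9134711 seg_9178409) (chainP_join 9222229 9266197 9310309 seg_9222229 seg_9266197)) (chainP_join 9310309 9398953 9488131 (chainP_join 9310309 9354557 9398953 seg_9310309 seg_9354557) (chainP_join 9398953 9443479 9488131 seg_9398953 seg_9443479))) (chainP_join 9488131 9668213 9896507 (chainP_join 9488131 9577879 9668213 (chainP_join 9488131 9532949 9577879 seg_9488131 seg_9532949) (chainP_join 9577879 9622979 9668213 seg_9577879 seg_9622979)) (chainP_join 9668213 9759091 9896507 (chainP_join 9668213 9713591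 9759091 seg_9668213 seg_9713591) (chainP_join 9759091 9804757 9896507 seg_9759091 (chainP_join 9804757 9850559 9896507 seg_9804757 seg_9850559))))) (chainP_join 9896507 10316407 10748011 (chainP_join 9896507 10081681 10316407 (chainP_join 9896507 9988817 10081681 (chainP_join 9896507 9942593 9988817 seg_9896507 seg_9942593) (chainP_join 9988817 10035169 10081681 seg_9988817 seg_10035169)) (chainP_join 10081681 10175159 10316407 (chainP_join 10081681 10128347 10175159 seg_10081681 seg_10128347) (chainP_join 10175159 10222111 10316407 seg_10175159 (chainP_join 10222111 10269191 10316407 seg_10222111 seg_10269191)))) (chainP_join 10316407 10506767 10748011 (chainP_join 10316407 10411307 10506767 (chainP_join 10316407 10363781 10411307 seg_10316407 seg_10363781) (chainP_join 10411307 10458983 10506767 seg_10411307 seg_10458983)) (chainP_join 10506767 10602829 10748011 (chainP_join 10506767 10554727 10602829 seg_10506767 seg_10554727) (chainP_join 10602829 10651063 10748011 seg_10602829 (chainP_join 10651063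 10699471 10748011 seg_10651063 seg_10699471))))))))

end Cfsg.Agent.Lib.H14.SS
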