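import Cfsg.Agent.Lib.H14.SSChainDefs

/-! Generated: chain primes 10748011 .. 16835233 (part D) for SS11 (Sylvester-Schur, S3571 NT block). -/

set_option autoImplicit false
set_option maxRecDepth 100000

namespace Cfsg.Agent.Lib.H14.SS

theorem pr_10748011 : Nat.Prime 10748011 := by norm_num
theorem seg_10748011 : ∀ n : ℕ, 10748011 ≤ n → n < 10796713 → ChainP n :=
  chainP_leaf 10748011 10796713 pr_10748011 (by norm_num)
theorem pr_10796713 : Nat.Prime 10796713 := by norm_num
theorem seg_10796713 : ∀ n : ℕ, 10796713 ≤ n → n < 10845559 → ChainP n :=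
  chainP_leaf 10796713 10845559 pr_10796713 (by norm_num)
theorem pr_10845559 : Nat.Prime 10845559 := by norm_num
theorem seg_10845559 : ∀ n : ℕ, 10845559 ≤ n → n < 10894549 → ChainP n :=
  chainP_leaf 10845559 10894549 pr_10845559 (by norm_num)
theorem pr_10894549 : Nat.Prime 10894549 := by norm_num
theorem seg_10894549 : ∀ n : ℕ, 10894549 ≤ n → n < 10943689 → ChainP n :=
  chainP_leaf 10894549 10943689 pr_10894549 (by norm_num)
theorem pr_10943689 : Nat.Prime 10943689 := by norm_num
theorem seg_10943689 : ∀ n : ℕ, 10943689 ≤ n → n < 10992973 → ChainP n :=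
  chainP_leaf 10943689 10992973 pr_10943689 (by norm_num)
theorem pr_10992973 : Nat.Prime 10992973 := by norm_num
theorem seg_10992973 : ∀ n : ℕ, 10992973 ≤ n → n < 11042399 → ChainP n :=
  chainP_leaf 10992973 11042399 pr_10992973 (by norm_num)
theorem pr_11042399 : Nat.Prime 11042399 := by norm_num
theorem seg_11042399 : ∀ n : ℕ, 11042399 ≤ n → n < 11091959 → ChainP n :=
  chainP_leaf 11042399 11091959 pr_11042399 (by norm_num)
theorem pr_11091959 : Nat.Prime 11091959 := by norm_num
theorem seg_11091959 : ∀ n : ℕ, 11091959 ≤ n → n < 11141693 → ChainP n :=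
  chainP_leaf 11091959 11141693 pr_11091959 (by norm_num)
theorem pr_11141693 : Nat.Prime 11141693 := by norm_num
theorem seg_11141693 : ∀ n : ℕ, 11141693 ≤ n → n < 11191577 → ChainP n :=
  chainP_leaf 11141693 11191577 pr_11141693 (by norm_num)
theorem pr_11191577 : Nat.Prime 11191577 := by norm_num
theorem seg_11191577 : ∀ n : ℕ, 11191577 ≤ n → n < 11241583 → ChainP n :=
  chainP_leaf 11191577 11241583 pr_11191577 (by norm_num)
theorem pr_11241583 : Nat.Prime 11241583 := by norm_num
theorem seg_11241583 : ∀ n : ℕ, 11241583 ≤ n → n < 11291747 → ChainP n :=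
  chainP_leaf 11241583 11291747 pr_11241583 (by norm_num)
theorem pr_11291747 : Nat.Prime 11291747 := by norm_num
theorem seg_11291747 : ∀ n : ℕ, 11291747 ≤ n → n < 11342057 → ChainP n :=
  chainP_leaf 11291747 11342057 pr_11291747 (by norm_num)
theorem pr_11342057 : Nat.Prime 11342057 := by norm_num
theorem seg_11342057 : ∀ n : ℕ, 11342057 ≤ n → n < 11392529 → ChainP n :=
  chainP_leaf 11342057 11392529 pr_11342057 (by norm_num)
theorem pr_11392529 : Nat.Prime 11392529 := by norm_num
theorem seg_11392529 : ∀ n : ℕ, 11392529 ≤ n → n < 11443153 → ChainP n :=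
  chainP_leaf 11392529 11443153 pr_11392529 (by norm_num)
theorem pr_11443153 : Nat.Prime 11443153 := by norm_num
theorem seg_11443153 : ∀ n : ℕ, 11443153 ≤ n → n < 11493931 → ChainP n :=
  chainP_leaf 11443153 11493931 pr_11443153 (by norm_num)
theorem pr_11493931 : Nat.Prime 11493931 := by norm_num
theorem seg_11493931 : ∀ n : ℕ, 11493931 ≤ n → n < 11544859 → ChainP n :=
  chainP_leaf 11493931 11544859 pr_11493931 (by norm_num)
theorem pr_11544859 : Nat.Prime 11544859 := by norm_num
theorem seg_11544859 : ∀ n : ℕ, 11544859 ≤ n → n < 11595931 → ChainP n :=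
  chainP_leaf 11544859 11595931 pr_11544859 (by norm_num)
theorem pr_11595931 : Nat.Prime 11595931 := by norm_num
theorem seg_11595931 : ∀ n : ℕ, 11595931 ≤ n → n < 11647151 → ChainP n :=
  chainP_leaf 11595931 11647151 pr_11595931 (by norm_num)
theorem pr_11647151 : Nat.Prime 11647151 := by norm_num
theorem seg_11647151 : ∀ n : ℕ, 11647151 ≤ n → n < 11698529 → ChainP n :=
  chainP_leaf 11647151 11698529 pr_11647151 (by norm_num)
theorem pr_11698529 : Nat.Prime 11698529 := by norm_num
theorem seg_11698529 : ∀ n : ℕ, 11698529 ≤ n → n < 11750059 → ChainP n :=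
  chainP_leaf 11698529 11750059 pr_11698529 (by norm_num)
theorem pr_11750059 : Nat.Prime 11750059 := by norm_num
theorem seg_11750059 : ∀ n : ℕ, 11750059 ≤ n → n < 11801701 → ChainP n :=
  chainP_leaf 11750059 11801701 pr_11750059 (by norm_num)
theorem pr_11801701 : Nat.Prime 11801701 := by norm_num
theorem seg_11801701 : ∀ n : ℕ, 11801701 ≤ n → n < 11853529 → ChainP n :=
  chainP_leaf 11801701 11853529 pr_11801701 (by norm_num)
theorem pr_11853529 : Nat.Prime 11853529 := by norm_num
theorem seg_11853529 : ∀ n : ℕ, 11853529 ≤ n → n < 11905501 → ChainP n :=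
  chainP_leaf 11853529 11905501 pr_11853529 (by norm_num)
theorem pr_11905501 : Nat.Prime 11905501 := by norm_num
theorem seg_11905501 : ∀ n : ℕ, 11905501 ≤ n → n < 11957633 → ChainP n :=
  chainP_leaf 11905501 11957633 pr_11905501 (by norm_num)
theorem pr_11957633 : Nat.Prime 11957633 := by norm_num
theorem seg_11957633 : ∀ n : ℕ, 11957633 ≤ n → n < 12009923 → ChainP n :=
  chainP_leaf 11957633 12009923 pr_11957633 (by norm_num)
theorem pr_12009923 : Nat.Prime 12009923 := by norm_num
theorem seg_12009923 : ∀ n : ℕ, 12009923 ≤ n → n < 12062357 → ChainP n :=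
  chainP_leaf 12009923 12062357 pr_12009923 (by norm_num)
theorem pr_12062357 : Nat.Prime 12062357 := by norm_num
theorem seg_12062357 : ∀ n : ℕ, 12062357 ≤ n → n < 12114937 → ChainP n :=
  chainP_leaf 12062357 12114937 pr_12062357 (by norm_num)
theorem pr_12114937 : Nat.Prime 12114937 := by norm_num
theorem seg_12114937 : ∀ n : ℕ, 12114937 ≤ n → n < 12167681 → ChainP n :=
  chainP_leaf 12114937 12167681 pr_12114937 (by norm_num)
theorem pr_12167681 : Nat.Prime 12167681 := by norm_num
theorem seg_12167681 : ∀ n : ℕ, 12167681 ≤ n → n < 12220573 → ChainP n :=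
  chainP_leaf 12167681 12220573 pr_12167681 (by norm_num)
theorem pr_12220573 : Nat.Prime 12220573 := by norm_num
theorem seg_12220573 : ∀ n : ℕ, 12220573 ≤ n → n < 12273623 → ChainP n :=
  chainP_leaf 12220573 12273623 pr_12220573 (by norm_num)
theorem pr_12273623 : Nat.Prime 12273623 := by norm_num
theorem seg_12273623 : ∀ n : ℕ, 12273623 ≤ n → n < 12326813 → ChainP n :=
  chainP_leaf 12273623 12326813 pr_12273623 (by norm_num)
theorem pr_12326813 : Nat.Prime 12326813 := by norm_num
theorem seg_12326813 : ∀ n : ℕ, 12326813 ≤ n → n < 12380171 → ChainP n :=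
  chainP_leaf 12326813 12380171 pr_12326813 (by norm_num)
theorem pr_12380171 : Nat.Prime 12380171 := by norm_num
theorem seg_12380171 : ∀ n : ℕ, 12380171 ≤ n → n < 12433627 → ChainP n :=
  chainP_leaf 12380171 12433627 pr_12380171 (by norm_num)
theorem pr_12433627 : Nat.Prime 12433627 := by norm_num
theorem seg_12433627 : ∀ n : ℕ, 12433627 ≤ n → n < 12487273 → ChainP n :=
  chainP_leaf 12433627 12487273 pr_12433627 (by norm_num)
theorem pr_12487273 : Nat.Prime 12487273 := by norm_num
theorem seg_12487273 : ∀ n : ℕ, 12487273 ≤ n → n < 12541093 → ChainP n :=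
  chainP_leaf 12487273 12541093 pr_12487273 (by norm_num)
theorem pr_12541093 : Nat.Prime 12541093 := by norm_num
theorem seg_12541093 : ∀ n : ℕ, 12541093 ≤ n → n < 12595039 → ChainP n :=
  chainP_leaf 12541093 12595039 pr_12541093 (by norm_num)
theorem pr_12595039 : Nat.Prime 12595039 := by norm_num
theorem seg_12595039 : ∀ n : ℕ, 12595039 ≤ n → n < 12649171 → ChainP n :=
  chainP_leaf 12595039 12649171 pr_12595039 (by norm_num)
theorem pr_12649171 : Nat.Prime 12649171 := by norm_num
theorem seg_12649171 : ∀ n : ℕ, 12649171 ≤ n → n < 12703367 → ChainP n :=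
  chainP_leaf 12649171 12703367 pr_12649171 (by norm_num)
theorem pr_12703367 : Nat.Prime 12703367 := by norm_num
theorem seg_12703367 : ∀ n : ℕ, 12703367 ≤ n → n < 12757807 → ChainP n :=
  chainP_leaf 12703367 12757807 pr_12703367 (by norm_num)
theorem pr_12757807 : Nat.Prime 12757807 := by norm_num
theorem seg_12757807 : ∀ n : ℕ, 12757807 ≤ n → n < 12812389 → ChainP n :=
  chainP_leaf 12757807 12812389 pr_12757807 (by norm_num)
theorem pr_12812389 : Nat.Prime 12812389 := by norm_num
theorem seg_12812389 : ∀ n : ℕ, 12812389 ≤ n → n < 12867131 → ChainP n :=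
  chainP_leaf 12812389 12867131 pr_12812389 (by norm_num)
theorem pr_12867131 : Nat.Prime 12867131 := by norm_num
theorem seg_12867131 : ∀ n : ℕ, 12867131 ≤ n → n < 12922031 → ChainP n :=
  chainP_leaf 12867131 12922031 pr_12867131 (by norm_num)
theorem pr_12922031 : Nat.Prime 12922031 := by norm_num
theorem seg_12922031 : ∀ n : ℕ, 12922031 ≤ n → n < 12977087 → ChainP n :=
  chainP_leaf 12922031 12977087 pr_12922031 (by norm_num)
theorem pr_12977087 : Nat.Prime 12977087 := by norm_num
theorem seg_12977087 : ∀ n : ℕ, 12977087 ≤ n → n < 13032293 → ChainP n :=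
  chainP_leaf 12977087 13032293 pr_12977087 (by norm_num)
theorem pr_13032293 : Nat.Prime 13032293 := by norm_num
theorem seg_13032293 : ∀ n : ℕ, 13032293 ≤ n → n < 13087649 → ChainP n :=
  chainP_leaf 13032293 13087649 pr_13032293 (by norm_num)
theorem pr_13087649 : Nat.Prime 13087649 := by norm_num
theorem seg_13087649 : ∀ n : ℕ, 13087649 ≤ n → n < 13143173 → ChainP n :=
  chainP_leaf 13087649 13143173 pr_13087649 (by norm_num)
theorem pr_13143173 : Nat.Prime 13143173 := by norm_num
theorem seg_13143173 : ∀ n : ℕ, 13143173 ≤ n → n < 13198859 → ChainP n :=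
  chainP_leaf 13143173 13198859 pr_13143173 (by norm_num)
theorem pr_13198859 : Nat.Prime 13198859 := by norm_num
theorem seg_13198859 : ∀ n : ℕ, 13198859 ≤ n → n < 13254691 → ChainP n :=
  chainP_leaf 13198859 13254691 pr_13198859 (by norm_num)
theorem pr_13254691 : Nat.Prime 13254691 := by norm_num
theorem seg_13254691 : ∀ n : ℕ, 13254691 ≤ n → n < 13310669 → ChainP n :=
  chainP_leaf 13254691 13310669 pr_13254691 (by norm_num)
theorem pr_13310669 : Nat.Prime 13310669 := by norm_num
theorem seg_13310669 : ∀ n : ℕ, 13310669 ≤ n → n < 13366831 → ChainP n :=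
  chainP_leaf 13310669 13366831 pr_13310669 (by norm_num)
theorem pr_13366831 : Nat.Prime 13366831 := by norm_num
theorem seg_13366831 : ∀ n : ℕ, 13366831 ≤ n → n < 13423117 → ChainP n :=
  chainP_leaf 13366831 13423117 pr_13366831 (by norm_num)
theorem pr_13423117 : Nat.Prime 13423117 := by norm_num
theorem seg_13423117 : ∀ n : ℕ, 13423117 ≤ n → n < 13479559 → ChainP n :=
  chainP_leaf 13423117 13479559 pr_13423117 (by norm_num)
theorem pr_13479559 : Nat.Prime 13479559 := by norm_num
theorem seg_13479559 : ∀ n : ℕ, 13479559 ≤ n → n < 13536197 → ChainP n :=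
  chainP_leaf 13479559 13536197 pr_13479559 (by norm_num)
theorem pr_13536197 : Nat.Prime 13536197 := by norm_num
theorem seg_13536197 : ∀ n : ℕ, 13536197 ≤ n → n < 13592989 → ChainP n :=
  chainP_leaf 13536197 13592989 pr_13536197 (by norm_num)
theorem pr_13592989 : Nat.Prime 13592989 := by norm_num
theorem seg_13592989 : ∀ n : ℕ, 13592989 ≤ n → n < 13649917 → ChainP n :=
  chainP_leaf 13592989 13649917 pr_13592989 (by norm_num)
theorem pr_13649917 : Nat.Prime 13649917 := by norm_num
theorem seg_13649917 : ∀ n : ℕ, 13649917 ≤ n → n < 13707017 → ChainP n :=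
  chainP_leaf 13649917 13707017 pr_13649917 (by norm_num)
theorem pr_13707017 : Nat.Prime 13707017 := by norm_num
theorem seg_13707017 : ∀ n : ℕ, 13707017 ≤ n → n < 13764263 → ChainP n :=
  chainP_leaf 13707017 13764263 pr_13707017 (by norm_num)
theorem pr_13764263 : Nat.Prime 13764263 := by norm_num
theorem seg_13764263 : ∀ n : ℕ, 13764263 ≤ n → n < 13821677 → ChainP n :=
  chainP_leaf 13764263 13821677 pr_13764263 (by norm_num)
theorem pr_13821677 : Nat.Prime 13821677 := by norm_num
theorem seg_13821677 : ∀ n : ℕ, 13821677 ≤ n → n < 13879267 → ChainP n :=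
  chainP_leaf 13821677 13879267 pr_13821677 (by norm_num)
theorem pr_13879267 : Nat.Prime 13879267 := by norm_num
theorem seg_13879267 : ∀ n : ℕ, 13879267 ≤ n → n < 13937017 → ChainP n :=
  chainP_leaf 13879267 13937017 pr_13879267 (by norm_num)
theorem pr_13937017 : Nat.Prime 13937017 := by norm_num
theorem seg_13937017 : ∀ n : ℕ, 13937017 ≤ n → n < 13994923 → ChainP n :=
  chainP_leaf 13937017 13994923 pr_13937017 (by norm_num)
theorem pr_13994923 : Nat.Prime 13994923 := by norm_num
theorem seg_13994923 : ∀ n : ℕ, 13994923 ≤ n → n < 14052991 → ChainP n :=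
  chainP_leaf 13994923 14052991 pr_13994923 (by norm_num)
theorem pr_14052991 : Nat.Prime 14052991 := by norm_num
theorem seg_14052991 : ∀ n : ℕ, 14052991 ≤ n → n < 14111219 → ChainP n :=
  chainP_leaf 14052991 14111219 pr_14052991 (by norm_num)
theorem pr_14111219 : Nat.Prime 14111219 := by norm_num
theorem seg_14111219 : ∀ n : ℕ, 14111219 ≤ n → n < 14169613 → ChainP n :=
  chainP_leaf 14111219 14169613 pr_14111219 (by norm_num)
theorem pr_14169613 : Nat.Prime 14169613 := by norm_num
theorem seg_14169613 : ∀ n : ℕ, 14169613 ≤ n → n < 14228161 → ChainP n :=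
  chainP_leaf 14169613 14228161 pr_14169613 (by norm_num)
theorem pr_14228161 : Nat.Prime 14228161 := by norm_num
theorem seg_14228161 : ∀ n : ℕ, 14228161 ≤ n → n < 14286863 → ChainP n :=
  chainP_leaf 14228161 14286863 pr_14228161 (by norm_num)
theorem pr_14286863 : Nat.Prime 14286863 := by norm_num
theorem seg_14286863 : ∀ n : ℕ, 14286863 ≤ n → n < 14345717 → ChainP n :=
  chainP_leaf 14286863 14345717 pr_14286863 (by norm_num)
theorem pr_14345717 : Nat.Prime 14345717 := by norm_num
theorem seg_14345717 : ∀ n : ℕ, 14345717 ≤ n → n < 14404757 → ChainP n :=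
  chainP_leaf 14345717 14404757 pr_14345717 (by norm_num)
theorem pr_14404757 : Nat.Prime 14404757 := by norm_num
theorem seg_14404757 : ∀ n : ℕ, 14404757 ≤ n → n < 14463881 → ChainP n :=
  chainP_leaf 14404757 14463881 pr_14404757 (by norm_num)
theorem pr_14463881 : Nat.Prime 14463881 := by norm_num
theorem seg_14463881 : ∀ n : ℕ, 14463881 ≤ n → n < 14523241 → ChainP n :=
  chainP_leaf 14463881 14523241 pr_14463881 (by norm_num)
theorem pr_14523241 : Nat.Prime 14523241 := by norm_num
theorem seg_14523241 : ∀ n : ℕ, 14523241 ≤ n → n < 14582767 → ChainP n :=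
  chainP_leaf 14523241 14582767 pr_14523241 (by norm_num)
theorem pr_14582767 : Nat.Prime 14582767 := by norm_num
theorem seg_14582767 : ∀ n : ℕ, 14582767 ≤ n → n < 14642449 → ChainP n :=
  chainP_leaf 14582767 14642449 pr_14582767 (by norm_num)
theorem pr_14642449 : Nat.Prime 14642449 := by norm_num
theorem seg_14642449 : ∀ n : ℕ, 14642449 ≤ n → n < 14702293 → ChainP n :=
  chainP_leaf 14642449 14702293 pr_14642449 (by norm_num)
theorem pr_14702293 : Nat.Prime 14702293 := by norm_num
theorem seg_14702293 : ∀ n : ℕ, 14702293 ≤ n → n < 14762291 → ChainP n :=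
  chainP_leaf 14702293 14762291 pr_14702293 (by norm_num)
theorem pr_14762291 : Nat.Prime 14762291 := by norm_num
theorem seg_14762291 : ∀ n : ℕ, 14762291 ≤ n → n < 14822461 → ChainP n :=
  chainP_leaf 14762291 14822461 pr_14762291 (by norm_num)
theorem pr_14822461 : Nat.Prime 14822461 := by norm_num
theorem seg_14822461 : ∀ n : ℕ, 14822461 ≤ n → n < 14882789 → ChainP n :=
  chainP_leaf 14822461 14882789 pr_14822461 (by norm_num)
theorem pr_14882789 : Nat.Prime 14882789 := by norm_num
theorem seg_14882789 : ∀ n : ℕ, 14882789 ≤ n → n < 14943283 → ChainP n :=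
  chainP_leaf 14882789 14943283 pr_14882789 (by norm_num)
theorem pr_14943283 : Nat.Prime 14943283 := by norm_num
theorem seg_14943283 : ∀ n : ℕ, 14943283 ≤ n → n < 15003931 → ChainP n :=
  chainP_leaf 14943283 15003931 pr_14943283 (by norm_num)
theorem pr_15003931 : Nat.Prime 15003931 := by norm_num
theorem seg_15003931 : ∀ n : ℕ, 15003931 ≤ n → n < 15064759 → ChainP n :=
  chainP_leaf 15003931 15064759 pr_15003931 (by norm_num)
theorem pr_15064759 : Nat.Prime 15064759 := by norm_num
theorem seg_15064759 : ∀ n : ℕ, 15064759 ≤ n → n < 15125753 → ChainP n :=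
  chainP_leaf 15064759 15125753 pr_15064759 (by norm_num)
theorem pr_15125753 : Nat.Prime 15125753 := by norm_num
theorem seg_15125753 : ∀ n : ℕ, 15125753 ≤ n → n < 15186911 → ChainP n :=
  chainP_leaf 15125753 15186911 pr_15125753 (by norm_num)
theorem pr_15186911 : Nat.Prime 15186911 := by norm_num
theorem seg_15186911 : ∀ n : ℕ, 15186911 ≤ n → n < 15248227 → ChainP n :=
  chainP_leaf 15186911 15248227 pr_15186911 (by norm_num)
theorem pr_15248227 : Nat.Prime 15248227 := by norm_num
theorem seg_15248227 : ∀ n : ℕ, 15248227 ≤ n → n < 15309713 → ChainP n :=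
  chainP_leaf 15248227 15309713 pr_15248227 (by norm_num)
theorem pr_15309713 : Nat.Prime 15309713 := by norm_num
theorem seg_15309713 : ∀ n : ℕ, 15309713 ≤ n → n < 15371359 → ChainP n :=
  chainP_leaf 15309713 15371359 pr_15309713 (by norm_num)
theorem pr_15371359 : Nat.Prime 15371359 := by norm_num
theorem seg_15371359 : ∀ n : ℕ, 15371359 ≤ n → n < 15433169 → ChainP n :=
  chainP_leaf 15371359 15433169 pr_15371359 (by norm_num)
theorem pr_15433169 : Nat.Prime 15433169 := by norm_num
theorem seg_15433169 : ∀ n : ℕ, 15433169 ≤ n → n < 15495131 → ChainP n :=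
  chainP_leaf 15433169 15495131 pr_15433169 (by norm_num)
theorem pr_15495131 : Nat.Prime 15495131 := by norm_num
theorem seg_15495131 : ∀ n : ℕ, 15495131 ≤ n → n < 15557251 → ChainP n :=
  chainP_leaf 15495131 15557251 pr_15495131 (by norm_num)
theorem pr_15557251 : Nat.Prime 15557251 := by norm_num
theorem seg_15557251 : ∀ n : ℕ, 15557251 ≤ n → n < 15619561 → ChainP n :=
  chainP_leaf 15557251 15619561 pr_15557251 (by norm_num)
theorem pr_15619561 : Nat.Prime 15619561 := by norm_num
theorem seg_15619561 : ∀ n : ℕ, 15619561 ≤ n → n < 15682019 → ChainP n :=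
  chainP_leaf 15619561 15682019 pr_15619561 (by norm_num)
theorem pr_15682019 : Nat.Prime 15682019 := by norm_num
theorem seg_15682019 : ∀ n : ℕ, 15682019 ≤ n → n < 15744653 → ChainP n :=
  chainP_leaf 15682019 15744653 pr_15682019 (by norm_num)
theorem pr_15744653 : Nat.Prime 15744653 := by norm_num
theorem seg_15744653 : ∀ n : ℕ, 15744653 ≤ n → n < 15807469 → ChainP n :=
  chainP_leaf 15744653 15807469 pr_15744653 (by norm_num)
theorem pr_15807469 : Nat.Prime 15807469 := by norm_num
theorem seg_15807469 : ∀ n : ℕ, 15807469 ≤ n → n < 15870451 → ChainP n :=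
  chainP_leaf 15807469 15870451 pr_15807469 (by norm_num)
theorem pr_15870451 : Nat.Prime 15870451 := by norm_num
theorem seg_15870451 : ∀ n : ℕ, 15870451 ≤ n → n < 15933583 → ChainP n :=
  chainP_leaf 15870451 15933583 pr_15870451 (by norm_num)
theorem pr_15933583 : Nat.Prime 15933583 := by norm_num
theorem seg_15933583 : ∀ n : ℕ, 15933583 ≤ n → n < 15996889 → ChainP n :=
  chainP_leaf 15933583 15996889 pr_15933583 (by norm_num)
theorem pr_15996889 : Nat.Prime 15996889 := by norm_num
theorem seg_15996889 : ∀ n : ℕ, 15996889 ≤ n → n < 16060367 → ChainP n :=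
  chainP_leaf 15996889 16060367 pr_15996889 (by norm_num)
theorem pr_16060367 : Nat.Prime 16060367 := by norm_num
theorem seg_16060367 : ∀ n : ℕ, 16060367 ≤ n → n < 16123997 → ChainP n :=
  chainP_leaf 16060367 16123997 pr_16060367 (by norm_num)
theorem pr_16123997 : Nat.Prime 16123997 := by norm_num
theorem seg_16123997 : ∀ n : ℕ, 16123997 ≤ n → n < 16187813 → ChainP n :=
  chainP_leaf 16123997 16187813 pr_16123997 (by norm_num)
theorem pr_16187813 : Nat.Prime 16187813 := by norm_num
theorem seg_16187813 : ∀ n : ℕ, 16187813 ≤ n → n < 16251799 → ChainP n :=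
  chainP_leaf 16187813 16251799 pr_16187813 (by norm_num)
theorem pr_16251799 : Nat.Prime 16251799 := by norm_num
theorem seg_16251799 : ∀ n : ℕ, 16251799 ≤ n → n < 16315939 → ChainP n :=
  chainP_leaf 16251799 16315939 pr_16251799 (by norm_num)
theorem pr_16315939 : Nat.Prime 16315939 := by norm_num
theorem seg_16315939 : ∀ n : ℕ, 16315939 ≤ n → n < 16380263 → ChainP n :=
  chainP_leaf 16315939 16380263 pr_16315939 (by norm_num)
theorem pr_16380263 : Nat.Prime 16380263 := by norm_num
theorem seg_16380263 : ∀ n : ℕ, 16380263 ≤ n → n < 16444751 → ChainP n :=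
  chainP_leaf 16380263 16444751 pr_16380263 (by norm_num)
theorem pr_16444751 : Nat.Prime 16444751 := by norm_num
theorem seg_16444751 : ∀ n : ℕ, 16444751 ≤ n → n < 16509407 → ChainP n :=
  chainP_leaf 16444751 16509407 pr_16444751 (by norm_num)
theorem pr_16509407 : Nat.Prime 16509407 := by norm_num
theorem seg_16509407 : ∀ n : ℕ, 16509407 ≤ n → n < 16574231 → ChainP n :=
  chainP_leaf 16509407 16574231 pr_16509407 (by norm_num)
theorem pr_16574231 : Nat.Prime 16574231 := by norm_num
theorem seg_16574231 : ∀ n : ℕ, 16574231 ≤ n → n < 16639223 → ChainP n :=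
  chainP_leaf 16574231 16639223 pr_16574231 (by norm_num)
theorem pr_16639223 : Nat.Prime 16639223 := by norm_num
theorem seg_16639223 : ∀ n : ℕ, 16639223 ≤ n → n < 16704397 → ChainP n :=
  chainP_leaf 16639223 16704397 pr_16639223 (by norm_num)
theorem pr_16704397 : Nat.Prime 16704397 := by norm_num
theorem seg_16704397 : ∀ n : ℕ, 16704397 ≤ n → n < 16769719 → ChainP n :=
  chainP_leaf 16704397 16769719 pr_16704397 (by norm_num)
theorem pr_16769719 : Nat.Prime 16769719 := by norm_num
theorem seg_16769719 : ∀ n : ℕ, 16769719 ≤ n → n < 16835233 → ChainP n :=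
  chainP_leaf 16769719 16835233 pr_16769719 (by norm_num)

theorem chainD : ∀ n : ℕ, 10748011 ≤ n → n < 16835233 → ChainP n :=
  (chainP_join 10748011 13536197 16835233 (chainP_join 10748011 12062357 13536197 (chainP_join 10748011 11392529 12062357 (chainP_join 10748011 11042399 11392529 (chainP_join 10748011 10894549 11042399 (chainP_join 10748011 10796713 10894549 seg_10748011 (chainP_join 10796713 10845559 10894549 seg_10796713 seg_10845559)) (chainP_join 10894549 10943689 11042399 seg_10894549 (chainP_join 10943689 10992973 11042399 seg_10943689 seg_10992973))) (chainP_join 11042399 11191577 11392529 (chainP_join 11042399 11091959 11191577 seg_11042399 (chainP_join 11091959 11141693 11191577 seg_11091959 seg_11141693)) (chainP_join 11191577 11291747 11392529 (chainP_join 11191577 11241583 11291747 seg_11191577 seg_11241583) (chainP_join 11291747 11342057 11392529 seg_11291747 seg_11342057)))) (chainP_join 11392529 11698529 12062357 (chainP_join 11392529 11544859 11698529 (chainP_join 11392529 11443153 11544859 seg_11392529 (chainP_join 11443153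 11493931 11544859 seg_11443153 seg_11493931)) (chainP_join 11544859 11595931 11698529 seg_11544859 (chainP_join 11595931 11647151 11698529 seg_11595931 seg_11647151))) (chainP_join 11698529 11853529 12062357 (chainP_join 11698529 11750059 11853529 seg_11698529 (chainP_join 11750059 11801701 11853529 seg_11750059 seg_11801701)) (chainP_join 11853529 11957633 12062357 (chainP_join 11853529 11905501 11957633 seg_11853529 seg_11905501) (chainP_join 11957633 12009923 12062357 seg_11957633 seg_12009923))))) (chainP_join 12062357 12757807 13536197 (chainP_join 12062357 12380171 12757807 (chainP_join 12062357 12220573 12380171 (chainP_join 12062357 12114937 12220573 seg_12062357 (chainP_join 12114937 12167681 12220573 seg_12114937 seg_12167681)) (chainP_join 12220573 12273623 12380171 seg_12220573 (chainP_join 12273623 12326813 12380171 seg_12273623 seg_12326813))) (chainP_join 12380171 12541093 12757807 (chainP_join 12380171 12433627 12541093 seg_12380171 (chainP_join 12433627 12487273 12541093 seg_12433627 seg_12487273)) (chainP_join 12541093 12649171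 12757807 (chainP_join 12541093 12595039 12649171 seg_12541093 seg_12595039) (chainP_join 12649171 12703367 12757807 seg_12649171 seg_12703367)))) (chainP_join 12757807 13143173 13536197 (chainP_join 12757807 12922031 13143173 (chainP_join 12757807 12812389 12922031 seg_12757807 (chainP_join 12812389 12867131 12922031 seg_12812389 seg_12867131)) (chainP_join 12922031 13032293 13143173 (chainP_join 12922031 12977087 13032293 seg_12922031 seg_12977087) (chainP_join 13032293 13087649 13143173 seg_13032293 seg_13087649))) (chainP_join 13143173 13310669 13536197 (chainP_join 13143173 13198859 13310669 seg_13143173 (chainP_join 13198859 13254691 13310669 seg_13198859 seg_13254691)) (chainP_join 13310669 13423117 13536197 (chainP_join 13310669 13366831 13423117 seg_13310669 seg_13366831) (chainP_join 13423117 13479559 13536197 seg_13423117 seg_13479559)))))) (chainP_join 13536197 15125753 16835233 (chainP_join 13536197 14286863 15125753 (chainP_join 13536197 13879267 14286863 (chainP_join 13536197 13707017 13879267 (chainP_join 13536197 13592989 13707017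 seg_13536197 (chainP_join 13592989 13649917 13707017 seg_13592989 seg_13649917)) (chainP_join 13707017 13764263 13879267 seg_13707017 (chainP_join 13764263 13821677 13879267 seg_13764263 seg_13821677))) (chainP_join 13879267 14052991 14286863 (chainP_join 13879267 13937017 14052991 seg_13879267 (chainP_join 13937017 13994923 14052991 seg_13937017 seg_13994923)) (chainP_join 14052991 14169613 14286863 (chainP_join 14052991 14111219 14169613 seg_14052991 seg_14111219) (chainP_join 14169613 14228161 14286863 seg_14169613 seg_14228161)))) (chainP_join 14286863 14702293 15125753 (chainP_join 14286863 14463881 14702293 (chainP_join 14286863 14345717 14463881 seg_14286863 (chainP_join 14345717 14404757 14463881 seg_14345717 seg_14404757)) (chainP_join 14463881 14582767 14702293 (chainP_join 14463881 14523241 14582767 seg_14463881 seg_14523241) (chainP_join 14582767 14642449 14702293 seg_14582767 seg_14642449))) (chainP_join 14702293 14882789 15125753 (chainP_join 14702293 14762291 14882789 seg_14702293 (chainP_join 14762291 14822461 14882789 seg_14762291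 seg_14822461)) (chainP_join 14882789 15003931 15125753 (chainP_join 14882789 14943283 15003931 seg_14882789 seg_14943283) (chainP_join 15003931 15064759 15125753 seg_15003931 seg_15064759))))) (chainP_join 15125753 15933583 16835233 (chainP_join 15125753 15495131 15933583 (chainP_join 15125753 15309713 15495131 (chainP_join 15125753 15186911 15309713 seg_15125753 (chainP_join 15186911 15248227 15309713 seg_15186911 seg_15248227)) (chainP_join 15309713 15371359 15495131 seg_15309713 (chainP_join 15371359 15433169 15495131 seg_15371359 seg_15433169))) (chainP_join 15495131 15682019 15933583 (chainP_join 15495131 15557251 15682019 seg_15495131 (chainP_join 15557251 15619561 15682019 seg_15557251 seg_15619561)) (chainP_join 15682019 15807469 15933583 (chainP_join 15682019 15744653 15807469 seg_15682019 seg_15744653) (chainP_join 15807469 15870451 15933583 seg_15807469 seg_15870451)))) (chainP_join 15933583 16380263 16835233 (chainP_join 15933583 16123997 16380263 (chainP_join 15933583 15996889 16123997 seg_15933583 (chainP_join 15996889 16060367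 16123997 seg_15996889 seg_16060367)) (chainP_join 16123997 16251799 16380263 (chainP_join 16123997 16187813 16251799 seg_16123997 seg_16187813) (chainP_join 16251799 16315939 16380263 seg_16251799 seg_16315939))) (chainP_join 16380263 16574231 16835233 (chainP_join 16380263 16444751 16574231 seg_16380263 (chainP_join 16444751 16509407 16574231 seg_16444751 seg_16509407)) (chainP_join 16574231 16704397 16835233 (chainP_join 16574231 16639223 16704397 seg_16574231 seg_16639223) (chainP_join 16704397 16769719 16835233 seg_16704397 seg_16769719)))))))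

end Cfsg.Agent.Lib.H14.SS
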