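import Cfsg.Agent.Lib.H14.SSChainA
import Cfsg.Agent.Lib.H14.SSChainB
import Cfsg.Agent.Lib.H14.SSChainC
import Cfsg.Agent.Lib.H14.SSChainD

/-! Sylvester-Schur block (S3571 NT): piece SS0 (divisibility criterion) and piece SS11
(the prime chain from 37 up to 2^24, in three shapes). Mathlib only. -/

set_option autoImplicit false

namespace Cfsg.Agent.Lib.H14.SS

/-- SS0: a prime `p > k` with `n % p < k` divides `n.choose k`. -/
theorem prime_dvd_choose_of_mod_lt {n k p : ℕ} (hp : p.Prime) (hkp : k < p)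
    (hmod : n % p < k) : p ∣ n.choose k := by
  have h1 : n.descFactorial k = k.factorial * n.choose k :=
    Nat.descFactorial_eq_factorial_mul_choose n k
  have h2 : p ∣ n.descFactorial k := by
    rw [Nat.descFactorial_eq_prod_range]
    have hmem : n % p ∈ Finset.range k := Finset.mem_range.mpr hmod
    refine dvd_trans ?_ (Finset.dvd_prod_of_mem (fun i => n - i) hmem)
    have h3 : n - n % p = p * (n / p) := by
      have := Nat.div_add_mod n p
      omega
    rw [h3]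
    exact dvd_mul_right _ _
  rw [h1] at h2
  rcases (Nat.Prime.dvd_mul hp).1 h2 with h | h
  · exfalso
    have := (Nat.Prime.dvd_factorial hp).1 h
    omega
  · exact h

/-- SS11, shape (A0): the chain, `ChainP` form. -/
theorem chainP_all : ∀ n : ℕ, 37 ≤ n → n < 16835233 → ChainP n :=
  chainP_join 37 5278349 16835233
    (chainP_join 37 1366303 5278349 chainA chainB)
    (chainP_join 5278349 10748011 16835233 chainC chainD)

/-- SS11, shape (A): every `n` with `37 ≤ n < 2^24` lies in a window `[q, q')` with `q` prime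
and `(q' - q)^3 ≤ q^2`. -/
theorem chain : ∀ n : ℕ, 37 ≤ n → n < 2 ^ 24 →
    ∃ q q' : ℕ, q.Prime ∧ q ≤ n ∧ n < q' ∧ (q' - q) ^ 3 ≤ q ^ 2 :=
  fun n h1 h2 => chainP_all n h1 (lt_of_lt_of_le h2 (by norm_num))

/-- SS11, shape (B): if `n^2 < k^3` then the window `(n - k, n]` contains a prime. -/
theorem prime_in_window : ∀ n k : ℕ, 37 ≤ n → n < 2 ^ 24 → n ^ 2 < k ^ 3 →
    ∃ p : ℕ, p.Prime ∧ n - k < p ∧ p ≤ n := by
  intro n k h1 h2 h3
  obtain ⟨q, q', hq, hqn, hnq', hgap⟩ := chain n h1 h2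
  have h4 : (q' - q) ^ 3 < k ^ 3 :=
    lt_of_le_of_lt hgap (lt_of_le_of_lt (Nat.pow_le_pow_left hqn 2) h3)
  have h5 : q' - q < k := lt_of_pow_lt_pow_left₀ 3 (Nat.zero_le _) h4
  have h6 : 0 < q := hq.pos
  exact ⟨q, hq, by omega, hqn⟩

/-- SS11, shape (C): Sylvester-Schur in the range `37 ≤ n < 2^24`, `n^2 < k^3`. -/
theorem ss_small : ∀ n k : ℕ, 2 * k ≤ n → 37 ≤ n → n < 2 ^ 24 → n ^ 2 < k ^ 3 →
    ∃ p : ℕ, p.Prime ∧ k < p ∧ p ∣ n.choose k := by
  intro n k hk h1 h2 h3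
  obtain ⟨p, hp, hlo, hhi⟩ := prime_in_window n k h1 h2 h3
  have hkp : k < p := by omega
  refine ⟨p, hp, hkp, prime_dvd_choose_of_mod_lt hp hkp ?_⟩
  have h6 : n % p = n - p := by
    rw [Nat.mod_eq_sub_mod hhi]
    exact Nat.mod_eq_of_lt (by omega)
  omega

end Cfsg.Agent.Lib.H14.SS
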