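import Cfsg.Agent.Lib.H14.SSChainDefs

/-! Generated: chain primes 16835233 .. 23949883 (part E) for SS11 (Sylvester-Schur, S3571 NT block). -/

set_option autoImplicit false
set_option maxRecDepth 100000

namespace Cfsg.Agent.Lib.H14.SS

theorem pr_16835233 : Nat.Prime 16835233 := by norm_num
theorem seg_16835233 : ∀ n : ℕ, 16835233 ≤ n → n < 16900909 → ChainP n :=
  chainP_leaf 16835233 16900909 pr_16835233 (by norm_num)
theorem pr_16900909 : Nat.Prime 16900909 := by norm_num
theorem seg_16900909 : ∀ n : ℕ, 16900909 ≤ n → n < 16966717 → ChainP n :=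
  chainP_leaf 16900909 16966717 pr_16900909 (by norm_num)
theorem pr_16966717 : Nat.Prime 16966717 := by norm_num
theorem seg_16966717 : ∀ n : ℕ, 16966717 ≤ n → n < 17032723 → ChainP n :=
  chainP_leaf 16966717 17032723 pr_16966717 (by norm_num)
theorem pr_17032723 : Nat.Prime 17032723 := by norm_num
theorem seg_17032723 : ∀ n : ℕ, 17032723 ≤ n → n < 17098919 → ChainP n :=
  chainP_leaf 17032723 17098919 pr_17032723 (by norm_num)
theorem pr_17098919 : Nat.Prime 17098919 := by norm_num
theorem seg_17098919 : ∀ n : ℕ, 17098919 ≤ n → n < 17165273 → ChainP n :=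
  chainP_leaf 17098919 17165273 pr_17098919 (by norm_num)
theorem pr_17165273 : Nat.Prime 17165273 := by norm_num
theorem seg_17165273 : ∀ n : ℕ, 17165273 ≤ n → n < 17231813 → ChainP n :=
  chainP_leaf 17165273 17231813 pr_17165273 (by norm_num)
theorem pr_17231813 : Nat.Prime 17231813 := by norm_num
theorem seg_17231813 : ∀ n : ℕ, 17231813 ≤ n → n < 17298517 → ChainP n :=
  chainP_leaf 17231813 17298517 pr_17231813 (by norm_num)
theorem pr_17298517 : Nat.Prime 17298517 := by norm_num
theorem seg_17298517 : ∀ n : ℕ, 17298517 ≤ n → n < 17365399 → ChainP n :=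
  chainP_leaf 17298517 17365399 pr_17298517 (by norm_num)
theorem pr_17365399 : Nat.Prime 17365399 := by norm_num
theorem seg_17365399 : ∀ n : ℕ, 17365399 ≤ n → n < 17432449 → ChainP n :=
  chainP_leaf 17365399 17432449 pr_17365399 (by norm_num)
theorem pr_17432449 : Nat.Prime 17432449 := by norm_num
theorem seg_17432449 : ∀ n : ℕ, 17432449 ≤ n → n < 17499649 → ChainP n :=
  chainP_leaf 17432449 17499649 pr_17432449 (by norm_num)
theorem pr_17499649 : Nat.Prime 17499649 := by norm_num
theorem seg_17499649 : ∀ n : ℕ, 17499649 ≤ n → n < 17567051 → ChainP n :=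
  chainP_leaf 17499649 17567051 pr_17499649 (by norm_num)
theorem pr_17567051 : Nat.Prime 17567051 := by norm_num
theorem seg_17567051 : ∀ n : ℕ, 17567051 ≤ n → n < 17634613 → ChainP n :=
  chainP_leaf 17567051 17634613 pr_17567051 (by norm_num)
theorem pr_17634613 : Nat.Prime 17634613 := by norm_num
theorem seg_17634613 : ∀ n : ℕ, 17634613 ≤ n → n < 17702329 → ChainP n :=
  chainP_leaf 17634613 17702329 pr_17634613 (by norm_num)
theorem pr_17702329 : Nat.Prime 17702329 := by norm_num
theorem seg_17702329 : ∀ n : ℕ, 17702329 ≤ n → n < 17770231 → ChainP n :=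
  chainP_leaf 17702329 17770231 pr_17702329 (by norm_num)
theorem pr_17770231 : Nat.Prime 17770231 := by norm_num
theorem seg_17770231 : ∀ n : ℕ, 17770231 ≤ n → n < 17838313 → ChainP n :=
  chainP_leaf 17770231 17838313 pr_17770231 (by norm_num)
theorem pr_17838313 : Nat.Prime 17838313 := by norm_num
theorem seg_17838313 : ∀ n : ℕ, 17838313 ≤ n → n < 17906573 → ChainP n :=
  chainP_leaf 17838313 17906573 pr_17838313 (by norm_num)
theorem pr_17906573 : Nat.Prime 17906573 := by norm_num
theorem seg_17906573 : ∀ n : ℕ, 17906573 ≤ n → n < 17975017 → ChainP n :=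
  chainP_leaf 17906573 17975017 pr_17906573 (by norm_num)
theorem pr_17975017 : Nat.Prime 17975017 := by norm_num
theorem seg_17975017 : ∀ n : ℕ, 17975017 ≤ n → n < 18043633 → ChainP n :=
  chainP_leaf 17975017 18043633 pr_17975017 (by norm_num)
theorem pr_18043633 : Nat.Prime 18043633 := by norm_num
theorem seg_18043633 : ∀ n : ℕ, 18043633 ≤ n → n < 18112399 → ChainP n :=
  chainP_leaf 18043633 18112399 pr_18043633 (by norm_num)
theorem pr_18112399 : Nat.Prime 18112399 := by norm_num
theorem seg_18112399 : ∀ n : ℕ, 18112399 ≤ n → n < 18181367 → ChainP n :=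
  chainP_leaf 18112399 18181367 pr_18112399 (by norm_num)
theorem pr_18181367 : Nat.Prime 18181367 := by norm_num
theorem seg_18181367 : ∀ n : ℕ, 18181367 ≤ n → n < 18250499 → ChainP n :=
  chainP_leaf 18181367 18250499 pr_18181367 (by norm_num)
theorem pr_18250499 : Nat.Prime 18250499 := by norm_num
theorem seg_18250499 : ∀ n : ℕ, 18250499 ≤ n → n < 18319817 → ChainP n :=
  chainP_leaf 18250499 18319817 pr_18250499 (by norm_num)
theorem pr_18319817 : Nat.Prime 18319817 := by norm_num
theorem seg_18319817 : ∀ n : ℕ, 18319817 ≤ n → n < 18389309 → ChainP n :=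
  chainP_leaf 18319817 18389309 pr_18319817 (by norm_num)
theorem pr_18389309 : Nat.Prime 18389309 := by norm_num
theorem seg_18389309 : ∀ n : ℕ, 18389309 ≤ n → n < 18458977 → ChainP n :=
  chainP_leaf 18389309 18458977 pr_18389309 (by norm_num)
theorem pr_18458977 : Nat.Prime 18458977 := by norm_num
theorem seg_18458977 : ∀ n : ℕ, 18458977 ≤ n → n < 18528751 → ChainP n :=
  chainP_leaf 18458977 18528751 pr_18458977 (by norm_num)
theorem pr_18528751 : Nat.Prime 18528751 := by norm_num
theorem seg_18528751 : ∀ n : ℕ, 18528751 ≤ n → n < 18598771 → ChainP n :=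
  chainP_leaf 18528751 18598771 pr_18528751 (by norm_num)
theorem pr_18598771 : Nat.Prime 18598771 := by norm_num
theorem seg_18598771 : ∀ n : ℕ, 18598771 ≤ n → n < 18668959 → ChainP n :=
  chainP_leaf 18598771 18668959 pr_18598771 (by norm_num)
theorem pr_18668959 : Nat.Prime 18668959 := by norm_num
theorem seg_18668959 : ∀ n : ℕ, 18668959 ≤ n → n < 18739289 → ChainP n :=
  chainP_leaf 18668959 18739289 pr_18668959 (by norm_num)
theorem pr_18739289 : Nat.Prime 18739289 := by norm_num
theorem seg_18739289 : ∀ n : ℕ, 18739289 ≤ n → n < 18809807 → ChainP n :=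
  chainP_leaf 18739289 18809807 pr_18739289 (by norm_num)
theorem pr_18809807 : Nat.Prime 18809807 := by norm_num
theorem seg_18809807 : ∀ n : ℕ, 18809807 ≤ n → n < 18880529 → ChainP n :=
  chainP_leaf 18809807 18880529 pr_18809807 (by norm_num)
theorem pr_18880529 : Nat.Prime 18880529 := by norm_num
theorem seg_18880529 : ∀ n : ℕ, 18880529 ≤ n → n < 18951431 → ChainP n :=
  chainP_leaf 18880529 18951431 pr_18880529 (by norm_num)
theorem pr_18951431 : Nat.Prime 18951431 := by norm_num
theorem seg_18951431 : ∀ n : ℕ, 18951431 ≤ n → n < 19022503 → ChainP n :=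
  chainP_leaf 18951431 19022503 pr_18951431 (by norm_num)
theorem pr_19022503 : Nat.Prime 19022503 := by norm_num
theorem seg_19022503 : ∀ n : ℕ, 19022503 ≤ n → n < 19093733 → ChainP n :=
  chainP_leaf 19022503 19093733 pr_19022503 (by norm_num)
theorem pr_19093733 : Nat.Prime 19093733 := by norm_num
theorem seg_19093733 : ∀ n : ℕ, 19093733 ≤ n → n < 19165151 → ChainP n :=
  chainP_leaf 19093733 19165151 pr_19093733 (by norm_num)
theorem pr_19165151 : Nat.Prime 19165151 := by norm_num
theorem seg_19165151 : ∀ n : ℕ, 19165151 ≤ n → n < 19236743 → ChainP n :=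
  chainP_leaf 19165151 19236743 pr_19165151 (by norm_num)
theorem pr_19236743 : Nat.Prime 19236743 := by norm_num
theorem seg_19236743 : ∀ n : ℕ, 19236743 ≤ n → n < 19308533 → ChainP n :=
  chainP_leaf 19236743 19308533 pr_19236743 (by norm_num)
theorem pr_19308533 : Nat.Prime 19308533 := by norm_num
theorem seg_19308533 : ∀ n : ℕ, 19308533 ≤ n → n < 19380469 → ChainP n :=
  chainP_leaf 19308533 19380469 pr_19308533 (by norm_num)
theorem pr_19380469 : Nat.Prime 19380469 := by norm_num
theorem seg_19380469 : ∀ n : ℕ, 19380469 ≤ n → n < 19452619 → ChainP n :=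
  chainP_leaf 19380469 19452619 pr_19380469 (by norm_num)
theorem pr_19452619 : Nat.Prime 19452619 := by norm_num
theorem seg_19452619 : ∀ n : ℕ, 19452619 ≤ n → n < 19524949 → ChainP n :=
  chainP_leaf 19452619 19524949 pr_19452619 (by norm_num)
theorem pr_19524949 : Nat.Prime 19524949 := by norm_num
theorem seg_19524949 : ∀ n : ℕ, 19524949 ≤ n → n < 19597453 → ChainP n :=
  chainP_leaf 19524949 19597453 pr_19524949 (by norm_num)
theorem pr_19597453 : Nat.Prime 19597453 := by norm_num
theorem seg_19597453 : ∀ n : ℕ, 19597453 ≤ n → n < 19670113 → ChainP n :=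
  chainP_leaf 19597453 19670113 pr_19597453 (by norm_num)
theorem pr_19670113 : Nat.Prime 19670113 := by norm_num
theorem seg_19670113 : ∀ n : ℕ, 19670113 ≤ n → n < 19742963 → ChainP n :=
  chainP_leaf 19670113 19742963 pr_19670113 (by norm_num)
theorem pr_19742963 : Nat.Prime 19742963 := by norm_num
theorem seg_19742963 : ∀ n : ℕ, 19742963 ≤ n → n < 19816007 → ChainP n :=
  chainP_leaf 19742963 19816007 pr_19742963 (by norm_num)
theorem pr_19816007 : Nat.Prime 19816007 := by norm_num
theorem seg_19816007 : ∀ n : ℕ, 19816007 ≤ n → n < 19889213 → ChainP n :=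
  chainP_leaf 19816007 19889213 pr_19816007 (by norm_num)
theorem pr_19889213 : Nat.Prime 19889213 := by norm_num
theorem seg_19889213 : ∀ n : ℕ, 19889213 ≤ n → n < 19962619 → ChainP n :=
  chainP_leaf 19889213 19962619 pr_19889213 (by norm_num)
theorem pr_19962619 : Nat.Prime 19962619 := by norm_num
theorem seg_19962619 : ∀ n : ℕ, 19962619 ≤ n → n < 20036207 → ChainP n :=
  chainP_leaf 19962619 20036207 pr_19962619 (by norm_num)
theorem pr_20036207 : Nat.Prime 20036207 := by norm_num
theorem seg_20036207 : ∀ n : ℕ, 20036207 ≤ n → n < 20109953 → ChainP n :=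
  chainP_leaf 20036207 20109953 pr_20036207 (by norm_num)
theorem pr_20109953 : Nat.Prime 20109953 := by norm_num
theorem seg_20109953 : ∀ n : ℕ, 20109953 ≤ n → n < 20183873 → ChainP n :=
  chainP_leaf 20109953 20183873 pr_20109953 (by norm_num)
theorem pr_20183873 : Nat.Prime 20183873 := by norm_num
theorem seg_20183873 : ∀ n : ℕ, 20183873 ≤ n → n < 20257997 → ChainP n :=
  chainP_leaf 20183873 20257997 pr_20183873 (by norm_num)
theorem pr_20257997 : Nat.Prime 20257997 := by norm_num
theorem seg_20257997 : ∀ n : ℕ, 20257997 ≤ n → n < 20332297 → ChainP n :=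
  chainP_leaf 20257997 20332297 pr_20257997 (by norm_num)
theorem pr_20332297 : Nat.Prime 20332297 := by norm_num
theorem seg_20332297 : ∀ n : ℕ, 20332297 ≤ n → n < 20406791 → ChainP n :=
  chainP_leaf 20332297 20406791 pr_20332297 (by norm_num)
theorem pr_20406791 : Nat.Prime 20406791 := by norm_num
theorem seg_20406791 : ∀ n : ℕ, 20406791 ≤ n → n < 20481467 → ChainP n :=
  chainP_leaf 20406791 20481467 pr_20406791 (by norm_num)
theorem pr_20481467 : Nat.Prime 20481467 := by norm_num
theorem seg_20481467 : ∀ n : ℕ, 20481467 ≤ n → n < 20556307 → ChainP n :=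
  chainP_leaf 20481467 20556307 pr_20481467 (by norm_num)
theorem pr_20556307 : Nat.Prime 20556307 := by norm_num
theorem seg_20556307 : ∀ n : ℕ, 20556307 ≤ n → n < 20631343 → ChainP n :=
  chainP_leaf 20556307 20631343 pr_20556307 (by norm_num)
theorem pr_20631343 : Nat.Prime 20631343 := by norm_num
theorem seg_20631343 : ∀ n : ℕ, 20631343 ≤ n → n < 20706563 → ChainP n :=
  chainP_leaf 20631343 20706563 pr_20631343 (by norm_num)
theorem pr_20706563 : Nat.Prime 20706563 := by norm_num
theorem seg_20706563 : ∀ n : ℕ, 20706563 ≤ n → n < 20781931 → ChainP n :=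
  chainP_leaf 20706563 20781931 pr_20706563 (by norm_num)
theorem pr_20781931 : Nat.Prime 20781931 := by norm_num
theorem seg_20781931 : ∀ n : ℕ, 20781931 ≤ n → n < 20857517 → ChainP n :=
  chainP_leaf 20781931 20857517 pr_20781931 (by norm_num)
theorem pr_20857517 : Nat.Prime 20857517 := by norm_num
theorem seg_20857517 : ∀ n : ℕ, 20857517 ≤ n → n < 20933287 → ChainP n :=
  chainP_leaf 20857517 20933287 pr_20857517 (by norm_num)
theorem pr_20933287 : Nat.Prime 20933287 := by norm_num
theorem seg_20933287 : ∀ n : ℕ, 20933287 ≤ n → n < 21009217 → ChainP n :=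
  chainP_leaf 20933287 21009217 pr_20933287 (by norm_num)
theorem pr_21009217 : Nat.Prime 21009217 := by norm_num
theorem seg_21009217 : ∀ n : ℕ, 21009217 ≤ n → n < 21085343 → ChainP n :=
  chainP_leaf 21009217 21085343 pr_21009217 (by norm_num)
theorem pr_21085343 : Nat.Prime 21085343 := by norm_num
theorem seg_21085343 : ∀ n : ℕ, 21085343 ≤ n → n < 21161653 → ChainP n :=
  chainP_leaf 21085343 21161653 pr_21085343 (by norm_num)
theorem pr_21161653 : Nat.Prime 21161653 := by norm_num
theorem seg_21161653 : ∀ n : ℕ, 21161653 ≤ n → n < 21238157 → ChainP n :=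
  chainP_leaf 21161653 21238157 pr_21161653 (by norm_num)
theorem pr_21238157 : Nat.Prime 21238157 := by norm_num
theorem seg_21238157 : ∀ n : ℕ, 21238157 ≤ n → n < 21314837 → ChainP n :=
  chainP_leaf 21238157 21314837 pr_21238157 (by norm_num)
theorem pr_21314837 : Nat.Prime 21314837 := by norm_num
theorem seg_21314837 : ∀ n : ℕ, 21314837 ≤ n → n < 21391703 → ChainP n :=
  chainP_leaf 21314837 21391703 pr_21314837 (by norm_num)
theorem pr_21391703 : Nat.Prime 21391703 := by norm_num
theorem seg_21391703 : ∀ n : ℕ, 21391703 ≤ n → n < 21468751 → ChainP n :=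
  chainP_leaf 21391703 21468751 pr_21391703 (by norm_num)
theorem pr_21468751 : Nat.Prime 21468751 := by norm_num
theorem seg_21468751 : ∀ n : ℕ, 21468751 ≤ n → n < 21545989 → ChainP n :=
  chainP_leaf 21468751 21545989 pr_21468751 (by norm_num)
theorem pr_21545989 : Nat.Prime 21545989 := by norm_num
theorem seg_21545989 : ∀ n : ℕ, 21545989 ≤ n → n < 21623419 → ChainP n :=
  chainP_leaf 21545989 21623419 pr_21545989 (by norm_num)
theorem pr_21623419 : Nat.Prime 21623419 := by norm_num
theorem seg_21623419 : ∀ n : ℕ, 21623419 ≤ n → n < 21701003 → ChainP n :=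
  chainP_leaf 21623419 21701003 pr_21623419 (by norm_num)
theorem pr_21701003 : Nat.Prime 21701003 := by norm_num
theorem seg_21701003 : ∀ n : ℕ, 21701003 ≤ n → n < 21778793 → ChainP n :=
  chainP_leaf 21701003 21778793 pr_21701003 (by norm_num)
theorem pr_21778793 : Nat.Prime 21778793 := by norm_num
theorem seg_21778793 : ∀ n : ℕ, 21778793 ≤ n → n < 21856763 → ChainP n :=
  chainP_leaf 21778793 21856763 pr_21778793 (by norm_num)
theorem pr_21856763 : Nat.Prime 21856763 := by norm_num
theorem seg_21856763 : ∀ n : ℕ, 21856763 ≤ n → n < 21934907 → ChainP n :=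
  chainP_leaf 21856763 21934907 pr_21856763 (by norm_num)
theorem pr_21934907 : Nat.Prime 21934907 := by norm_num
theorem seg_21934907 : ∀ n : ℕ, 21934907 ≤ n → n < 22013239 → ChainP n :=
  chainP_leaf 21934907 22013239 pr_21934907 (by norm_num)
theorem pr_22013239 : Nat.Prime 22013239 := by norm_num
theorem seg_22013239 : ∀ n : ℕ, 22013239 ≤ n → n < 22091779 → ChainP n :=
  chainP_leaf 22013239 22091779 pr_22013239 (by norm_num)
theorem pr_22091779 : Nat.Prime 22091779 := by norm_num
theorem seg_22091779 : ∀ n : ℕ, 22091779 ≤ n → n < 22170497 → ChainP n :=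
  chainP_leaf 22091779 22170497 pr_22091779 (by norm_num)
theorem pr_22170497 : Nat.Prime 22170497 := by norm_num
theorem seg_22170497 : ∀ n : ℕ, 22170497 ≤ n → n < 22249387 → ChainP n :=
  chainP_leaf 22170497 22249387 pr_22170497 (by norm_num)
theorem pr_22249387 : Nat.Prime 22249387 := by norm_num
theorem seg_22249387 : ∀ n : ℕ, 22249387 ≤ n → n < 22328483 → ChainP n :=
  chainP_leaf 22249387 22328483 pr_22249387 (by norm_num)
theorem pr_22328483 : Nat.Prime 22328483 := by norm_num
theorem seg_22328483 : ∀ n : ℕ, 22328483 ≤ n → n < 22407769 → ChainP n :=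
  chainP_leaf 22328483 22407769 pr_22328483 (by norm_num)
theorem pr_22407769 : Nat.Prime 22407769 := by norm_num
theorem seg_22407769 : ∀ n : ℕ, 22407769 ≤ n → n < 22487249 → ChainP n :=
  chainP_leaf 22407769 22487249 pr_22407769 (by norm_num)
theorem pr_22487249 : Nat.Prime 22487249 := by norm_num
theorem seg_22487249 : ∀ n : ℕ, 22487249 ≤ n → n < 22566893 → ChainP n :=
  chainP_leaf 22487249 22566893 pr_22487249 (by norm_num)
theorem pr_22566893 : Nat.Prime 22566893 := by norm_num
theorem seg_22566893 : ∀ n : ℕ, 22566893 ≤ n → n < 22646749 → ChainP n :=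
  chainP_leaf 22566893 22646749 pr_22566893 (by norm_num)
theorem pr_22646749 : Nat.Prime 22646749 := by norm_num
theorem seg_22646749 : ∀ n : ℕ, 22646749 ≤ n → n < 22726789 → ChainP n :=
  chainP_leaf 22646749 22726789 pr_22646749 (by norm_num)
theorem pr_22726789 : Nat.Prime 22726789 := by norm_num
theorem seg_22726789 : ∀ n : ℕ, 22726789 ≤ n → n < 22807019 → ChainP n :=
  chainP_leaf 22726789 22807019 pr_22726789 (by norm_num)
theorem pr_22807019 : Nat.Prime 22807019 := by norm_num
theorem seg_22807019 : ∀ n : ℕ, 22807019 ≤ n → n < 22887433 → ChainP n :=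
  chainP_leaf 22807019 22887433 pr_22807019 (by norm_num)
theorem pr_22887433 : Nat.Prime 22887433 := by norm_num
theorem seg_22887433 : ∀ n : ℕ, 22887433 ≤ n → n < 22967957 → ChainP n :=
  chainP_leaf 22887433 22967957 pr_22887433 (by norm_num)
theorem pr_22967957 : Nat.Prime 22967957 := by norm_num
theorem seg_22967957 : ∀ n : ℕ, 22967957 ≤ n → n < 23048749 → ChainP n :=
  chainP_leaf 22967957 23048749 pr_22967957 (by norm_num)
theorem pr_23048749 : Nat.Prime 23048749 := by norm_num
theorem seg_23048749 : ∀ n : ℕ, 23048749 ≤ n → n < 23129723 → ChainP n :=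
  chainP_leaf 23048749 23129723 pr_23048749 (by norm_num)
theorem pr_23129723 : Nat.Prime 23129723 := by norm_num
theorem seg_23129723 : ∀ n : ℕ, 23129723 ≤ n → n < 23210857 → ChainP n :=
  chainP_leaf 23129723 23210857 pr_23129723 (by norm_num)
theorem pr_23210857 : Nat.Prime 23210857 := by norm_num
theorem seg_23210857 : ∀ n : ℕ, 23210857 ≤ n → n < 23292187 → ChainP n :=
  chainP_leaf 23210857 23292187 pr_23210857 (by norm_num)
theorem pr_23292187 : Nat.Prime 23292187 := by norm_num
theorem seg_23292187 : ∀ n : ℕ, 23292187 ≤ n → n < 23373737 → ChainP n :=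
  chainP_leaf 23292187 23373737 pr_23292187 (by norm_num)
theorem pr_23373737 : Nat.Prime 23373737 := by norm_num
theorem seg_23373737 : ∀ n : ℕ, 23373737 ≤ n → n < 23455463 → ChainP n :=
  chainP_leaf 23373737 23455463 pr_23373737 (by norm_num)
theorem pr_23455463 : Nat.Prime 23455463 := by norm_num
theorem seg_23455463 : ∀ n : ℕ, 23455463 ≤ n → n < 23537387 → ChainP n :=
  chainP_leaf 23455463 23537387 pr_23455463 (by norm_num)
theorem pr_23537387 : Nat.Prime 23537387 := by norm_num
theorem seg_23537387 : ∀ n : ℕ, 23537387 ≤ n → n < 23619493 → ChainP n :=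
  chainP_leaf 23537387 23619493 pr_23537387 (by norm_num)
theorem pr_23619493 : Nat.Prime 23619493 := by norm_num
theorem seg_23619493 : ∀ n : ℕ, 23619493 ≤ n → n < 23701801 → ChainP n :=
  chainP_leaf 23619493 23701801 pr_23619493 (by norm_num)
theorem pr_23701801 : Nat.Prime 23701801 := by norm_num
theorem seg_23701801 : ∀ n : ℕ, 23701801 ≤ n → n < 23784311 → ChainP n :=
  chainP_leaf 23701801 23784311 pr_23701801 (by norm_num)
theorem pr_23784311 : Nat.Prime 23784311 := by norm_num
theorem seg_23784311 : ∀ n : ℕ, 23784311 ≤ n → n < 23866991 → ChainP n :=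
  chainP_leaf 23784311 23866991 pr_23784311 (by norm_num)
theorem pr_23866991 : Nat.Prime 23866991 := by norm_num
theorem seg_23866991 : ∀ n : ℕ, 23866991 ≤ n → n < 23949883 → ChainP n :=
  chainP_leaf 23866991 23949883 pr_23866991 (by norm_num)

theorem chainE : ∀ n : ℕ, 16835233 ≤ n → n < 23949883 → ChainP n :=
  (chainP_join 16835233 20183873 23949883 (chainP_join 16835233 18458977 20183873 (chainP_join 16835233 17634613 18458977 (chainP_join 16835233 17231813 17634613 (chainP_join 16835233 17032723 17231813 (chainP_join 16835233 16900909 17032723 seg_16835233 (chainP_join 16900909 16966717 17032723 seg_16900909 seg_16966717)) (chainP_join 17032723 17098919 17231813 seg_17032723 (chainP_join 17098919 17165273 17231813 seg_17098919 seg_17165273))) (chainP_join 17231813 17432449 17634613 (chainP_join 17231813 17298517 17432449 seg_17231813 (chainP_join 17298517 17365399 17432449 seg_17298517 seg_17365399)) (chainP_join 17432449 17499649 17634613 seg_17432449 (chainP_join 17499649 17567051 17634613 seg_17499649 seg_17567051)))) (chainP_join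 17634613 18043633 18458977 (chainP_join 17634613 17838313 18043633 (chainP_join 17634613 17702329 17838313 seg_17634613 (chainP_join 17702329 17770231 17838313 seg_17702329 seg_17770231)) (chainP_join 17838313 17906573 18043633 seg_17838313 (chainP_join 17906573 17975017 18043633 seg_17906573 seg_17975017))) (chainP_join 18043633 18250499 18458977 (chainP_join 18043633 18112399 18250499 seg_18043633 (chainP_join 18112399 18181367 18250499 seg_18112399 seg_18181367)) (chainP_join 18250499 18319817 18458977 seg_18250499 (chainP_join 18319817 18389309 18458977 seg_18319817 seg_18389309))))) (chainP_join 18458977 19308533 20183873 (chainP_join 18458977 18880529 19308533 (chainP_join 18458977 18668959 18880529 (chainP_join 18458977 18528751 18668959 seg_18458977 (chainP_join 18528751 18598771 18668959 seg_18528751 seg_18598771)) (chainP_join 18668959 18739289 18880529 seg_18668959 (chainP_join 18739289 18809807 18880529 seg_18739289 seg_18809807))) (chainP_join 18880529 19093733 19308533 (chainP_join 18880529 18951431 19093733 seg_18880529 (chainP_join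 18951431 19022503 19093733 seg_18951431 seg_19022503)) (chainP_join 19093733 19165151 19308533 seg_19093733 (chainP_join 19165151 19236743 19308533 seg_19165151 seg_19236743)))) (chainP_join 19308533 19742963 20183873 (chainP_join 19308533 19524949 19742963 (chainP_join 19308533 19380469 19524949 seg_19308533 (chainP_join 19380469 19452619 19524949 seg_19380469 seg_19452619)) (chainP_join 19524949 19597453 19742963 seg_19524949 (chainP_join 19597453 19670113 19742963 seg_19597453 seg_19670113))) (chainP_join 19742963 19962619 20183873 (chainP_join 19742963 19816007 19962619 seg_19742963 (chainP_join 19816007 19889213 19962619 seg_19816007 seg_19889213)) (chainP_join 19962619 20036207 20183873 seg_19962619 (chainP_join 20036207 20109953 20183873 seg_20036207 seg_20109953)))))) (chainP_join 20183873 22013239 23949883 (chainP_join 20183873 21085343 22013239 (chainP_join 20183873 20631343 21085343 (chainP_join 20183873 20406791 20631343 (chainP_join 20183873 20257997 20406791 seg_20183873 (chainP_join 20257997 20332297 20406791 seg_20257997 seg_20332297))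 (chainP_join 20406791 20481467 20631343 seg_20406791 (chainP_join 20481467 20556307 20631343 seg_20481467 seg_20556307))) (chainP_join 20631343 20857517 21085343 (chainP_join 20631343 20706563 20857517 seg_20631343 (chainP_join 20706563 20781931 20857517 seg_20706563 seg_20781931)) (chainP_join 20857517 20933287 21085343 seg_20857517 (chainP_join 20933287 21009217 21085343 seg_20933287 seg_21009217)))) (chainP_join 21085343 21545989 22013239 (chainP_join 21085343 21314837 21545989 (chainP_join 21085343 21161653 21314837 seg_21085343 (chainP_join 21161653 21238157 21314837 seg_21161653 seg_21238157)) (chainP_join 21314837 21391703 21545989 seg_21314837 (chainP_join 21391703 21468751 21545989 seg_21391703 seg_21468751))) (chainP_join 21545989 21778793 22013239 (chainP_join 21545989 21623419 21778793 seg_21545989 (chainP_join 21623419 21701003 21778793 seg_21623419 seg_21701003)) (chainP_join 21778793 21856763 22013239 seg_21778793 (chainP_join 21856763 21934907 22013239 seg_21856763 seg_21934907))))) (chainP_join 22013239 22967957 23949883 (chainP_join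 22013239 22487249 22967957 (chainP_join 22013239 22249387 22487249 (chainP_join 22013239 22091779 22249387 seg_22013239 (chainP_join 22091779 22170497 22249387 seg_22091779 seg_22170497)) (chainP_join 22249387 22328483 22487249 seg_22249387 (chainP_join 22328483 22407769 22487249 seg_22328483 seg_22407769))) (chainP_join 22487249 22726789 22967957 (chainP_join 22487249 22566893 22726789 seg_22487249 (chainP_join 22566893 22646749 22726789 seg_22566893 seg_22646749)) (chainP_join 22726789 22807019 22967957 seg_22726789 (chainP_join 22807019 22887433 22967957 seg_22807019 seg_22887433)))) (chainP_join 22967957 23455463 23949883 (chainP_join 22967957 23210857 23455463 (chainP_join 22967957 23048749 23210857 seg_22967957 (chainP_join 23048749 23129723 23210857 seg_23048749 seg_23129723)) (chainP_join 23210857 23292187 23455463 seg_23210857 (chainP_join 23292187 23373737 23455463 seg_23292187 seg_23373737))) (chainP_join 23455463 23701801 23949883 (chainP_join 23455463 23537387 23701801 seg_23455463 (chainP_join 23537387 23619493 23701801 seg_23537387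 seg_23619493)) (chainP_join 23701801 23784311 23949883 seg_23701801 (chainP_join 23784311 23866991 23949883 seg_23784311 seg_23866991)))))))

end Cfsg.Agent.Lib.H14.SS
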