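import Cfsg.Agent.Lib.H14.SSChainDefs

/-! Generated: chain primes 23949883 .. 32832101 (part F) for SS11 (Sylvester-Schur, S3571 NT block). -/

set_option autoImplicit false
set_option maxRecDepth 100000

namespace Cfsg.Agent.Lib.H14.SS

theorem pr_23949883 : Nat.Prime 23949883 := by norm_num
theorem seg_23949883 : ∀ n : ℕ, 23949883 ≤ n → n < 24032969 → ChainP n :=
  chainP_leaf 23949883 24032969 pr_23949883 (by norm_num)
theorem pr_24032969 : Nat.Prime 24032969 := by norm_num
theorem seg_24032969 : ∀ n : ℕ, 24032969 ≤ n → n < 24116243 → ChainP n :=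
  chainP_leaf 24032969 24116243 pr_24032969 (by norm_num)
theorem pr_24116243 : Nat.Prime 24116243 := by norm_num
theorem seg_24116243 : ∀ n : ℕ, 24116243 ≤ n → n < 24199709 → ChainP n :=
  chainP_leaf 24116243 24199709 pr_24116243 (by norm_num)
theorem pr_24199709 : Nat.Prime 24199709 := by norm_num
theorem seg_24199709 : ∀ n : ℕ, 24199709 ≤ n → n < 24283351 → ChainP n :=
  chainP_leaf 24199709 24283351 pr_24199709 (by norm_num)
theorem pr_24283351 : Nat.Prime 24283351 := by norm_num
theorem seg_24283351 : ∀ n : ℕ, 24283351 ≤ n → n < 24367199 → ChainP n :=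
  chainP_leaf 24283351 24367199 pr_24283351 (by norm_num)
theorem pr_24367199 : Nat.Prime 24367199 := by norm_num
theorem seg_24367199 : ∀ n : ℕ, 24367199 ≤ n → n < 24451243 → ChainP n :=
  chainP_leaf 24367199 24451243 pr_24367199 (by norm_num)
theorem pr_24451243 : Nat.Prime 24451243 := by norm_num
theorem seg_24451243 : ∀ n : ℕ, 24451243 ≤ n → n < 24535463 → ChainP n :=
  chainP_leaf 24451243 24535463 pr_24451243 (by norm_num)
theorem pr_24535463 : Nat.Prime 24535463 := by norm_num
theorem seg_24535463 : ∀ n : ℕ, 24535463 ≤ n → n < 24619897 → ChainP n :=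
  chainP_leaf 24535463 24619897 pr_24535463 (by norm_num)
theorem pr_24619897 : Nat.Prime 24619897 := by norm_num
theorem seg_24619897 : ∀ n : ℕ, 24619897 ≤ n → n < 24704501 → ChainP n :=
  chainP_leaf 24619897 24704501 pr_24619897 (by norm_num)
theorem pr_24704501 : Nat.Prime 24704501 := by norm_num
theorem seg_24704501 : ∀ n : ℕ, 24704501 ≤ n → n < 24789311 → ChainP n :=
  chainP_leaf 24704501 24789311 pr_24704501 (by norm_num)
theorem pr_24789311 : Nat.Prime 24789311 := by norm_num
theorem seg_24789311 : ∀ n : ℕ, 24789311 ≤ n → n < 24874313 → ChainP n :=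
  chainP_leaf 24789311 24874313 pr_24789311 (by norm_num)
theorem pr_24874313 : Nat.Prime 24874313 := by norm_num
theorem seg_24874313 : ∀ n : ℕ, 24874313 ≤ n → n < 24959509 → ChainP n :=
  chainP_leaf 24874313 24959509 pr_24874313 (by norm_num)
theorem pr_24959509 : Nat.Prime 24959509 := by norm_num
theorem seg_24959509 : ∀ n : ℕ, 24959509 ≤ n → n < 25044889 → ChainP n :=
  chainP_leaf 24959509 25044889 pr_24959509 (by norm_num)
theorem pr_25044889 : Nat.Prime 25044889 := by norm_num
theorem seg_25044889 : ∀ n : ℕ, 25044889 ≤ n → n < 25130473 → ChainP n :=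
  chainP_leaf 25044889 25130473 pr_25044889 (by norm_num)
theorem pr_25130473 : Nat.Prime 25130473 := by norm_num
theorem seg_25130473 : ∀ n : ℕ, 25130473 ≤ n → n < 25216229 → ChainP n :=
  chainP_leaf 25130473 25216229 pr_25130473 (by norm_num)
theorem pr_25216229 : Nat.Prime 25216229 := by norm_num
theorem seg_25216229 : ∀ n : ℕ, 25216229 ≤ n → n < 25302203 → ChainP n :=
  chainP_leaf 25216229 25302203 pr_25216229 (by norm_num)
theorem pr_25302203 : Nat.Prime 25302203 := by norm_num
theorem seg_25302203 : ∀ n : ℕ, 25302203 ≤ n → n < 25388387 → ChainP n :=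
  chainP_leaf 25302203 25388387 pr_25302203 (by norm_num)
theorem pr_25388387 : Nat.Prime 25388387 := by norm_num
theorem seg_25388387 : ∀ n : ℕ, 25388387 ≤ n → n < 25474751 → ChainP n :=
  chainP_leaf 25388387 25474751 pr_25388387 (by norm_num)
theorem pr_25474751 : Nat.Prime 25474751 := by norm_num
theorem seg_25474751 : ∀ n : ℕ, 25474751 ≤ n → n < 25561321 → ChainP n :=
  chainP_leaf 25474751 25561321 pr_25474751 (by norm_num)
theorem pr_25561321 : Nat.Prime 25561321 := by norm_num
theorem seg_25561321 : ∀ n : ℕ, 25561321 ≤ n → n < 25648057 → ChainP n :=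
  chainP_leaf 25561321 25648057 pr_25561321 (by norm_num)
theorem pr_25648057 : Nat.Prime 25648057 := by norm_num
theorem seg_25648057 : ∀ n : ℕ, 25648057 ≤ n → n < 25735019 → ChainP n :=
  chainP_leaf 25648057 25735019 pr_25648057 (by norm_num)
theorem pr_25735019 : Nat.Prime 25735019 := by norm_num
theorem seg_25735019 : ∀ n : ℕ, 25735019 ≤ n → n < 25822157 → ChainP n :=
  chainP_leaf 25735019 25822157 pr_25735019 (by norm_num)
theorem pr_25822157 : Nat.Prime 25822157 := by norm_num
theorem seg_25822157 : ∀ n : ℕ, 25822157 ≤ n → n < 25909519 → ChainP n :=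
  chainP_leaf 25822157 25909519 pr_25822157 (by norm_num)
theorem pr_25909519 : Nat.Prime 25909519 := by norm_num
theorem seg_25909519 : ∀ n : ℕ, 25909519 ≤ n → n < 25997047 → ChainP n :=
  chainP_leaf 25909519 25997047 pr_25909519 (by norm_num)
theorem pr_25997047 : Nat.Prime 25997047 := by norm_num
theorem seg_25997047 : ∀ n : ℕ, 25997047 ≤ n → n < 26084803 → ChainP n :=
  chainP_leaf 25997047 26084803 pr_25997047 (by norm_num)
theorem pr_26084803 : Nat.Prime 26084803 := by norm_num
theorem seg_26084803 : ∀ n : ℕ, 26084803 ≤ n → n < 26172743 → ChainP n :=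
  chainP_leaf 26084803 26172743 pr_26084803 (by norm_num)
theorem pr_26172743 : Nat.Prime 26172743 := by norm_num
theorem seg_26172743 : ∀ n : ℕ, 26172743 ≤ n → n < 26260891 → ChainP n :=
  chainP_leaf 26172743 26260891 pr_26172743 (by norm_num)
theorem pr_26260891 : Nat.Prime 26260891 := by norm_num
theorem seg_26260891 : ∀ n : ℕ, 26260891 ≤ n → n < 26349229 → ChainP n :=
  chainP_leaf 26260891 26349229 pr_26260891 (by norm_num)
theorem pr_26349229 : Nat.Prime 26349229 := by norm_num
theorem seg_26349229 : ∀ n : ℕ, 26349229 ≤ n → n < 26437751 → ChainP n :=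
  chainP_leaf 26349229 26437751 pr_26349229 (by norm_num)
theorem pr_26437751 : Nat.Prime 26437751 := by norm_num
theorem seg_26437751 : ∀ n : ℕ, 26437751 ≤ n → n < 26526497 → ChainP n :=
  chainP_leaf 26437751 26526497 pr_26437751 (by norm_num)
theorem pr_26526497 : Nat.Prime 26526497 := by norm_num
theorem seg_26526497 : ∀ n : ℕ, 26526497 ≤ n → n < 26615441 → ChainP n :=
  chainP_leaf 26526497 26615441 pr_26526497 (by norm_num)
theorem pr_26615441 : Nat.Prime 26615441 := by norm_num
theorem seg_26615441 : ∀ n : ℕ, 26615441 ≤ n → n < 26704567 → ChainP n :=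
  chainP_leaf 26615441 26704567 pr_26615441 (by norm_num)
theorem pr_26704567 : Nat.Prime 26704567 := by norm_num
theorem seg_26704567 : ∀ n : ℕ, 26704567 ≤ n → n < 26793881 → ChainP n :=
  chainP_leaf 26704567 26793881 pr_26704567 (by norm_num)
theorem pr_26793881 : Nat.Prime 26793881 := by norm_num
theorem seg_26793881 : ∀ n : ℕ, 26793881 ≤ n → n < 26883403 → ChainP n :=
  chainP_leaf 26793881 26883403 pr_26793881 (by norm_num)
theorem pr_26883403 : Nat.Prime 26883403 := by norm_num
theorem seg_26883403 : ∀ n : ℕ, 26883403 ≤ n → n < 26973139 → ChainP n :=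
  chainP_leaf 26883403 26973139 pr_26883403 (by norm_num)
theorem pr_26973139 : Nat.Prime 26973139 := by norm_num
theorem seg_26973139 : ∀ n : ℕ, 26973139 ≤ n → n < 27063079 → ChainP n :=
  chainP_leaf 26973139 27063079 pr_26973139 (by norm_num)
theorem pr_27063079 : Nat.Prime 27063079 := by norm_num
theorem seg_27063079 : ∀ n : ℕ, 27063079 ≤ n → n < 27153211 → ChainP n :=
  chainP_leaf 27063079 27153211 pr_27063079 (by norm_num)
theorem pr_27153211 : Nat.Prime 27153211 := by norm_num
theorem seg_27153211 : ∀ n : ℕ, 27153211 ≤ n → n < 27243551 → ChainP n :=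
  chainP_leaf 27153211 27243551 pr_27153211 (by norm_num)
theorem pr_27243551 : Nat.Prime 27243551 := by norm_num
theorem seg_27243551 : ∀ n : ℕ, 27243551 ≤ n → n < 27334091 → ChainP n :=
  chainP_leaf 27243551 27334091 pr_27243551 (by norm_num)
theorem pr_27334091 : Nat.Prime 27334091 := by norm_num
theorem seg_27334091 : ∀ n : ℕ, 27334091 ≤ n → n < 27424759 → ChainP n :=
  chainP_leaf 27334091 27424759 pr_27334091 (by norm_num)
theorem pr_27424759 : Nat.Prime 27424759 := by norm_num
theorem seg_27424759 : ∀ n : ℕ, 27424759 ≤ n → n < 27515689 → ChainP n :=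
  chainP_leaf 27424759 27515689 pr_27424759 (by norm_num)
theorem pr_27515689 : Nat.Prime 27515689 := by norm_num
theorem seg_27515689 : ∀ n : ℕ, 27515689 ≤ n → n < 27606769 → ChainP n :=
  chainP_leaf 27515689 27606769 pr_27515689 (by norm_num)
theorem pr_27606769 : Nat.Prime 27606769 := by norm_num
theorem seg_27606769 : ∀ n : ℕ, 27606769 ≤ n → n < 27698071 → ChainP n :=
  chainP_leaf 27606769 27698071 pr_27606769 (by norm_num)
theorem pr_27698071 : Nat.Prime 27698071 := by norm_num
theorem seg_27698071 : ∀ n : ℕ, 27698071 ≤ n → n < 27789599 → ChainP n :=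
  chainP_leaf 27698071 27789599 pr_27698071 (by norm_num)
theorem pr_27789599 : Nat.Prime 27789599 := by norm_num
theorem seg_27789599 : ∀ n : ℕ, 27789599 ≤ n → n < 27881323 → ChainP n :=
  chainP_leaf 27789599 27881323 pr_27789599 (by norm_num)
theorem pr_27881323 : Nat.Prime 27881323 := by norm_num
theorem seg_27881323 : ∀ n : ℕ, 27881323 ≤ n → n < 27973259 → ChainP n :=
  chainP_leaf 27881323 27973259 pr_27881323 (by norm_num)
theorem pr_27973259 : Nat.Prime 27973259 := by norm_num
theorem seg_27973259 : ∀ n : ℕ, 27973259 ≤ n → n < 28065407 → ChainP n :=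
  chainP_leaf 27973259 28065407 pr_27973259 (by norm_num)
theorem pr_28065407 : Nat.Prime 28065407 := by norm_num
theorem seg_28065407 : ∀ n : ℕ, 28065407 ≤ n → n < 28157741 → ChainP n :=
  chainP_leaf 28065407 28157741 pr_28065407 (by norm_num)
theorem pr_28157741 : Nat.Prime 28157741 := by norm_num
theorem seg_28157741 : ∀ n : ℕ, 28157741 ≤ n → n < 28250273 → ChainP n :=
  chainP_leaf 28157741 28250273 pr_28157741 (by norm_num)
theorem pr_28250273 : Nat.Prime 28250273 := by norm_num
theorem seg_28250273 : ∀ n : ℕ, 28250273 ≤ n → n < 28343023 → ChainP n :=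
  chainP_leaf 28250273 28343023 pr_28250273 (by norm_num)
theorem pr_28343023 : Nat.Prime 28343023 := by norm_num
theorem seg_28343023 : ∀ n : ℕ, 28343023 ≤ n → n < 28435969 → ChainP n :=
  chainP_leaf 28343023 28435969 pr_28343023 (by norm_num)
theorem pr_28435969 : Nat.Prime 28435969 := by norm_num
theorem seg_28435969 : ∀ n : ℕ, 28435969 ≤ n → n < 28529113 → ChainP n :=
  chainP_leaf 28435969 28529113 pr_28435969 (by norm_num)
theorem pr_28529113 : Nat.Prime 28529113 := by norm_num
theorem seg_28529113 : ∀ n : ℕ, 28529113 ≤ n → n < 28622471 → ChainP n :=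
  chainP_leaf 28529113 28622471 pr_28529113 (by norm_num)
theorem pr_28622471 : Nat.Prime 28622471 := by norm_num
theorem seg_28622471 : ∀ n : ℕ, 28622471 ≤ n → n < 28716041 → ChainP n :=
  chainP_leaf 28622471 28716041 pr_28622471 (by norm_num)
theorem pr_28716041 : Nat.Prime 28716041 := by norm_num
theorem seg_28716041 : ∀ n : ℕ, 28716041 ≤ n → n < 28809779 → ChainP n :=
  chainP_leaf 28716041 28809779 pr_28716041 (by norm_num)
theorem pr_28809779 : Nat.Prime 28809779 := by norm_num
theorem seg_28809779 : ∀ n : ℕ, 28809779 ≤ n → n < 28903753 → ChainP n :=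
  chainP_leaf 28809779 28903753 pr_28809779 (by norm_num)
theorem pr_28903753 : Nat.Prime 28903753 := by norm_num
theorem seg_28903753 : ∀ n : ℕ, 28903753 ≤ n → n < 28997923 → ChainP n :=
  chainP_leaf 28903753 28997923 pr_28903753 (by norm_num)
theorem pr_28997923 : Nat.Prime 28997923 := by norm_num
theorem seg_28997923 : ∀ n : ℕ, 28997923 ≤ n → n < 29092289 → ChainP n :=
  chainP_leaf 28997923 29092289 pr_28997923 (by norm_num)
theorem pr_29092289 : Nat.Prime 29092289 := by norm_num
theorem seg_29092289 : ∀ n : ℕ, 29092289 ≤ n → n < 29186873 → ChainP n :=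
  chainP_leaf 29092289 29186873 pr_29092289 (by norm_num)
theorem pr_29186873 : Nat.Prime 29186873 := by norm_num
theorem seg_29186873 : ∀ n : ℕ, 29186873 ≤ n → n < 29281663 → ChainP n :=
  chainP_leaf 29186873 29281663 pr_29186873 (by norm_num)
theorem pr_29281663 : Nat.Prime 29281663 := by norm_num
theorem seg_29281663 : ∀ n : ℕ, 29281663 ≤ n → n < 29376653 → ChainP n :=
  chainP_leaf 29281663 29376653 pr_29281663 (by norm_num)
theorem pr_29376653 : Nat.Prime 29376653 := by norm_num
theorem seg_29376653 : ∀ n : ℕ, 29376653 ≤ n → n < 29471843 → ChainP n :=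
  chainP_leaf 29376653 29471843 pr_29376653 (by norm_num)
theorem pr_29471843 : Nat.Prime 29471843 := by norm_num
theorem seg_29471843 : ∀ n : ℕ, 29471843 ≤ n → n < 29567227 → ChainP n :=
  chainP_leaf 29471843 29567227 pr_29471843 (by norm_num)
theorem pr_29567227 : Nat.Prime 29567227 := by norm_num
theorem seg_29567227 : ∀ n : ℕ, 29567227 ≤ n → n < 29662799 → ChainP n :=
  chainP_leaf 29567227 29662799 pr_29567227 (by norm_num)
theorem pr_29662799 : Nat.Prime 29662799 := by norm_num
theorem seg_29662799 : ∀ n : ℕ, 29662799 ≤ n → n < 29758621 → ChainP n :=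
  chainP_leaf 29662799 29758621 pr_29662799 (by norm_num)
theorem pr_29758621 : Nat.Prime 29758621 := by norm_num
theorem seg_29758621 : ∀ n : ℕ, 29758621 ≤ n → n < 29854651 → ChainP n :=
  chainP_leaf 29758621 29854651 pr_29758621 (by norm_num)
theorem pr_29854651 : Nat.Prime 29854651 := by norm_num
theorem seg_29854651 : ∀ n : ℕ, 29854651 ≤ n → n < 29950861 → ChainP n :=
  chainP_leaf 29854651 29950861 pr_29854651 (by norm_num)
theorem pr_29950861 : Nat.Prime 29950861 := by norm_num
theorem seg_29950861 : ∀ n : ℕ, 29950861 ≤ n → n < 30047287 → ChainP n :=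
  chainP_leaf 29950861 30047287 pr_29950861 (by norm_num)
theorem pr_30047287 : Nat.Prime 30047287 := by norm_num
theorem seg_30047287 : ∀ n : ℕ, 30047287 ≤ n → n < 30143929 → ChainP n :=
  chainP_leaf 30047287 30143929 pr_30047287 (by norm_num)
theorem pr_30143929 : Nat.Prime 30143929 := by norm_num
theorem seg_30143929 : ∀ n : ℕ, 30143929 ≤ n → n < 30240781 → ChainP n :=
  chainP_leaf 30143929 30240781 pr_30143929 (by norm_num)
theorem pr_30240781 : Nat.Prime 30240781 := by norm_num
theorem seg_30240781 : ∀ n : ℕ, 30240781 ≤ n → n < 30337841 → ChainP n :=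
  chainP_leaf 30240781 30337841 pr_30240781 (by norm_num)
theorem pr_30337841 : Nat.Prime 30337841 := by norm_num
theorem seg_30337841 : ∀ n : ℕ, 30337841 ≤ n → n < 30435113 → ChainP n :=
  chainP_leaf 30337841 30435113 pr_30337841 (by norm_num)
theorem pr_30435113 : Nat.Prime 30435113 := by norm_num
theorem seg_30435113 : ∀ n : ℕ, 30435113 ≤ n → n < 30532573 → ChainP n :=
  chainP_leaf 30435113 30532573 pr_30435113 (by norm_num)
theorem pr_30532573 : Nat.Prime 30532573 := by norm_num
theorem seg_30532573 : ∀ n : ℕ, 30532573 ≤ n → n < 30630253 → ChainP n :=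
  chainP_leaf 30532573 30630253 pr_30532573 (by norm_num)
theorem pr_30630253 : Nat.Prime 30630253 := by norm_num
theorem seg_30630253 : ∀ n : ℕ, 30630253 ≤ n → n < 30728123 → ChainP n :=
  chainP_leaf 30630253 30728123 pr_30630253 (by norm_num)
theorem pr_30728123 : Nat.Prime 30728123 := by norm_num
theorem seg_30728123 : ∀ n : ℕ, 30728123 ≤ n → n < 30826223 → ChainP n :=
  chainP_leaf 30728123 30826223 pr_30728123 (by norm_num)
theorem pr_30826223 : Nat.Prime 30826223 := by norm_num
theorem seg_30826223 : ∀ n : ℕ, 30826223 ≤ n → n < 30924529 → ChainP n :=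
  chainP_leaf 30826223 30924529 pr_30826223 (by norm_num)
theorem pr_30924529 : Nat.Prime 30924529 := by norm_num
theorem seg_30924529 : ∀ n : ℕ, 30924529 ≤ n → n < 31023037 → ChainP n :=
  chainP_leaf 30924529 31023037 pr_30924529 (by norm_num)
theorem pr_31023037 : Nat.Prime 31023037 := by norm_num
theorem seg_31023037 : ∀ n : ℕ, 31023037 ≤ n → n < 31121749 → ChainP n :=
  chainP_leaf 31023037 31121749 pr_31023037 (by norm_num)
theorem pr_31121749 : Nat.Prime 31121749 := by norm_num
theorem seg_31121749 : ∀ n : ℕ, 31121749 ≤ n → n < 31220681 → ChainP n :=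
  chainP_leaf 31121749 31220681 pr_31121749 (by norm_num)
theorem pr_31220681 : Nat.Prime 31220681 := by norm_num
theorem seg_31220681 : ∀ n : ℕ, 31220681 ≤ n → n < 31319791 → ChainP n :=
  chainP_leaf 31220681 31319791 pr_31220681 (by norm_num)
theorem pr_31319791 : Nat.Prime 31319791 := by norm_num
theorem seg_31319791 : ∀ n : ℕ, 31319791 ≤ n → n < 31419121 → ChainP n :=
  chainP_leaf 31319791 31419121 pr_31319791 (by norm_num)
theorem pr_31419121 : Nat.Prime 31419121 := by norm_num
theorem seg_31419121 : ∀ n : ℕ, 31419121 ≤ n → n < 31518691 → ChainP n :=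
  chainP_leaf 31419121 31518691 pr_31419121 (by norm_num)
theorem pr_31518691 : Nat.Prime 31518691 := by norm_num
theorem seg_31518691 : ∀ n : ℕ, 31518691 ≤ n → n < 31618463 → ChainP n :=
  chainP_leaf 31518691 31618463 pr_31518691 (by norm_num)
theorem pr_31618463 : Nat.Prime 31618463 := by norm_num
theorem seg_31618463 : ∀ n : ℕ, 31618463 ≤ n → n < 31718441 → ChainP n :=
  chainP_leaf 31618463 31718441 pr_31618463 (by norm_num)
theorem pr_31718441 : Nat.Prime 31718441 := by norm_num
theorem seg_31718441 : ∀ n : ℕ, 31718441 ≤ n → n < 31818613 → ChainP n :=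
  chainP_leaf 31718441 31818613 pr_31718441 (by norm_num)
theorem pr_31818613 : Nat.Prime 31818613 := by norm_num
theorem seg_31818613 : ∀ n : ℕ, 31818613 ≤ n → n < 31919023 → ChainP n :=
  chainP_leaf 31818613 31919023 pr_31818613 (by norm_num)
theorem pr_31919023 : Nat.Prime 31919023 := by norm_num
theorem seg_31919023 : ∀ n : ℕ, 31919023 ≤ n → n < 32019641 → ChainP n :=
  chainP_leaf 31919023 32019641 pr_31919023 (by norm_num)
theorem pr_32019641 : Nat.Prime 32019641 := by norm_num
theorem seg_32019641 : ∀ n : ℕ, 32019641 ≤ n → n < 32120449 → ChainP n :=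
  chainP_leaf 32019641 32120449 pr_32019641 (by norm_num)
theorem pr_32120449 : Nat.Prime 32120449 := by norm_num
theorem seg_32120449 : ∀ n : ℕ, 32120449 ≤ n → n < 32221489 → ChainP n :=
  chainP_leaf 32120449 32221489 pr_32120449 (by norm_num)
theorem pr_32221489 : Nat.Prime 32221489 := by norm_num
theorem seg_32221489 : ∀ n : ℕ, 32221489 ≤ n → n < 32322709 → ChainP n :=
  chainP_leaf 32221489 32322709 pr_32221489 (by norm_num)
theorem pr_32322709 : Nat.Prime 32322709 := by norm_num
theorem seg_32322709 : ∀ n : ℕ, 32322709 ≤ n → n < 32424169 → ChainP n :=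
  chainP_leaf 32322709 32424169 pr_32322709 (by norm_num)
theorem pr_32424169 : Nat.Prime 32424169 := by norm_num
theorem seg_32424169 : ∀ n : ℕ, 32424169 ≤ n → n < 32525837 → ChainP n :=
  chainP_leaf 32424169 32525837 pr_32424169 (by norm_num)
theorem pr_32525837 : Nat.Prime 32525837 := by norm_num
theorem seg_32525837 : ∀ n : ℕ, 32525837 ≤ n → n < 32627687 → ChainP n :=
  chainP_leaf 32525837 32627687 pr_32525837 (by norm_num)
theorem pr_32627687 : Nat.Prime 32627687 := by norm_num
theorem seg_32627687 : ∀ n : ℕ, 32627687 ≤ n → n < 32729791 → ChainP n :=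
  chainP_leaf 32627687 32729791 pr_32627687 (by norm_num)
theorem pr_32729791 : Nat.Prime 32729791 := by norm_num
theorem seg_32729791 : ∀ n : ℕ, 32729791 ≤ n → n < 32832101 → ChainP n :=
  chainP_leaf 32729791 32832101 pr_32729791 (by norm_num)

theorem chainF : ∀ n : ℕ, 23949883 ≤ n → n < 32832101 → ChainP n :=
  (chainP_join 23949883 28157741 32832101 (chainP_join 23949883 25997047 28157741 (chainP_join 23949883 24959509 25997047 (chainP_join 23949883 24451243 24959509 (chainP_join 23949883 24199709 24451243 (chainP_join 23949883 24032969 24199709 seg_23949883 (chainP_join 24032969 24116243 24199709 seg_24032969 seg_24116243)) (chainP_join 24199709 24283351 24451243 seg_24199709 (chainP_join 24283351 24367199 24451243 seg_24283351 seg_24367199))) (chainP_join 24451243 24704501 24959509 (chainP_join 24451243 24535463 24704501 seg_24451243 (chainP_join 24535463 24619897 24704501 seg_24535463 seg_24619897)) (chainP_join 24704501 24789311 24959509 seg_24704501 (chainP_join 24789311 24874313 24959509 seg_24789311 seg_24874313)))) (chainP_join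 24959509 25474751 25997047 (chainP_join 24959509 25216229 25474751 (chainP_join 24959509 25044889 25216229 seg_24959509 (chainP_join 25044889 25130473 25216229 seg_25044889 seg_25130473)) (chainP_join 25216229 25302203 25474751 seg_25216229 (chainP_join 25302203 25388387 25474751 seg_25302203 seg_25388387))) (chainP_join 25474751 25735019 25997047 (chainP_join 25474751 25561321 25735019 seg_25474751 (chainP_join 25561321 25648057 25735019 seg_25561321 seg_25648057)) (chainP_join 25735019 25822157 25997047 seg_25735019 (chainP_join 25822157 25909519 25997047 seg_25822157 seg_25909519))))) (chainP_join 25997047 27063079 28157741 (chainP_join 25997047 26526497 27063079 (chainP_join 25997047 26260891 26526497 (chainP_join 25997047 26084803 26260891 seg_25997047 (chainP_join 26084803 26172743 26260891 seg_26084803 seg_26172743)) (chainP_join 26260891 26349229 26526497 seg_26260891 (chainP_join 26349229 26437751 26526497 seg_26349229 seg_26437751))) (chainP_join 26526497 26793881 27063079 (chainP_join 26526497 26615441 26793881 seg_26526497 (chainP_join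 26615441 26704567 26793881 seg_26615441 seg_26704567)) (chainP_join 26793881 26883403 27063079 seg_26793881 (chainP_join 26883403 26973139 27063079 seg_26883403 seg_26973139)))) (chainP_join 27063079 27606769 28157741 (chainP_join 27063079 27334091 27606769 (chainP_join 27063079 27153211 27334091 seg_27063079 (chainP_join 27153211 27243551 27334091 seg_27153211 seg_27243551)) (chainP_join 27334091 27424759 27606769 seg_27334091 (chainP_join 27424759 27515689 27606769 seg_27424759 seg_27515689))) (chainP_join 27606769 27881323 28157741 (chainP_join 27606769 27698071 27881323 seg_27606769 (chainP_join 27698071 27789599 27881323 seg_27698071 seg_27789599)) (chainP_join 27881323 27973259 28157741 seg_27881323 (chainP_join 27973259 28065407 28157741 seg_27973259 seg_28065407)))))) (chainP_join 28157741 30435113 32832101 (chainP_join 28157741 29281663 30435113 (chainP_join 28157741 28716041 29281663 (chainP_join 28157741 28435969 28716041 (chainP_join 28157741 28250273 28435969 seg_28157741 (chainP_join 28250273 28343023 28435969 seg_28250273 seg_28343023))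 (chainP_join 28435969 28529113 28716041 seg_28435969 (chainP_join 28529113 28622471 28716041 seg_28529113 seg_28622471))) (chainP_join 28716041 28997923 29281663 (chainP_join 28716041 28809779 28997923 seg_28716041 (chainP_join 28809779 28903753 28997923 seg_28809779 seg_28903753)) (chainP_join 28997923 29092289 29281663 seg_28997923 (chainP_join 29092289 29186873 29281663 seg_29092289 seg_29186873)))) (chainP_join 29281663 29854651 30435113 (chainP_join 29281663 29567227 29854651 (chainP_join 29281663 29376653 29567227 seg_29281663 (chainP_join 29376653 29471843 29567227 seg_29376653 seg_29471843)) (chainP_join 29567227 29662799 29854651 seg_29567227 (chainP_join 29662799 29758621 29854651 seg_29662799 seg_29758621))) (chainP_join 29854651 30143929 30435113 (chainP_join 29854651 29950861 30143929 seg_29854651 (chainP_join 29950861 30047287 30143929 seg_29950861 seg_30047287)) (chainP_join 30143929 30240781 30435113 seg_30143929 (chainP_join 30240781 30337841 30435113 seg_30240781 seg_30337841))))) (chainP_join 30435113 31618463 32832101 (chainP_join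 30435113 31023037 31618463 (chainP_join 30435113 30728123 31023037 (chainP_join 30435113 30532573 30728123 seg_30435113 (chainP_join 30532573 30630253 30728123 seg_30532573 seg_30630253)) (chainP_join 30728123 30826223 31023037 seg_30728123 (chainP_join 30826223 30924529 31023037 seg_30826223 seg_30924529))) (chainP_join 31023037 31319791 31618463 (chainP_join 31023037 31121749 31319791 seg_31023037 (chainP_join 31121749 31220681 31319791 seg_31121749 seg_31220681)) (chainP_join 31319791 31419121 31618463 seg_31319791 (chainP_join 31419121 31518691 31618463 seg_31419121 seg_31518691)))) (chainP_join 31618463 32221489 32832101 (chainP_join 31618463 31919023 32221489 (chainP_join 31618463 31718441 31919023 seg_31618463 (chainP_join 31718441 31818613 31919023 seg_31718441 seg_31818613)) (chainP_join 31919023 32019641 32221489 seg_31919023 (chainP_join 32019641 32120449 32221489 seg_32019641 seg_32120449))) (chainP_join 32221489 32525837 32832101 (chainP_join 32221489 32322709 32525837 seg_32221489 (chainP_join 32322709 32424169 32525837 seg_32322709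 seg_32424169)) (chainP_join 32525837 32627687 32832101 seg_32525837 (chainP_join 32627687 32729791 32832101 seg_32627687 seg_32729791)))))))

end Cfsg.Agent.Lib.H14.SS
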