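import Cfsg.Agent.Lib.H14.SSChainDefs

/-! Generated: chain primes 32832101 .. 43678361 (part G) for SS11 (Sylvester-Schur, S3571 NT block). -/

set_option autoImplicit false
set_option maxRecDepth 100000

namespace Cfsg.Agent.Lib.H14.SS

theorem pr_32832101 : Nat.Prime 32832101 := by norm_num
theorem seg_32832101 : ∀ n : ℕ, 32832101 ≤ n → n < 32934631 → ChainP n :=
  chainP_leaf 32832101 32934631 pr_32832101 (by norm_num)
theorem pr_32934631 : Nat.Prime 32934631 := by norm_num
theorem seg_32934631 : ∀ n : ℕ, 32934631 ≤ n → n < 33037369 → ChainP n :=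
  chainP_leaf 32934631 33037369 pr_32934631 (by norm_num)
theorem pr_33037369 : Nat.Prime 33037369 := by norm_num
theorem seg_33037369 : ∀ n : ℕ, 33037369 ≤ n → n < 33140299 → ChainP n :=
  chainP_leaf 33037369 33140299 pr_33037369 (by norm_num)
theorem pr_33140299 : Nat.Prime 33140299 := by norm_num
theorem seg_33140299 : ∀ n : ℕ, 33140299 ≤ n → n < 33243451 → ChainP n :=
  chainP_leaf 33140299 33243451 pr_33140299 (by norm_num)
theorem pr_33243451 : Nat.Prime 33243451 := by norm_num
theorem seg_33243451 : ∀ n : ℕ, 33243451 ≤ n → n < 33346823 → ChainP n :=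
  chainP_leaf 33243451 33346823 pr_33243451 (by norm_num)
theorem pr_33346823 : Nat.Prime 33346823 := by norm_num
theorem seg_33346823 : ∀ n : ℕ, 33346823 ≤ n → n < 33450409 → ChainP n :=
  chainP_leaf 33346823 33450409 pr_33346823 (by norm_num)
theorem pr_33450409 : Nat.Prime 33450409 := by norm_num
theorem seg_33450409 : ∀ n : ℕ, 33450409 ≤ n → n < 33554221 → ChainP n :=
  chainP_leaf 33450409 33554221 pr_33450409 (by norm_num)
theorem pr_33554221 : Nat.Prime 33554221 := by norm_num
theorem seg_33554221 : ∀ n : ℕ, 33554221 ≤ n → n < 33658201 → ChainP n :=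
  chainP_leaf 33554221 33658201 pr_33554221 (by norm_num)
theorem pr_33658201 : Nat.Prime 33658201 := by norm_num
theorem seg_33658201 : ∀ n : ℕ, 33658201 ≤ n → n < 33762437 → ChainP n :=
  chainP_leaf 33658201 33762437 pr_33658201 (by norm_num)
theorem pr_33762437 : Nat.Prime 33762437 := by norm_num
theorem seg_33762437 : ∀ n : ℕ, 33762437 ≤ n → n < 33866897 → ChainP n :=
  chainP_leaf 33762437 33866897 pr_33762437 (by norm_num)
theorem pr_33866897 : Nat.Prime 33866897 := by norm_num
theorem seg_33866897 : ∀ n : ℕ, 33866897 ≤ n → n < 33971549 → ChainP n :=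
  chainP_leaf 33866897 33971549 pr_33866897 (by norm_num)
theorem pr_33971549 : Nat.Prime 33971549 := by norm_num
theorem seg_33971549 : ∀ n : ℕ, 33971549 ≤ n → n < 34076423 → ChainP n :=
  chainP_leaf 33971549 34076423 pr_33971549 (by norm_num)
theorem pr_34076423 : Nat.Prime 34076423 := by norm_num
theorem seg_34076423 : ∀ n : ℕ, 34076423 ≤ n → n < 34181527 → ChainP n :=
  chainP_leaf 34076423 34181527 pr_34076423 (by norm_num)
theorem pr_34181527 : Nat.Prime 34181527 := by norm_num
theorem seg_34181527 : ∀ n : ℕ, 34181527 ≤ n → n < 34286843 → ChainP n :=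
  chainP_leaf 34181527 34286843 pr_34181527 (by norm_num)
theorem pr_34286843 : Nat.Prime 34286843 := by norm_num
theorem seg_34286843 : ∀ n : ℕ, 34286843 ≤ n → n < 34392331 → ChainP n :=
  chainP_leaf 34286843 34392331 pr_34286843 (by norm_num)
theorem pr_34392331 : Nat.Prime 34392331 := by norm_num
theorem seg_34392331 : ∀ n : ℕ, 34392331 ≤ n → n < 34498073 → ChainP n :=
  chainP_leaf 34392331 34498073 pr_34392331 (by norm_num)
theorem pr_34498073 : Nat.Prime 34498073 := by norm_num
theorem seg_34498073 : ∀ n : ℕ, 34498073 ≤ n → n < 34604039 → ChainP n :=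
  chainP_leaf 34498073 34604039 pr_34498073 (by norm_num)
theorem pr_34604039 : Nat.Prime 34604039 := by norm_num
theorem seg_34604039 : ∀ n : ℕ, 34604039 ≤ n → n < 34710223 → ChainP n :=
  chainP_leaf 34604039 34710223 pr_34604039 (by norm_num)
theorem pr_34710223 : Nat.Prime 34710223 := by norm_num
theorem seg_34710223 : ∀ n : ℕ, 34710223 ≤ n → n < 34816609 → ChainP n :=
  chainP_leaf 34710223 34816609 pr_34710223 (by norm_num)
theorem pr_34816609 : Nat.Prime 34816609 := by norm_num
theorem seg_34816609 : ∀ n : ℕ, 34816609 ≤ n → n < 34923193 → ChainP n :=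
  chainP_leaf 34816609 34923193 pr_34816609 (by norm_num)
theorem pr_34923193 : Nat.Prime 34923193 := by norm_num
theorem seg_34923193 : ∀ n : ℕ, 34923193 ≤ n → n < 35030003 → ChainP n :=
  chainP_leaf 34923193 35030003 pr_34923193 (by norm_num)
theorem pr_35030003 : Nat.Prime 35030003 := by norm_num
theorem seg_35030003 : ∀ n : ℕ, 35030003 ≤ n → n < 35137051 → ChainP n :=
  chainP_leaf 35030003 35137051 pr_35030003 (by norm_num)
theorem pr_35137051 : Nat.Prime 35137051 := by norm_num
theorem seg_35137051 : ∀ n : ℕ, 35137051 ≤ n → n < 35244323 → ChainP n :=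
  chainP_leaf 35137051 35244323 pr_35137051 (by norm_num)
theorem pr_35244323 : Nat.Prime 35244323 := by norm_num
theorem seg_35244323 : ∀ n : ℕ, 35244323 ≤ n → n < 35351803 → ChainP n :=
  chainP_leaf 35244323 35351803 pr_35244323 (by norm_num)
theorem pr_35351803 : Nat.Prime 35351803 := by norm_num
theorem seg_35351803 : ∀ n : ℕ, 35351803 ≤ n → n < 35459503 → ChainP n :=
  chainP_leaf 35351803 35459503 pr_35351803 (by norm_num)
theorem pr_35459503 : Nat.Prime 35459503 := by norm_num
theorem seg_35459503 : ∀ n : ℕ, 35459503 ≤ n → n < 35567431 → ChainP n :=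
  chainP_leaf 35459503 35567431 pr_35459503 (by norm_num)
theorem pr_35567431 : Nat.Prime 35567431 := by norm_num
theorem seg_35567431 : ∀ n : ℕ, 35567431 ≤ n → n < 35675551 → ChainP n :=
  chainP_leaf 35567431 35675551 pr_35567431 (by norm_num)
theorem pr_35675551 : Nat.Prime 35675551 := by norm_num
theorem seg_35675551 : ∀ n : ℕ, 35675551 ≤ n → n < 35783899 → ChainP n :=
  chainP_leaf 35675551 35783899 pr_35675551 (by norm_num)
theorem pr_35783899 : Nat.Prime 35783899 := by norm_num
theorem seg_35783899 : ∀ n : ℕ, 35783899 ≤ n → n < 35892449 → ChainP n :=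
  chainP_leaf 35783899 35892449 pr_35783899 (by norm_num)
theorem pr_35892449 : Nat.Prime 35892449 := by norm_num
theorem seg_35892449 : ∀ n : ℕ, 35892449 ≤ n → n < 36001249 → ChainP n :=
  chainP_leaf 35892449 36001249 pr_35892449 (by norm_num)
theorem pr_36001249 : Nat.Prime 36001249 := by norm_num
theorem seg_36001249 : ∀ n : ℕ, 36001249 ≤ n → n < 36110273 → ChainP n :=
  chainP_leaf 36001249 36110273 pr_36001249 (by norm_num)
theorem pr_36110273 : Nat.Prime 36110273 := by norm_num
theorem seg_36110273 : ∀ n : ℕ, 36110273 ≤ n → n < 36219499 → ChainP n :=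
  chainP_leaf 36110273 36219499 pr_36110273 (by norm_num)
theorem pr_36219499 : Nat.Prime 36219499 := by norm_num
theorem seg_36219499 : ∀ n : ℕ, 36219499 ≤ n → n < 36328933 → ChainP n :=
  chainP_leaf 36219499 36328933 pr_36219499 (by norm_num)
theorem pr_36328933 : Nat.Prime 36328933 := by norm_num
theorem seg_36328933 : ∀ n : ℕ, 36328933 ≤ n → n < 36438617 → ChainP n :=
  chainP_leaf 36328933 36438617 pr_36328933 (by norm_num)
theorem pr_36438617 : Nat.Prime 36438617 := by norm_num
theorem seg_36438617 : ∀ n : ℕ, 36438617 ≤ n → n < 36548513 → ChainP n :=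
  chainP_leaf 36438617 36548513 pr_36438617 (by norm_num)
theorem pr_36548513 : Nat.Prime 36548513 := by norm_num
theorem seg_36548513 : ∀ n : ℕ, 36548513 ≤ n → n < 36658631 → ChainP n :=
  chainP_leaf 36548513 36658631 pr_36548513 (by norm_num)
theorem pr_36658631 : Nat.Prime 36658631 := by norm_num
theorem seg_36658631 : ∀ n : ℕ, 36658631 ≤ n → n < 36768961 → ChainP n :=
  chainP_leaf 36658631 36768961 pr_36658631 (by norm_num)
theorem pr_36768961 : Nat.Prime 36768961 := by norm_num
theorem seg_36768961 : ∀ n : ℕ, 36768961 ≤ n → n < 36879533 → ChainP n :=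
  chainP_leaf 36768961 36879533 pr_36768961 (by norm_num)
theorem pr_36879533 : Nat.Prime 36879533 := by norm_num
theorem seg_36879533 : ∀ n : ℕ, 36879533 ≤ n → n < 36990313 → ChainP n :=
  chainP_leaf 36879533 36990313 pr_36879533 (by norm_num)
theorem pr_36990313 : Nat.Prime 36990313 := by norm_num
theorem seg_36990313 : ∀ n : ℕ, 36990313 ≤ n → n < 37101329 → ChainP n :=
  chainP_leaf 36990313 37101329 pr_36990313 (by norm_num)
theorem pr_37101329 : Nat.Prime 37101329 := by norm_num
theorem seg_37101329 : ∀ n : ℕ, 37101329 ≤ n → n < 37212563 → ChainP n :=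
  chainP_leaf 37101329 37212563 pr_37101329 (by norm_num)
theorem pr_37212563 : Nat.Prime 37212563 := by norm_num
theorem seg_37212563 : ∀ n : ℕ, 37212563 ≤ n → n < 37323991 → ChainP n :=
  chainP_leaf 37212563 37323991 pr_37212563 (by norm_num)
theorem pr_37323991 : Nat.Prime 37323991 := by norm_num
theorem seg_37323991 : ∀ n : ℕ, 37323991 ≤ n → n < 37435667 → ChainP n :=
  chainP_leaf 37323991 37435667 pr_37323991 (by norm_num)
theorem pr_37435667 : Nat.Prime 37435667 := by norm_num
theorem seg_37435667 : ∀ n : ℕ, 37435667 ≤ n → n < 37547561 → ChainP n :=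
  chainP_leaf 37435667 37547561 pr_37435667 (by norm_num)
theorem pr_37547561 : Nat.Prime 37547561 := by norm_num
theorem seg_37547561 : ∀ n : ℕ, 37547561 ≤ n → n < 37659679 → ChainP n :=
  chainP_leaf 37547561 37659679 pr_37547561 (by norm_num)
theorem pr_37659679 : Nat.Prime 37659679 := by norm_num
theorem seg_37659679 : ∀ n : ℕ, 37659679 ≤ n → n < 37772023 → ChainP n :=
  chainP_leaf 37659679 37772023 pr_37659679 (by norm_num)
theorem pr_37772023 : Nat.Prime 37772023 := by norm_num
theorem seg_37772023 : ∀ n : ℕ, 37772023 ≤ n → n < 37884593 → ChainP n :=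
  chainP_leaf 37772023 37884593 pr_37772023 (by norm_num)
theorem pr_37884593 : Nat.Prime 37884593 := by norm_num
theorem seg_37884593 : ∀ n : ℕ, 37884593 ≤ n → n < 37997389 → ChainP n :=
  chainP_leaf 37884593 37997389 pr_37884593 (by norm_num)
theorem pr_37997389 : Nat.Prime 37997389 := by norm_num
theorem seg_37997389 : ∀ n : ℕ, 37997389 ≤ n → n < 38110411 → ChainP n :=
  chainP_leaf 37997389 38110411 pr_37997389 (by norm_num)
theorem pr_38110411 : Nat.Prime 38110411 := by norm_num
theorem seg_38110411 : ∀ n : ℕ, 38110411 ≤ n → n < 38223641 → ChainP n :=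
  chainP_leaf 38110411 38223641 pr_38110411 (by norm_num)
theorem pr_38223641 : Nat.Prime 38223641 := by norm_num
theorem seg_38223641 : ∀ n : ℕ, 38223641 ≤ n → n < 38337107 → ChainP n :=
  chainP_leaf 38223641 38337107 pr_38223641 (by norm_num)
theorem pr_38337107 : Nat.Prime 38337107 := by norm_num
theorem seg_38337107 : ∀ n : ℕ, 38337107 ≤ n → n < 38450777 → ChainP n :=
  chainP_leaf 38337107 38450777 pr_38337107 (by norm_num)
theorem pr_38450777 : Nat.Prime 38450777 := by norm_num
theorem seg_38450777 : ∀ n : ℕ, 38450777 ≤ n → n < 38564689 → ChainP n :=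
  chainP_leaf 38450777 38564689 pr_38450777 (by norm_num)
theorem pr_38564689 : Nat.Prime 38564689 := by norm_num
theorem seg_38564689 : ∀ n : ℕ, 38564689 ≤ n → n < 38678833 → ChainP n :=
  chainP_leaf 38564689 38678833 pr_38564689 (by norm_num)
theorem pr_38678833 : Nat.Prime 38678833 := by norm_num
theorem seg_38678833 : ∀ n : ℕ, 38678833 ≤ n → n < 38793197 → ChainP n :=
  chainP_leaf 38678833 38793197 pr_38678833 (by norm_num)
theorem pr_38793197 : Nat.Prime 38793197 := by norm_num
theorem seg_38793197 : ∀ n : ℕ, 38793197 ≤ n → n < 38907779 → ChainP n :=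
  chainP_leaf 38793197 38907779 pr_38793197 (by norm_num)
theorem pr_38907779 : Nat.Prime 38907779 := by norm_num
theorem seg_38907779 : ∀ n : ℕ, 38907779 ≤ n → n < 39022597 → ChainP n :=
  chainP_leaf 38907779 39022597 pr_38907779 (by norm_num)
theorem pr_39022597 : Nat.Prime 39022597 := by norm_num
theorem seg_39022597 : ∀ n : ℕ, 39022597 ≤ n → n < 39137641 → ChainP n :=
  chainP_leaf 39022597 39137641 pr_39022597 (by norm_num)
theorem pr_39137641 : Nat.Prime 39137641 := by norm_num
theorem seg_39137641 : ∀ n : ℕ, 39137641 ≤ n → n < 39252907 → ChainP n :=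
  chainP_leaf 39137641 39252907 pr_39137641 (by norm_num)
theorem pr_39252907 : Nat.Prime 39252907 := by norm_num
theorem seg_39252907 : ∀ n : ℕ, 39252907 ≤ n → n < 39368393 → ChainP n :=
  chainP_leaf 39252907 39368393 pr_39252907 (by norm_num)
theorem pr_39368393 : Nat.Prime 39368393 := by norm_num
theorem seg_39368393 : ∀ n : ℕ, 39368393 ≤ n → n < 39484117 → ChainP n :=
  chainP_leaf 39368393 39484117 pr_39368393 (by norm_num)
theorem pr_39484117 : Nat.Prime 39484117 := by norm_num
theorem seg_39484117 : ∀ n : ℕ, 39484117 ≤ n → n < 39600061 → ChainP n :=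
  chainP_leaf 39484117 39600061 pr_39484117 (by norm_num)
theorem pr_39600061 : Nat.Prime 39600061 := by norm_num
theorem seg_39600061 : ∀ n : ℕ, 39600061 ≤ n → n < 39716231 → ChainP n :=
  chainP_leaf 39600061 39716231 pr_39600061 (by norm_num)
theorem pr_39716231 : Nat.Prime 39716231 := by norm_num
theorem seg_39716231 : ∀ n : ℕ, 39716231 ≤ n → n < 39832603 → ChainP n :=
  chainP_leaf 39716231 39832603 pr_39716231 (by norm_num)
theorem pr_39832603 : Nat.Prime 39832603 := by norm_num
theorem seg_39832603 : ∀ n : ℕ, 39832603 ≤ n → n < 39949223 → ChainP n :=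
  chainP_leaf 39832603 39949223 pr_39832603 (by norm_num)
theorem pr_39949223 : Nat.Prime 39949223 := by norm_num
theorem seg_39949223 : ∀ n : ℕ, 39949223 ≤ n → n < 40066051 → ChainP n :=
  chainP_leaf 39949223 40066051 pr_39949223 (by norm_num)
theorem pr_40066051 : Nat.Prime 40066051 := by norm_num
theorem seg_40066051 : ∀ n : ℕ, 40066051 ≤ n → n < 40183109 → ChainP n :=
  chainP_leaf 40066051 40183109 pr_40066051 (by norm_num)
theorem pr_40183109 : Nat.Prime 40183109 := by norm_num
theorem seg_40183109 : ∀ n : ℕ, 40183109 ≤ n → n < 40300411 → ChainP n :=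
  chainP_leaf 40183109 40300411 pr_40183109 (by norm_num)
theorem pr_40300411 : Nat.Prime 40300411 := by norm_num
theorem seg_40300411 : ∀ n : ℕ, 40300411 ≤ n → n < 40417943 → ChainP n :=
  chainP_leaf 40300411 40417943 pr_40300411 (by norm_num)
theorem pr_40417943 : Nat.Prime 40417943 := by norm_num
theorem seg_40417943 : ∀ n : ℕ, 40417943 ≤ n → n < 40535717 → ChainP n :=
  chainP_leaf 40417943 40535717 pr_40417943 (by norm_num)
theorem pr_40535717 : Nat.Prime 40535717 := by norm_num
theorem seg_40535717 : ∀ n : ℕ, 40535717 ≤ n → n < 40653709 → ChainP n :=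
  chainP_leaf 40535717 40653709 pr_40535717 (by norm_num)
theorem pr_40653709 : Nat.Prime 40653709 := by norm_num
theorem seg_40653709 : ∀ n : ℕ, 40653709 ≤ n → n < 40771937 → ChainP n :=
  chainP_leaf 40653709 40771937 pr_40653709 (by norm_num)
theorem pr_40771937 : Nat.Prime 40771937 := by norm_num
theorem seg_40771937 : ∀ n : ℕ, 40771937 ≤ n → n < 40890397 → ChainP n :=
  chainP_leaf 40771937 40890397 pr_40771937 (by norm_num)
theorem pr_40890397 : Nat.Prime 40890397 := by norm_num
theorem seg_40890397 : ∀ n : ℕ, 40890397 ≤ n → n < 41009081 → ChainP n :=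
  chainP_leaf 40890397 41009081 pr_40890397 (by norm_num)
theorem pr_41009081 : Nat.Prime 41009081 := by norm_num
theorem seg_41009081 : ∀ n : ℕ, 41009081 ≤ n → n < 41127973 → ChainP n :=
  chainP_leaf 41009081 41127973 pr_41009081 (by norm_num)
theorem pr_41127973 : Nat.Prime 41127973 := by norm_num
theorem seg_41127973 : ∀ n : ℕ, 41127973 ≤ n → n < 41247113 → ChainP n :=
  chainP_leaf 41127973 41247113 pr_41127973 (by norm_num)
theorem pr_41247113 : Nat.Prime 41247113 := by norm_num
theorem seg_41247113 : ∀ n : ℕ, 41247113 ≤ n → n < 41366471 → ChainP n :=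
  chainP_leaf 41247113 41366471 pr_41247113 (by norm_num)
theorem pr_41366471 : Nat.Prime 41366471 := by norm_num
theorem seg_41366471 : ∀ n : ℕ, 41366471 ≤ n → n < 41486057 → ChainP n :=
  chainP_leaf 41366471 41486057 pr_41366471 (by norm_num)
theorem pr_41486057 : Nat.Prime 41486057 := by norm_num
theorem seg_41486057 : ∀ n : ℕ, 41486057 ≤ n → n < 41605859 → ChainP n :=
  chainP_leaf 41486057 41605859 pr_41486057 (by norm_num)
theorem pr_41605859 : Nat.Prime 41605859 := by norm_num
theorem seg_41605859 : ∀ n : ℕ, 41605859 ≤ n → n < 41725913 → ChainP n :=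
  chainP_leaf 41605859 41725913 pr_41605859 (by norm_num)
theorem pr_41725913 : Nat.Prime 41725913 := by norm_num
theorem seg_41725913 : ∀ n : ℕ, 41725913 ≤ n → n < 41846213 → ChainP n :=
  chainP_leaf 41725913 41846213 pr_41725913 (by norm_num)
theorem pr_41846213 : Nat.Prime 41846213 := by norm_num
theorem seg_41846213 : ∀ n : ℕ, 41846213 ≤ n → n < 41966699 → ChainP n :=
  chainP_leaf 41846213 41966699 pr_41846213 (by norm_num)
theorem pr_41966699 : Nat.Prime 41966699 := by norm_num
theorem seg_41966699 : ∀ n : ℕ, 41966699 ≤ n → n < 42087449 → ChainP n :=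
  chainP_leaf 41966699 42087449 pr_41966699 (by norm_num)
theorem pr_42087449 : Nat.Prime 42087449 := by norm_num
theorem seg_42087449 : ∀ n : ℕ, 42087449 ≤ n → n < 42208421 → ChainP n :=
  chainP_leaf 42087449 42208421 pr_42087449 (by norm_num)
theorem pr_42208421 : Nat.Prime 42208421 := by norm_num
theorem seg_42208421 : ∀ n : ℕ, 42208421 ≤ n → n < 42329641 → ChainP n :=
  chainP_leaf 42208421 42329641 pr_42208421 (by norm_num)
theorem pr_42329641 : Nat.Prime 42329641 := by norm_num
theorem seg_42329641 : ∀ n : ℕ, 42329641 ≤ n → n < 42451069 → ChainP n :=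
  chainP_leaf 42329641 42451069 pr_42329641 (by norm_num)
theorem pr_42451069 : Nat.Prime 42451069 := by norm_num
theorem seg_42451069 : ∀ n : ℕ, 42451069 ≤ n → n < 42572753 → ChainP n :=
  chainP_leaf 42451069 42572753 pr_42451069 (by norm_num)
theorem pr_42572753 : Nat.Prime 42572753 := by norm_num
theorem seg_42572753 : ∀ n : ℕ, 42572753 ≤ n → n < 42694637 → ChainP n :=
  chainP_leaf 42572753 42694637 pr_42572753 (by norm_num)
theorem pr_42694637 : Nat.Prime 42694637 := by norm_num
theorem seg_42694637 : ∀ n : ℕ, 42694637 ≤ n → n < 42816793 → ChainP n :=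
  chainP_leaf 42694637 42816793 pr_42694637 (by norm_num)
theorem pr_42816793 : Nat.Prime 42816793 := by norm_num
theorem seg_42816793 : ∀ n : ℕ, 42816793 ≤ n → n < 42939179 → ChainP n :=
  chainP_leaf 42816793 42939179 pr_42816793 (by norm_num)
theorem pr_42939179 : Nat.Prime 42939179 := by norm_num
theorem seg_42939179 : ∀ n : ℕ, 42939179 ≤ n → n < 43061801 → ChainP n :=
  chainP_leaf 42939179 43061801 pr_42939179 (by norm_num)
theorem pr_43061801 : Nat.Prime 43061801 := by norm_num
theorem seg_43061801 : ∀ n : ℕ, 43061801 ≤ n → n < 43184653 → ChainP n :=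
  chainP_leaf 43061801 43184653 pr_43061801 (by norm_num)
theorem pr_43184653 : Nat.Prime 43184653 := by norm_num
theorem seg_43184653 : ∀ n : ℕ, 43184653 ≤ n → n < 43307729 → ChainP n :=
  chainP_leaf 43184653 43307729 pr_43184653 (by norm_num)
theorem pr_43307729 : Nat.Prime 43307729 := by norm_num
theorem seg_43307729 : ∀ n : ℕ, 43307729 ≤ n → n < 43431029 → ChainP n :=
  chainP_leaf 43307729 43431029 pr_43307729 (by norm_num)
theorem pr_43431029 : Nat.Prime 43431029 := by norm_num
theorem seg_43431029 : ∀ n : ℕ, 43431029 ≤ n → n < 43554583 → ChainP n :=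
  chainP_leaf 43431029 43554583 pr_43431029 (by norm_num)
theorem pr_43554583 : Nat.Prime 43554583 := by norm_num
theorem seg_43554583 : ∀ n : ℕ, 43554583 ≤ n → n < 43678361 → ChainP n :=
  chainP_leaf 43554583 43678361 pr_43554583 (by norm_num)

theorem chainG : ∀ n : ℕ, 32832101 ≤ n → n < 43678361 → ChainP n :=
  (chainP_join 32832101 37997389 43678361 (chainP_join 32832101 35351803 37997389 (chainP_join 32832101 34076423 35351803 (chainP_join 32832101 33450409 34076423 (chainP_join 32832101 33140299 33450409 (chainP_join 32832101 32934631 33140299 seg_32832101 (chainP_join 32934631 33037369 33140299 seg_32934631 seg_33037369)) (chainP_join 33140299 33243451 33450409 seg_33140299 (chainP_join 33243451 33346823 33450409 seg_33243451 seg_33346823))) (chainP_join 33450409 33762437 34076423 (chainP_join 33450409 33554221 33762437 seg_33450409 (chainP_join 33554221 33658201 33762437 seg_33554221 seg_33658201)) (chainP_join 33762437 33866897 34076423 seg_33762437 (chainP_join 33866897 33971549 34076423 seg_33866897 seg_33971549)))) (chainP_join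 34076423 34710223 35351803 (chainP_join 34076423 34392331 34710223 (chainP_join 34076423 34181527 34392331 seg_34076423 (chainP_join 34181527 34286843 34392331 seg_34181527 seg_34286843)) (chainP_join 34392331 34498073 34710223 seg_34392331 (chainP_join 34498073 34604039 34710223 seg_34498073 seg_34604039))) (chainP_join 34710223 35030003 35351803 (chainP_join 34710223 34816609 35030003 seg_34710223 (chainP_join 34816609 34923193 35030003 seg_34816609 seg_34923193)) (chainP_join 35030003 35137051 35351803 seg_35030003 (chainP_join 35137051 35244323 35351803 seg_35137051 seg_35244323))))) (chainP_join 35351803 36658631 37997389 (chainP_join 35351803 36001249 36658631 (chainP_join 35351803 35675551 36001249 (chainP_join 35351803 35459503 35675551 seg_35351803 (chainP_join 35459503 35567431 35675551 seg_35459503 seg_35567431)) (chainP_join 35675551 35783899 36001249 seg_35675551 (chainP_join 35783899 35892449 36001249 seg_35783899 seg_35892449))) (chainP_join 36001249 36328933 36658631 (chainP_join 36001249 36110273 36328933 seg_36001249 (chainP_join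 36110273 36219499 36328933 seg_36110273 seg_36219499)) (chainP_join 36328933 36438617 36658631 seg_36328933 (chainP_join 36438617 36548513 36658631 seg_36438617 seg_36548513)))) (chainP_join 36658631 37323991 37997389 (chainP_join 36658631 36990313 37323991 (chainP_join 36658631 36768961 36990313 seg_36658631 (chainP_join 36768961 36879533 36990313 seg_36768961 seg_36879533)) (chainP_join 36990313 37101329 37323991 seg_36990313 (chainP_join 37101329 37212563 37323991 seg_37101329 seg_37212563))) (chainP_join 37323991 37659679 37997389 (chainP_join 37323991 37435667 37659679 seg_37323991 (chainP_join 37435667 37547561 37659679 seg_37435667 seg_37547561)) (chainP_join 37659679 37772023 37997389 seg_37659679 (chainP_join 37772023 37884593 37997389 seg_37772023 seg_37884593)))))) (chainP_join 37997389 40771937 43678361 (chainP_join 37997389 39368393 40771937 (chainP_join 37997389 38678833 39368393 (chainP_join 37997389 38337107 38678833 (chainP_join 37997389 38110411 38337107 seg_37997389 (chainP_join 38110411 38223641 38337107 seg_38110411 seg_38223641))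 (chainP_join 38337107 38450777 38678833 seg_38337107 (chainP_join 38450777 38564689 38678833 seg_38450777 seg_38564689))) (chainP_join 38678833 39022597 39368393 (chainP_join 38678833 38793197 39022597 seg_38678833 (chainP_join 38793197 38907779 39022597 seg_38793197 seg_38907779)) (chainP_join 39022597 39137641 39368393 seg_39022597 (chainP_join 39137641 39252907 39368393 seg_39137641 seg_39252907)))) (chainP_join 39368393 40066051 40771937 (chainP_join 39368393 39716231 40066051 (chainP_join 39368393 39484117 39716231 seg_39368393 (chainP_join 39484117 39600061 39716231 seg_39484117 seg_39600061)) (chainP_join 39716231 39832603 40066051 seg_39716231 (chainP_join 39832603 39949223 40066051 seg_39832603 seg_39949223))) (chainP_join 40066051 40417943 40771937 (chainP_join 40066051 40183109 40417943 seg_40066051 (chainP_join 40183109 40300411 40417943 seg_40183109 seg_40300411)) (chainP_join 40417943 40535717 40771937 seg_40417943 (chainP_join 40535717 40653709 40771937 seg_40535717 seg_40653709))))) (chainP_join 40771937 42208421 43678361 (chainP_join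 40771937 41486057 42208421 (chainP_join 40771937 41127973 41486057 (chainP_join 40771937 40890397 41127973 seg_40771937 (chainP_join 40890397 41009081 41127973 seg_40890397 seg_41009081)) (chainP_join 41127973 41247113 41486057 seg_41127973 (chainP_join 41247113 41366471 41486057 seg_41247113 seg_41366471))) (chainP_join 41486057 41846213 42208421 (chainP_join 41486057 41605859 41846213 seg_41486057 (chainP_join 41605859 41725913 41846213 seg_41605859 seg_41725913)) (chainP_join 41846213 41966699 42208421 seg_41846213 (chainP_join 41966699 42087449 42208421 seg_41966699 seg_42087449)))) (chainP_join 42208421 42939179 43678361 (chainP_join 42208421 42572753 42939179 (chainP_join 42208421 42329641 42572753 seg_42208421 (chainP_join 42329641 42451069 42572753 seg_42329641 seg_42451069)) (chainP_join 42572753 42694637 42939179 seg_42572753 (chainP_join 42694637 42816793 42939179 seg_42694637 seg_42816793))) (chainP_join 42939179 43307729 43678361 (chainP_join 42939179 43061801 43307729 seg_42939179 (chainP_join 43061801 43184653 43307729 seg_43061801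 seg_43184653)) (chainP_join 43307729 43431029 43678361 seg_43307729 (chainP_join 43431029 43554583 43678361 seg_43431029 seg_43554583)))))))

end Cfsg.Agent.Lib.H14.SS
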