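import Cfsg.Agent.Lib.H14.SSChainDefs

/-! Generated: chain primes 43678361 .. 56684911 (part H) for SS11 (Sylvester-Schur, S3571 NT block). -/

set_option autoImplicit false
set_option maxRecDepth 100000

namespace Cfsg.Agent.Lib.H14.SS

theorem pr_43678361 : Nat.Prime 43678361 := by norm_num
theorem seg_43678361 : ∀ n : ℕ, 43678361 ≤ n → n < 43802371 → ChainP n :=
  chainP_leaf 43678361 43802371 pr_43678361 (by norm_num)
theorem pr_43802371 : Nat.Prime 43802371 := by norm_num
theorem seg_43802371 : ∀ n : ℕ, 43802371 ≤ n → n < 43926611 → ChainP n :=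
  chainP_leaf 43802371 43926611 pr_43802371 (by norm_num)
theorem pr_43926611 : Nat.Prime 43926611 := by norm_num
theorem seg_43926611 : ∀ n : ℕ, 43926611 ≤ n → n < 44051099 → ChainP n :=
  chainP_leaf 43926611 44051099 pr_43926611 (by norm_num)
theorem pr_44051099 : Nat.Prime 44051099 := by norm_num
theorem seg_44051099 : ∀ n : ℕ, 44051099 ≤ n → n < 44175829 → ChainP n :=
  chainP_leaf 44051099 44175829 pr_44051099 (by norm_num)
theorem pr_44175829 : Nat.Prime 44175829 := by norm_num
theorem seg_44175829 : ∀ n : ℕ, 44175829 ≤ n → n < 44300791 → ChainP n :=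
  chainP_leaf 44175829 44300791 pr_44175829 (by norm_num)
theorem pr_44300791 : Nat.Prime 44300791 := by norm_num
theorem seg_44300791 : ∀ n : ℕ, 44300791 ≤ n → n < 44425991 → ChainP n :=
  chainP_leaf 44300791 44425991 pr_44300791 (by norm_num)
theorem pr_44425991 : Nat.Prime 44425991 := by norm_num
theorem seg_44425991 : ∀ n : ℕ, 44425991 ≤ n → n < 44551427 → ChainP n :=
  chainP_leaf 44425991 44551427 pr_44425991 (by norm_num)
theorem pr_44551427 : Nat.Prime 44551427 := by norm_num
theorem seg_44551427 : ∀ n : ℕ, 44551427 ≤ n → n < 44677099 → ChainP n :=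
  chainP_leaf 44551427 44677099 pr_44551427 (by norm_num)
theorem pr_44677099 : Nat.Prime 44677099 := by norm_num
theorem seg_44677099 : ∀ n : ℕ, 44677099 ≤ n → n < 44803001 → ChainP n :=
  chainP_leaf 44677099 44803001 pr_44677099 (by norm_num)
theorem pr_44803001 : Nat.Prime 44803001 := by norm_num
theorem seg_44803001 : ∀ n : ℕ, 44803001 ≤ n → n < 44929103 → ChainP n :=
  chainP_leaf 44803001 44929103 pr_44803001 (by norm_num)
theorem pr_44929103 : Nat.Prime 44929103 := by norm_num
theorem seg_44929103 : ∀ n : ℕ, 44929103 ≤ n → n < 45055481 → ChainP n :=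
  chainP_leaf 44929103 45055481 pr_44929103 (by norm_num)
theorem pr_45055481 : Nat.Prime 45055481 := by norm_num
theorem seg_45055481 : ∀ n : ℕ, 45055481 ≤ n → n < 45182077 → ChainP n :=
  chainP_leaf 45055481 45182077 pr_45055481 (by norm_num)
theorem pr_45182077 : Nat.Prime 45182077 := by norm_num
theorem seg_45182077 : ∀ n : ℕ, 45182077 ≤ n → n < 45308911 → ChainP n :=
  chainP_leaf 45182077 45308911 pr_45182077 (by norm_num)
theorem pr_45308911 : Nat.Prime 45308911 := by norm_num
theorem seg_45308911 : ∀ n : ℕ, 45308911 ≤ n → n < 45435997 → ChainP n :=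
  chainP_leaf 45308911 45435997 pr_45308911 (by norm_num)
theorem pr_45435997 : Nat.Prime 45435997 := by norm_num
theorem seg_45435997 : ∀ n : ℕ, 45435997 ≤ n → n < 45563269 → ChainP n :=
  chainP_leaf 45435997 45563269 pr_45435997 (by norm_num)
theorem pr_45563269 : Nat.Prime 45563269 := by norm_num
theorem seg_45563269 : ∀ n : ℕ, 45563269 ≤ n → n < 45690833 → ChainP n :=
  chainP_leaf 45563269 45690833 pr_45563269 (by norm_num)
theorem pr_45690833 : Nat.Prime 45690833 := by norm_num
theorem seg_45690833 : ∀ n : ℕ, 45690833 ≤ n → n < 45818627 → ChainP n :=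
  chainP_leaf 45690833 45818627 pr_45690833 (by norm_num)
theorem pr_45818627 : Nat.Prime 45818627 := by norm_num
theorem seg_45818627 : ∀ n : ℕ, 45818627 ≤ n → n < 45946633 → ChainP n :=
  chainP_leaf 45818627 45946633 pr_45818627 (by norm_num)
theorem pr_45946633 : Nat.Prime 45946633 := by norm_num
theorem seg_45946633 : ∀ n : ℕ, 45946633 ≤ n → n < 46074907 → ChainP n :=
  chainP_leaf 45946633 46074907 pr_45946633 (by norm_num)
theorem pr_46074907 : Nat.Prime 46074907 := by norm_num
theorem seg_46074907 : ∀ n : ℕ, 46074907 ≤ n → n < 46203407 → ChainP n :=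
  chainP_leaf 46074907 46203407 pr_46074907 (by norm_num)
theorem pr_46203407 : Nat.Prime 46203407 := by norm_num
theorem seg_46203407 : ∀ n : ℕ, 46203407 ≤ n → n < 46332163 → ChainP n :=
  chainP_leaf 46203407 46332163 pr_46203407 (by norm_num)
theorem pr_46332163 : Nat.Prime 46332163 := by norm_num
theorem seg_46332163 : ∀ n : ℕ, 46332163 ≤ n → n < 46461133 → ChainP n :=
  chainP_leaf 46332163 46461133 pr_46332163 (by norm_num)
theorem pr_46461133 : Nat.Prime 46461133 := by norm_num
theorem seg_46461133 : ∀ n : ℕ, 46461133 ≤ n → n < 46590359 → ChainP n :=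
  chainP_leaf 46461133 46590359 pr_46461133 (by norm_num)
theorem pr_46590359 : Nat.Prime 46590359 := by norm_num
theorem seg_46590359 : ∀ n : ℕ, 46590359 ≤ n → n < 46719811 → ChainP n :=
  chainP_leaf 46590359 46719811 pr_46590359 (by norm_num)
theorem pr_46719811 : Nat.Prime 46719811 := by norm_num
theorem seg_46719811 : ∀ n : ℕ, 46719811 ≤ n → n < 46849513 → ChainP n :=
  chainP_leaf 46719811 46849513 pr_46719811 (by norm_num)
theorem pr_46849513 : Nat.Prime 46849513 := by norm_num
theorem seg_46849513 : ∀ n : ℕ, 46849513 ≤ n → n < 46979453 → ChainP n :=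
  chainP_leaf 46849513 46979453 pr_46849513 (by norm_num)
theorem pr_46979453 : Nat.Prime 46979453 := by norm_num
theorem seg_46979453 : ∀ n : ℕ, 46979453 ≤ n → n < 47109637 → ChainP n :=
  chainP_leaf 46979453 47109637 pr_46979453 (by norm_num)
theorem pr_47109637 : Nat.Prime 47109637 := by norm_num
theorem seg_47109637 : ∀ n : ℕ, 47109637 ≤ n → n < 47240071 → ChainP n :=
  chainP_leaf 47109637 47240071 pr_47109637 (by norm_num)
theorem pr_47240071 : Nat.Prime 47240071 := by norm_num
theorem seg_47240071 : ∀ n : ℕ, 47240071 ≤ n → n < 47370749 → ChainP n :=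
  chainP_leaf 47240071 47370749 pr_47240071 (by norm_num)
theorem pr_47370749 : Nat.Prime 47370749 := by norm_num
theorem seg_47370749 : ∀ n : ℕ, 47370749 ≤ n → n < 47501659 → ChainP n :=
  chainP_leaf 47370749 47501659 pr_47370749 (by norm_num)
theorem pr_47501659 : Nat.Prime 47501659 := by norm_num
theorem seg_47501659 : ∀ n : ℕ, 47501659 ≤ n → n < 47632807 → ChainP n :=
  chainP_leaf 47501659 47632807 pr_47501659 (by norm_num)
theorem pr_47632807 : Nat.Prime 47632807 := by norm_num
theorem seg_47632807 : ∀ n : ℕ, 47632807 ≤ n → n < 47764207 → ChainP n :=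
  chainP_leaf 47632807 47764207 pr_47632807 (by norm_num)
theorem pr_47764207 : Nat.Prime 47764207 := by norm_num
theorem seg_47764207 : ∀ n : ℕ, 47764207 ≤ n → n < 47895823 → ChainP n :=
  chainP_leaf 47764207 47895823 pr_47764207 (by norm_num)
theorem pr_47895823 : Nat.Prime 47895823 := by norm_num
theorem seg_47895823 : ∀ n : ℕ, 47895823 ≤ n → n < 48027691 → ChainP n :=
  chainP_leaf 47895823 48027691 pr_47895823 (by norm_num)
theorem pr_48027691 : Nat.Prime 48027691 := by norm_num
theorem seg_48027691 : ∀ n : ℕ, 48027691 ≤ n → n < 48159803 → ChainP n :=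
  chainP_leaf 48027691 48159803 pr_48027691 (by norm_num)
theorem pr_48159803 : Nat.Prime 48159803 := by norm_num
theorem seg_48159803 : ∀ n : ℕ, 48159803 ≤ n → n < 48292151 → ChainP n :=
  chainP_leaf 48159803 48292151 pr_48159803 (by norm_num)
theorem pr_48292151 : Nat.Prime 48292151 := by norm_num
theorem seg_48292151 : ∀ n : ℕ, 48292151 ≤ n → n < 48424757 → ChainP n :=
  chainP_leaf 48292151 48424757 pr_48292151 (by norm_num)
theorem pr_48424757 : Nat.Prime 48424757 := by norm_num
theorem seg_48424757 : ∀ n : ℕ, 48424757 ≤ n → n < 48557611 → ChainP n :=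
  chainP_leaf 48424757 48557611 pr_48424757 (by norm_num)
theorem pr_48557611 : Nat.Prime 48557611 := by norm_num
theorem seg_48557611 : ∀ n : ℕ, 48557611 ≤ n → n < 48690661 → ChainP n :=
  chainP_leaf 48557611 48690661 pr_48557611 (by norm_num)
theorem pr_48690661 : Nat.Prime 48690661 := by norm_num
theorem seg_48690661 : ∀ n : ℕ, 48690661 ≤ n → n < 48823997 → ChainP n :=
  chainP_leaf 48690661 48823997 pr_48690661 (by norm_num)
theorem pr_48823997 : Nat.Prime 48823997 := by norm_num
theorem seg_48823997 : ∀ n : ℕ, 48823997 ≤ n → n < 48957577 → ChainP n :=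
  chainP_leaf 48823997 48957577 pr_48823997 (by norm_num)
theorem pr_48957577 : Nat.Prime 48957577 := by norm_num
theorem seg_48957577 : ∀ n : ℕ, 48957577 ≤ n → n < 49091401 → ChainP n :=
  chainP_leaf 48957577 49091401 pr_48957577 (by norm_num)
theorem pr_49091401 : Nat.Prime 49091401 := by norm_num
theorem seg_49091401 : ∀ n : ℕ, 49091401 ≤ n → n < 49225471 → ChainP n :=
  chainP_leaf 49091401 49225471 pr_49091401 (by norm_num)
theorem pr_49225471 : Nat.Prime 49225471 := by norm_num
theorem seg_49225471 : ∀ n : ℕ, 49225471 ≤ n → n < 49359749 → ChainP n :=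
  chainP_leaf 49225471 49359749 pr_49225471 (by norm_num)
theorem pr_49359749 : Nat.Prime 49359749 := by norm_num
theorem seg_49359749 : ∀ n : ℕ, 49359749 ≤ n → n < 49494301 → ChainP n :=
  chainP_leaf 49359749 49494301 pr_49359749 (by norm_num)
theorem pr_49494301 : Nat.Prime 49494301 := by norm_num
theorem seg_49494301 : ∀ n : ℕ, 49494301 ≤ n → n < 49629091 → ChainP n :=
  chainP_leaf 49494301 49629091 pr_49494301 (by norm_num)
theorem pr_49629091 : Nat.Prime 49629091 := by norm_num
theorem seg_49629091 : ∀ n : ℕ, 49629091 ≤ n → n < 49764137 → ChainP n :=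
  chainP_leaf 49629091 49764137 pr_49629091 (by norm_num)
theorem pr_49764137 : Nat.Prime 49764137 := by norm_num
theorem seg_49764137 : ∀ n : ℕ, 49764137 ≤ n → n < 49899407 → ChainP n :=
  chainP_leaf 49764137 49899407 pr_49764137 (by norm_num)
theorem pr_49899407 : Nat.Prime 49899407 := by norm_num
theorem seg_49899407 : ∀ n : ℕ, 49899407 ≤ n → n < 50034917 → ChainP n :=
  chainP_leaf 49899407 50034917 pr_49899407 (by norm_num)
theorem pr_50034917 : Nat.Prime 50034917 := by norm_num
theorem seg_50034917 : ∀ n : ℕ, 50034917 ≤ n → n < 50170693 → ChainP n :=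
  chainP_leaf 50034917 50170693 pr_50034917 (by norm_num)
theorem pr_50170693 : Nat.Prime 50170693 := by norm_num
theorem seg_50170693 : ∀ n : ℕ, 50170693 ≤ n → n < 50306719 → ChainP n :=
  chainP_leaf 50170693 50306719 pr_50170693 (by norm_num)
theorem pr_50306719 : Nat.Prime 50306719 := by norm_num
theorem seg_50306719 : ∀ n : ℕ, 50306719 ≤ n → n < 50442971 → ChainP n :=
  chainP_leaf 50306719 50442971 pr_50306719 (by norm_num)
theorem pr_50442971 : Nat.Prime 50442971 := by norm_num
theorem seg_50442971 : ∀ n : ℕ, 50442971 ≤ n → n < 50579483 → ChainP n :=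
  chainP_leaf 50442971 50579483 pr_50442971 (by norm_num)
theorem pr_50579483 : Nat.Prime 50579483 := by norm_num
theorem seg_50579483 : ∀ n : ℕ, 50579483 ≤ n → n < 50716231 → ChainP n :=
  chainP_leaf 50579483 50716231 pr_50579483 (by norm_num)
theorem pr_50716231 : Nat.Prime 50716231 := by norm_num
theorem seg_50716231 : ∀ n : ℕ, 50716231 ≤ n → n < 50853241 → ChainP n :=
  chainP_leaf 50716231 50853241 pr_50716231 (by norm_num)
theorem pr_50853241 : Nat.Prime 50853241 := by norm_num
theorem seg_50853241 : ∀ n : ℕ, 50853241 ≤ n → n < 50990483 → ChainP n :=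
  chainP_leaf 50853241 50990483 pr_50853241 (by norm_num)
theorem pr_50990483 : Nat.Prime 50990483 := by norm_num
theorem seg_50990483 : ∀ n : ℕ, 50990483 ≤ n → n < 51127927 → ChainP n :=
  chainP_leaf 50990483 51127927 pr_50990483 (by norm_num)
theorem pr_51127927 : Nat.Prime 51127927 := by norm_num
theorem seg_51127927 : ∀ n : ℕ, 51127927 ≤ n → n < 51265651 → ChainP n :=
  chainP_leaf 51127927 51265651 pr_51127927 (by norm_num)
theorem pr_51265651 : Nat.Prime 51265651 := by norm_num
theorem seg_51265651 : ∀ n : ℕ, 51265651 ≤ n → n < 51403591 → ChainP n :=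
  chainP_leaf 51265651 51403591 pr_51265651 (by norm_num)
theorem pr_51403591 : Nat.Prime 51403591 := by norm_num
theorem seg_51403591 : ∀ n : ℕ, 51403591 ≤ n → n < 51541829 → ChainP n :=
  chainP_leaf 51403591 51541829 pr_51403591 (by norm_num)
theorem pr_51541829 : Nat.Prime 51541829 := by norm_num
theorem seg_51541829 : ∀ n : ℕ, 51541829 ≤ n → n < 51680309 → ChainP n :=
  chainP_leaf 51541829 51680309 pr_51541829 (by norm_num)
theorem pr_51680309 : Nat.Prime 51680309 := by norm_num
theorem seg_51680309 : ∀ n : ℕ, 51680309 ≤ n → n < 51819037 → ChainP n :=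
  chainP_leaf 51680309 51819037 pr_51680309 (by norm_num)
theorem pr_51819037 : Nat.Prime 51819037 := by norm_num
theorem seg_51819037 : ∀ n : ℕ, 51819037 ≤ n → n < 51958021 → ChainP n :=
  chainP_leaf 51819037 51958021 pr_51819037 (by norm_num)
theorem pr_51958021 : Nat.Prime 51958021 := by norm_num
theorem seg_51958021 : ∀ n : ℕ, 51958021 ≤ n → n < 52097249 → ChainP n :=
  chainP_leaf 51958021 52097249 pr_51958021 (by norm_num)
theorem pr_52097249 : Nat.Prime 52097249 := by norm_num
theorem seg_52097249 : ∀ n : ℕ, 52097249 ≤ n → n < 52236739 → ChainP n :=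
  chainP_leaf 52097249 52236739 pr_52097249 (by norm_num)
theorem pr_52236739 : Nat.Prime 52236739 := by norm_num
theorem seg_52236739 : ∀ n : ℕ, 52236739 ≤ n → n < 52376461 → ChainP n :=
  chainP_leaf 52236739 52376461 pr_52236739 (by norm_num)
theorem pr_52376461 : Nat.Prime 52376461 := by norm_num
theorem seg_52376461 : ∀ n : ℕ, 52376461 ≤ n → n < 52516447 → ChainP n :=
  chainP_leaf 52376461 52516447 pr_52376461 (by norm_num)
theorem pr_52516447 : Nat.Prime 52516447 := by norm_num
theorem seg_52516447 : ∀ n : ℕ, 52516447 ≤ n → n < 52656679 → ChainP n :=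
  chainP_leaf 52516447 52656679 pr_52516447 (by norm_num)
theorem pr_52656679 : Nat.Prime 52656679 := by norm_num
theorem seg_52656679 : ∀ n : ℕ, 52656679 ≤ n → n < 52797149 → ChainP n :=
  chainP_leaf 52656679 52797149 pr_52656679 (by norm_num)
theorem pr_52797149 : Nat.Prime 52797149 := by norm_num
theorem seg_52797149 : ∀ n : ℕ, 52797149 ≤ n → n < 52937869 → ChainP n :=
  chainP_leaf 52797149 52937869 pr_52797149 (by norm_num)
theorem pr_52937869 : Nat.Prime 52937869 := by norm_num
theorem seg_52937869 : ∀ n : ℕ, 52937869 ≤ n → n < 53078849 → ChainP n :=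
  chainP_leaf 52937869 53078849 pr_52937869 (by norm_num)
theorem pr_53078849 : Nat.Prime 53078849 := by norm_num
theorem seg_53078849 : ∀ n : ℕ, 53078849 ≤ n → n < 53220077 → ChainP n :=
  chainP_leaf 53078849 53220077 pr_53078849 (by norm_num)
theorem pr_53220077 : Nat.Prime 53220077 := by norm_num
theorem seg_53220077 : ∀ n : ℕ, 53220077 ≤ n → n < 53361559 → ChainP n :=
  chainP_leaf 53220077 53361559 pr_53220077 (by norm_num)
theorem pr_53361559 : Nat.Prime 53361559 := by norm_num
theorem seg_53361559 : ∀ n : ℕ, 53361559 ≤ n → n < 53503217 → ChainP n :=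
  chainP_leaf 53361559 53503217 pr_53361559 (by norm_num)
theorem pr_53503217 : Nat.Prime 53503217 := by norm_num
theorem seg_53503217 : ∀ n : ℕ, 53503217 ≤ n → n < 53645203 → ChainP n :=
  chainP_leaf 53503217 53645203 pr_53503217 (by norm_num)
theorem pr_53645203 : Nat.Prime 53645203 := by norm_num
theorem seg_53645203 : ∀ n : ℕ, 53645203 ≤ n → n < 53787427 → ChainP n :=
  chainP_leaf 53645203 53787427 pr_53645203 (by norm_num)
theorem pr_53787427 : Nat.Prime 53787427 := by norm_num
theorem seg_53787427 : ∀ n : ℕ, 53787427 ≤ n → n < 53929907 → ChainP n :=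
  chainP_leaf 53787427 53929907 pr_53787427 (by norm_num)
theorem pr_53929907 : Nat.Prime 53929907 := by norm_num
theorem seg_53929907 : ∀ n : ℕ, 53929907 ≤ n → n < 54072643 → ChainP n :=
  chainP_leaf 53929907 54072643 pr_53929907 (by norm_num)
theorem pr_54072643 : Nat.Prime 54072643 := by norm_num
theorem seg_54072643 : ∀ n : ℕ, 54072643 ≤ n → n < 54215617 → ChainP n :=
  chainP_leaf 54072643 54215617 pr_54072643 (by norm_num)
theorem pr_54215617 : Nat.Prime 54215617 := by norm_num
theorem seg_54215617 : ∀ n : ℕ, 54215617 ≤ n → n < 54358861 → ChainP n :=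
  chainP_leaf 54215617 54358861 pr_54215617 (by norm_num)
theorem pr_54358861 : Nat.Prime 54358861 := by norm_num
theorem seg_54358861 : ∀ n : ℕ, 54358861 ≤ n → n < 54502351 → ChainP n :=
  chainP_leaf 54358861 54502351 pr_54358861 (by norm_num)
theorem pr_54502351 : Nat.Prime 54502351 := by norm_num
theorem seg_54502351 : ∀ n : ℕ, 54502351 ≤ n → n < 54646099 → ChainP n :=
  chainP_leaf 54502351 54646099 pr_54502351 (by norm_num)
theorem pr_54646099 : Nat.Prime 54646099 := by norm_num
theorem seg_54646099 : ∀ n : ℕ, 54646099 ≤ n → n < 54790079 → ChainP n :=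
  chainP_leaf 54646099 54790079 pr_54646099 (by norm_num)
theorem pr_54790079 : Nat.Prime 54790079 := by norm_num
theorem seg_54790079 : ∀ n : ℕ, 54790079 ≤ n → n < 54934331 → ChainP n :=
  chainP_leaf 54790079 54934331 pr_54790079 (by norm_num)
theorem pr_54934331 : Nat.Prime 54934331 := by norm_num
theorem seg_54934331 : ∀ n : ℕ, 54934331 ≤ n → n < 55078823 → ChainP n :=
  chainP_leaf 54934331 55078823 pr_54934331 (by norm_num)
theorem pr_55078823 : Nat.Prime 55078823 := by norm_num
theorem seg_55078823 : ∀ n : ℕ, 55078823 ≤ n → n < 55223561 → ChainP n :=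
  chainP_leaf 55078823 55223561 pr_55078823 (by norm_num)
theorem pr_55223561 : Nat.Prime 55223561 := by norm_num
theorem seg_55223561 : ∀ n : ℕ, 55223561 ≤ n → n < 55368559 → ChainP n :=
  chainP_leaf 55223561 55368559 pr_55223561 (by norm_num)
theorem pr_55368559 : Nat.Prime 55368559 := by norm_num
theorem seg_55368559 : ∀ n : ℕ, 55368559 ≤ n → n < 55513793 → ChainP n :=
  chainP_leaf 55368559 55513793 pr_55368559 (by norm_num)
theorem pr_55513793 : Nat.Prime 55513793 := by norm_num
theorem seg_55513793 : ∀ n : ℕ, 55513793 ≤ n → n < 55659299 → ChainP n :=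
  chainP_leaf 55513793 55659299 pr_55513793 (by norm_num)
theorem pr_55659299 : Nat.Prime 55659299 := by norm_num
theorem seg_55659299 : ∀ n : ℕ, 55659299 ≤ n → n < 55805063 → ChainP n :=
  chainP_leaf 55659299 55805063 pr_55659299 (by norm_num)
theorem pr_55805063 : Nat.Prime 55805063 := by norm_num
theorem seg_55805063 : ∀ n : ℕ, 55805063 ≤ n → n < 55951061 → ChainP n :=
  chainP_leaf 55805063 55951061 pr_55805063 (by norm_num)
theorem pr_55951061 : Nat.Prime 55951061 := by norm_num
theorem seg_55951061 : ∀ n : ℕ, 55951061 ≤ n → n < 56097343 → ChainP n :=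
  chainP_leaf 55951061 56097343 pr_55951061 (by norm_num)
theorem pr_56097343 : Nat.Prime 56097343 := by norm_num
theorem seg_56097343 : ∀ n : ℕ, 56097343 ≤ n → n < 56243881 → ChainP n :=
  chainP_leaf 56097343 56243881 pr_56097343 (by norm_num)
theorem pr_56243881 : Nat.Prime 56243881 := by norm_num
theorem seg_56243881 : ∀ n : ℕ, 56243881 ≤ n → n < 56390639 → ChainP n :=
  chainP_leaf 56243881 56390639 pr_56243881 (by norm_num)
theorem pr_56390639 : Nat.Prime 56390639 := by norm_num
theorem seg_56390639 : ∀ n : ℕ, 56390639 ≤ n → n < 56537681 → ChainP n :=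
  chainP_leaf 56390639 56537681 pr_56390639 (by norm_num)
theorem pr_56537681 : Nat.Prime 56537681 := by norm_num
theorem seg_56537681 : ∀ n : ℕ, 56537681 ≤ n → n < 56684911 → ChainP n :=
  chainP_leaf 56537681 56684911 pr_56537681 (by norm_num)

theorem chainH : ∀ n : ℕ, 43678361 ≤ n → n < 56684911 → ChainP n :=
  (chainP_join 43678361 49899407 56684911 (chainP_join 43678361 46719811 49899407 (chainP_join 43678361 45182077 46719811 (chainP_join 43678361 44425991 45182077 (chainP_join 43678361 44051099 44425991 (chainP_join 43678361 43802371 44051099 seg_43678361 (chainP_join 43802371 43926611 44051099 seg_43802371 seg_43926611)) (chainP_join 44051099 44175829 44425991 seg_44051099 (chainP_join 44175829 44300791 44425991 seg_44175829 seg_44300791))) (chainP_join 44425991 44803001 45182077 (chainP_join 44425991 44551427 44803001 seg_44425991 (chainP_join 44551427 44677099 44803001 seg_44551427 seg_44677099)) (chainP_join 44803001 44929103 45182077 seg_44803001 (chainP_join 44929103 45055481 45182077 seg_44929103 seg_45055481)))) (chainP_join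 45182077 45946633 46719811 (chainP_join 45182077 45563269 45946633 (chainP_join 45182077 45308911 45563269 seg_45182077 (chainP_join 45308911 45435997 45563269 seg_45308911 seg_45435997)) (chainP_join 45563269 45690833 45946633 seg_45563269 (chainP_join 45690833 45818627 45946633 seg_45690833 seg_45818627))) (chainP_join 45946633 46332163 46719811 (chainP_join 45946633 46074907 46332163 seg_45946633 (chainP_join 46074907 46203407 46332163 seg_46074907 seg_46203407)) (chainP_join 46332163 46461133 46719811 seg_46332163 (chainP_join 46461133 46590359 46719811 seg_46461133 seg_46590359))))) (chainP_join 46719811 48292151 49899407 (chainP_join 46719811 47501659 48292151 (chainP_join 46719811 47109637 47501659 (chainP_join 46719811 46849513 47109637 seg_46719811 (chainP_join 46849513 46979453 47109637 seg_46849513 seg_46979453)) (chainP_join 47109637 47240071 47501659 seg_47109637 (chainP_join 47240071 47370749 47501659 seg_47240071 seg_47370749))) (chainP_join 47501659 47895823 48292151 (chainP_join 47501659 47632807 47895823 seg_47501659 (chainP_join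 47632807 47764207 47895823 seg_47632807 seg_47764207)) (chainP_join 47895823 48027691 48292151 seg_47895823 (chainP_join 48027691 48159803 48292151 seg_48027691 seg_48159803)))) (chainP_join 48292151 49091401 49899407 (chainP_join 48292151 48690661 49091401 (chainP_join 48292151 48424757 48690661 seg_48292151 (chainP_join 48424757 48557611 48690661 seg_48424757 seg_48557611)) (chainP_join 48690661 48823997 49091401 seg_48690661 (chainP_join 48823997 48957577 49091401 seg_48823997 seg_48957577))) (chainP_join 49091401 49494301 49899407 (chainP_join 49091401 49225471 49494301 seg_49091401 (chainP_join 49225471 49359749 49494301 seg_49225471 seg_49359749)) (chainP_join 49494301 49629091 49899407 seg_49494301 (chainP_join 49629091 49764137 49899407 seg_49629091 seg_49764137)))))) (chainP_join 49899407 53220077 56684911 (chainP_join 49899407 51541829 53220077 (chainP_join 49899407 50716231 51541829 (chainP_join 49899407 50306719 50716231 (chainP_join 49899407 50034917 50306719 seg_49899407 (chainP_join 50034917 50170693 50306719 seg_50034917 seg_50170693))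 (chainP_join 50306719 50442971 50716231 seg_50306719 (chainP_join 50442971 50579483 50716231 seg_50442971 seg_50579483))) (chainP_join 50716231 51127927 51541829 (chainP_join 50716231 50853241 51127927 seg_50716231 (chainP_join 50853241 50990483 51127927 seg_50853241 seg_50990483)) (chainP_join 51127927 51265651 51541829 seg_51127927 (chainP_join 51265651 51403591 51541829 seg_51265651 seg_51403591)))) (chainP_join 51541829 52376461 53220077 (chainP_join 51541829 51958021 52376461 (chainP_join 51541829 51680309 51958021 seg_51541829 (chainP_join 51680309 51819037 51958021 seg_51680309 seg_51819037)) (chainP_join 51958021 52097249 52376461 seg_51958021 (chainP_join 52097249 52236739 52376461 seg_52097249 seg_52236739))) (chainP_join 52376461 52797149 53220077 (chainP_join 52376461 52516447 52797149 seg_52376461 (chainP_join 52516447 52656679 52797149 seg_52516447 seg_52656679)) (chainP_join 52797149 52937869 53220077 seg_52797149 (chainP_join 52937869 53078849 53220077 seg_52937869 seg_53078849))))) (chainP_join 53220077 54934331 56684911 (chainP_join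 53220077 54072643 54934331 (chainP_join 53220077 53645203 54072643 (chainP_join 53220077 53361559 53645203 seg_53220077 (chainP_join 53361559 53503217 53645203 seg_53361559 seg_53503217)) (chainP_join 53645203 53787427 54072643 seg_53645203 (chainP_join 53787427 53929907 54072643 seg_53787427 seg_53929907))) (chainP_join 54072643 54502351 54934331 (chainP_join 54072643 54215617 54502351 seg_54072643 (chainP_join 54215617 54358861 54502351 seg_54215617 seg_54358861)) (chainP_join 54502351 54646099 54934331 seg_54502351 (chainP_join 54646099 54790079 54934331 seg_54646099 seg_54790079)))) (chainP_join 54934331 55805063 56684911 (chainP_join 54934331 55368559 55805063 (chainP_join 54934331 55078823 55368559 seg_54934331 (chainP_join 55078823 55223561 55368559 seg_55078823 seg_55223561)) (chainP_join 55368559 55513793 55805063 seg_55368559 (chainP_join 55513793 55659299 55805063 seg_55513793 seg_55659299))) (chainP_join 55805063 56243881 56684911 (chainP_join 55805063 55951061 56243881 seg_55805063 (chainP_join 55951061 56097343 56243881 seg_55951061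 seg_56097343)) (chainP_join 56243881 56390639 56684911 seg_56243881 (chainP_join 56390639 56537681 56684911 seg_56390639 seg_56537681)))))))

end Cfsg.Agent.Lib.H14.SS
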