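import Cfsg.Agent.Lib.H14.SSChainDefs

/-! Generated: chain primes 56684911 .. 72048377 (part I) for SS11 (Sylvester-Schur, S3571 NT block). -/

set_option autoImplicit false
set_option maxRecDepth 100000

namespace Cfsg.Agent.Lib.H14.SS

theorem pr_56684911 : Nat.Prime 56684911 := by norm_num
theorem seg_56684911 : ∀ n : ℕ, 56684911 ≤ n → n < 56832473 → ChainP n :=
  chainP_leaf 56684911 56832473 pr_56684911 (by norm_num)
theorem pr_56832473 : Nat.Prime 56832473 := by norm_num
theorem seg_56832473 : ∀ n : ℕ, 56832473 ≤ n → n < 56980279 → ChainP n :=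
  chainP_leaf 56832473 56980279 pr_56832473 (by norm_num)
theorem pr_56980279 : Nat.Prime 56980279 := by norm_num
theorem seg_56980279 : ∀ n : ℕ, 56980279 ≤ n → n < 57128339 → ChainP n :=
  chainP_leaf 56980279 57128339 pr_56980279 (by norm_num)
theorem pr_57128339 : Nat.Prime 57128339 := by norm_num
theorem seg_57128339 : ∀ n : ℕ, 57128339 ≤ n → n < 57276617 → ChainP n :=
  chainP_leaf 57128339 57276617 pr_57128339 (by norm_num)
theorem pr_57276617 : Nat.Prime 57276617 := by norm_num
theorem seg_57276617 : ∀ n : ℕ, 57276617 ≤ n → n < 57425197 → ChainP n :=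
  chainP_leaf 57276617 57425197 pr_57276617 (by norm_num)
theorem pr_57425197 : Nat.Prime 57425197 := by norm_num
theorem seg_57425197 : ∀ n : ℕ, 57425197 ≤ n → n < 57574039 → ChainP n :=
  chainP_leaf 57425197 57574039 pr_57425197 (by norm_num)
theorem pr_57574039 : Nat.Prime 57574039 := by norm_num
theorem seg_57574039 : ∀ n : ℕ, 57574039 ≤ n → n < 57723139 → ChainP n :=
  chainP_leaf 57574039 57723139 pr_57574039 (by norm_num)
theorem pr_57723139 : Nat.Prime 57723139 := by norm_num
theorem seg_57723139 : ∀ n : ℕ, 57723139 ≤ n → n < 57872491 → ChainP n :=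
  chainP_leaf 57723139 57872491 pr_57723139 (by norm_num)
theorem pr_57872491 : Nat.Prime 57872491 := by norm_num
theorem seg_57872491 : ∀ n : ℕ, 57872491 ≤ n → n < 58022101 → ChainP n :=
  chainP_leaf 57872491 58022101 pr_57872491 (by norm_num)
theorem pr_58022101 : Nat.Prime 58022101 := by norm_num
theorem seg_58022101 : ∀ n : ℕ, 58022101 ≤ n → n < 58171973 → ChainP n :=
  chainP_leaf 58022101 58171973 pr_58022101 (by norm_num)
theorem pr_58171973 : Nat.Prime 58171973 := by norm_num
theorem seg_58171973 : ∀ n : ℕ, 58171973 ≤ n → n < 58322081 → ChainP n :=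
  chainP_leaf 58171973 58322081 pr_58171973 (by norm_num)
theorem pr_58322081 : Nat.Prime 58322081 := by norm_num
theorem seg_58322081 : ∀ n : ℕ, 58322081 ≤ n → n < 58472471 → ChainP n :=
  chainP_leaf 58322081 58472471 pr_58322081 (by norm_num)
theorem pr_58472471 : Nat.Prime 58472471 := by norm_num
theorem seg_58472471 : ∀ n : ℕ, 58472471 ≤ n → n < 58623119 → ChainP n :=
  chainP_leaf 58472471 58623119 pr_58472471 (by norm_num)
theorem pr_58623119 : Nat.Prime 58623119 := by norm_num
theorem seg_58623119 : ∀ n : ℕ, 58623119 ≤ n → n < 58774007 → ChainP n :=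
  chainP_leaf 58623119 58774007 pr_58623119 (by norm_num)
theorem pr_58774007 : Nat.Prime 58774007 := by norm_num
theorem seg_58774007 : ∀ n : ℕ, 58774007 ≤ n → n < 58925173 → ChainP n :=
  chainP_leaf 58774007 58925173 pr_58774007 (by norm_num)
theorem pr_58925173 : Nat.Prime 58925173 := by norm_num
theorem seg_58925173 : ∀ n : ℕ, 58925173 ≤ n → n < 59076599 → ChainP n :=
  chainP_leaf 58925173 59076599 pr_58925173 (by norm_num)
theorem pr_59076599 : Nat.Prime 59076599 := by norm_num
theorem seg_59076599 : ∀ n : ℕ, 59076599 ≤ n → n < 59228249 → ChainP n :=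
  chainP_leaf 59076599 59228249 pr_59076599 (by norm_num)
theorem pr_59228249 : Nat.Prime 59228249 := by norm_num
theorem seg_59228249 : ∀ n : ℕ, 59228249 ≤ n → n < 59380147 → ChainP n :=
  chainP_leaf 59228249 59380147 pr_59228249 (by norm_num)
theorem pr_59380147 : Nat.Prime 59380147 := by norm_num
theorem seg_59380147 : ∀ n : ℕ, 59380147 ≤ n → n < 59532337 → ChainP n :=
  chainP_leaf 59380147 59532337 pr_59380147 (by norm_num)
theorem pr_59532337 : Nat.Prime 59532337 := by norm_num
theorem seg_59532337 : ∀ n : ℕ, 59532337 ≤ n → n < 59684797 → ChainP n :=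
  chainP_leaf 59532337 59684797 pr_59532337 (by norm_num)
theorem pr_59684797 : Nat.Prime 59684797 := by norm_num
theorem seg_59684797 : ∀ n : ℕ, 59684797 ≤ n → n < 59837521 → ChainP n :=
  chainP_leaf 59684797 59837521 pr_59684797 (by norm_num)
theorem pr_59837521 : Nat.Prime 59837521 := by norm_num
theorem seg_59837521 : ∀ n : ℕ, 59837521 ≤ n → n < 59990477 → ChainP n :=
  chainP_leaf 59837521 59990477 pr_59837521 (by norm_num)
theorem pr_59990477 : Nat.Prime 59990477 := by norm_num
theorem seg_59990477 : ∀ n : ℕ, 59990477 ≤ n → n < 60143669 → ChainP n :=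
  chainP_leaf 59990477 60143669 pr_59990477 (by norm_num)
theorem pr_60143669 : Nat.Prime 60143669 := by norm_num
theorem seg_60143669 : ∀ n : ℕ, 60143669 ≤ n → n < 60297143 → ChainP n :=
  chainP_leaf 60143669 60297143 pr_60143669 (by norm_num)
theorem pr_60297143 : Nat.Prime 60297143 := by norm_num
theorem seg_60297143 : ∀ n : ℕ, 60297143 ≤ n → n < 60450889 → ChainP n :=
  chainP_leaf 60297143 60450889 pr_60297143 (by norm_num)
theorem pr_60450889 : Nat.Prime 60450889 := by norm_num
theorem seg_60450889 : ∀ n : ℕ, 60450889 ≤ n → n < 60604909 → ChainP n :=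
  chainP_leaf 60450889 60604909 pr_60450889 (by norm_num)
theorem pr_60604909 : Nat.Prime 60604909 := by norm_num
theorem seg_60604909 : ∀ n : ℕ, 60604909 ≤ n → n < 60759199 → ChainP n :=
  chainP_leaf 60604909 60759199 pr_60604909 (by norm_num)
theorem pr_60759199 : Nat.Prime 60759199 := by norm_num
theorem seg_60759199 : ∀ n : ℕ, 60759199 ≤ n → n < 60913747 → ChainP n :=
  chainP_leaf 60759199 60913747 pr_60759199 (by norm_num)
theorem pr_60913747 : Nat.Prime 60913747 := by norm_num
theorem seg_60913747 : ∀ n : ℕ, 60913747 ≤ n → n < 61068559 → ChainP n :=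
  chainP_leaf 60913747 61068559 pr_60913747 (by norm_num)
theorem pr_61068559 : Nat.Prime 61068559 := by norm_num
theorem seg_61068559 : ∀ n : ℕ, 61068559 ≤ n → n < 61223627 → ChainP n :=
  chainP_leaf 61068559 61223627 pr_61068559 (by norm_num)
theorem pr_61223627 : Nat.Prime 61223627 := by norm_num
theorem seg_61223627 : ∀ n : ℕ, 61223627 ≤ n → n < 61378951 → ChainP n :=
  chainP_leaf 61223627 61378951 pr_61223627 (by norm_num)
theorem pr_61378951 : Nat.Prime 61378951 := by norm_num
theorem seg_61378951 : ∀ n : ℕ, 61378951 ≤ n → n < 61534541 → ChainP n :=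
  chainP_leaf 61378951 61534541 pr_61378951 (by norm_num)
theorem pr_61534541 : Nat.Prime 61534541 := by norm_num
theorem seg_61534541 : ∀ n : ℕ, 61534541 ≤ n → n < 61690379 → ChainP n :=
  chainP_leaf 61534541 61690379 pr_61534541 (by norm_num)
theorem pr_61690379 : Nat.Prime 61690379 := by norm_num
theorem seg_61690379 : ∀ n : ℕ, 61690379 ≤ n → n < 61846489 → ChainP n :=
  chainP_leaf 61690379 61846489 pr_61690379 (by norm_num)
theorem pr_61846489 : Nat.Prime 61846489 := by norm_num
theorem seg_61846489 : ∀ n : ℕ, 61846489 ≤ n → n < 62002879 → ChainP n :=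
  chainP_leaf 61846489 62002879 pr_61846489 (by norm_num)
theorem pr_62002879 : Nat.Prime 62002879 := by norm_num
theorem seg_62002879 : ∀ n : ℕ, 62002879 ≤ n → n < 62159527 → ChainP n :=
  chainP_leaf 62002879 62159527 pr_62002879 (by norm_num)
theorem pr_62159527 : Nat.Prime 62159527 := by norm_num
theorem seg_62159527 : ∀ n : ℕ, 62159527 ≤ n → n < 62316439 → ChainP n :=
  chainP_leaf 62159527 62316439 pr_62159527 (by norm_num)
theorem pr_62316439 : Nat.Prime 62316439 := by norm_num
theorem seg_62316439 : ∀ n : ℕ, 62316439 ≤ n → n < 62473603 → ChainP n :=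
  chainP_leaf 62316439 62473603 pr_62316439 (by norm_num)
theorem pr_62473603 : Nat.Prime 62473603 := by norm_num
theorem seg_62473603 : ∀ n : ℕ, 62473603 ≤ n → n < 62631031 → ChainP n :=
  chainP_leaf 62473603 62631031 pr_62473603 (by norm_num)
theorem pr_62631031 : Nat.Prime 62631031 := by norm_num
theorem seg_62631031 : ∀ n : ℕ, 62631031 ≤ n → n < 62788717 → ChainP n :=
  chainP_leaf 62631031 62788717 pr_62631031 (by norm_num)
theorem pr_62788717 : Nat.Prime 62788717 := by norm_num
theorem seg_62788717 : ∀ n : ℕ, 62788717 ≤ n → n < 62946649 → ChainP n :=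
  chainP_leaf 62788717 62946649 pr_62788717 (by norm_num)
theorem pr_62946649 : Nat.Prime 62946649 := by norm_num
theorem seg_62946649 : ∀ n : ℕ, 62946649 ≤ n → n < 63104887 → ChainP n :=
  chainP_leaf 62946649 63104887 pr_62946649 (by norm_num)
theorem pr_63104887 : Nat.Prime 63104887 := by norm_num
theorem seg_63104887 : ∀ n : ℕ, 63104887 ≤ n → n < 63263383 → ChainP n :=
  chainP_leaf 63104887 63263383 pr_63104887 (by norm_num)
theorem pr_63263383 : Nat.Prime 63263383 := by norm_num
theorem seg_63263383 : ∀ n : ℕ, 63263383 ≤ n → n < 63422141 → ChainP n :=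
  chainP_leaf 63263383 63422141 pr_63263383 (by norm_num)
theorem pr_63422141 : Nat.Prime 63422141 := by norm_num
theorem seg_63422141 : ∀ n : ℕ, 63422141 ≤ n → n < 63581149 → ChainP n :=
  chainP_leaf 63422141 63581149 pr_63422141 (by norm_num)
theorem pr_63581149 : Nat.Prime 63581149 := by norm_num
theorem seg_63581149 : ∀ n : ℕ, 63581149 ≤ n → n < 63740449 → ChainP n :=
  chainP_leaf 63581149 63740449 pr_63581149 (by norm_num)
theorem pr_63740449 : Nat.Prime 63740449 := by norm_num
theorem seg_63740449 : ∀ n : ℕ, 63740449 ≤ n → n < 63900013 → ChainP n :=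
  chainP_leaf 63740449 63900013 pr_63740449 (by norm_num)
theorem pr_63900013 : Nat.Prime 63900013 := by norm_num
theorem seg_63900013 : ∀ n : ℕ, 63900013 ≤ n → n < 64059833 → ChainP n :=
  chainP_leaf 63900013 64059833 pr_63900013 (by norm_num)
theorem pr_64059833 : Nat.Prime 64059833 := by norm_num
theorem seg_64059833 : ∀ n : ℕ, 64059833 ≤ n → n < 64219927 → ChainP n :=
  chainP_leaf 64059833 64219927 pr_64059833 (by norm_num)
theorem pr_64219927 : Nat.Prime 64219927 := by norm_num
theorem seg_64219927 : ∀ n : ℕ, 64219927 ≤ n → n < 64380293 → ChainP n :=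
  chainP_leaf 64219927 64380293 pr_64219927 (by norm_num)
theorem pr_64380293 : Nat.Prime 64380293 := by norm_num
theorem seg_64380293 : ∀ n : ℕ, 64380293 ≤ n → n < 64540907 → ChainP n :=
  chainP_leaf 64380293 64540907 pr_64380293 (by norm_num)
theorem pr_64540907 : Nat.Prime 64540907 := by norm_num
theorem seg_64540907 : ∀ n : ℕ, 64540907 ≤ n → n < 64701797 → ChainP n :=
  chainP_leaf 64540907 64701797 pr_64540907 (by norm_num)
theorem pr_64701797 : Nat.Prime 64701797 := by norm_num
theorem seg_64701797 : ∀ n : ℕ, 64701797 ≤ n → n < 64862951 → ChainP n :=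
  chainP_leaf 64701797 64862951 pr_64701797 (by norm_num)
theorem pr_64862951 : Nat.Prime 64862951 := by norm_num
theorem seg_64862951 : ∀ n : ℕ, 64862951 ≤ n → n < 65024369 → ChainP n :=
  chainP_leaf 64862951 65024369 pr_64862951 (by norm_num)
theorem pr_65024369 : Nat.Prime 65024369 := by norm_num
theorem seg_65024369 : ∀ n : ℕ, 65024369 ≤ n → n < 65186063 → ChainP n :=
  chainP_leaf 65024369 65186063 pr_65024369 (by norm_num)
theorem pr_65186063 : Nat.Prime 65186063 := by norm_num
theorem seg_65186063 : ∀ n : ℕ, 65186063 ≤ n → n < 65348009 → ChainP n :=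
  chainP_leaf 65186063 65348009 pr_65186063 (by norm_num)
theorem pr_65348009 : Nat.Prime 65348009 := by norm_num
theorem seg_65348009 : ∀ n : ℕ, 65348009 ≤ n → n < 65510243 → ChainP n :=
  chainP_leaf 65348009 65510243 pr_65348009 (by norm_num)
theorem pr_65510243 : Nat.Prime 65510243 := by norm_num
theorem seg_65510243 : ∀ n : ℕ, 65510243 ≤ n → n < 65672729 → ChainP n :=
  chainP_leaf 65510243 65672729 pr_65510243 (by norm_num)
theorem pr_65672729 : Nat.Prime 65672729 := by norm_num
theorem seg_65672729 : ∀ n : ℕ, 65672729 ≤ n → n < 65835479 → ChainP n :=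
  chainP_leaf 65672729 65835479 pr_65672729 (by norm_num)
theorem pr_65835479 : Nat.Prime 65835479 := by norm_num
theorem seg_65835479 : ∀ n : ℕ, 65835479 ≤ n → n < 65998511 → ChainP n :=
  chainP_leaf 65835479 65998511 pr_65835479 (by norm_num)
theorem pr_65998511 : Nat.Prime 65998511 := by norm_num
theorem seg_65998511 : ∀ n : ℕ, 65998511 ≤ n → n < 66161813 → ChainP n :=
  chainP_leaf 65998511 66161813 pr_65998511 (by norm_num)
theorem pr_66161813 : Nat.Prime 66161813 := by norm_num
theorem seg_66161813 : ∀ n : ℕ, 66161813 ≤ n → n < 66325373 → ChainP n :=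
  chainP_leaf 66161813 66325373 pr_66161813 (by norm_num)
theorem pr_66325373 : Nat.Prime 66325373 := by norm_num
theorem seg_66325373 : ∀ n : ℕ, 66325373 ≤ n → n < 66489217 → ChainP n :=
  chainP_leaf 66325373 66489217 pr_66325373 (by norm_num)
theorem pr_66489217 : Nat.Prime 66489217 := by norm_num
theorem seg_66489217 : ∀ n : ℕ, 66489217 ≤ n → n < 66653299 → ChainP n :=
  chainP_leaf 66489217 66653299 pr_66489217 (by norm_num)
theorem pr_66653299 : Nat.Prime 66653299 := by norm_num
theorem seg_66653299 : ∀ n : ℕ, 66653299 ≤ n → n < 66817669 → ChainP n :=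
  chainP_leaf 66653299 66817669 pr_66653299 (by norm_num)
theorem pr_66817669 : Nat.Prime 66817669 := by norm_num
theorem seg_66817669 : ∀ n : ℕ, 66817669 ≤ n → n < 66982327 → ChainP n :=
  chainP_leaf 66817669 66982327 pr_66817669 (by norm_num)
theorem pr_66982327 : Nat.Prime 66982327 := by norm_num
theorem seg_66982327 : ∀ n : ℕ, 66982327 ≤ n → n < 67147247 → ChainP n :=
  chainP_leaf 66982327 67147247 pr_66982327 (by norm_num)
theorem pr_67147247 : Nat.Prime 67147247 := by norm_num
theorem seg_67147247 : ∀ n : ℕ, 67147247 ≤ n → n < 67312429 → ChainP n :=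
  chainP_leaf 67147247 67312429 pr_67147247 (by norm_num)
theorem pr_67312429 : Nat.Prime 67312429 := by norm_num
theorem seg_67312429 : ∀ n : ℕ, 67312429 ≤ n → n < 67477889 → ChainP n :=
  chainP_leaf 67312429 67477889 pr_67312429 (by norm_num)
theorem pr_67477889 : Nat.Prime 67477889 := by norm_num
theorem seg_67477889 : ∀ n : ℕ, 67477889 ≤ n → n < 67643633 → ChainP n :=
  chainP_leaf 67477889 67643633 pr_67477889 (by norm_num)
theorem pr_67643633 : Nat.Prime 67643633 := by norm_num
theorem seg_67643633 : ∀ n : ℕ, 67643633 ≤ n → n < 67809649 → ChainP n :=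
  chainP_leaf 67643633 67809649 pr_67643633 (by norm_num)
theorem pr_67809649 : Nat.Prime 67809649 := by norm_num
theorem seg_67809649 : ∀ n : ℕ, 67809649 ≤ n → n < 67975931 → ChainP n :=
  chainP_leaf 67809649 67975931 pr_67809649 (by norm_num)
theorem pr_67975931 : Nat.Prime 67975931 := by norm_num
theorem seg_67975931 : ∀ n : ℕ, 67975931 ≤ n → n < 68142479 → ChainP n :=
  chainP_leaf 67975931 68142479 pr_67975931 (by norm_num)
theorem pr_68142479 : Nat.Prime 68142479 := by norm_num
theorem seg_68142479 : ∀ n : ℕ, 68142479 ≤ n → n < 68309303 → ChainP n :=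
  chainP_leaf 68142479 68309303 pr_68142479 (by norm_num)
theorem pr_68309303 : Nat.Prime 68309303 := by norm_num
theorem seg_68309303 : ∀ n : ℕ, 68309303 ≤ n → n < 68476393 → ChainP n :=
  chainP_leaf 68309303 68476393 pr_68309303 (by norm_num)
theorem pr_68476393 : Nat.Prime 68476393 := by norm_num
theorem seg_68476393 : ∀ n : ℕ, 68476393 ≤ n → n < 68643737 → ChainP n :=
  chainP_leaf 68476393 68643737 pr_68476393 (by norm_num)
theorem pr_68643737 : Nat.Prime 68643737 := by norm_num
theorem seg_68643737 : ∀ n : ℕ, 68643737 ≤ n → n < 68811317 → ChainP n :=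
  chainP_leaf 68643737 68811317 pr_68643737 (by norm_num)
theorem pr_68811317 : Nat.Prime 68811317 := by norm_num
theorem seg_68811317 : ∀ n : ℕ, 68811317 ≤ n → n < 68979223 → ChainP n :=
  chainP_leaf 68811317 68979223 pr_68811317 (by norm_num)
theorem pr_68979223 : Nat.Prime 68979223 := by norm_num
theorem seg_68979223 : ∀ n : ℕ, 68979223 ≤ n → n < 69147401 → ChainP n :=
  chainP_leaf 68979223 69147401 pr_68979223 (by norm_num)
theorem pr_69147401 : Nat.Prime 69147401 := by norm_num
theorem seg_69147401 : ∀ n : ℕ, 69147401 ≤ n → n < 69315863 → ChainP n :=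
  chainP_leaf 69147401 69315863 pr_69147401 (by norm_num)
theorem pr_69315863 : Nat.Prime 69315863 := by norm_num
theorem seg_69315863 : ∀ n : ℕ, 69315863 ≤ n → n < 69484579 → ChainP n :=
  chainP_leaf 69315863 69484579 pr_69315863 (by norm_num)
theorem pr_69484579 : Nat.Prime 69484579 := by norm_num
theorem seg_69484579 : ∀ n : ℕ, 69484579 ≤ n → n < 69653587 → ChainP n :=
  chainP_leaf 69484579 69653587 pr_69484579 (by norm_num)
theorem pr_69653587 : Nat.Prime 69653587 := by norm_num
theorem seg_69653587 : ∀ n : ℕ, 69653587 ≤ n → n < 69822839 → ChainP n :=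
  chainP_leaf 69653587 69822839 pr_69653587 (by norm_num)
theorem pr_69822839 : Nat.Prime 69822839 := by norm_num
theorem seg_69822839 : ∀ n : ℕ, 69822839 ≤ n → n < 69992393 → ChainP n :=
  chainP_leaf 69822839 69992393 pr_69822839 (by norm_num)
theorem pr_69992393 : Nat.Prime 69992393 := by norm_num
theorem seg_69992393 : ∀ n : ℕ, 69992393 ≤ n → n < 70162217 → ChainP n :=
  chainP_leaf 69992393 70162217 pr_69992393 (by norm_num)
theorem pr_70162217 : Nat.Prime 70162217 := by norm_num
theorem seg_70162217 : ∀ n : ℕ, 70162217 ≤ n → n < 70332323 → ChainP n :=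
  chainP_leaf 70162217 70332323 pr_70162217 (by norm_num)
theorem pr_70332323 : Nat.Prime 70332323 := by norm_num
theorem seg_70332323 : ∀ n : ℕ, 70332323 ≤ n → n < 70502687 → ChainP n :=
  chainP_leaf 70332323 70502687 pr_70332323 (by norm_num)
theorem pr_70502687 : Nat.Prime 70502687 := by norm_num
theorem seg_70502687 : ∀ n : ℕ, 70502687 ≤ n → n < 70673297 → ChainP n :=
  chainP_leaf 70502687 70673297 pr_70502687 (by norm_num)
theorem pr_70673297 : Nat.Prime 70673297 := by norm_num
theorem seg_70673297 : ∀ n : ℕ, 70673297 ≤ n → n < 70844183 → ChainP n :=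
  chainP_leaf 70673297 70844183 pr_70673297 (by norm_num)
theorem pr_70844183 : Nat.Prime 70844183 := by norm_num
theorem seg_70844183 : ∀ n : ℕ, 70844183 ≤ n → n < 71015387 → ChainP n :=
  chainP_leaf 70844183 71015387 pr_70844183 (by norm_num)
theorem pr_71015387 : Nat.Prime 71015387 := by norm_num
theorem seg_71015387 : ∀ n : ℕ, 71015387 ≤ n → n < 71186861 → ChainP n :=
  chainP_leaf 71015387 71186861 pr_71015387 (by norm_num)
theorem pr_71186861 : Nat.Prime 71186861 := by norm_num
theorem seg_71186861 : ∀ n : ℕ, 71186861 ≤ n → n < 71358613 → ChainP n :=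
  chainP_leaf 71186861 71358613 pr_71186861 (by norm_num)
theorem pr_71358613 : Nat.Prime 71358613 := by norm_num
theorem seg_71358613 : ∀ n : ℕ, 71358613 ≤ n → n < 71530637 → ChainP n :=
  chainP_leaf 71358613 71530637 pr_71358613 (by norm_num)
theorem pr_71530637 : Nat.Prime 71530637 := by norm_num
theorem seg_71530637 : ∀ n : ℕ, 71530637 ≤ n → n < 71702927 → ChainP n :=
  chainP_leaf 71530637 71702927 pr_71530637 (by norm_num)
theorem pr_71702927 : Nat.Prime 71702927 := by norm_num
theorem seg_71702927 : ∀ n : ℕ, 71702927 ≤ n → n < 71875513 → ChainP n :=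
  chainP_leaf 71702927 71875513 pr_71702927 (by norm_num)
theorem pr_71875513 : Nat.Prime 71875513 := by norm_num
theorem seg_71875513 : ∀ n : ℕ, 71875513 ≤ n → n < 72048377 → ChainP n :=
  chainP_leaf 71875513 72048377 pr_71875513 (by norm_num)

theorem chainI : ∀ n : ℕ, 56684911 ≤ n → n < 72048377 → ChainP n :=
  (chainP_join 56684911 64059833 72048377 (chainP_join 56684911 60297143 64059833 (chainP_join 56684911 58472471 60297143 (chainP_join 56684911 57574039 58472471 (chainP_join 56684911 57128339 57574039 (chainP_join 56684911 56832473 57128339 seg_56684911 (chainP_join 56832473 56980279 57128339 seg_56832473 seg_56980279)) (chainP_join 57128339 57276617 57574039 seg_57128339 (chainP_join 57276617 57425197 57574039 seg_57276617 seg_57425197))) (chainP_join 57574039 58022101 58472471 (chainP_join 57574039 57723139 58022101 seg_57574039 (chainP_join 57723139 57872491 58022101 seg_57723139 seg_57872491)) (chainP_join 58022101 58171973 58472471 seg_58022101 (chainP_join 58171973 58322081 58472471 seg_58171973 seg_58322081)))) (chainP_join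 58472471 59380147 60297143 (chainP_join 58472471 58925173 59380147 (chainP_join 58472471 58623119 58925173 seg_58472471 (chainP_join 58623119 58774007 58925173 seg_58623119 seg_58774007)) (chainP_join 58925173 59076599 59380147 seg_58925173 (chainP_join 59076599 59228249 59380147 seg_59076599 seg_59228249))) (chainP_join 59380147 59837521 60297143 (chainP_join 59380147 59532337 59837521 seg_59380147 (chainP_join 59532337 59684797 59837521 seg_59532337 seg_59684797)) (chainP_join 59837521 59990477 60297143 seg_59837521 (chainP_join 59990477 60143669 60297143 seg_59990477 seg_60143669))))) (chainP_join 60297143 62159527 64059833 (chainP_join 60297143 61223627 62159527 (chainP_join 60297143 60759199 61223627 (chainP_join 60297143 60450889 60759199 seg_60297143 (chainP_join 60450889 60604909 60759199 seg_60450889 seg_60604909)) (chainP_join 60759199 60913747 61223627 seg_60759199 (chainP_join 60913747 61068559 61223627 seg_60913747 seg_61068559))) (chainP_join 61223627 61690379 62159527 (chainP_join 61223627 61378951 61690379 seg_61223627 (chainP_join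 61378951 61534541 61690379 seg_61378951 seg_61534541)) (chainP_join 61690379 61846489 62159527 seg_61690379 (chainP_join 61846489 62002879 62159527 seg_61846489 seg_62002879)))) (chainP_join 62159527 63104887 64059833 (chainP_join 62159527 62631031 63104887 (chainP_join 62159527 62316439 62631031 seg_62159527 (chainP_join 62316439 62473603 62631031 seg_62316439 seg_62473603)) (chainP_join 62631031 62788717 63104887 seg_62631031 (chainP_join 62788717 62946649 63104887 seg_62788717 seg_62946649))) (chainP_join 63104887 63581149 64059833 (chainP_join 63104887 63263383 63581149 seg_63104887 (chainP_join 63263383 63422141 63581149 seg_63263383 seg_63422141)) (chainP_join 63581149 63740449 64059833 seg_63581149 (chainP_join 63740449 63900013 64059833 seg_63740449 seg_63900013)))))) (chainP_join 64059833 67975931 72048377 (chainP_join 64059833 65998511 67975931 (chainP_join 64059833 65024369 65998511 (chainP_join 64059833 64540907 65024369 (chainP_join 64059833 64219927 64540907 seg_64059833 (chainP_join 64219927 64380293 64540907 seg_64219927 seg_64380293))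 (chainP_join 64540907 64701797 65024369 seg_64540907 (chainP_join 64701797 64862951 65024369 seg_64701797 seg_64862951))) (chainP_join 65024369 65510243 65998511 (chainP_join 65024369 65186063 65510243 seg_65024369 (chainP_join 65186063 65348009 65510243 seg_65186063 seg_65348009)) (chainP_join 65510243 65672729 65998511 seg_65510243 (chainP_join 65672729 65835479 65998511 seg_65672729 seg_65835479)))) (chainP_join 65998511 66982327 67975931 (chainP_join 65998511 66489217 66982327 (chainP_join 65998511 66161813 66489217 seg_65998511 (chainP_join 66161813 66325373 66489217 seg_66161813 seg_66325373)) (chainP_join 66489217 66653299 66982327 seg_66489217 (chainP_join 66653299 66817669 66982327 seg_66653299 seg_66817669))) (chainP_join 66982327 67477889 67975931 (chainP_join 66982327 67147247 67477889 seg_66982327 (chainP_join 67147247 67312429 67477889 seg_67147247 seg_67312429)) (chainP_join 67477889 67643633 67975931 seg_67477889 (chainP_join 67643633 67809649 67975931 seg_67643633 seg_67809649))))) (chainP_join 67975931 69992393 72048377 (chainP_join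 67975931 68979223 69992393 (chainP_join 67975931 68476393 68979223 (chainP_join 67975931 68142479 68476393 seg_67975931 (chainP_join 68142479 68309303 68476393 seg_68142479 seg_68309303)) (chainP_join 68476393 68643737 68979223 seg_68476393 (chainP_join 68643737 68811317 68979223 seg_68643737 seg_68811317))) (chainP_join 68979223 69484579 69992393 (chainP_join 68979223 69147401 69484579 seg_68979223 (chainP_join 69147401 69315863 69484579 seg_69147401 seg_69315863)) (chainP_join 69484579 69653587 69992393 seg_69484579 (chainP_join 69653587 69822839 69992393 seg_69653587 seg_69822839)))) (chainP_join 69992393 71015387 72048377 (chainP_join 69992393 70502687 71015387 (chainP_join 69992393 70162217 70502687 seg_69992393 (chainP_join 70162217 70332323 70502687 seg_70162217 seg_70332323)) (chainP_join 70502687 70673297 71015387 seg_70502687 (chainP_join 70673297 70844183 71015387 seg_70673297 seg_70844183))) (chainP_join 71015387 71530637 72048377 (chainP_join 71015387 71186861 71530637 seg_71015387 (chainP_join 71186861 71358613 71530637 seg_71186861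 seg_71358613)) (chainP_join 71530637 71702927 72048377 seg_71530637 (chainP_join 71702927 71875513 72048377 seg_71702927 seg_71875513)))))))

end Cfsg.Agent.Lib.H14.SS
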