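import Cfsg.Agent.Lib.H14.SSChainDefs

/-! Generated: chain primes 72048377 .. 89965217 (part J) for SS11 (Sylvester-Schur, S3571 NT block). -/

set_option autoImplicit false
set_option maxRecDepth 100000

namespace Cfsg.Agent.Lib.H14.SS

theorem pr_72048377 : Nat.Prime 72048377 := by norm_num
theorem seg_72048377 : ∀ n : ℕ, 72048377 ≤ n → n < 72221507 → ChainP n :=
  chainP_leaf 72048377 72221507 pr_72048377 (by norm_num)
theorem pr_72221507 : Nat.Prime 72221507 := by norm_num
theorem seg_72221507 : ∀ n : ℕ, 72221507 ≤ n → n < 72394913 → ChainP n :=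
  chainP_leaf 72221507 72394913 pr_72221507 (by norm_num)
theorem pr_72394913 : Nat.Prime 72394913 := by norm_num
theorem seg_72394913 : ∀ n : ℕ, 72394913 ≤ n → n < 72568609 → ChainP n :=
  chainP_leaf 72394913 72568609 pr_72394913 (by norm_num)
theorem pr_72568609 : Nat.Prime 72568609 := by norm_num
theorem seg_72568609 : ∀ n : ℕ, 72568609 ≤ n → n < 72742577 → ChainP n :=
  chainP_leaf 72568609 72742577 pr_72568609 (by norm_num)
theorem pr_72742577 : Nat.Prime 72742577 := by norm_num
theorem seg_72742577 : ∀ n : ℕ, 72742577 ≤ n → n < 72916799 → ChainP n :=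
  chainP_leaf 72742577 72916799 pr_72742577 (by norm_num)
theorem pr_72916799 : Nat.Prime 72916799 := by norm_num
theorem seg_72916799 : ∀ n : ℕ, 72916799 ≤ n → n < 73091327 → ChainP n :=
  chainP_leaf 72916799 73091327 pr_72916799 (by norm_num)
theorem pr_73091327 : Nat.Prime 73091327 := by norm_num
theorem seg_73091327 : ∀ n : ℕ, 73091327 ≤ n → n < 73266133 → ChainP n :=
  chainP_leaf 73091327 73266133 pr_73091327 (by norm_num)
theorem pr_73266133 : Nat.Prime 73266133 := by norm_num
theorem seg_73266133 : ∀ n : ℕ, 73266133 ≤ n → n < 73441217 → ChainP n :=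
  chainP_leaf 73266133 73441217 pr_73266133 (by norm_num)
theorem pr_73441217 : Nat.Prime 73441217 := by norm_num
theorem seg_73441217 : ∀ n : ℕ, 73441217 ≤ n → n < 73616567 → ChainP n :=
  chainP_leaf 73441217 73616567 pr_73441217 (by norm_num)
theorem pr_73616567 : Nat.Prime 73616567 := by norm_num
theorem seg_73616567 : ∀ n : ℕ, 73616567 ≤ n → n < 73792193 → ChainP n :=
  chainP_leaf 73616567 73792193 pr_73616567 (by norm_num)
theorem pr_73792193 : Nat.Prime 73792193 := by norm_num
theorem seg_73792193 : ∀ n : ℕ, 73792193 ≤ n → n < 73968119 → ChainP n :=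
  chainP_leaf 73792193 73968119 pr_73792193 (by norm_num)
theorem pr_73968119 : Nat.Prime 73968119 := by norm_num
theorem seg_73968119 : ∀ n : ℕ, 73968119 ≤ n → n < 74144321 → ChainP n :=
  chainP_leaf 73968119 74144321 pr_73968119 (by norm_num)
theorem pr_74144321 : Nat.Prime 74144321 := by norm_num
theorem seg_74144321 : ∀ n : ℕ, 74144321 ≤ n → n < 74320801 → ChainP n :=
  chainP_leaf 74144321 74320801 pr_74144321 (by norm_num)
theorem pr_74320801 : Nat.Prime 74320801 := by norm_num
theorem seg_74320801 : ∀ n : ℕ, 74320801 ≤ n → n < 74497567 → ChainP n :=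
  chainP_leaf 74320801 74497567 pr_74320801 (by norm_num)
theorem pr_74497567 : Nat.Prime 74497567 := by norm_num
theorem seg_74497567 : ∀ n : ℕ, 74497567 ≤ n → n < 74674609 → ChainP n :=
  chainP_leaf 74497567 74674609 pr_74497567 (by norm_num)
theorem pr_74674609 : Nat.Prime 74674609 := by norm_num
theorem seg_74674609 : ∀ n : ℕ, 74674609 ≤ n → n < 74851927 → ChainP n :=
  chainP_leaf 74674609 74851927 pr_74674609 (by norm_num)
theorem pr_74851927 : Nat.Prime 74851927 := by norm_num
theorem seg_74851927 : ∀ n : ℕ, 74851927 ≤ n → n < 75029491 → ChainP n :=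
  chainP_leaf 74851927 75029491 pr_74851927 (by norm_num)
theorem pr_75029491 : Nat.Prime 75029491 := by norm_num
theorem seg_75029491 : ∀ n : ℕ, 75029491 ≤ n → n < 75207373 → ChainP n :=
  chainP_leaf 75029491 75207373 pr_75029491 (by norm_num)
theorem pr_75207373 : Nat.Prime 75207373 := by norm_num
theorem seg_75207373 : ∀ n : ℕ, 75207373 ≤ n → n < 75385537 → ChainP n :=
  chainP_leaf 75207373 75385537 pr_75207373 (by norm_num)
theorem pr_75385537 : Nat.Prime 75385537 := by norm_num
theorem seg_75385537 : ∀ n : ℕ, 75385537 ≤ n → n < 75563989 → ChainP n :=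
  chainP_leaf 75385537 75563989 pr_75385537 (by norm_num)
theorem pr_75563989 : Nat.Prime 75563989 := by norm_num
theorem seg_75563989 : ∀ n : ℕ, 75563989 ≤ n → n < 75742717 → ChainP n :=
  chainP_leaf 75563989 75742717 pr_75563989 (by norm_num)
theorem pr_75742717 : Nat.Prime 75742717 := by norm_num
theorem seg_75742717 : ∀ n : ℕ, 75742717 ≤ n → n < 75921733 → ChainP n :=
  chainP_leaf 75742717 75921733 pr_75742717 (by norm_num)
theorem pr_75921733 : Nat.Prime 75921733 := by norm_num
theorem seg_75921733 : ∀ n : ℕ, 75921733 ≤ n → n < 76101031 → ChainP n :=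
  chainP_leaf 75921733 76101031 pr_75921733 (by norm_num)
theorem pr_76101031 : Nat.Prime 76101031 := by norm_num
theorem seg_76101031 : ∀ n : ℕ, 76101031 ≤ n → n < 76280609 → ChainP n :=
  chainP_leaf 76101031 76280609 pr_76101031 (by norm_num)
theorem pr_76280609 : Nat.Prime 76280609 := by norm_num
theorem seg_76280609 : ∀ n : ℕ, 76280609 ≤ n → n < 76460437 → ChainP n :=
  chainP_leaf 76280609 76460437 pr_76280609 (by norm_num)
theorem pr_76460437 : Nat.Prime 76460437 := by norm_num
theorem seg_76460437 : ∀ n : ℕ, 76460437 ≤ n → n < 76640581 → ChainP n :=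
  chainP_leaf 76460437 76640581 pr_76460437 (by norm_num)
theorem pr_76640581 : Nat.Prime 76640581 := by norm_num
theorem seg_76640581 : ∀ n : ℕ, 76640581 ≤ n → n < 76821001 → ChainP n :=
  chainP_leaf 76640581 76821001 pr_76640581 (by norm_num)
theorem pr_76821001 : Nat.Prime 76821001 := by norm_num
theorem seg_76821001 : ∀ n : ℕ, 76821001 ≤ n → n < 77001709 → ChainP n :=
  chainP_leaf 76821001 77001709 pr_76821001 (by norm_num)
theorem pr_77001709 : Nat.Prime 77001709 := by norm_num
theorem seg_77001709 : ∀ n : ℕ, 77001709 ≤ n → n < 77182577 → ChainP n :=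
  chainP_leaf 77001709 77182577 pr_77001709 (by norm_num)
theorem pr_77182577 : Nat.Prime 77182577 := by norm_num
theorem seg_77182577 : ∀ n : ℕ, 77182577 ≤ n → n < 77363849 → ChainP n :=
  chainP_leaf 77182577 77363849 pr_77182577 (by norm_num)
theorem pr_77363849 : Nat.Prime 77363849 := by norm_num
theorem seg_77363849 : ∀ n : ℕ, 77363849 ≤ n → n < 77545409 → ChainP n :=
  chainP_leaf 77363849 77545409 pr_77363849 (by norm_num)
theorem pr_77545409 : Nat.Prime 77545409 := by norm_num
theorem seg_77545409 : ∀ n : ℕ, 77545409 ≤ n → n < 77727253 → ChainP n :=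
  chainP_leaf 77545409 77727253 pr_77545409 (by norm_num)
theorem pr_77727253 : Nat.Prime 77727253 := by norm_num
theorem seg_77727253 : ∀ n : ℕ, 77727253 ≤ n → n < 77909357 → ChainP n :=
  chainP_leaf 77727253 77909357 pr_77727253 (by norm_num)
theorem pr_77909357 : Nat.Prime 77909357 := by norm_num
theorem seg_77909357 : ∀ n : ℕ, 77909357 ≤ n → n < 78091771 → ChainP n :=
  chainP_leaf 77909357 78091771 pr_77909357 (by norm_num)
theorem pr_78091771 : Nat.Prime 78091771 := by norm_num
theorem seg_78091771 : ∀ n : ℕ, 78091771 ≤ n → n < 78274463 → ChainP n :=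
  chainP_leaf 78091771 78274463 pr_78091771 (by norm_num)
theorem pr_78274463 : Nat.Prime 78274463 := by norm_num
theorem seg_78274463 : ∀ n : ℕ, 78274463 ≤ n → n < 78457447 → ChainP n :=
  chainP_leaf 78274463 78457447 pr_78274463 (by norm_num)
theorem pr_78457447 : Nat.Prime 78457447 := by norm_num
theorem seg_78457447 : ∀ n : ℕ, 78457447 ≤ n → n < 78640697 → ChainP n :=
  chainP_leaf 78457447 78640697 pr_78457447 (by norm_num)
theorem pr_78640697 : Nat.Prime 78640697 := by norm_num
theorem seg_78640697 : ∀ n : ℕ, 78640697 ≤ n → n < 78824219 → ChainP n :=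
  chainP_leaf 78640697 78824219 pr_78640697 (by norm_num)
theorem pr_78824219 : Nat.Prime 78824219 := by norm_num
theorem seg_78824219 : ∀ n : ℕ, 78824219 ≤ n → n < 79008047 → ChainP n :=
  chainP_leaf 78824219 79008047 pr_78824219 (by norm_num)
theorem pr_79008047 : Nat.Prime 79008047 := by norm_num
theorem seg_79008047 : ∀ n : ℕ, 79008047 ≤ n → n < 79192163 → ChainP n :=
  chainP_leaf 79008047 79192163 pr_79008047 (by norm_num)
theorem pr_79192163 : Nat.Prime 79192163 := by norm_num
theorem seg_79192163 : ∀ n : ℕ, 79192163 ≤ n → n < 79376573 → ChainP n :=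
  chainP_leaf 79192163 79376573 pr_79192163 (by norm_num)
theorem pr_79376573 : Nat.Prime 79376573 := by norm_num
theorem seg_79376573 : ∀ n : ℕ, 79376573 ≤ n → n < 79561267 → ChainP n :=
  chainP_leaf 79376573 79561267 pr_79376573 (by norm_num)
theorem pr_79561267 : Nat.Prime 79561267 := by norm_num
theorem seg_79561267 : ∀ n : ℕ, 79561267 ≤ n → n < 79746239 → ChainP n :=
  chainP_leaf 79561267 79746239 pr_79561267 (by norm_num)
theorem pr_79746239 : Nat.Prime 79746239 := by norm_num
theorem seg_79746239 : ∀ n : ℕ, 79746239 ≤ n → n < 79931503 → ChainP n :=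
  chainP_leaf 79746239 79931503 pr_79746239 (by norm_num)
theorem pr_79931503 : Nat.Prime 79931503 := by norm_num
theorem seg_79931503 : ∀ n : ℕ, 79931503 ≤ n → n < 80117033 → ChainP n :=
  chainP_leaf 79931503 80117033 pr_79931503 (by norm_num)
theorem pr_80117033 : Nat.Prime 80117033 := by norm_num
theorem seg_80117033 : ∀ n : ℕ, 80117033 ≤ n → n < 80302877 → ChainP n :=
  chainP_leaf 80117033 80302877 pr_80117033 (by norm_num)
theorem pr_80302877 : Nat.Prime 80302877 := by norm_num
theorem seg_80302877 : ∀ n : ℕ, 80302877 ≤ n → n < 80488987 → ChainP n :=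
  chainP_leaf 80302877 80488987 pr_80302877 (by norm_num)
theorem pr_80488987 : Nat.Prime 80488987 := by norm_num
theorem seg_80488987 : ∀ n : ℕ, 80488987 ≤ n → n < 80675393 → ChainP n :=
  chainP_leaf 80488987 80675393 pr_80488987 (by norm_num)
theorem pr_80675393 : Nat.Prime 80675393 := by norm_num
theorem seg_80675393 : ∀ n : ℕ, 80675393 ≤ n → n < 80862091 → ChainP n :=
  chainP_leaf 80675393 80862091 pr_80675393 (by norm_num)
theorem pr_80862091 : Nat.Prime 80862091 := by norm_num
theorem seg_80862091 : ∀ n : ℕ, 80862091 ≤ n → n < 81049051 → ChainP n :=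
  chainP_leaf 80862091 81049051 pr_80862091 (by norm_num)
theorem pr_81049051 : Nat.Prime 81049051 := by norm_num
theorem seg_81049051 : ∀ n : ℕ, 81049051 ≤ n → n < 81236329 → ChainP n :=
  chainP_leaf 81049051 81236329 pr_81049051 (by norm_num)
theorem pr_81236329 : Nat.Prime 81236329 := by norm_num
theorem seg_81236329 : ∀ n : ℕ, 81236329 ≤ n → n < 81423871 → ChainP n :=
  chainP_leaf 81236329 81423871 pr_81236329 (by norm_num)
theorem pr_81423871 : Nat.Prime 81423871 := by norm_num
theorem seg_81423871 : ∀ n : ℕ, 81423871 ≤ n → n < 81611729 → ChainP n :=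
  chainP_leaf 81423871 81611729 pr_81423871 (by norm_num)
theorem pr_81611729 : Nat.Prime 81611729 := by norm_num
theorem seg_81611729 : ∀ n : ℕ, 81611729 ≤ n → n < 81799877 → ChainP n :=
  chainP_leaf 81611729 81799877 pr_81611729 (by norm_num)
theorem pr_81799877 : Nat.Prime 81799877 := by norm_num
theorem seg_81799877 : ∀ n : ℕ, 81799877 ≤ n → n < 81988303 → ChainP n :=
  chainP_leaf 81799877 81988303 pr_81799877 (by norm_num)
theorem pr_81988303 : Nat.Prime 81988303 := by norm_num
theorem seg_81988303 : ∀ n : ℕ, 81988303 ≤ n → n < 82177027 → ChainP n :=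
  chainP_leaf 81988303 82177027 pr_81988303 (by norm_num)
theorem pr_82177027 : Nat.Prime 82177027 := by norm_num
theorem seg_82177027 : ∀ n : ℕ, 82177027 ≤ n → n < 82366021 → ChainP n :=
  chainP_leaf 82177027 82366021 pr_82177027 (by norm_num)
theorem pr_82366021 : Nat.Prime 82366021 := by norm_num
theorem seg_82366021 : ∀ n : ℕ, 82366021 ≤ n → n < 82555327 → ChainP n :=
  chainP_leaf 82366021 82555327 pr_82366021 (by norm_num)
theorem pr_82555327 : Nat.Prime 82555327 := by norm_num
theorem seg_82555327 : ∀ n : ℕ, 82555327 ≤ n → n < 82744897 → ChainP n :=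
  chainP_leaf 82555327 82744897 pr_82555327 (by norm_num)
theorem pr_82744897 : Nat.Prime 82744897 := by norm_num
theorem seg_82744897 : ∀ n : ℕ, 82744897 ≤ n → n < 82934777 → ChainP n :=
  chainP_leaf 82744897 82934777 pr_82744897 (by norm_num)
theorem pr_82934777 : Nat.Prime 82934777 := by norm_num
theorem seg_82934777 : ∀ n : ℕ, 82934777 ≤ n → n < 83124953 → ChainP n :=
  chainP_leaf 82934777 83124953 pr_82934777 (by norm_num)
theorem pr_83124953 : Nat.Prime 83124953 := by norm_num
theorem seg_83124953 : ∀ n : ℕ, 83124953 ≤ n → n < 83315377 → ChainP n :=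
  chainP_leaf 83124953 83315377 pr_83124953 (by norm_num)
theorem pr_83315377 : Nat.Prime 83315377 := by norm_num
theorem seg_83315377 : ∀ n : ℕ, 83315377 ≤ n → n < 83506127 → ChainP n :=
  chainP_leaf 83315377 83506127 pr_83315377 (by norm_num)
theorem pr_83506127 : Nat.Prime 83506127 := by norm_num
theorem seg_83506127 : ∀ n : ℕ, 83506127 ≤ n → n < 83697169 → ChainP n :=
  chainP_leaf 83506127 83697169 pr_83506127 (by norm_num)
theorem pr_83697169 : Nat.Prime 83697169 := by norm_num
theorem seg_83697169 : ∀ n : ℕ, 83697169 ≤ n → n < 83888507 → ChainP n :=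
  chainP_leaf 83697169 83888507 pr_83697169 (by norm_num)
theorem pr_83888507 : Nat.Prime 83888507 := by norm_num
theorem seg_83888507 : ∀ n : ℕ, 83888507 ≤ n → n < 84080131 → ChainP n :=
  chainP_leaf 83888507 84080131 pr_83888507 (by norm_num)
theorem pr_84080131 : Nat.Prime 84080131 := by norm_num
theorem seg_84080131 : ∀ n : ℕ, 84080131 ≤ n → n < 84272021 → ChainP n :=
  chainP_leaf 84080131 84272021 pr_84080131 (by norm_num)
theorem pr_84272021 : Nat.Prime 84272021 := by norm_num
theorem seg_84272021 : ∀ n : ℕ, 84272021 ≤ n → n < 84464221 → ChainP n :=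
  chainP_leaf 84272021 84464221 pr_84272021 (by norm_num)
theorem pr_84464221 : Nat.Prime 84464221 := by norm_num
theorem seg_84464221 : ∀ n : ℕ, 84464221 ≤ n → n < 84656717 → ChainP n :=
  chainP_leaf 84464221 84656717 pr_84464221 (by norm_num)
theorem pr_84656717 : Nat.Prime 84656717 := by norm_num
theorem seg_84656717 : ∀ n : ℕ, 84656717 ≤ n → n < 84849517 → ChainP n :=
  chainP_leaf 84656717 84849517 pr_84656717 (by norm_num)
theorem pr_84849517 : Nat.Prime 84849517 := by norm_num
theorem seg_84849517 : ∀ n : ℕ, 84849517 ≤ n → n < 85042603 → ChainP n :=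
  chainP_leaf 84849517 85042603 pr_84849517 (by norm_num)
theorem pr_85042603 : Nat.Prime 85042603 := by norm_num
theorem seg_85042603 : ∀ n : ℕ, 85042603 ≤ n → n < 85235951 → ChainP n :=
  chainP_leaf 85042603 85235951 pr_85042603 (by norm_num)
theorem pr_85235951 : Nat.Prime 85235951 := by norm_num
theorem seg_85235951 : ∀ n : ℕ, 85235951 ≤ n → n < 85429579 → ChainP n :=
  chainP_leaf 85235951 85429579 pr_85235951 (by norm_num)
theorem pr_85429579 : Nat.Prime 85429579 := by norm_num
theorem seg_85429579 : ∀ n : ℕ, 85429579 ≤ n → n < 85623541 → ChainP n :=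
  chainP_leaf 85429579 85623541 pr_85429579 (by norm_num)
theorem pr_85623541 : Nat.Prime 85623541 := by norm_num
theorem seg_85623541 : ∀ n : ℕ, 85623541 ≤ n → n < 85817803 → ChainP n :=
  chainP_leaf 85623541 85817803 pr_85623541 (by norm_num)
theorem pr_85817803 : Nat.Prime 85817803 := by norm_num
theorem seg_85817803 : ∀ n : ℕ, 85817803 ≤ n → n < 86012357 → ChainP n :=
  chainP_leaf 85817803 86012357 pr_85817803 (by norm_num)
theorem pr_86012357 : Nat.Prime 86012357 := by norm_num
theorem seg_86012357 : ∀ n : ℕ, 86012357 ≤ n → n < 86207183 → ChainP n :=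
  chainP_leaf 86012357 86207183 pr_86012357 (by norm_num)
theorem pr_86207183 : Nat.Prime 86207183 := by norm_num
theorem seg_86207183 : ∀ n : ℕ, 86207183 ≤ n → n < 86402311 → ChainP n :=
  chainP_leaf 86207183 86402311 pr_86207183 (by norm_num)
theorem pr_86402311 : Nat.Prime 86402311 := by norm_num
theorem seg_86402311 : ∀ n : ℕ, 86402311 ≤ n → n < 86597729 → ChainP n :=
  chainP_leaf 86402311 86597729 pr_86402311 (by norm_num)
theorem pr_86597729 : Nat.Prime 86597729 := by norm_num
theorem seg_86597729 : ∀ n : ℕ, 86597729 ≤ n → n < 86793461 → ChainP n :=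
  chainP_leaf 86597729 86793461 pr_86597729 (by norm_num)
theorem pr_86793461 : Nat.Prime 86793461 := by norm_num
theorem seg_86793461 : ∀ n : ℕ, 86793461 ≤ n → n < 86989421 → ChainP n :=
  chainP_leaf 86793461 86989421 pr_86793461 (by norm_num)
theorem pr_86989421 : Nat.Prime 86989421 := by norm_num
theorem seg_86989421 : ∀ n : ℕ, 86989421 ≤ n → n < 87185729 → ChainP n :=
  chainP_leaf 86989421 87185729 pr_86989421 (by norm_num)
theorem pr_87185729 : Nat.Prime 87185729 := by norm_num
theorem seg_87185729 : ∀ n : ℕ, 87185729 ≤ n → n < 87382343 → ChainP n :=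
  chainP_leaf 87185729 87382343 pr_87185729 (by norm_num)
theorem pr_87382343 : Nat.Prime 87382343 := by norm_num
theorem seg_87382343 : ∀ n : ℕ, 87382343 ≤ n → n < 87579253 → ChainP n :=
  chainP_leaf 87382343 87579253 pr_87382343 (by norm_num)
theorem pr_87579253 : Nat.Prime 87579253 := by norm_num
theorem seg_87579253 : ∀ n : ℕ, 87579253 ≤ n → n < 87776443 → ChainP n :=
  chainP_leaf 87579253 87776443 pr_87579253 (by norm_num)
theorem pr_87776443 : Nat.Prime 87776443 := by norm_num
theorem seg_87776443 : ∀ n : ℕ, 87776443 ≤ n → n < 87973913 → ChainP n :=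
  chainP_leaf 87776443 87973913 pr_87776443 (by norm_num)
theorem pr_87973913 : Nat.Prime 87973913 := by norm_num
theorem seg_87973913 : ∀ n : ℕ, 87973913 ≤ n → n < 88171717 → ChainP n :=
  chainP_leaf 87973913 88171717 pr_87973913 (by norm_num)
theorem pr_88171717 : Nat.Prime 88171717 := by norm_num
theorem seg_88171717 : ∀ n : ℕ, 88171717 ≤ n → n < 88369807 → ChainP n :=
  chainP_leaf 88171717 88369807 pr_88171717 (by norm_num)
theorem pr_88369807 : Nat.Prime 88369807 := by norm_num
theorem seg_88369807 : ∀ n : ℕ, 88369807 ≤ n → n < 88568203 → ChainP n :=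
  chainP_leaf 88369807 88568203 pr_88369807 (by norm_num)
theorem pr_88568203 : Nat.Prime 88568203 := by norm_num
theorem seg_88568203 : ∀ n : ℕ, 88568203 ≤ n → n < 88766869 → ChainP n :=
  chainP_leaf 88568203 88766869 pr_88568203 (by norm_num)
theorem pr_88766869 : Nat.Prime 88766869 := by norm_num
theorem seg_88766869 : ∀ n : ℕ, 88766869 ≤ n → n < 88965857 → ChainP n :=
  chainP_leaf 88766869 88965857 pr_88766869 (by norm_num)
theorem pr_88965857 : Nat.Prime 88965857 := by norm_num
theorem seg_88965857 : ∀ n : ℕ, 88965857 ≤ n → n < 89165113 → ChainP n :=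
  chainP_leaf 88965857 89165113 pr_88965857 (by norm_num)
theorem pr_89165113 : Nat.Prime 89165113 := by norm_num
theorem seg_89165113 : ∀ n : ℕ, 89165113 ≤ n → n < 89364697 → ChainP n :=
  chainP_leaf 89165113 89364697 pr_89165113 (by norm_num)
theorem pr_89364697 : Nat.Prime 89364697 := by norm_num
theorem seg_89364697 : ∀ n : ℕ, 89364697 ≤ n → n < 89564567 → ChainP n :=
  chainP_leaf 89364697 89564567 pr_89364697 (by norm_num)
theorem pr_89564567 : Nat.Prime 89564567 := by norm_num
theorem seg_89564567 : ∀ n : ℕ, 89564567 ≤ n → n < 89764739 → ChainP n :=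
  chainP_leaf 89564567 89764739 pr_89564567 (by norm_num)
theorem pr_89764739 : Nat.Prime 89764739 := by norm_num
theorem seg_89764739 : ∀ n : ℕ, 89764739 ≤ n → n < 89965217 → ChainP n :=
  chainP_leaf 89764739 89965217 pr_89764739 (by norm_num)

theorem chainJ : ∀ n : ℕ, 72048377 ≤ n → n < 89965217 → ChainP n :=
  (chainP_join 72048377 80675393 89965217 (chainP_join 72048377 76280609 80675393 (chainP_join 72048377 74144321 76280609 (chainP_join 72048377 73091327 74144321 (chainP_join 72048377 72568609 73091327 (chainP_join 72048377 72221507 72568609 seg_72048377 (chainP_join 72221507 72394913 72568609 seg_72221507 seg_72394913)) (chainP_join 72568609 72742577 73091327 seg_72568609 (chainP_join 72742577 72916799 73091327 seg_72742577 seg_72916799))) (chainP_join 73091327 73616567 74144321 (chainP_join 73091327 73266133 73616567 seg_73091327 (chainP_join 73266133 73441217 73616567 seg_73266133 seg_73441217)) (chainP_join 73616567 73792193 74144321 seg_73616567 (chainP_join 73792193 73968119 74144321 seg_73792193 seg_73968119)))) (chainP_join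 74144321 75207373 76280609 (chainP_join 74144321 74674609 75207373 (chainP_join 74144321 74320801 74674609 seg_74144321 (chainP_join 74320801 74497567 74674609 seg_74320801 seg_74497567)) (chainP_join 74674609 74851927 75207373 seg_74674609 (chainP_join 74851927 75029491 75207373 seg_74851927 seg_75029491))) (chainP_join 75207373 75742717 76280609 (chainP_join 75207373 75385537 75742717 seg_75207373 (chainP_join 75385537 75563989 75742717 seg_75385537 seg_75563989)) (chainP_join 75742717 75921733 76280609 seg_75742717 (chainP_join 75921733 76101031 76280609 seg_75921733 seg_76101031))))) (chainP_join 76280609 78457447 80675393 (chainP_join 76280609 77363849 78457447 (chainP_join 76280609 76821001 77363849 (chainP_join 76280609 76460437 76821001 seg_76280609 (chainP_join 76460437 76640581 76821001 seg_76460437 seg_76640581)) (chainP_join 76821001 77001709 77363849 seg_76821001 (chainP_join 77001709 77182577 77363849 seg_77001709 seg_77182577))) (chainP_join 77363849 77909357 78457447 (chainP_join 77363849 77545409 77909357 seg_77363849 (chainP_join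 77545409 77727253 77909357 seg_77545409 seg_77727253)) (chainP_join 77909357 78091771 78457447 seg_77909357 (chainP_join 78091771 78274463 78457447 seg_78091771 seg_78274463)))) (chainP_join 78457447 79561267 80675393 (chainP_join 78457447 79008047 79561267 (chainP_join 78457447 78640697 79008047 seg_78457447 (chainP_join 78640697 78824219 79008047 seg_78640697 seg_78824219)) (chainP_join 79008047 79192163 79561267 seg_79008047 (chainP_join 79192163 79376573 79561267 seg_79192163 seg_79376573))) (chainP_join 79561267 80117033 80675393 (chainP_join 79561267 79746239 80117033 seg_79561267 (chainP_join 79746239 79931503 80117033 seg_79746239 seg_79931503)) (chainP_join 80117033 80302877 80675393 seg_80117033 (chainP_join 80302877 80488987 80675393 seg_80302877 seg_80488987)))))) (chainP_join 80675393 85235951 89965217 (chainP_join 80675393 82934777 85235951 (chainP_join 80675393 81799877 82934777 (chainP_join 80675393 81236329 81799877 (chainP_join 80675393 80862091 81236329 seg_80675393 (chainP_join 80862091 81049051 81236329 seg_80862091 seg_81049051))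 (chainP_join 81236329 81423871 81799877 seg_81236329 (chainP_join 81423871 81611729 81799877 seg_81423871 seg_81611729))) (chainP_join 81799877 82366021 82934777 (chainP_join 81799877 81988303 82366021 seg_81799877 (chainP_join 81988303 82177027 82366021 seg_81988303 seg_82177027)) (chainP_join 82366021 82555327 82934777 seg_82366021 (chainP_join 82555327 82744897 82934777 seg_82555327 seg_82744897)))) (chainP_join 82934777 84080131 85235951 (chainP_join 82934777 83506127 84080131 (chainP_join 82934777 83124953 83506127 seg_82934777 (chainP_join 83124953 83315377 83506127 seg_83124953 seg_83315377)) (chainP_join 83506127 83697169 84080131 seg_83506127 (chainP_join 83697169 83888507 84080131 seg_83697169 seg_83888507))) (chainP_join 84080131 84656717 85235951 (chainP_join 84080131 84272021 84656717 seg_84080131 (chainP_join 84272021 84464221 84656717 seg_84272021 seg_84464221)) (chainP_join 84656717 84849517 85235951 seg_84656717 (chainP_join 84849517 85042603 85235951 seg_84849517 seg_85042603))))) (chainP_join 85235951 87579253 89965217 (chainP_join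 85235951 86402311 87579253 (chainP_join 85235951 85817803 86402311 (chainP_join 85235951 85429579 85817803 seg_85235951 (chainP_join 85429579 85623541 85817803 seg_85429579 seg_85623541)) (chainP_join 85817803 86012357 86402311 seg_85817803 (chainP_join 86012357 86207183 86402311 seg_86012357 seg_86207183))) (chainP_join 86402311 86989421 87579253 (chainP_join 86402311 86597729 86989421 seg_86402311 (chainP_join 86597729 86793461 86989421 seg_86597729 seg_86793461)) (chainP_join 86989421 87185729 87579253 seg_86989421 (chainP_join 87185729 87382343 87579253 seg_87185729 seg_87382343)))) (chainP_join 87579253 88766869 89965217 (chainP_join 87579253 88171717 88766869 (chainP_join 87579253 87776443 88171717 seg_87579253 (chainP_join 87776443 87973913 88171717 seg_87776443 seg_87973913)) (chainP_join 88171717 88369807 88766869 seg_88171717 (chainP_join 88369807 88568203 88766869 seg_88369807 seg_88568203))) (chainP_join 88766869 89364697 89965217 (chainP_join 88766869 88965857 89364697 seg_88766869 (chainP_join 88965857 89165113 89364697 seg_88965857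 seg_89165113)) (chainP_join 89364697 89564567 89965217 seg_89364697 (chainP_join 89564567 89764739 89965217 seg_89564567 seg_89764739)))))))

end Cfsg.Agent.Lib.H14.SS
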