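import Cfsg.Agent.Lib.H14.SSChainDefs

/-! Generated: chain primes 89965217 .. 110631709 (part K) for SS11 (Sylvester-Schur, S3571 NT block). -/

set_option autoImplicit false
set_option maxRecDepth 100000

namespace Cfsg.Agent.Lib.H14.SS

theorem pr_89965217 : Nat.Prime 89965217 := by norm_num
theorem seg_89965217 : ∀ n : ℕ, 89965217 ≤ n → n < 90165979 → ChainP n :=
  chainP_leaf 89965217 90165979 pr_89965217 (by norm_num)
theorem pr_90165979 : Nat.Prime 90165979 := by norm_num
theorem seg_90165979 : ∀ n : ℕ, 90165979 ≤ n → n < 90367051 → ChainP n :=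
  chainP_leaf 90165979 90367051 pr_90165979 (by norm_num)
theorem pr_90367051 : Nat.Prime 90367051 := by norm_num
theorem seg_90367051 : ∀ n : ℕ, 90367051 ≤ n → n < 90568409 → ChainP n :=
  chainP_leaf 90367051 90568409 pr_90367051 (by norm_num)
theorem pr_90568409 : Nat.Prime 90568409 := by norm_num
theorem seg_90568409 : ∀ n : ℕ, 90568409 ≤ n → n < 90770083 → ChainP n :=
  chainP_leaf 90568409 90770083 pr_90568409 (by norm_num)
theorem pr_90770083 : Nat.Prime 90770083 := by norm_num
theorem seg_90770083 : ∀ n : ℕ, 90770083 ≤ n → n < 90972053 → ChainP n :=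
  chainP_leaf 90770083 90972053 pr_90770083 (by norm_num)
theorem pr_90972053 : Nat.Prime 90972053 := by norm_num
theorem seg_90972053 : ∀ n : ℕ, 90972053 ≤ n → n < 91174309 → ChainP n :=
  chainP_leaf 90972053 91174309 pr_90972053 (by norm_num)
theorem pr_91174309 : Nat.Prime 91174309 := by norm_num
theorem seg_91174309 : ∀ n : ℕ, 91174309 ≤ n → n < 91376869 → ChainP n :=
  chainP_leaf 91174309 91376869 pr_91174309 (by norm_num)
theorem pr_91376869 : Nat.Prime 91376869 := by norm_num
theorem seg_91376869 : ∀ n : ℕ, 91376869 ≤ n → n < 91579739 → ChainP n :=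
  chainP_leaf 91376869 91579739 pr_91376869 (by norm_num)
theorem pr_91579739 : Nat.Prime 91579739 := by norm_num
theorem seg_91579739 : ∀ n : ℕ, 91579739 ≤ n → n < 91782893 → ChainP n :=
  chainP_leaf 91579739 91782893 pr_91579739 (by norm_num)
theorem pr_91782893 : Nat.Prime 91782893 := by norm_num
theorem seg_91782893 : ∀ n : ℕ, 91782893 ≤ n → n < 91986341 → ChainP n :=
  chainP_leaf 91782893 91986341 pr_91782893 (by norm_num)
theorem pr_91986341 : Nat.Prime 91986341 := by norm_num
theorem seg_91986341 : ∀ n : ℕ, 91986341 ≤ n → n < 92190113 → ChainP n :=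
  chainP_leaf 91986341 92190113 pr_91986341 (by norm_num)
theorem pr_92190113 : Nat.Prime 92190113 := by norm_num
theorem seg_92190113 : ∀ n : ℕ, 92190113 ≤ n → n < 92394187 → ChainP n :=
  chainP_leaf 92190113 92394187 pr_92190113 (by norm_num)
theorem pr_92394187 : Nat.Prime 92394187 := by norm_num
theorem seg_92394187 : ∀ n : ℕ, 92394187 ≤ n → n < 92598557 → ChainP n :=
  chainP_leaf 92394187 92598557 pr_92394187 (by norm_num)
theorem pr_92598557 : Nat.Prime 92598557 := by norm_num
theorem seg_92598557 : ∀ n : ℕ, 92598557 ≤ n → n < 92803223 → ChainP n :=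
  chainP_leaf 92598557 92803223 pr_92598557 (by norm_num)
theorem pr_92803223 : Nat.Prime 92803223 := by norm_num
theorem seg_92803223 : ∀ n : ℕ, 92803223 ≤ n → n < 93008197 → ChainP n :=
  chainP_leaf 92803223 93008197 pr_92803223 (by norm_num)
theorem pr_93008197 : Nat.Prime 93008197 := by norm_num
theorem seg_93008197 : ∀ n : ℕ, 93008197 ≤ n → n < 93213469 → ChainP n :=
  chainP_leaf 93008197 93213469 pr_93008197 (by norm_num)
theorem pr_93213469 : Nat.Prime 93213469 := by norm_num
theorem seg_93213469 : ∀ n : ℕ, 93213469 ≤ n → n < 93419009 → ChainP n :=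
  chainP_leaf 93213469 93419009 pr_93213469 (by norm_num)
theorem pr_93419009 : Nat.Prime 93419009 := by norm_num
theorem seg_93419009 : ∀ n : ℕ, 93419009 ≤ n → n < 93624887 → ChainP n :=
  chainP_leaf 93419009 93624887 pr_93419009 (by norm_num)
theorem pr_93624887 : Nat.Prime 93624887 := by norm_num
theorem seg_93624887 : ∀ n : ℕ, 93624887 ≤ n → n < 93831071 → ChainP n :=
  chainP_leaf 93624887 93831071 pr_93624887 (by norm_num)
theorem pr_93831071 : Nat.Prime 93831071 := by norm_num
theorem seg_93831071 : ∀ n : ℕ, 93831071 ≤ n → n < 94037549 → ChainP n :=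
  chainP_leaf 93831071 94037549 pr_93831071 (by norm_num)
theorem pr_94037549 : Nat.Prime 94037549 := by norm_num
theorem seg_94037549 : ∀ n : ℕ, 94037549 ≤ n → n < 94244333 → ChainP n :=
  chainP_leaf 94037549 94244333 pr_94037549 (by norm_num)
theorem pr_94244333 : Nat.Prime 94244333 := by norm_num
theorem seg_94244333 : ∀ n : ℕ, 94244333 ≤ n → n < 94451419 → ChainP n :=
  chainP_leaf 94244333 94451419 pr_94244333 (by norm_num)
theorem pr_94451419 : Nat.Prime 94451419 := by norm_num
theorem seg_94451419 : ∀ n : ℕ, 94451419 ≤ n → n < 94658807 → ChainP n :=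
  chainP_leaf 94451419 94658807 pr_94451419 (by norm_num)
theorem pr_94658807 : Nat.Prime 94658807 := by norm_num
theorem seg_94658807 : ∀ n : ℕ, 94658807 ≤ n → n < 94866503 → ChainP n :=
  chainP_leaf 94658807 94866503 pr_94658807 (by norm_num)
theorem pr_94866503 : Nat.Prime 94866503 := by norm_num
theorem seg_94866503 : ∀ n : ℕ, 94866503 ≤ n → n < 95074501 → ChainP n :=
  chainP_leaf 94866503 95074501 pr_94866503 (by norm_num)
theorem pr_95074501 : Nat.Prime 95074501 := by norm_num
theorem seg_95074501 : ∀ n : ℕ, 95074501 ≤ n → n < 95282753 → ChainP n :=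
  chainP_leaf 95074501 95282753 pr_95074501 (by norm_num)
theorem pr_95282753 : Nat.Prime 95282753 := by norm_num
theorem seg_95282753 : ∀ n : ℕ, 95282753 ≤ n → n < 95491351 → ChainP n :=
  chainP_leaf 95282753 95491351 pr_95282753 (by norm_num)
theorem pr_95491351 : Nat.Prime 95491351 := by norm_num
theorem seg_95491351 : ∀ n : ℕ, 95491351 ≤ n → n < 95700257 → ChainP n :=
  chainP_leaf 95491351 95700257 pr_95491351 (by norm_num)
theorem pr_95700257 : Nat.Prime 95700257 := by norm_num
theorem seg_95700257 : ∀ n : ℕ, 95700257 ≤ n → n < 95909477 → ChainP n :=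
  chainP_leaf 95700257 95909477 pr_95700257 (by norm_num)
theorem pr_95909477 : Nat.Prime 95909477 := by norm_num
theorem seg_95909477 : ∀ n : ℕ, 95909477 ≤ n → n < 96118999 → ChainP n :=
  chainP_leaf 95909477 96118999 pr_95909477 (by norm_num)
theorem pr_96118999 : Nat.Prime 96118999 := by norm_num
theorem seg_96118999 : ∀ n : ℕ, 96118999 ≤ n → n < 96328823 → ChainP n :=
  chainP_leaf 96118999 96328823 pr_96118999 (by norm_num)
theorem pr_96328823 : Nat.Prime 96328823 := by norm_num
theorem seg_96328823 : ∀ n : ℕ, 96328823 ≤ n → n < 96538933 → ChainP n :=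
  chainP_leaf 96328823 96538933 pr_96328823 (by norm_num)
theorem pr_96538933 : Nat.Prime 96538933 := by norm_num
theorem seg_96538933 : ∀ n : ℕ, 96538933 ≤ n → n < 96749371 → ChainP n :=
  chainP_leaf 96538933 96749371 pr_96538933 (by norm_num)
theorem pr_96749371 : Nat.Prime 96749371 := by norm_num
theorem seg_96749371 : ∀ n : ℕ, 96749371 ≤ n → n < 96960113 → ChainP n :=
  chainP_leaf 96749371 96960113 pr_96749371 (by norm_num)
theorem pr_96960113 : Nat.Prime 96960113 := by norm_num
theorem seg_96960113 : ∀ n : ℕ, 96960113 ≤ n → n < 97171157 → ChainP n :=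
  chainP_leaf 96960113 97171157 pr_96960113 (by norm_num)
theorem pr_97171157 : Nat.Prime 97171157 := by norm_num
theorem seg_97171157 : ∀ n : ℕ, 97171157 ≤ n → n < 97382513 → ChainP n :=
  chainP_leaf 97171157 97382513 pr_97171157 (by norm_num)
theorem pr_97382513 : Nat.Prime 97382513 := by norm_num
theorem seg_97382513 : ∀ n : ℕ, 97382513 ≤ n → n < 97594171 → ChainP n :=
  chainP_leaf 97382513 97594171 pr_97382513 (by norm_num)
theorem pr_97594171 : Nat.Prime 97594171 := by norm_num
theorem seg_97594171 : ∀ n : ℕ, 97594171 ≤ n → n < 97806113 → ChainP n :=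
  chainP_leaf 97594171 97806113 pr_97594171 (by norm_num)
theorem pr_97806113 : Nat.Prime 97806113 := by norm_num
theorem seg_97806113 : ∀ n : ℕ, 97806113 ≤ n → n < 98018383 → ChainP n :=
  chainP_leaf 97806113 98018383 pr_97806113 (by norm_num)
theorem pr_98018383 : Nat.Prime 98018383 := by norm_num
theorem seg_98018383 : ∀ n : ℕ, 98018383 ≤ n → n < 98230961 → ChainP n :=
  chainP_leaf 98018383 98230961 pr_98018383 (by norm_num)
theorem pr_98230961 : Nat.Prime 98230961 := by norm_num
theorem seg_98230961 : ∀ n : ℕ, 98230961 ≤ n → n < 98443847 → ChainP n :=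
  chainP_leaf 98230961 98443847 pr_98230961 (by norm_num)
theorem pr_98443847 : Nat.Prime 98443847 := by norm_num
theorem seg_98443847 : ∀ n : ℕ, 98443847 ≤ n → n < 98657047 → ChainP n :=
  chainP_leaf 98443847 98657047 pr_98443847 (by norm_num)
theorem pr_98657047 : Nat.Prime 98657047 := by norm_num
theorem seg_98657047 : ∀ n : ℕ, 98657047 ≤ n → n < 98870507 → ChainP n :=
  chainP_leaf 98657047 98870507 pr_98657047 (by norm_num)
theorem pr_98870507 : Nat.Prime 98870507 := by norm_num
theorem seg_98870507 : ∀ n : ℕ, 98870507 ≤ n → n < 99084317 → ChainP n :=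
  chainP_leaf 98870507 99084317 pr_98870507 (by norm_num)
theorem pr_99084317 : Nat.Prime 99084317 := by norm_num
theorem seg_99084317 : ∀ n : ℕ, 99084317 ≤ n → n < 99298439 → ChainP n :=
  chainP_leaf 99084317 99298439 pr_99084317 (by norm_num)
theorem pr_99298439 : Nat.Prime 99298439 := by norm_num
theorem seg_99298439 : ∀ n : ℕ, 99298439 ≤ n → n < 99512867 → ChainP n :=
  chainP_leaf 99298439 99512867 pr_99298439 (by norm_num)
theorem pr_99512867 : Nat.Prime 99512867 := by norm_num
theorem seg_99512867 : ∀ n : ℕ, 99512867 ≤ n → n < 99727603 → ChainP n :=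
  chainP_leaf 99512867 99727603 pr_99512867 (by norm_num)
theorem pr_99727603 : Nat.Prime 99727603 := by norm_num
theorem seg_99727603 : ∀ n : ℕ, 99727603 ≤ n → n < 99942629 → ChainP n :=
  chainP_leaf 99727603 99942629 pr_99727603 (by norm_num)
theorem pr_99942629 : Nat.Prime 99942629 := by norm_num
theorem seg_99942629 : ∀ n : ℕ, 99942629 ≤ n → n < 100157977 → ChainP n :=
  chainP_leaf 99942629 100157977 pr_99942629 (by norm_num)
theorem pr_100157977 : Nat.Prime 100157977 := by norm_num
theorem seg_100157977 : ∀ n : ℕ, 100157977 ≤ n → n < 100373621 → ChainP n :=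
  chainP_leaf 100157977 100373621 pr_100157977 (by norm_num)
theorem pr_100373621 : Nat.Prime 100373621 := by norm_num
theorem seg_100373621 : ∀ n : ℕ, 100373621 ≤ n → n < 100589597 → ChainP n :=
  chainP_leaf 100373621 100589597 pr_100373621 (by norm_num)
theorem pr_100589597 : Nat.Prime 100589597 := by norm_num
theorem seg_100589597 : ∀ n : ℕ, 100589597 ≤ n → n < 100805863 → ChainP n :=
  chainP_leaf 100589597 100805863 pr_100589597 (by norm_num)
theorem pr_100805863 : Nat.Prime 100805863 := by norm_num
theorem seg_100805863 : ∀ n : ℕ, 100805863 ≤ n → n < 101022461 → ChainP n :=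
  chainP_leaf 100805863 101022461 pr_100805863 (by norm_num)
theorem pr_101022461 : Nat.Prime 101022461 := by norm_num
theorem seg_101022461 : ∀ n : ℕ, 101022461 ≤ n → n < 101239351 → ChainP n :=
  chainP_leaf 101022461 101239351 pr_101022461 (by norm_num)
theorem pr_101239351 : Nat.Prime 101239351 := by norm_num
theorem seg_101239351 : ∀ n : ℕ, 101239351 ≤ n → n < 101456569 → ChainP n :=
  chainP_leaf 101239351 101456569 pr_101239351 (by norm_num)
theorem pr_101456569 : Nat.Prime 101456569 := by norm_num
theorem seg_101456569 : ∀ n : ℕ, 101456569 ≤ n → n < 101674091 → ChainP n :=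
  chainP_leaf 101456569 101674091 pr_101456569 (by norm_num)
theorem pr_101674091 : Nat.Prime 101674091 := by norm_num
theorem seg_101674091 : ∀ n : ℕ, 101674091 ≤ n → n < 101891921 → ChainP n :=
  chainP_leaf 101674091 101891921 pr_101674091 (by norm_num)
theorem pr_101891921 : Nat.Prime 101891921 := by norm_num
theorem seg_101891921 : ∀ n : ℕ, 101891921 ≤ n → n < 102110069 → ChainP n :=
  chainP_leaf 101891921 102110069 pr_101891921 (by norm_num)
theorem pr_102110069 : Nat.Prime 102110069 := by norm_num
theorem seg_102110069 : ∀ n : ℕ, 102110069 ≤ n → n < 102328517 → ChainP n :=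
  chainP_leaf 102110069 102328517 pr_102110069 (by norm_num)
theorem pr_102328517 : Nat.Prime 102328517 := by norm_num
theorem seg_102328517 : ∀ n : ℕ, 102328517 ≤ n → n < 102547259 → ChainP n :=
  chainP_leaf 102328517 102547259 pr_102328517 (by norm_num)
theorem pr_102547259 : Nat.Prime 102547259 := by norm_num
theorem seg_102547259 : ∀ n : ℕ, 102547259 ≤ n → n < 102766337 → ChainP n :=
  chainP_leaf 102547259 102766337 pr_102547259 (by norm_num)
theorem pr_102766337 : Nat.Prime 102766337 := by norm_num
theorem seg_102766337 : ∀ n : ℕ, 102766337 ≤ n → n < 102985733 → ChainP n :=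
  chainP_leaf 102766337 102985733 pr_102766337 (by norm_num)
theorem pr_102985733 : Nat.Prime 102985733 := by norm_num
theorem seg_102985733 : ∀ n : ℕ, 102985733 ≤ n → n < 103205413 → ChainP n :=
  chainP_leaf 102985733 103205413 pr_102985733 (by norm_num)
theorem pr_103205413 : Nat.Prime 103205413 := by norm_num
theorem seg_103205413 : ∀ n : ℕ, 103205413 ≤ n → n < 103425409 → ChainP n :=
  chainP_leaf 103205413 103425409 pr_103205413 (by norm_num)
theorem pr_103425409 : Nat.Prime 103425409 := by norm_num
theorem seg_103425409 : ∀ n : ℕ, 103425409 ≤ n → n < 103645721 → ChainP n :=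
  chainP_leaf 103425409 103645721 pr_103425409 (by norm_num)
theorem pr_103645721 : Nat.Prime 103645721 := by norm_num
theorem seg_103645721 : ∀ n : ℕ, 103645721 ≤ n → n < 103866359 → ChainP n :=
  chainP_leaf 103645721 103866359 pr_103645721 (by norm_num)
theorem pr_103866359 : Nat.Prime 103866359 := by norm_num
theorem seg_103866359 : ∀ n : ℕ, 103866359 ≤ n → n < 104087309 → ChainP n :=
  chainP_leaf 103866359 104087309 pr_103866359 (by norm_num)
theorem pr_104087309 : Nat.Prime 104087309 := by norm_num
theorem seg_104087309 : ∀ n : ℕ, 104087309 ≤ n → n < 104308579 → ChainP n :=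
  chainP_leaf 104087309 104308579 pr_104087309 (by norm_num)
theorem pr_104308579 : Nat.Prime 104308579 := by norm_num
theorem seg_104308579 : ∀ n : ℕ, 104308579 ≤ n → n < 104530163 → ChainP n :=
  chainP_leaf 104308579 104530163 pr_104308579 (by norm_num)
theorem pr_104530163 : Nat.Prime 104530163 := by norm_num
theorem seg_104530163 : ∀ n : ℕ, 104530163 ≤ n → n < 104752033 → ChainP n :=
  chainP_leaf 104530163 104752033 pr_104530163 (by norm_num)
theorem pr_104752033 : Nat.Prime 104752033 := by norm_num
theorem seg_104752033 : ∀ n : ℕ, 104752033 ≤ n → n < 104974159 → ChainP n :=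
  chainP_leaf 104752033 104974159 pr_104752033 (by norm_num)
theorem pr_104974159 : Nat.Prime 104974159 := by norm_num
theorem seg_104974159 : ∀ n : ℕ, 104974159 ≤ n → n < 105196667 → ChainP n :=
  chainP_leaf 104974159 105196667 pr_104974159 (by norm_num)
theorem pr_105196667 : Nat.Prime 105196667 := by norm_num
theorem seg_105196667 : ∀ n : ℕ, 105196667 ≤ n → n < 105419477 → ChainP n :=
  chainP_leaf 105196667 105419477 pr_105196667 (by norm_num)
theorem pr_105419477 : Nat.Prime 105419477 := by norm_num
theorem seg_105419477 : ∀ n : ℕ, 105419477 ≤ n → n < 105642617 → ChainP n :=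
  chainP_leaf 105419477 105642617 pr_105419477 (by norm_num)
theorem pr_105642617 : Nat.Prime 105642617 := by norm_num
theorem seg_105642617 : ∀ n : ℕ, 105642617 ≤ n → n < 105866087 → ChainP n :=
  chainP_leaf 105642617 105866087 pr_105642617 (by norm_num)
theorem pr_105866087 : Nat.Prime 105866087 := by norm_num
theorem seg_105866087 : ∀ n : ℕ, 105866087 ≤ n → n < 106089829 → ChainP n :=
  chainP_leaf 105866087 106089829 pr_105866087 (by norm_num)
theorem pr_106089829 : Nat.Prime 106089829 := by norm_num
theorem seg_106089829 : ∀ n : ℕ, 106089829 ≤ n → n < 106313899 → ChainP n :=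
  chainP_leaf 106089829 106313899 pr_106089829 (by norm_num)
theorem pr_106313899 : Nat.Prime 106313899 := by norm_num
theorem seg_106313899 : ∀ n : ℕ, 106313899 ≤ n → n < 106538297 → ChainP n :=
  chainP_leaf 106313899 106538297 pr_106313899 (by norm_num)
theorem pr_106538297 : Nat.Prime 106538297 := by norm_num
theorem seg_106538297 : ∀ n : ℕ, 106538297 ≤ n → n < 106763029 → ChainP n :=
  chainP_leaf 106538297 106763029 pr_106538297 (by norm_num)
theorem pr_106763029 : Nat.Prime 106763029 := by norm_num
theorem seg_106763029 : ∀ n : ℕ, 106763029 ≤ n → n < 106988039 → ChainP n :=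
  chainP_leaf 106763029 106988039 pr_106763029 (by norm_num)
theorem pr_106988039 : Nat.Prime 106988039 := by norm_num
theorem seg_106988039 : ∀ n : ℕ, 106988039 ≤ n → n < 107213399 → ChainP n :=
  chainP_leaf 106988039 107213399 pr_106988039 (by norm_num)
theorem pr_107213399 : Nat.Prime 107213399 := by norm_num
theorem seg_107213399 : ∀ n : ℕ, 107213399 ≤ n → n < 107439071 → ChainP n :=
  chainP_leaf 107213399 107439071 pr_107213399 (by norm_num)
theorem pr_107439071 : Nat.Prime 107439071 := by norm_num
theorem seg_107439071 : ∀ n : ℕ, 107439071 ≤ n → n < 107665043 → ChainP n :=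
  chainP_leaf 107439071 107665043 pr_107439071 (by norm_num)
theorem pr_107665043 : Nat.Prime 107665043 := by norm_num
theorem seg_107665043 : ∀ n : ℕ, 107665043 ≤ n → n < 107891359 → ChainP n :=
  chainP_leaf 107665043 107891359 pr_107665043 (by norm_num)
theorem pr_107891359 : Nat.Prime 107891359 := by norm_num
theorem seg_107891359 : ∀ n : ℕ, 107891359 ≤ n → n < 108117991 → ChainP n :=
  chainP_leaf 107891359 108117991 pr_107891359 (by norm_num)
theorem pr_108117991 : Nat.Prime 108117991 := by norm_num
theorem seg_108117991 : ∀ n : ℕ, 108117991 ≤ n → n < 108344939 → ChainP n :=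
  chainP_leaf 108117991 108344939 pr_108117991 (by norm_num)
theorem pr_108344939 : Nat.Prime 108344939 := by norm_num
theorem seg_108344939 : ∀ n : ℕ, 108344939 ≤ n → n < 108572161 → ChainP n :=
  chainP_leaf 108344939 108572161 pr_108344939 (by norm_num)
theorem pr_108572161 : Nat.Prime 108572161 := by norm_num
theorem seg_108572161 : ∀ n : ℕ, 108572161 ≤ n → n < 108799709 → ChainP n :=
  chainP_leaf 108572161 108799709 pr_108572161 (by norm_num)
theorem pr_108799709 : Nat.Prime 108799709 := by norm_num
theorem seg_108799709 : ∀ n : ℕ, 108799709 ≤ n → n < 109027601 → ChainP n :=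
  chainP_leaf 108799709 109027601 pr_108799709 (by norm_num)
theorem pr_109027601 : Nat.Prime 109027601 := by norm_num
theorem seg_109027601 : ∀ n : ℕ, 109027601 ≤ n → n < 109255813 → ChainP n :=
  chainP_leaf 109027601 109255813 pr_109027601 (by norm_num)
theorem pr_109255813 : Nat.Prime 109255813 := by norm_num
theorem seg_109255813 : ∀ n : ℕ, 109255813 ≤ n → n < 109484339 → ChainP n :=
  chainP_leaf 109255813 109484339 pr_109255813 (by norm_num)
theorem pr_109484339 : Nat.Prime 109484339 := by norm_num
theorem seg_109484339 : ∀ n : ℕ, 109484339 ≤ n → n < 109713173 → ChainP n :=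
  chainP_leaf 109484339 109713173 pr_109484339 (by norm_num)
theorem pr_109713173 : Nat.Prime 109713173 := by norm_num
theorem seg_109713173 : ∀ n : ℕ, 109713173 ≤ n → n < 109942321 → ChainP n :=
  chainP_leaf 109713173 109942321 pr_109713173 (by norm_num)
theorem pr_109942321 : Nat.Prime 109942321 := by norm_num
theorem seg_109942321 : ∀ n : ℕ, 109942321 ≤ n → n < 110171813 → ChainP n :=
  chainP_leaf 109942321 110171813 pr_109942321 (by norm_num)
theorem pr_110171813 : Nat.Prime 110171813 := by norm_num
theorem seg_110171813 : ∀ n : ℕ, 110171813 ≤ n → n < 110401607 → ChainP n :=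
  chainP_leaf 110171813 110401607 pr_110171813 (by norm_num)
theorem pr_110401607 : Nat.Prime 110401607 := by norm_num
theorem seg_110401607 : ∀ n : ℕ, 110401607 ≤ n → n < 110631709 → ChainP n :=
  chainP_leaf 110401607 110631709 pr_110401607 (by norm_num)

theorem chainK : ∀ n : ℕ, 89965217 ≤ n → n < 110631709 → ChainP n :=
  (chainP_join 89965217 99942629 110631709 (chainP_join 89965217 94866503 99942629 (chainP_join 89965217 92394187 94866503 (chainP_join 89965217 91174309 92394187 (chainP_join 89965217 90568409 91174309 (chainP_join 89965217 90165979 90568409 seg_89965217 (chainP_join 90165979 90367051 90568409 seg_90165979 seg_90367051)) (chainP_join 90568409 90770083 91174309 seg_90568409 (chainP_join 90770083 90972053 91174309 seg_90770083 seg_90972053))) (chainP_join 91174309 91782893 92394187 (chainP_join 91174309 91376869 91782893 seg_91174309 (chainP_join 91376869 91579739 91782893 seg_91376869 seg_91579739)) (chainP_join 91782893 91986341 92394187 seg_91782893 (chainP_join 91986341 92190113 92394187 seg_91986341 seg_92190113)))) (chainP_join 92394187 93624887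 94866503 (chainP_join 92394187 93008197 93624887 (chainP_join 92394187 92598557 93008197 seg_92394187 (chainP_join 92598557 92803223 93008197 seg_92598557 seg_92803223)) (chainP_join 93008197 93213469 93624887 seg_93008197 (chainP_join 93213469 93419009 93624887 seg_93213469 seg_93419009))) (chainP_join 93624887 94244333 94866503 (chainP_join 93624887 93831071 94244333 seg_93624887 (chainP_join 93831071 94037549 94244333 seg_93831071 seg_94037549)) (chainP_join 94244333 94451419 94866503 seg_94244333 (chainP_join 94451419 94658807 94866503 seg_94451419 seg_94658807))))) (chainP_join 94866503 97382513 99942629 (chainP_join 94866503 96118999 97382513 (chainP_join 94866503 95491351 96118999 (chainP_join 94866503 95074501 95491351 seg_94866503 (chainP_join 95074501 95282753 95491351 seg_95074501 seg_95282753)) (chainP_join 95491351 95700257 96118999 seg_95491351 (chainP_join 95700257 95909477 96118999 seg_95700257 seg_95909477))) (chainP_join 96118999 96749371 97382513 (chainP_join 96118999 96328823 96749371 seg_96118999 (chainP_join 96328823 96538933 96749371 seg_96328823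 seg_96538933)) (chainP_join 96749371 96960113 97382513 seg_96749371 (chainP_join 96960113 97171157 97382513 seg_96960113 seg_97171157)))) (chainP_join 97382513 98657047 99942629 (chainP_join 97382513 98018383 98657047 (chainP_join 97382513 97594171 98018383 seg_97382513 (chainP_join 97594171 97806113 98018383 seg_97594171 seg_97806113)) (chainP_join 98018383 98230961 98657047 seg_98018383 (chainP_join 98230961 98443847 98657047 seg_98230961 seg_98443847))) (chainP_join 98657047 99298439 99942629 (chainP_join 98657047 98870507 99298439 seg_98657047 (chainP_join 98870507 99084317 99298439 seg_98870507 seg_99084317)) (chainP_join 99298439 99512867 99942629 seg_99298439 (chainP_join 99512867 99727603 99942629 seg_99512867 seg_99727603)))))) (chainP_join 99942629 105196667 110631709 (chainP_join 99942629 102547259 105196667 (chainP_join 99942629 101239351 102547259 (chainP_join 99942629 100589597 101239351 (chainP_join 99942629 100157977 100589597 seg_99942629 (chainP_join 100157977 100373621 100589597 seg_100157977 seg_100373621)) (chainP_join 100589597 100805863 101239351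 seg_100589597 (chainP_join 100805863 101022461 101239351 seg_100805863 seg_101022461))) (chainP_join 101239351 101891921 102547259 (chainP_join 101239351 101456569 101891921 seg_101239351 (chainP_join 101456569 101674091 101891921 seg_101456569 seg_101674091)) (chainP_join 101891921 102110069 102547259 seg_101891921 (chainP_join 102110069 102328517 102547259 seg_102110069 seg_102328517)))) (chainP_join 102547259 103866359 105196667 (chainP_join 102547259 103205413 103866359 (chainP_join 102547259 102766337 103205413 seg_102547259 (chainP_join 102766337 102985733 103205413 seg_102766337 seg_102985733)) (chainP_join 103205413 103425409 103866359 seg_103205413 (chainP_join 103425409 103645721 103866359 seg_103425409 seg_103645721))) (chainP_join 103866359 104530163 105196667 (chainP_join 103866359 104087309 104530163 seg_103866359 (chainP_join 104087309 104308579 104530163 seg_104087309 seg_104308579)) (chainP_join 104530163 104752033 105196667 seg_104530163 (chainP_join 104752033 104974159 105196667 seg_104752033 seg_104974159))))) (chainP_join 105196667 107891359 110631709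 (chainP_join 105196667 106538297 107891359 (chainP_join 105196667 105866087 106538297 (chainP_join 105196667 105419477 105866087 seg_105196667 (chainP_join 105419477 105642617 105866087 seg_105419477 seg_105642617)) (chainP_join 105866087 106089829 106538297 seg_105866087 (chainP_join 106089829 106313899 106538297 seg_106089829 seg_106313899))) (chainP_join 106538297 107213399 107891359 (chainP_join 106538297 106763029 107213399 seg_106538297 (chainP_join 106763029 106988039 107213399 seg_106763029 seg_106988039)) (chainP_join 107213399 107439071 107891359 seg_107213399 (chainP_join 107439071 107665043 107891359 seg_107439071 seg_107665043)))) (chainP_join 107891359 109255813 110631709 (chainP_join 107891359 108572161 109255813 (chainP_join 107891359 108117991 108572161 seg_107891359 (chainP_join 108117991 108344939 108572161 seg_108117991 seg_108344939)) (chainP_join 108572161 108799709 109255813 seg_108572161 (chainP_join 108799709 109027601 109255813 seg_108799709 seg_109027601))) (chainP_join 109255813 109942321 110631709 (chainP_join 109255813 109484339 109942321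 seg_109255813 (chainP_join 109484339 109713173 109942321 seg_109484339 seg_109713173)) (chainP_join 109942321 110171813 110631709 seg_109942321 (chainP_join 110171813 110401607 110631709 seg_110171813 seg_110401607)))))))

end Cfsg.Agent.Lib.H14.SS
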