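import Cfsg.Agent.Lib.H14.SSChainDefs

/-! Generated: chain primes 110631709 .. 134244503 (part L) for SS11 (Sylvester-Schur, S3571 NT block). -/

set_option autoImplicit false
set_option maxRecDepth 100000

namespace Cfsg.Agent.Lib.H14.SS

theorem pr_110631709 : Nat.Prime 110631709 := by norm_num
theorem seg_110631709 : ∀ n : ℕ, 110631709 ≤ n → n < 110862149 → ChainP n :=
  chainP_leaf 110631709 110862149 pr_110631709 (by norm_num)
theorem pr_110862149 : Nat.Prime 110862149 := by norm_num
theorem seg_110862149 : ∀ n : ℕ, 110862149 ≤ n → n < 111092911 → ChainP n :=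
  chainP_leaf 110862149 111092911 pr_110862149 (by norm_num)
theorem pr_111092911 : Nat.Prime 111092911 := by norm_num
theorem seg_111092911 : ∀ n : ℕ, 111092911 ≤ n → n < 111324001 → ChainP n :=
  chainP_leaf 111092911 111324001 pr_111092911 (by norm_num)
theorem pr_111324001 : Nat.Prime 111324001 := by norm_num
theorem seg_111324001 : ∀ n : ℕ, 111324001 ≤ n → n < 111555349 → ChainP n :=
  chainP_leaf 111324001 111555349 pr_111324001 (by norm_num)
theorem pr_111555349 : Nat.Prime 111555349 := by norm_num
theorem seg_111555349 : ∀ n : ℕ, 111555349 ≤ n → n < 111787079 → ChainP n :=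
  chainP_leaf 111555349 111787079 pr_111555349 (by norm_num)
theorem pr_111787079 : Nat.Prime 111787079 := by norm_num
theorem seg_111787079 : ∀ n : ℕ, 111787079 ≤ n → n < 112019123 → ChainP n :=
  chainP_leaf 111787079 112019123 pr_111787079 (by norm_num)
theorem pr_112019123 : Nat.Prime 112019123 := by norm_num
theorem seg_112019123 : ∀ n : ℕ, 112019123 ≤ n → n < 112251499 → ChainP n :=
  chainP_leaf 112019123 112251499 pr_112019123 (by norm_num)
theorem pr_112251499 : Nat.Prime 112251499 := by norm_num
theorem seg_112251499 : ∀ n : ℕ, 112251499 ≤ n → n < 112484143 → ChainP n :=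
  chainP_leaf 112251499 112484143 pr_112251499 (by norm_num)
theorem pr_112484143 : Nat.Prime 112484143 := by norm_num
theorem seg_112484143 : ∀ n : ℕ, 112484143 ≤ n → n < 112717103 → ChainP n :=
  chainP_leaf 112484143 112717103 pr_112484143 (by norm_num)
theorem pr_112717103 : Nat.Prime 112717103 := by norm_num
theorem seg_112717103 : ∀ n : ℕ, 112717103 ≤ n → n < 112950443 → ChainP n :=
  chainP_leaf 112717103 112950443 pr_112717103 (by norm_num)
theorem pr_112950443 : Nat.Prime 112950443 := by norm_num
theorem seg_112950443 : ∀ n : ℕ, 112950443 ≤ n → n < 113184101 → ChainP n :=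
  chainP_leaf 112950443 113184101 pr_112950443 (by norm_num)
theorem pr_113184101 : Nat.Prime 113184101 := by norm_num
theorem seg_113184101 : ∀ n : ℕ, 113184101 ≤ n → n < 113418079 → ChainP n :=
  chainP_leaf 113184101 113418079 pr_113184101 (by norm_num)
theorem pr_113418079 : Nat.Prime 113418079 := by norm_num
theorem seg_113418079 : ∀ n : ℕ, 113418079 ≤ n → n < 113652379 → ChainP n :=
  chainP_leaf 113418079 113652379 pr_113418079 (by norm_num)
theorem pr_113652379 : Nat.Prime 113652379 := by norm_num
theorem seg_113652379 : ∀ n : ℕ, 113652379 ≤ n → n < 113887003 → ChainP n :=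
  chainP_leaf 113652379 113887003 pr_113652379 (by norm_num)
theorem pr_113887003 : Nat.Prime 113887003 := by norm_num
theorem seg_113887003 : ∀ n : ℕ, 113887003 ≤ n → n < 114121951 → ChainP n :=
  chainP_leaf 113887003 114121951 pr_113887003 (by norm_num)
theorem pr_114121951 : Nat.Prime 114121951 := by norm_num
theorem seg_114121951 : ∀ n : ℕ, 114121951 ≤ n → n < 114357197 → ChainP n :=
  chainP_leaf 114121951 114357197 pr_114121951 (by norm_num)
theorem pr_114357197 : Nat.Prime 114357197 := by norm_num
theorem seg_114357197 : ∀ n : ℕ, 114357197 ≤ n → n < 114592789 → ChainP n :=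
  chainP_leaf 114357197 114592789 pr_114357197 (by norm_num)
theorem pr_114592789 : Nat.Prime 114592789 := by norm_num
theorem seg_114592789 : ∀ n : ℕ, 114592789 ≤ n → n < 114828709 → ChainP n :=
  chainP_leaf 114592789 114828709 pr_114592789 (by norm_num)
theorem pr_114828709 : Nat.Prime 114828709 := by norm_num
theorem seg_114828709 : ∀ n : ℕ, 114828709 ≤ n → n < 115064923 → ChainP n :=
  chainP_leaf 114828709 115064923 pr_114828709 (by norm_num)
theorem pr_115064923 : Nat.Prime 115064923 := by norm_num
theorem seg_115064923 : ∀ n : ℕ, 115064923 ≤ n → n < 115301489 → ChainP n :=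
  chainP_leaf 115064923 115301489 pr_115064923 (by norm_num)
theorem pr_115301489 : Nat.Prime 115301489 := by norm_num
theorem seg_115301489 : ∀ n : ℕ, 115301489 ≤ n → n < 115538363 → ChainP n :=
  chainP_leaf 115301489 115538363 pr_115301489 (by norm_num)
theorem pr_115538363 : Nat.Prime 115538363 := by norm_num
theorem seg_115538363 : ∀ n : ℕ, 115538363 ≤ n → n < 115775581 → ChainP n :=
  chainP_leaf 115538363 115775581 pr_115538363 (by norm_num)
theorem pr_115775581 : Nat.Prime 115775581 := by norm_num
theorem seg_115775581 : ∀ n : ℕ, 115775581 ≤ n → n < 116013119 → ChainP n :=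
  chainP_leaf 115775581 116013119 pr_115775581 (by norm_num)
theorem pr_116013119 : Nat.Prime 116013119 := by norm_num
theorem seg_116013119 : ∀ n : ℕ, 116013119 ≤ n → n < 116250977 → ChainP n :=
  chainP_leaf 116013119 116250977 pr_116013119 (by norm_num)
theorem pr_116250977 : Nat.Prime 116250977 := by norm_num
theorem seg_116250977 : ∀ n : ℕ, 116250977 ≤ n → n < 116489167 → ChainP n :=
  chainP_leaf 116250977 116489167 pr_116250977 (by norm_num)
theorem pr_116489167 : Nat.Prime 116489167 := by norm_num
theorem seg_116489167 : ∀ n : ℕ, 116489167 ≤ n → n < 116727647 → ChainP n :=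
  chainP_leaf 116489167 116727647 pr_116489167 (by norm_num)
theorem pr_116727647 : Nat.Prime 116727647 := by norm_num
theorem seg_116727647 : ∀ n : ℕ, 116727647 ≤ n → n < 116966471 → ChainP n :=
  chainP_leaf 116727647 116966471 pr_116727647 (by norm_num)
theorem pr_116966471 : Nat.Prime 116966471 := by norm_num
theorem seg_116966471 : ∀ n : ℕ, 116966471 ≤ n → n < 117205609 → ChainP n :=
  chainP_leaf 116966471 117205609 pr_116966471 (by norm_num)
theorem pr_117205609 : Nat.Prime 117205609 := by norm_num
theorem seg_117205609 : ∀ n : ℕ, 117205609 ≤ n → n < 117445093 → ChainP n :=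
  chainP_leaf 117205609 117445093 pr_117205609 (by norm_num)
theorem pr_117445093 : Nat.Prime 117445093 := by norm_num
theorem seg_117445093 : ∀ n : ℕ, 117445093 ≤ n → n < 117684911 → ChainP n :=
  chainP_leaf 117445093 117684911 pr_117445093 (by norm_num)
theorem pr_117684911 : Nat.Prime 117684911 := by norm_num
theorem seg_117684911 : ∀ n : ℕ, 117684911 ≤ n → n < 117925057 → ChainP n :=
  chainP_leaf 117684911 117925057 pr_117684911 (by norm_num)
theorem pr_117925057 : Nat.Prime 117925057 := by norm_num
theorem seg_117925057 : ∀ n : ℕ, 117925057 ≤ n → n < 118165511 → ChainP n :=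
  chainP_leaf 117925057 118165511 pr_117925057 (by norm_num)
theorem pr_118165511 : Nat.Prime 118165511 := by norm_num
theorem seg_118165511 : ∀ n : ℕ, 118165511 ≤ n → n < 118406303 → ChainP n :=
  chainP_leaf 118165511 118406303 pr_118165511 (by norm_num)
theorem pr_118406303 : Nat.Prime 118406303 := by norm_num
theorem seg_118406303 : ∀ n : ℕ, 118406303 ≤ n → n < 118647383 → ChainP n :=
  chainP_leaf 118406303 118647383 pr_118406303 (by norm_num)
theorem pr_118647383 : Nat.Prime 118647383 := by norm_num
theorem seg_118647383 : ∀ n : ℕ, 118647383 ≤ n → n < 118888831 → ChainP n :=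
  chainP_leaf 118647383 118888831 pr_118647383 (by norm_num)
theorem pr_118888831 : Nat.Prime 118888831 := by norm_num
theorem seg_118888831 : ∀ n : ℕ, 118888831 ≤ n → n < 119130607 → ChainP n :=
  chainP_leaf 118888831 119130607 pr_118888831 (by norm_num)
theorem pr_119130607 : Nat.Prime 119130607 := by norm_num
theorem seg_119130607 : ∀ n : ℕ, 119130607 ≤ n → n < 119372711 → ChainP n :=
  chainP_leaf 119130607 119372711 pr_119130607 (by norm_num)
theorem pr_119372711 : Nat.Prime 119372711 := by norm_num
theorem seg_119372711 : ∀ n : ℕ, 119372711 ≤ n → n < 119615149 → ChainP n :=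
  chainP_leaf 119372711 119615149 pr_119372711 (by norm_num)
theorem pr_119615149 : Nat.Prime 119615149 := by norm_num
theorem seg_119615149 : ∀ n : ℕ, 119615149 ≤ n → n < 119857889 → ChainP n :=
  chainP_leaf 119615149 119857889 pr_119615149 (by norm_num)
theorem pr_119857889 : Nat.Prime 119857889 := by norm_num
theorem seg_119857889 : ∀ n : ℕ, 119857889 ≤ n → n < 120100969 → ChainP n :=
  chainP_leaf 119857889 120100969 pr_119857889 (by norm_num)
theorem pr_120100969 : Nat.Prime 120100969 := by norm_num
theorem seg_120100969 : ∀ n : ℕ, 120100969 ≤ n → n < 120344381 → ChainP n :=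
  chainP_leaf 120100969 120344381 pr_120100969 (by norm_num)
theorem pr_120344381 : Nat.Prime 120344381 := by norm_num
theorem seg_120344381 : ∀ n : ℕ, 120344381 ≤ n → n < 120588121 → ChainP n :=
  chainP_leaf 120344381 120588121 pr_120344381 (by norm_num)
theorem pr_120588121 : Nat.Prime 120588121 := by norm_num
theorem seg_120588121 : ∀ n : ℕ, 120588121 ≤ n → n < 120832199 → ChainP n :=
  chainP_leaf 120588121 120832199 pr_120588121 (by norm_num)
theorem pr_120832199 : Nat.Prime 120832199 := by norm_num
theorem seg_120832199 : ∀ n : ℕ, 120832199 ≤ n → n < 121076609 → ChainP n :=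
  chainP_leaf 120832199 121076609 pr_120832199 (by norm_num)
theorem pr_121076609 : Nat.Prime 121076609 := by norm_num
theorem seg_121076609 : ∀ n : ℕ, 121076609 ≤ n → n < 121321339 → ChainP n :=
  chainP_leaf 121076609 121321339 pr_121076609 (by norm_num)
theorem pr_121321339 : Nat.Prime 121321339 := by norm_num
theorem seg_121321339 : ∀ n : ℕ, 121321339 ≤ n → n < 121566409 → ChainP n :=
  chainP_leaf 121321339 121566409 pr_121321339 (by norm_num)
theorem pr_121566409 : Nat.Prime 121566409 := by norm_num
theorem seg_121566409 : ∀ n : ℕ, 121566409 ≤ n → n < 121811801 → ChainP n :=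
  chainP_leaf 121566409 121811801 pr_121566409 (by norm_num)
theorem pr_121811801 : Nat.Prime 121811801 := by norm_num
theorem seg_121811801 : ∀ n : ℕ, 121811801 ≤ n → n < 122057519 → ChainP n :=
  chainP_leaf 121811801 122057519 pr_121811801 (by norm_num)
theorem pr_122057519 : Nat.Prime 122057519 := by norm_num
theorem seg_122057519 : ∀ n : ℕ, 122057519 ≤ n → n < 122303579 → ChainP n :=
  chainP_leaf 122057519 122303579 pr_122057519 (by norm_num)
theorem pr_122303579 : Nat.Prime 122303579 := by norm_num
theorem seg_122303579 : ∀ n : ℕ, 122303579 ≤ n → n < 122549953 → ChainP n :=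
  chainP_leaf 122303579 122549953 pr_122303579 (by norm_num)
theorem pr_122549953 : Nat.Prime 122549953 := by norm_num
theorem seg_122549953 : ∀ n : ℕ, 122549953 ≤ n → n < 122796671 → ChainP n :=
  chainP_leaf 122549953 122796671 pr_122549953 (by norm_num)
theorem pr_122796671 : Nat.Prime 122796671 := by norm_num
theorem seg_122796671 : ∀ n : ℕ, 122796671 ≤ n → n < 123043703 → ChainP n :=
  chainP_leaf 122796671 123043703 pr_122796671 (by norm_num)
theorem pr_123043703 : Nat.Prime 123043703 := by norm_num
theorem seg_123043703 : ∀ n : ℕ, 123043703 ≤ n → n < 123291053 → ChainP n :=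
  chainP_leaf 123043703 123291053 pr_123043703 (by norm_num)
theorem pr_123291053 : Nat.Prime 123291053 := by norm_num
theorem seg_123291053 : ∀ n : ℕ, 123291053 ≤ n → n < 123538757 → ChainP n :=
  chainP_leaf 123291053 123538757 pr_123291053 (by norm_num)
theorem pr_123538757 : Nat.Prime 123538757 := by norm_num
theorem seg_123538757 : ∀ n : ℕ, 123538757 ≤ n → n < 123786799 → ChainP n :=
  chainP_leaf 123538757 123786799 pr_123538757 (by norm_num)
theorem pr_123786799 : Nat.Prime 123786799 := by norm_num
theorem seg_123786799 : ∀ n : ℕ, 123786799 ≤ n → n < 124035167 → ChainP n :=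
  chainP_leaf 123786799 124035167 pr_123786799 (by norm_num)
theorem pr_124035167 : Nat.Prime 124035167 := by norm_num
theorem seg_124035167 : ∀ n : ℕ, 124035167 ≤ n → n < 124283843 → ChainP n :=
  chainP_leaf 124035167 124283843 pr_124035167 (by norm_num)
theorem pr_124283843 : Nat.Prime 124283843 := by norm_num
theorem seg_124283843 : ∀ n : ℕ, 124283843 ≤ n → n < 124532869 → ChainP n :=
  chainP_leaf 124283843 124532869 pr_124283843 (by norm_num)
theorem pr_124532869 : Nat.Prime 124532869 := by norm_num
theorem seg_124532869 : ∀ n : ℕ, 124532869 ≤ n → n < 124782209 → ChainP n :=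
  chainP_leaf 124532869 124782209 pr_124532869 (by norm_num)
theorem pr_124782209 : Nat.Prime 124782209 := by norm_num
theorem seg_124782209 : ∀ n : ℕ, 124782209 ≤ n → n < 125031911 → ChainP n :=
  chainP_leaf 124782209 125031911 pr_124782209 (by norm_num)
theorem pr_125031911 : Nat.Prime 125031911 := by norm_num
theorem seg_125031911 : ∀ n : ℕ, 125031911 ≤ n → n < 125281939 → ChainP n :=
  chainP_leaf 125031911 125281939 pr_125031911 (by norm_num)
theorem pr_125281939 : Nat.Prime 125281939 := by norm_num
theorem seg_125281939 : ∀ n : ℕ, 125281939 ≤ n → n < 125532311 → ChainP n :=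
  chainP_leaf 125281939 125532311 pr_125281939 (by norm_num)
theorem pr_125532311 : Nat.Prime 125532311 := by norm_num
theorem seg_125532311 : ∀ n : ℕ, 125532311 ≤ n → n < 125783003 → ChainP n :=
  chainP_leaf 125532311 125783003 pr_125532311 (by norm_num)
theorem pr_125783003 : Nat.Prime 125783003 := by norm_num
theorem seg_125783003 : ∀ n : ℕ, 125783003 ≤ n → n < 126034037 → ChainP n :=
  chainP_leaf 125783003 126034037 pr_125783003 (by norm_num)
theorem pr_126034037 : Nat.Prime 126034037 := by norm_num
theorem seg_126034037 : ∀ n : ℕ, 126034037 ≤ n → n < 126285409 → ChainP n :=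
  chainP_leaf 126034037 126285409 pr_126034037 (by norm_num)
theorem pr_126285409 : Nat.Prime 126285409 := by norm_num
theorem seg_126285409 : ∀ n : ℕ, 126285409 ≤ n → n < 126537107 → ChainP n :=
  chainP_leaf 126285409 126537107 pr_126285409 (by norm_num)
theorem pr_126537107 : Nat.Prime 126537107 := by norm_num
theorem seg_126537107 : ∀ n : ℕ, 126537107 ≤ n → n < 126789149 → ChainP n :=
  chainP_leaf 126537107 126789149 pr_126537107 (by norm_num)
theorem pr_126789149 : Nat.Prime 126789149 := by norm_num
theorem seg_126789149 : ∀ n : ℕ, 126789149 ≤ n → n < 127041521 → ChainP n :=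
  chainP_leaf 126789149 127041521 pr_126789149 (by norm_num)
theorem pr_127041521 : Nat.Prime 127041521 := by norm_num
theorem seg_127041521 : ∀ n : ℕ, 127041521 ≤ n → n < 127294231 → ChainP n :=
  chainP_leaf 127041521 127294231 pr_127041521 (by norm_num)
theorem pr_127294231 : Nat.Prime 127294231 := by norm_num
theorem seg_127294231 : ∀ n : ℕ, 127294231 ≤ n → n < 127547267 → ChainP n :=
  chainP_leaf 127294231 127547267 pr_127294231 (by norm_num)
theorem pr_127547267 : Nat.Prime 127547267 := by norm_num
theorem seg_127547267 : ∀ n : ℕ, 127547267 ≤ n → n < 127800643 → ChainP n :=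
  chainP_leaf 127547267 127800643 pr_127547267 (by norm_num)
theorem pr_127800643 : Nat.Prime 127800643 := by norm_num
theorem seg_127800643 : ∀ n : ℕ, 127800643 ≤ n → n < 128054327 → ChainP n :=
  chainP_leaf 127800643 128054327 pr_127800643 (by norm_num)
theorem pr_128054327 : Nat.Prime 128054327 := by norm_num
theorem seg_128054327 : ∀ n : ℕ, 128054327 ≤ n → n < 128308381 → ChainP n :=
  chainP_leaf 128054327 128308381 pr_128054327 (by norm_num)
theorem pr_128308381 : Nat.Prime 128308381 := by norm_num
theorem seg_128308381 : ∀ n : ℕ, 128308381 ≤ n → n < 128562769 → ChainP n :=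
  chainP_leaf 128308381 128562769 pr_128308381 (by norm_num)
theorem pr_128562769 : Nat.Prime 128562769 := by norm_num
theorem seg_128562769 : ∀ n : ℕ, 128562769 ≤ n → n < 128817487 → ChainP n :=
  chainP_leaf 128562769 128817487 pr_128562769 (by norm_num)
theorem pr_128817487 : Nat.Prime 128817487 := by norm_num
theorem seg_128817487 : ∀ n : ℕ, 128817487 ≤ n → n < 129072521 → ChainP n :=
  chainP_leaf 128817487 129072521 pr_128817487 (by norm_num)
theorem pr_129072521 : Nat.Prime 129072521 := by norm_num
theorem seg_129072521 : ∀ n : ℕ, 129072521 ≤ n → n < 129327917 → ChainP n :=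
  chainP_leaf 129072521 129327917 pr_129072521 (by norm_num)
theorem pr_129327917 : Nat.Prime 129327917 := by norm_num
theorem seg_129327917 : ∀ n : ℕ, 129327917 ≤ n → n < 129583637 → ChainP n :=
  chainP_leaf 129327917 129583637 pr_129327917 (by norm_num)
theorem pr_129583637 : Nat.Prime 129583637 := by norm_num
theorem seg_129583637 : ∀ n : ℕ, 129583637 ≤ n → n < 129839683 → ChainP n :=
  chainP_leaf 129583637 129839683 pr_129583637 (by norm_num)
theorem pr_129839683 : Nat.Prime 129839683 := by norm_num
theorem seg_129839683 : ∀ n : ℕ, 129839683 ≤ n → n < 130096093 → ChainP n :=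
  chainP_leaf 129839683 130096093 pr_129839683 (by norm_num)
theorem pr_130096093 : Nat.Prime 130096093 := by norm_num
theorem seg_130096093 : ∀ n : ℕ, 130096093 ≤ n → n < 130352839 → ChainP n :=
  chainP_leaf 130096093 130352839 pr_130096093 (by norm_num)
theorem pr_130352839 : Nat.Prime 130352839 := by norm_num
theorem seg_130352839 : ∀ n : ℕ, 130352839 ≤ n → n < 130609907 → ChainP n :=
  chainP_leaf 130352839 130609907 pr_130352839 (by norm_num)
theorem pr_130609907 : Nat.Prime 130609907 := by norm_num
theorem seg_130609907 : ∀ n : ℕ, 130609907 ≤ n → n < 130867267 → ChainP n :=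
  chainP_leaf 130609907 130867267 pr_130609907 (by norm_num)
theorem pr_130867267 : Nat.Prime 130867267 := by norm_num
theorem seg_130867267 : ∀ n : ℕ, 130867267 ≤ n → n < 131125019 → ChainP n :=
  chainP_leaf 130867267 131125019 pr_130867267 (by norm_num)
theorem pr_131125019 : Nat.Prime 131125019 := by norm_num
theorem seg_131125019 : ∀ n : ℕ, 131125019 ≤ n → n < 131383117 → ChainP n :=
  chainP_leaf 131125019 131383117 pr_131125019 (by norm_num)
theorem pr_131383117 : Nat.Prime 131383117 := by norm_num
theorem seg_131383117 : ∀ n : ℕ, 131383117 ≤ n → n < 131641537 → ChainP n :=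
  chainP_leaf 131383117 131641537 pr_131383117 (by norm_num)
theorem pr_131641537 : Nat.Prime 131641537 := by norm_num
theorem seg_131641537 : ∀ n : ℕ, 131641537 ≤ n → n < 131900303 → ChainP n :=
  chainP_leaf 131641537 131900303 pr_131641537 (by norm_num)
theorem pr_131900303 : Nat.Prime 131900303 := by norm_num
theorem seg_131900303 : ∀ n : ℕ, 131900303 ≤ n → n < 132159413 → ChainP n :=
  chainP_leaf 131900303 132159413 pr_131900303 (by norm_num)
theorem pr_132159413 : Nat.Prime 132159413 := by norm_num
theorem seg_132159413 : ∀ n : ℕ, 132159413 ≤ n → n < 132418859 → ChainP n :=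
  chainP_leaf 132159413 132418859 pr_132159413 (by norm_num)
theorem pr_132418859 : Nat.Prime 132418859 := by norm_num
theorem seg_132418859 : ∀ n : ℕ, 132418859 ≤ n → n < 132678641 → ChainP n :=
  chainP_leaf 132418859 132678641 pr_132418859 (by norm_num)
theorem pr_132678641 : Nat.Prime 132678641 := by norm_num
theorem seg_132678641 : ∀ n : ℕ, 132678641 ≤ n → n < 132938761 → ChainP n :=
  chainP_leaf 132678641 132938761 pr_132678641 (by norm_num)
theorem pr_132938761 : Nat.Prime 132938761 := by norm_num
theorem seg_132938761 : ∀ n : ℕ, 132938761 ≤ n → n < 133199237 → ChainP n :=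
  chainP_leaf 132938761 133199237 pr_132938761 (by norm_num)
theorem pr_133199237 : Nat.Prime 133199237 := by norm_num
theorem seg_133199237 : ∀ n : ℕ, 133199237 ≤ n → n < 133460051 → ChainP n :=
  chainP_leaf 133199237 133460051 pr_133199237 (by norm_num)
theorem pr_133460051 : Nat.Prime 133460051 := by norm_num
theorem seg_133460051 : ∀ n : ℕ, 133460051 ≤ n → n < 133721207 → ChainP n :=
  chainP_leaf 133460051 133721207 pr_133460051 (by norm_num)
theorem pr_133721207 : Nat.Prime 133721207 := by norm_num
theorem seg_133721207 : ∀ n : ℕ, 133721207 ≤ n → n < 133982677 → ChainP n :=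
  chainP_leaf 133721207 133982677 pr_133721207 (by norm_num)
theorem pr_133982677 : Nat.Prime 133982677 := by norm_num
theorem seg_133982677 : ∀ n : ℕ, 133982677 ≤ n → n < 134244503 → ChainP n :=
  chainP_leaf 133982677 134244503 pr_133982677 (by norm_num)

theorem chainL : ∀ n : ℕ, 110631709 ≤ n → n < 134244503 → ChainP n :=
  (chainP_join 110631709 122057519 134244503 (chainP_join 110631709 116250977 122057519 (chainP_join 110631709 113418079 116250977 (chainP_join 110631709 112019123 113418079 (chainP_join 110631709 111324001 112019123 (chainP_join 110631709 110862149 111324001 seg_110631709 (chainP_join 110862149 111092911 111324001 seg_110862149 seg_111092911)) (chainP_join 111324001 111555349 112019123 seg_111324001 (chainP_join 111555349 111787079 112019123 seg_111555349 seg_111787079))) (chainP_join 112019123 112717103 113418079 (chainP_join 112019123 112251499 112717103 seg_112019123 (chainP_join 112251499 112484143 112717103 seg_112251499 seg_112484143)) (chainP_join 112717103 112950443 113418079 seg_112717103 (chainP_join 112950443 113184101 113418079 seg_112950443 seg_113184101))))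 (chainP_join 113418079 114828709 116250977 (chainP_join 113418079 114121951 114828709 (chainP_join 113418079 113652379 114121951 seg_113418079 (chainP_join 113652379 113887003 114121951 seg_113652379 seg_113887003)) (chainP_join 114121951 114357197 114828709 seg_114121951 (chainP_join 114357197 114592789 114828709 seg_114357197 seg_114592789))) (chainP_join 114828709 115538363 116250977 (chainP_join 114828709 115064923 115538363 seg_114828709 (chainP_join 115064923 115301489 115538363 seg_115064923 seg_115301489)) (chainP_join 115538363 115775581 116250977 seg_115538363 (chainP_join 115775581 116013119 116250977 seg_115775581 seg_116013119))))) (chainP_join 116250977 119130607 122057519 (chainP_join 116250977 117684911 119130607 (chainP_join 116250977 116966471 117684911 (chainP_join 116250977 116489167 116966471 seg_116250977 (chainP_join 116489167 116727647 116966471 seg_116489167 seg_116727647)) (chainP_join 116966471 117205609 117684911 seg_116966471 (chainP_join 117205609 117445093 117684911 seg_117205609 seg_117445093))) (chainP_join 117684911 118406303 119130607 (chainP_join 117684911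 117925057 118406303 seg_117684911 (chainP_join 117925057 118165511 118406303 seg_117925057 seg_118165511)) (chainP_join 118406303 118647383 119130607 seg_118406303 (chainP_join 118647383 118888831 119130607 seg_118647383 seg_118888831)))) (chainP_join 119130607 120588121 122057519 (chainP_join 119130607 119857889 120588121 (chainP_join 119130607 119372711 119857889 seg_119130607 (chainP_join 119372711 119615149 119857889 seg_119372711 seg_119615149)) (chainP_join 119857889 120100969 120588121 seg_119857889 (chainP_join 120100969 120344381 120588121 seg_120100969 seg_120344381))) (chainP_join 120588121 121321339 122057519 (chainP_join 120588121 120832199 121321339 seg_120588121 (chainP_join 120832199 121076609 121321339 seg_120832199 seg_121076609)) (chainP_join 121321339 121566409 122057519 seg_121321339 (chainP_join 121566409 121811801 122057519 seg_121566409 seg_121811801)))))) (chainP_join 122057519 128054327 134244503 (chainP_join 122057519 125031911 128054327 (chainP_join 122057519 123538757 125031911 (chainP_join 122057519 122796671 123538757 (chainP_join 122057519 122303579 122796671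 seg_122057519 (chainP_join 122303579 122549953 122796671 seg_122303579 seg_122549953)) (chainP_join 122796671 123043703 123538757 seg_122796671 (chainP_join 123043703 123291053 123538757 seg_123043703 seg_123291053))) (chainP_join 123538757 124283843 125031911 (chainP_join 123538757 123786799 124283843 seg_123538757 (chainP_join 123786799 124035167 124283843 seg_123786799 seg_124035167)) (chainP_join 124283843 124532869 125031911 seg_124283843 (chainP_join 124532869 124782209 125031911 seg_124532869 seg_124782209)))) (chainP_join 125031911 126537107 128054327 (chainP_join 125031911 125783003 126537107 (chainP_join 125031911 125281939 125783003 seg_125031911 (chainP_join 125281939 125532311 125783003 seg_125281939 seg_125532311)) (chainP_join 125783003 126034037 126537107 seg_125783003 (chainP_join 126034037 126285409 126537107 seg_126034037 seg_126285409))) (chainP_join 126537107 127294231 128054327 (chainP_join 126537107 126789149 127294231 seg_126537107 (chainP_join 126789149 127041521 127294231 seg_126789149 seg_127041521)) (chainP_join 127294231 127547267 128054327 seg_127294231 (chainP_join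 127547267 127800643 128054327 seg_127547267 seg_127800643))))) (chainP_join 128054327 131125019 134244503 (chainP_join 128054327 129583637 131125019 (chainP_join 128054327 128817487 129583637 (chainP_join 128054327 128308381 128817487 seg_128054327 (chainP_join 128308381 128562769 128817487 seg_128308381 seg_128562769)) (chainP_join 128817487 129072521 129583637 seg_128817487 (chainP_join 129072521 129327917 129583637 seg_129072521 seg_129327917))) (chainP_join 129583637 130352839 131125019 (chainP_join 129583637 129839683 130352839 seg_129583637 (chainP_join 129839683 130096093 130352839 seg_129839683 seg_130096093)) (chainP_join 130352839 130609907 131125019 seg_130352839 (chainP_join 130609907 130867267 131125019 seg_130609907 seg_130867267)))) (chainP_join 131125019 132678641 134244503 (chainP_join 131125019 131900303 132678641 (chainP_join 131125019 131383117 131900303 seg_131125019 (chainP_join 131383117 131641537 131900303 seg_131383117 seg_131641537)) (chainP_join 131900303 132159413 132678641 seg_131900303 (chainP_join 132159413 132418859 132678641 seg_132159413 seg_132418859))) (chainP_join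 132678641 133460051 134244503 (chainP_join 132678641 132938761 133460051 seg_132678641 (chainP_join 132938761 133199237 133460051 seg_132938761 seg_133199237)) (chainP_join 133460051 133721207 134244503 seg_133460051 (chainP_join 133721207 133982677 134244503 seg_133721207 seg_133982677)))))))

end Cfsg.Agent.Lib.H14.SS
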