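import Cfsg.Agent.Lib.H14.SSChain
import Cfsg.Agent.Lib.H14.SSChainE
import Cfsg.Agent.Lib.H14.SSChainF
import Cfsg.Agent.Lib.H14.SSChainG
import Cfsg.Agent.Lib.H14.SSChainH
import Cfsg.Agent.Lib.H14.SSChainI
import Cfsg.Agent.Lib.H14.SSChainJ
import Cfsg.Agent.Lib.H14.SSChainK
import Cfsg.Agent.Lib.H14.SSChainL
import Cfsg.Agent.Lib.H8.S3571SSDefs

/-! Sylvester-Schur block (S3571 NT): pieces SS0 and SS11 in the EXACT shapes of helper8's cut
(`Cfsg.Agent.Lib.H8.S3571SS.SS0Stmt`, `SS11Stmt = ChainStmt 74 (2^27)`).  The chain of primes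
runs from 37 to 134244503 > 2^27 (1535 windows `[q, q')` with `(q' - q)^3 ≤ q^2`). -/

set_option autoImplicit false

namespace Cfsg.Agent.Lib.H14.SS

open Cfsg.Agent.Lib.H8.S3571SS

/-- the whole chain, `ChainP` form, from 37 up to 134244503 (> 2^27). -/
theorem chainP_all27 : ∀ n : ℕ, 37 ≤ n → n < 134244503 → ChainP n :=
  chainP_join 37 16835233 134244503 chainP_all
    (chainP_join 16835233 56684911 134244503
      (chainP_join 16835233 32832101 56684911
        (chainP_join 16835233 23949883 32832101 chainE chainF)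
        (chainP_join 32832101 43678361 56684911 chainG chainH))
      (chainP_join 56684911 89965217 134244503
        (chainP_join 56684911 72048377 89965217 chainI chainJ)
        (chainP_join 89965217 110631709 134244503 chainK chainL)))

/-- generic: a `ChainP` window gives helper8's `ChainStmt` conclusion. -/
theorem chainStmt_of_chainP {n : ℕ} (h : ChainP n) :
    ∃ q : ℕ, q.Prime ∧ q ≤ n ∧ (n - q) ^ 3 < n ^ 2 := by
  obtain ⟨q, q', hq, hqn, hnq', hgap⟩ := h
  refine ⟨q, hq, hqn, ?_⟩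
  have h3 : n - q < q' - q := by omega
  calc (n - q) ^ 3 < (q' - q) ^ 3 := Nat.pow_lt_pow_left h3 (by norm_num)
    _ ≤ q ^ 2 := hgap
    _ ≤ n ^ 2 := Nat.pow_le_pow_left hqn 2

/-- the chain on `[37, 2^27)` in helper8's `ChainStmt` form (stronger than SS11: starts at 37). -/
theorem chainStmt_37 : ChainStmt 37 (2 ^ 27) :=
  fun n h1 h2 => chainStmt_of_chainP (chainP_all27 n h1 (lt_of_lt_of_le h2 (by norm_num)))

/-- **SS11** in the exact cut shape. -/
theorem ss11 : SS11Stmt :=
  fun n h1 h2 => chainStmt_37 n (le_trans (by norm_num) h1) h2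

/-- **SS0** in the exact cut shape. -/
theorem ss0 : SS0Stmt :=
  fun _ _ _ hp hkp _ hmod => prime_dvd_choose_of_mod_lt hp hkp hmod

end Cfsg.Agent.Lib.H14.SS
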