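import Cfsg.Agent.Lib.H14.SSChainDefs

/-! Generated: chain primes 37 .. 1366303 (part A) for SS11 (Sylvester-Schur, S3571 NT block). -/

set_option autoImplicit false
set_option maxRecDepth 100000

namespace Cfsg.Agent.Lib.H14.SS

theorem pr_37 : Nat.Prime 37 := by norm_num
theorem seg_37 : ∀ n : ℕ, 37 ≤ n → n < 47 → ChainP n :=
  chainP_leaf 37 47 pr_37 (by norm_num)
theorem pr_47 : Nat.Prime 47 := by norm_num
theorem seg_47 : ∀ n : ℕ, 47 ≤ n → n < 59 → ChainP n :=
  chainP_leaf 47 59 pr_47 (by norm_num)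
theorem pr_59 : Nat.Prime 59 := by norm_num
theorem seg_59 : ∀ n : ℕ, 59 ≤ n → n < 73 → ChainP n :=
  chainP_leaf 59 73 pr_59 (by norm_num)
theorem pr_73 : Nat.Prime 73 := by norm_num
theorem seg_73 : ∀ n : ℕ, 73 ≤ n → n < 89 → ChainP n :=
  chainP_leaf 73 89 pr_73 (by norm_num)
theorem pr_89 : Nat.Prime 89 := by norm_num
theorem seg_89 : ∀ n : ℕ, 89 ≤ n → n < 107 → ChainP n :=
  chainP_leaf 89 107 pr_89 (by norm_num)
theorem pr_107 : Nat.Prime 107 := by norm_num
theorem seg_107 : ∀ n : ℕ, 107 ≤ n → n < 127 → ChainP n :=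
  chainP_leaf 107 127 pr_107 (by norm_num)
theorem pr_127 : Nat.Prime 127 := by norm_num
theorem seg_127 : ∀ n : ℕ, 127 ≤ n → n < 151 → ChainP n :=
  chainP_leaf 127 151 pr_127 (by norm_num)
theorem pr_151 : Nat.Prime 151 := by norm_num
theorem seg_151 : ∀ n : ℕ, 151 ≤ n → n < 179 → ChainP n :=
  chainP_leaf 151 179 pr_151 (by norm_num)
theorem pr_179 : Nat.Prime 179 := by norm_num
theorem seg_179 : ∀ n : ℕ, 179 ≤ n → n < 199 → ChainP n :=
  chainP_leaf 179 199 pr_179 (by norm_num)
theorem pr_199 : Nat.Prime 199 := by norm_num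
theorem seg_199 : ∀ n : ℕ, 199 ≤ n → n < 233 → ChainP n :=
  chainP_leaf 199 233 pr_199 (by norm_num)
theorem pr_233 : Nat.Prime 233 := by norm_num
theorem seg_233 : ∀ n : ℕ, 233 ≤ n → n < 269 → ChainP n :=
  chainP_leaf 233 269 pr_233 (by norm_num)
theorem pr_269 : Nat.Prime 269 := by norm_num
theorem seg_269 : ∀ n : ℕ, 269 ≤ n → n < 307 → ChainP n :=
  chainP_leaf 269 307 pr_269 (by norm_num)
theorem pr_307 : Nat.Prime 307 := by norm_num
theorem seg_307 : ∀ n : ℕ, 307 ≤ n → n < 349 → ChainP n :=
  chainP_leaf 307 349 pr_307 (by norm_num)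
theorem pr_349 : Nat.Prime 349 := by norm_num
theorem seg_349 : ∀ n : ℕ, 349 ≤ n → n < 397 → ChainP n :=
  chainP_leaf 349 397 pr_349 (by norm_num)
theorem pr_397 : Nat.Prime 397 := by norm_num
theorem seg_397 : ∀ n : ℕ, 397 ≤ n → n < 449 → ChainP n :=
  chainP_leaf 397 449 pr_397 (by norm_num)
theorem pr_449 : Nat.Prime 449 := by norm_num
theorem seg_449 : ∀ n : ℕ, 449 ≤ n → n < 503 → ChainP n :=
  chainP_leaf 449 503 pr_449 (by norm_num)
theorem pr_503 : Nat.Prime 503 := by norm_num
theorem seg_503 : ∀ n : ℕ, 503 ≤ n → n < 563 → ChainP n :=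
  chainP_leaf 503 563 pr_503 (by norm_num)
theorem pr_563 : Nat.Prime 563 := by norm_num
theorem seg_563 : ∀ n : ℕ, 563 ≤ n → n < 631 → ChainP n :=
  chainP_leaf 563 631 pr_563 (by norm_num)
theorem pr_631 : Nat.Prime 631 := by norm_num
theorem seg_631 : ∀ n : ℕ, 631 ≤ n → n < 701 → ChainP n :=
  chainP_leaf 631 701 pr_631 (by norm_num)
theorem pr_701 : Nat.Prime 701 := by norm_num
theorem seg_701 : ∀ n : ℕ, 701 ≤ n → n < 773 → ChainP n :=
  chainP_leaf 701 773 pr_701 (by norm_num)
theorem pr_773 : Nat.Prime 773 := by norm_num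
theorem seg_773 : ∀ n : ℕ, 773 ≤ n → n < 857 → ChainP n :=
  chainP_leaf 773 857 pr_773 (by norm_num)
theorem pr_857 : Nat.Prime 857 := by norm_num
theorem seg_857 : ∀ n : ℕ, 857 ≤ n → n < 947 → ChainP n :=
  chainP_leaf 857 947 pr_857 (by norm_num)
theorem pr_947 : Nat.Prime 947 := by norm_num
theorem seg_947 : ∀ n : ℕ, 947 ≤ n → n < 1039 → ChainP n :=
  chainP_leaf 947 1039 pr_947 (by norm_num)
theorem pr_1039 : Nat.Prime 1039 := by norm_num
theorem seg_1039 : ∀ n : ℕ, 1039 ≤ n → n < 1129 → ChainP n :=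
  chainP_leaf 1039 1129 pr_1039 (by norm_num)
theorem pr_1129 : Nat.Prime 1129 := by norm_num
theorem seg_1129 : ∀ n : ℕ, 1129 ≤ n → n < 1237 → ChainP n :=
  chainP_leaf 1129 1237 pr_1129 (by norm_num)
theorem pr_1237 : Nat.Prime 1237 := by norm_num
theorem seg_1237 : ∀ n : ℕ, 1237 ≤ n → n < 1327 → ChainP n :=
  chainP_leaf 1237 1327 pr_1237 (by norm_num)
theorem pr_1327 : Nat.Prime 1327 := by norm_num
theorem seg_1327 : ∀ n : ℕ, 1327 ≤ n → n < 1447 → ChainP n :=
  chainP_leaf 1327 1447 pr_1327 (by norm_num)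
theorem pr_1447 : Nat.Prime 1447 := by norm_num
theorem seg_1447 : ∀ n : ℕ, 1447 ≤ n → n < 1571 → ChainP n :=
  chainP_leaf 1447 1571 pr_1447 (by norm_num)
theorem pr_1571 : Nat.Prime 1571 := by norm_num
theorem seg_1571 : ∀ n : ℕ, 1571 ≤ n → n < 1699 → ChainP n :=
  chainP_leaf 1571 1699 pr_1571 (by norm_num)
theorem pr_1699 : Nat.Prime 1699 := by norm_num
theorem seg_1699 : ∀ n : ℕ, 1699 ≤ n → n < 1831 → ChainP n :=
  chainP_leaf 1699 1831 pr_1699 (by norm_num)
theorem pr_1831 : Nat.Prime 1831 := by norm_num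
theorem seg_1831 : ∀ n : ℕ, 1831 ≤ n → n < 1979 → ChainP n :=
  chainP_leaf 1831 1979 pr_1831 (by norm_num)
theorem pr_1979 : Nat.Prime 1979 := by norm_num
theorem seg_1979 : ∀ n : ℕ, 1979 ≤ n → n < 2131 → ChainP n :=
  chainP_leaf 1979 2131 pr_1979 (by norm_num)
theorem pr_2131 : Nat.Prime 2131 := by norm_num
theorem seg_2131 : ∀ n : ℕ, 2131 ≤ n → n < 2293 → ChainP n :=
  chainP_leaf 2131 2293 pr_2131 (by norm_num)
theorem pr_2293 : Nat.Prime 2293 := by norm_num
theorem seg_2293 : ∀ n : ℕ, 2293 ≤ n → n < 2459 → ChainP n :=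
  chainP_leaf 2293 2459 pr_2293 (by norm_num)
theorem pr_2459 : Nat.Prime 2459 := by norm_num
theorem seg_2459 : ∀ n : ℕ, 2459 ≤ n → n < 2633 → ChainP n :=
  chainP_leaf 2459 2633 pr_2459 (by norm_num)
theorem pr_2633 : Nat.Prime 2633 := by norm_num
theorem seg_2633 : ∀ n : ℕ, 2633 ≤ n → n < 2819 → ChainP n :=
  chainP_leaf 2633 2819 pr_2633 (by norm_num)
theorem pr_2819 : Nat.Prime 2819 := by norm_num
theorem seg_2819 : ∀ n : ℕ, 2819 ≤ n → n < 3011 → ChainP n :=
  chainP_leaf 2819 3011 pr_2819 (by norm_num)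
theorem pr_3011 : Nat.Prime 3011 := by norm_num
theorem seg_3011 : ∀ n : ℕ, 3011 ≤ n → n < 3217 → ChainP n :=
  chainP_leaf 3011 3217 pr_3011 (by norm_num)
theorem pr_3217 : Nat.Prime 3217 := by norm_num
theorem seg_3217 : ∀ n : ℕ, 3217 ≤ n → n < 3433 → ChainP n :=
  chainP_leaf 3217 3433 pr_3217 (by norm_num)
theorem pr_3433 : Nat.Prime 3433 := by norm_num
theorem seg_3433 : ∀ n : ℕ, 3433 ≤ n → n < 3659 → ChainP n :=
  chainP_leaf 3433 3659 pr_3433 (by norm_num)
theorem pr_3659 : Nat.Prime 3659 := by norm_num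
theorem seg_3659 : ∀ n : ℕ, 3659 ≤ n → n < 3889 → ChainP n :=
  chainP_leaf 3659 3889 pr_3659 (by norm_num)
theorem pr_3889 : Nat.Prime 3889 := by norm_num
theorem seg_3889 : ∀ n : ℕ, 3889 ≤ n → n < 4133 → ChainP n :=
  chainP_leaf 3889 4133 pr_3889 (by norm_num)
theorem pr_4133 : Nat.Prime 4133 := by norm_num
theorem seg_4133 : ∀ n : ℕ, 4133 ≤ n → n < 4373 → ChainP n :=
  chainP_leaf 4133 4373 pr_4133 (by norm_num)
theorem pr_4373 : Nat.Prime 4373 := by norm_num
theorem seg_4373 : ∀ n : ℕ, 4373 ≤ n → n < 4639 → ChainP n :=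
  chainP_leaf 4373 4639 pr_4373 (by norm_num)
theorem pr_4639 : Nat.Prime 4639 := by norm_num
theorem seg_4639 : ∀ n : ℕ, 4639 ≤ n → n < 4909 → ChainP n :=
  chainP_leaf 4639 4909 pr_4639 (by norm_num)
theorem pr_4909 : Nat.Prime 4909 := by norm_num
theorem seg_4909 : ∀ n : ℕ, 4909 ≤ n → n < 5197 → ChainP n :=
  chainP_leaf 4909 5197 pr_4909 (by norm_num)
theorem pr_5197 : Nat.Prime 5197 := by norm_num
theorem seg_5197 : ∀ n : ℕ, 5197 ≤ n → n < 5483 → ChainP n :=
  chainP_leaf 5197 5483 pr_5197 (by norm_num)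
theorem pr_5483 : Nat.Prime 5483 := by norm_num
theorem seg_5483 : ∀ n : ℕ, 5483 ≤ n → n < 5791 → ChainP n :=
  chainP_leaf 5483 5791 pr_5483 (by norm_num)
theorem pr_5791 : Nat.Prime 5791 := by norm_num
theorem seg_5791 : ∀ n : ℕ, 5791 ≤ n → n < 6113 → ChainP n :=
  chainP_leaf 5791 6113 pr_5791 (by norm_num)
theorem pr_6113 : Nat.Prime 6113 := by norm_num
theorem seg_6113 : ∀ n : ℕ, 6113 ≤ n → n < 6427 → ChainP n :=
  chainP_leaf 6113 6427 pr_6113 (by norm_num)
theorem pr_6427 : Nat.Prime 6427 := by norm_num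
theorem seg_6427 : ∀ n : ℕ, 6427 ≤ n → n < 6763 → ChainP n :=
  chainP_leaf 6427 6763 pr_6427 (by norm_num)
theorem pr_6763 : Nat.Prime 6763 := by norm_num
theorem seg_6763 : ∀ n : ℕ, 6763 ≤ n → n < 7109 → ChainP n :=
  chainP_leaf 6763 7109 pr_6763 (by norm_num)
theorem pr_7109 : Nat.Prime 7109 := by norm_num
theorem seg_7109 : ∀ n : ℕ, 7109 ≤ n → n < 7477 → ChainP n :=
  chainP_leaf 7109 7477 pr_7109 (by norm_num)
theorem pr_7477 : Nat.Prime 7477 := by norm_num
theorem seg_7477 : ∀ n : ℕ, 7477 ≤ n → n < 7853 → ChainP n :=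
  chainP_leaf 7477 7853 pr_7477 (by norm_num)
theorem pr_7853 : Nat.Prime 7853 := by norm_num
theorem seg_7853 : ∀ n : ℕ, 7853 ≤ n → n < 8243 → ChainP n :=
  chainP_leaf 7853 8243 pr_7853 (by norm_num)
theorem pr_8243 : Nat.Prime 8243 := by norm_num
theorem seg_8243 : ∀ n : ℕ, 8243 ≤ n → n < 8647 → ChainP n :=
  chainP_leaf 8243 8647 pr_8243 (by norm_num)
theorem pr_8647 : Nat.Prime 8647 := by norm_num
theorem seg_8647 : ∀ n : ℕ, 8647 ≤ n → n < 9067 → ChainP n :=
  chainP_leaf 8647 9067 pr_8647 (by norm_num)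
theorem pr_9067 : Nat.Prime 9067 := by norm_num
theorem seg_9067 : ∀ n : ℕ, 9067 ≤ n → n < 9497 → ChainP n :=
  chainP_leaf 9067 9497 pr_9067 (by norm_num)
theorem pr_9497 : Nat.Prime 9497 := by norm_num
theorem seg_9497 : ∀ n : ℕ, 9497 ≤ n → n < 9941 → ChainP n :=
  chainP_leaf 9497 9941 pr_9497 (by norm_num)
theorem pr_9941 : Nat.Prime 9941 := by norm_num
theorem seg_9941 : ∀ n : ℕ, 9941 ≤ n → n < 10399 → ChainP n :=
  chainP_leaf 9941 10399 pr_9941 (by norm_num)
theorem pr_10399 : Nat.Prime 10399 := by norm_num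
theorem seg_10399 : ∀ n : ℕ, 10399 ≤ n → n < 10867 → ChainP n :=
  chainP_leaf 10399 10867 pr_10399 (by norm_num)
theorem pr_10867 : Nat.Prime 10867 := by norm_num
theorem seg_10867 : ∀ n : ℕ, 10867 ≤ n → n < 11353 → ChainP n :=
  chainP_leaf 10867 11353 pr_10867 (by norm_num)
theorem pr_11353 : Nat.Prime 11353 := by norm_num
theorem seg_11353 : ∀ n : ℕ, 11353 ≤ n → n < 11839 → ChainP n :=
  chainP_leaf 11353 11839 pr_11353 (by norm_num)
theorem pr_11839 : Nat.Prime 11839 := by norm_num
theorem seg_11839 : ∀ n : ℕ, 11839 ≤ n → n < 12347 → ChainP n :=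
  chainP_leaf 11839 12347 pr_11839 (by norm_num)
theorem pr_12347 : Nat.Prime 12347 := by norm_num
theorem seg_12347 : ∀ n : ℕ, 12347 ≤ n → n < 12853 → ChainP n :=
  chainP_leaf 12347 12853 pr_12347 (by norm_num)
theorem pr_12853 : Nat.Prime 12853 := by norm_num
theorem seg_12853 : ∀ n : ℕ, 12853 ≤ n → n < 13399 → ChainP n :=
  chainP_leaf 12853 13399 pr_12853 (by norm_num)
theorem pr_13399 : Nat.Prime 13399 := by norm_num
theorem seg_13399 : ∀ n : ℕ, 13399 ≤ n → n < 13963 → ChainP n :=
  chainP_leaf 13399 13963 pr_13399 (by norm_num)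
theorem pr_13963 : Nat.Prime 13963 := by norm_num
theorem seg_13963 : ∀ n : ℕ, 13963 ≤ n → n < 14537 → ChainP n :=
  chainP_leaf 13963 14537 pr_13963 (by norm_num)
theorem pr_14537 : Nat.Prime 14537 := by norm_num
theorem seg_14537 : ∀ n : ℕ, 14537 ≤ n → n < 15131 → ChainP n :=
  chainP_leaf 14537 15131 pr_14537 (by norm_num)
theorem pr_15131 : Nat.Prime 15131 := by norm_num
theorem seg_15131 : ∀ n : ℕ, 15131 ≤ n → n < 15739 → ChainP n :=
  chainP_leaf 15131 15739 pr_15131 (by norm_num)
theorem pr_15739 : Nat.Prime 15739 := by norm_num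
theorem seg_15739 : ∀ n : ℕ, 15739 ≤ n → n < 16363 → ChainP n :=
  chainP_leaf 15739 16363 pr_15739 (by norm_num)
theorem pr_16363 : Nat.Prime 16363 := by norm_num
theorem seg_16363 : ∀ n : ℕ, 16363 ≤ n → n < 16993 → ChainP n :=
  chainP_leaf 16363 16993 pr_16363 (by norm_num)
theorem pr_16993 : Nat.Prime 16993 := by norm_num
theorem seg_16993 : ∀ n : ℕ, 16993 ≤ n → n < 17627 → ChainP n :=
  chainP_leaf 16993 17627 pr_16993 (by norm_num)
theorem pr_17627 : Nat.Prime 17627 := by norm_num
theorem seg_17627 : ∀ n : ℕ, 17627 ≤ n → n < 18301 → ChainP n :=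
  chainP_leaf 17627 18301 pr_17627 (by norm_num)
theorem pr_18301 : Nat.Prime 18301 := by norm_num
theorem seg_18301 : ∀ n : ℕ, 18301 ≤ n → n < 18979 → ChainP n :=
  chainP_leaf 18301 18979 pr_18301 (by norm_num)
theorem pr_18979 : Nat.Prime 18979 := by norm_num
theorem seg_18979 : ∀ n : ℕ, 18979 ≤ n → n < 19687 → ChainP n :=
  chainP_leaf 18979 19687 pr_18979 (by norm_num)
theorem pr_19687 : Nat.Prime 19687 := by norm_num
theorem seg_19687 : ∀ n : ℕ, 19687 ≤ n → n < 20411 → ChainP n :=
  chainP_leaf 19687 20411 pr_19687 (by norm_num)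
theorem pr_20411 : Nat.Prime 20411 := by norm_num
theorem seg_20411 : ∀ n : ℕ, 20411 ≤ n → n < 21157 → ChainP n :=
  chainP_leaf 20411 21157 pr_20411 (by norm_num)
theorem pr_21157 : Nat.Prime 21157 := by norm_num
theorem seg_21157 : ∀ n : ℕ, 21157 ≤ n → n < 21911 → ChainP n :=
  chainP_leaf 21157 21911 pr_21157 (by norm_num)
theorem pr_21911 : Nat.Prime 21911 := by norm_num
theorem seg_21911 : ∀ n : ℕ, 21911 ≤ n → n < 22691 → ChainP n :=
  chainP_leaf 21911 22691 pr_21911 (by norm_num)
theorem pr_22691 : Nat.Prime 22691 := by norm_num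
theorem seg_22691 : ∀ n : ℕ, 22691 ≤ n → n < 23473 → ChainP n :=
  chainP_leaf 22691 23473 pr_22691 (by norm_num)
theorem pr_23473 : Nat.Prime 23473 := by norm_num
theorem seg_23473 : ∀ n : ℕ, 23473 ≤ n → n < 24281 → ChainP n :=
  chainP_leaf 23473 24281 pr_23473 (by norm_num)
theorem pr_24281 : Nat.Prime 24281 := by norm_num
theorem seg_24281 : ∀ n : ℕ, 24281 ≤ n → n < 25117 → ChainP n :=
  chainP_leaf 24281 25117 pr_24281 (by norm_num)
theorem pr_25117 : Nat.Prime 25117 := by norm_num
theorem seg_25117 : ∀ n : ℕ, 25117 ≤ n → n < 25969 → ChainP n :=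
  chainP_leaf 25117 25969 pr_25117 (by norm_num)
theorem pr_25969 : Nat.Prime 25969 := by norm_num
theorem seg_25969 : ∀ n : ℕ, 25969 ≤ n → n < 26839 → ChainP n :=
  chainP_leaf 25969 26839 pr_25969 (by norm_num)
theorem pr_26839 : Nat.Prime 26839 := by norm_num
theorem seg_26839 : ∀ n : ℕ, 26839 ≤ n → n < 27733 → ChainP n :=
  chainP_leaf 26839 27733 pr_26839 (by norm_num)
theorem pr_27733 : Nat.Prime 27733 := by norm_num
theorem seg_27733 : ∀ n : ℕ, 27733 ≤ n → n < 28649 → ChainP n :=
  chainP_leaf 27733 28649 pr_27733 (by norm_num)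
theorem pr_28649 : Nat.Prime 28649 := by norm_num
theorem seg_28649 : ∀ n : ℕ, 28649 ≤ n → n < 29581 → ChainP n :=
  chainP_leaf 28649 29581 pr_28649 (by norm_num)
theorem pr_29581 : Nat.Prime 29581 := by norm_num
theorem seg_29581 : ∀ n : ℕ, 29581 ≤ n → n < 30529 → ChainP n :=
  chainP_leaf 29581 30529 pr_29581 (by norm_num)
theorem pr_30529 : Nat.Prime 30529 := by norm_num
theorem seg_30529 : ∀ n : ℕ, 30529 ≤ n → n < 31489 → ChainP n :=
  chainP_leaf 30529 31489 pr_30529 (by norm_num)
theorem pr_31489 : Nat.Prime 31489 := by norm_num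
theorem seg_31489 : ∀ n : ℕ, 31489 ≤ n → n < 32479 → ChainP n :=
  chainP_leaf 31489 32479 pr_31489 (by norm_num)
theorem pr_32479 : Nat.Prime 32479 := by norm_num
theorem seg_32479 : ∀ n : ℕ, 32479 ≤ n → n < 33493 → ChainP n :=
  chainP_leaf 32479 33493 pr_32479 (by norm_num)
theorem pr_33493 : Nat.Prime 33493 := by norm_num
theorem seg_33493 : ∀ n : ℕ, 33493 ≤ n → n < 34519 → ChainP n :=
  chainP_leaf 33493 34519 pr_33493 (by norm_num)
theorem pr_34519 : Nat.Prime 34519 := by norm_num
theorem seg_34519 : ∀ n : ℕ, 34519 ≤ n → n < 35573 → ChainP n :=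
  chainP_leaf 34519 35573 pr_34519 (by norm_num)
theorem pr_35573 : Nat.Prime 35573 := by norm_num
theorem seg_35573 : ∀ n : ℕ, 35573 ≤ n → n < 36653 → ChainP n :=
  chainP_leaf 35573 36653 pr_35573 (by norm_num)
theorem pr_36653 : Nat.Prime 36653 := by norm_num
theorem seg_36653 : ∀ n : ℕ, 36653 ≤ n → n < 37747 → ChainP n :=
  chainP_leaf 36653 37747 pr_36653 (by norm_num)
theorem pr_37747 : Nat.Prime 37747 := by norm_num
theorem seg_37747 : ∀ n : ℕ, 37747 ≤ n → n < 38867 → ChainP n :=
  chainP_leaf 37747 38867 pr_37747 (by norm_num)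
theorem pr_38867 : Nat.Prime 38867 := by norm_num
theorem seg_38867 : ∀ n : ℕ, 38867 ≤ n → n < 40013 → ChainP n :=
  chainP_leaf 38867 40013 pr_38867 (by norm_num)
theorem pr_40013 : Nat.Prime 40013 := by norm_num
theorem seg_40013 : ∀ n : ℕ, 40013 ≤ n → n < 41179 → ChainP n :=
  chainP_leaf 40013 41179 pr_40013 (by norm_num)
theorem pr_41179 : Nat.Prime 41179 := by norm_num
theorem seg_41179 : ∀ n : ℕ, 41179 ≤ n → n < 42359 → ChainP n :=
  chainP_leaf 41179 42359 pr_41179 (by norm_num)
theorem pr_42359 : Nat.Prime 42359 := by norm_num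
theorem seg_42359 : ∀ n : ℕ, 42359 ≤ n → n < 43573 → ChainP n :=
  chainP_leaf 42359 43573 pr_42359 (by norm_num)
theorem pr_43573 : Nat.Prime 43573 := by norm_num
theorem seg_43573 : ∀ n : ℕ, 43573 ≤ n → n < 44809 → ChainP n :=
  chainP_leaf 43573 44809 pr_43573 (by norm_num)
theorem pr_44809 : Nat.Prime 44809 := by norm_num
theorem seg_44809 : ∀ n : ℕ, 44809 ≤ n → n < 46061 → ChainP n :=
  chainP_leaf 44809 46061 pr_44809 (by norm_num)
theorem pr_46061 : Nat.Prime 46061 := by norm_num
theorem seg_46061 : ∀ n : ℕ, 46061 ≤ n → n < 47339 → ChainP n :=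
  chainP_leaf 46061 47339 pr_46061 (by norm_num)
theorem pr_47339 : Nat.Prime 47339 := by norm_num
theorem seg_47339 : ∀ n : ℕ, 47339 ≤ n → n < 48647 → ChainP n :=
  chainP_leaf 47339 48647 pr_47339 (by norm_num)
theorem pr_48647 : Nat.Prime 48647 := by norm_num
theorem seg_48647 : ∀ n : ℕ, 48647 ≤ n → n < 49957 → ChainP n :=
  chainP_leaf 48647 49957 pr_48647 (by norm_num)
theorem pr_49957 : Nat.Prime 49957 := by norm_num
theorem seg_49957 : ∀ n : ℕ, 49957 ≤ n → n < 51307 → ChainP n :=
  chainP_leaf 49957 51307 pr_49957 (by norm_num)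
theorem pr_51307 : Nat.Prime 51307 := by norm_num
theorem seg_51307 : ∀ n : ℕ, 51307 ≤ n → n < 52673 → ChainP n :=
  chainP_leaf 51307 52673 pr_51307 (by norm_num)
theorem pr_52673 : Nat.Prime 52673 := by norm_num
theorem seg_52673 : ∀ n : ℕ, 52673 ≤ n → n < 54059 → ChainP n :=
  chainP_leaf 52673 54059 pr_52673 (by norm_num)
theorem pr_54059 : Nat.Prime 54059 := by norm_num
theorem seg_54059 : ∀ n : ℕ, 54059 ≤ n → n < 55487 → ChainP n :=
  chainP_leaf 54059 55487 pr_54059 (by norm_num)
theorem pr_55487 : Nat.Prime 55487 := by norm_num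
theorem seg_55487 : ∀ n : ℕ, 55487 ≤ n → n < 56941 → ChainP n :=
  chainP_leaf 55487 56941 pr_55487 (by norm_num)
theorem pr_56941 : Nat.Prime 56941 := by norm_num
theorem seg_56941 : ∀ n : ℕ, 56941 ≤ n → n < 58417 → ChainP n :=
  chainP_leaf 56941 58417 pr_56941 (by norm_num)
theorem pr_58417 : Nat.Prime 58417 := by norm_num
theorem seg_58417 : ∀ n : ℕ, 58417 ≤ n → n < 59921 → ChainP n :=
  chainP_leaf 58417 59921 pr_58417 (by norm_num)
theorem pr_59921 : Nat.Prime 59921 := by norm_num
theorem seg_59921 : ∀ n : ℕ, 59921 ≤ n → n < 61441 → ChainP n :=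
  chainP_leaf 59921 61441 pr_59921 (by norm_num)
theorem pr_61441 : Nat.Prime 61441 := by norm_num
theorem seg_61441 : ∀ n : ℕ, 61441 ≤ n → n < 62989 → ChainP n :=
  chainP_leaf 61441 62989 pr_61441 (by norm_num)
theorem pr_62989 : Nat.Prime 62989 := by norm_num
theorem seg_62989 : ∀ n : ℕ, 62989 ≤ n → n < 64567 → ChainP n :=
  chainP_leaf 62989 64567 pr_62989 (by norm_num)
theorem pr_64567 : Nat.Prime 64567 := by norm_num
theorem seg_64567 : ∀ n : ℕ, 64567 ≤ n → n < 66173 → ChainP n :=
  chainP_leaf 64567 66173 pr_64567 (by norm_num)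
theorem pr_66173 : Nat.Prime 66173 := by norm_num
theorem seg_66173 : ∀ n : ℕ, 66173 ≤ n → n < 67807 → ChainP n :=
  chainP_leaf 66173 67807 pr_66173 (by norm_num)
theorem pr_67807 : Nat.Prime 67807 := by norm_num
theorem seg_67807 : ∀ n : ℕ, 67807 ≤ n → n < 69467 → ChainP n :=
  chainP_leaf 67807 69467 pr_67807 (by norm_num)
theorem pr_69467 : Nat.Prime 69467 := by norm_num
theorem seg_69467 : ∀ n : ℕ, 69467 ≤ n → n < 71153 → ChainP n :=
  chainP_leaf 69467 71153 pr_69467 (by norm_num)
theorem pr_71153 : Nat.Prime 71153 := by norm_num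
theorem seg_71153 : ∀ n : ℕ, 71153 ≤ n → n < 72869 → ChainP n :=
  chainP_leaf 71153 72869 pr_71153 (by norm_num)
theorem pr_72869 : Nat.Prime 72869 := by norm_num
theorem seg_72869 : ∀ n : ℕ, 72869 ≤ n → n < 74611 → ChainP n :=
  chainP_leaf 72869 74611 pr_72869 (by norm_num)
theorem pr_74611 : Nat.Prime 74611 := by norm_num
theorem seg_74611 : ∀ n : ℕ, 74611 ≤ n → n < 76379 → ChainP n :=
  chainP_leaf 74611 76379 pr_74611 (by norm_num)
theorem pr_76379 : Nat.Prime 76379 := by norm_num
theorem seg_76379 : ∀ n : ℕ, 76379 ≤ n → n < 78179 → ChainP n :=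
  chainP_leaf 76379 78179 pr_76379 (by norm_num)
theorem pr_78179 : Nat.Prime 78179 := by norm_num
theorem seg_78179 : ∀ n : ℕ, 78179 ≤ n → n < 79999 → ChainP n :=
  chainP_leaf 78179 79999 pr_78179 (by norm_num)
theorem pr_79999 : Nat.Prime 79999 := by norm_num
theorem seg_79999 : ∀ n : ℕ, 79999 ≤ n → n < 81853 → ChainP n :=
  chainP_leaf 79999 81853 pr_79999 (by norm_num)
theorem pr_81853 : Nat.Prime 81853 := by norm_num
theorem seg_81853 : ∀ n : ℕ, 81853 ≤ n → n < 83737 → ChainP n :=
  chainP_leaf 81853 83737 pr_81853 (by norm_num)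
theorem pr_83737 : Nat.Prime 83737 := by norm_num
theorem seg_83737 : ∀ n : ℕ, 83737 ≤ n → n < 85643 → ChainP n :=
  chainP_leaf 83737 85643 pr_83737 (by norm_num)
theorem pr_85643 : Nat.Prime 85643 := by norm_num
theorem seg_85643 : ∀ n : ℕ, 85643 ≤ n → n < 87583 → ChainP n :=
  chainP_leaf 85643 87583 pr_85643 (by norm_num)
theorem pr_87583 : Nat.Prime 87583 := by norm_num
theorem seg_87583 : ∀ n : ℕ, 87583 ≤ n → n < 89533 → ChainP n :=
  chainP_leaf 87583 89533 pr_87583 (by norm_num)
theorem pr_89533 : Nat.Prime 89533 := by norm_num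
theorem seg_89533 : ∀ n : ℕ, 89533 ≤ n → n < 91529 → ChainP n :=
  chainP_leaf 89533 91529 pr_89533 (by norm_num)
theorem pr_91529 : Nat.Prime 91529 := by norm_num
theorem seg_91529 : ∀ n : ℕ, 91529 ≤ n → n < 93559 → ChainP n :=
  chainP_leaf 91529 93559 pr_91529 (by norm_num)
theorem pr_93559 : Nat.Prime 93559 := by norm_num
theorem seg_93559 : ∀ n : ℕ, 93559 ≤ n → n < 95617 → ChainP n :=
  chainP_leaf 93559 95617 pr_93559 (by norm_num)
theorem pr_95617 : Nat.Prime 95617 := by norm_num
theorem seg_95617 : ∀ n : ℕ, 95617 ≤ n → n < 97687 → ChainP n :=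
  chainP_leaf 95617 97687 pr_95617 (by norm_num)
theorem pr_97687 : Nat.Prime 97687 := by norm_num
theorem seg_97687 : ∀ n : ℕ, 97687 ≤ n → n < 99793 → ChainP n :=
  chainP_leaf 97687 99793 pr_97687 (by norm_num)
theorem pr_99793 : Nat.Prime 99793 := by norm_num
theorem seg_99793 : ∀ n : ℕ, 99793 ≤ n → n < 101939 → ChainP n :=
  chainP_leaf 99793 101939 pr_99793 (by norm_num)
theorem pr_101939 : Nat.Prime 101939 := by norm_num
theorem seg_101939 : ∀ n : ℕ, 101939 ≤ n → n < 104119 → ChainP n :=
  chainP_leaf 101939 104119 pr_101939 (by norm_num)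
theorem pr_104119 : Nat.Prime 104119 := by norm_num
theorem seg_104119 : ∀ n : ℕ, 104119 ≤ n → n < 106331 → ChainP n :=
  chainP_leaf 104119 106331 pr_104119 (by norm_num)
theorem pr_106331 : Nat.Prime 106331 := by norm_num
theorem seg_106331 : ∀ n : ℕ, 106331 ≤ n → n < 108571 → ChainP n :=
  chainP_leaf 106331 108571 pr_106331 (by norm_num)
theorem pr_108571 : Nat.Prime 108571 := by norm_num
theorem seg_108571 : ∀ n : ℕ, 108571 ≤ n → n < 110821 → ChainP n :=
  chainP_leaf 108571 110821 pr_108571 (by norm_num)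
theorem pr_110821 : Nat.Prime 110821 := by norm_num
theorem seg_110821 : ∀ n : ℕ, 110821 ≤ n → n < 113123 → ChainP n :=
  chainP_leaf 110821 113123 pr_110821 (by norm_num)
theorem pr_113123 : Nat.Prime 113123 := by norm_num
theorem seg_113123 : ∀ n : ℕ, 113123 ≤ n → n < 115459 → ChainP n :=
  chainP_leaf 113123 115459 pr_113123 (by norm_num)
theorem pr_115459 : Nat.Prime 115459 := by norm_num
theorem seg_115459 : ∀ n : ℕ, 115459 ≤ n → n < 117811 → ChainP n :=
  chainP_leaf 115459 117811 pr_115459 (by norm_num)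
theorem pr_117811 : Nat.Prime 117811 := by norm_num
theorem seg_117811 : ∀ n : ℕ, 117811 ≤ n → n < 120209 → ChainP n :=
  chainP_leaf 117811 120209 pr_117811 (by norm_num)
theorem pr_120209 : Nat.Prime 120209 := by norm_num
theorem seg_120209 : ∀ n : ℕ, 120209 ≤ n → n < 122611 → ChainP n :=
  chainP_leaf 120209 122611 pr_120209 (by norm_num)
theorem pr_122611 : Nat.Prime 122611 := by norm_num
theorem seg_122611 : ∀ n : ℕ, 122611 ≤ n → n < 125063 → ChainP n :=
  chainP_leaf 122611 125063 pr_122611 (by norm_num)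
theorem pr_125063 : Nat.Prime 125063 := by norm_num
theorem seg_125063 : ∀ n : ℕ, 125063 ≤ n → n < 127549 → ChainP n :=
  chainP_leaf 125063 127549 pr_125063 (by norm_num)
theorem pr_127549 : Nat.Prime 127549 := by norm_num
theorem seg_127549 : ∀ n : ℕ, 127549 ≤ n → n < 130079 → ChainP n :=
  chainP_leaf 127549 130079 pr_127549 (by norm_num)
theorem pr_130079 : Nat.Prime 130079 := by norm_num
theorem seg_130079 : ∀ n : ℕ, 130079 ≤ n → n < 132637 → ChainP n :=
  chainP_leaf 130079 132637 pr_130079 (by norm_num)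
theorem pr_132637 : Nat.Prime 132637 := by norm_num
theorem seg_132637 : ∀ n : ℕ, 132637 ≤ n → n < 135221 → ChainP n :=
  chainP_leaf 132637 135221 pr_132637 (by norm_num)
theorem pr_135221 : Nat.Prime 135221 := by norm_num
theorem seg_135221 : ∀ n : ℕ, 135221 ≤ n → n < 137849 → ChainP n :=
  chainP_leaf 135221 137849 pr_135221 (by norm_num)
theorem pr_137849 : Nat.Prime 137849 := by norm_num
theorem seg_137849 : ∀ n : ℕ, 137849 ≤ n → n < 140477 → ChainP n :=
  chainP_leaf 137849 140477 pr_137849 (by norm_num)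
theorem pr_140477 : Nat.Prime 140477 := by norm_num
theorem seg_140477 : ∀ n : ℕ, 140477 ≤ n → n < 143177 → ChainP n :=
  chainP_leaf 140477 143177 pr_140477 (by norm_num)
theorem pr_143177 : Nat.Prime 143177 := by norm_num
theorem seg_143177 : ∀ n : ℕ, 143177 ≤ n → n < 145903 → ChainP n :=
  chainP_leaf 143177 145903 pr_143177 (by norm_num)
theorem pr_145903 : Nat.Prime 145903 := by norm_num
theorem seg_145903 : ∀ n : ℕ, 145903 ≤ n → n < 148669 → ChainP n :=
  chainP_leaf 145903 148669 pr_145903 (by norm_num)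
theorem pr_148669 : Nat.Prime 148669 := by norm_num
theorem seg_148669 : ∀ n : ℕ, 148669 ≤ n → n < 151471 → ChainP n :=
  chainP_leaf 148669 151471 pr_148669 (by norm_num)
theorem pr_151471 : Nat.Prime 151471 := by norm_num
theorem seg_151471 : ∀ n : ℕ, 151471 ≤ n → n < 154303 → ChainP n :=
  chainP_leaf 151471 154303 pr_151471 (by norm_num)
theorem pr_154303 : Nat.Prime 154303 := by norm_num
theorem seg_154303 : ∀ n : ℕ, 154303 ≤ n → n < 157177 → ChainP n :=
  chainP_leaf 154303 157177 pr_154303 (by norm_num)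
theorem pr_157177 : Nat.Prime 157177 := by norm_num
theorem seg_157177 : ∀ n : ℕ, 157177 ≤ n → n < 160087 → ChainP n :=
  chainP_leaf 157177 160087 pr_157177 (by norm_num)
theorem pr_160087 : Nat.Prime 160087 := by norm_num
theorem seg_160087 : ∀ n : ℕ, 160087 ≤ n → n < 163027 → ChainP n :=
  chainP_leaf 160087 163027 pr_160087 (by norm_num)
theorem pr_163027 : Nat.Prime 163027 := by norm_num
theorem seg_163027 : ∀ n : ℕ, 163027 ≤ n → n < 165983 → ChainP n :=
  chainP_leaf 163027 165983 pr_163027 (by norm_num)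
theorem pr_165983 : Nat.Prime 165983 := by norm_num
theorem seg_165983 : ∀ n : ℕ, 165983 ≤ n → n < 169003 → ChainP n :=
  chainP_leaf 165983 169003 pr_165983 (by norm_num)
theorem pr_169003 : Nat.Prime 169003 := by norm_num
theorem seg_169003 : ∀ n : ℕ, 169003 ≤ n → n < 172049 → ChainP n :=
  chainP_leaf 169003 172049 pr_169003 (by norm_num)
theorem pr_172049 : Nat.Prime 172049 := by norm_num
theorem seg_172049 : ∀ n : ℕ, 172049 ≤ n → n < 175141 → ChainP n :=
  chainP_leaf 172049 175141 pr_172049 (by norm_num)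
theorem pr_175141 : Nat.Prime 175141 := by norm_num
theorem seg_175141 : ∀ n : ℕ, 175141 ≤ n → n < 178261 → ChainP n :=
  chainP_leaf 175141 178261 pr_175141 (by norm_num)
theorem pr_178261 : Nat.Prime 178261 := by norm_num
theorem seg_178261 : ∀ n : ℕ, 178261 ≤ n → n < 181421 → ChainP n :=
  chainP_leaf 178261 181421 pr_178261 (by norm_num)
theorem pr_181421 : Nat.Prime 181421 := by norm_num
theorem seg_181421 : ∀ n : ℕ, 181421 ≤ n → n < 184609 → ChainP n :=
  chainP_leaf 181421 184609 pr_181421 (by norm_num)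
theorem pr_184609 : Nat.Prime 184609 := by norm_num
theorem seg_184609 : ∀ n : ℕ, 184609 ≤ n → n < 187843 → ChainP n :=
  chainP_leaf 184609 187843 pr_184609 (by norm_num)
theorem pr_187843 : Nat.Prime 187843 := by norm_num
theorem seg_187843 : ∀ n : ℕ, 187843 ≤ n → n < 191119 → ChainP n :=
  chainP_leaf 187843 191119 pr_187843 (by norm_num)
theorem pr_191119 : Nat.Prime 191119 := by norm_num
theorem seg_191119 : ∀ n : ℕ, 191119 ≤ n → n < 194431 → ChainP n :=
  chainP_leaf 191119 194431 pr_191119 (by norm_num)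
theorem pr_194431 : Nat.Prime 194431 := by norm_num
theorem seg_194431 : ∀ n : ℕ, 194431 ≤ n → n < 197779 → ChainP n :=
  chainP_leaf 194431 197779 pr_194431 (by norm_num)
theorem pr_197779 : Nat.Prime 197779 := by norm_num
theorem seg_197779 : ∀ n : ℕ, 197779 ≤ n → n < 201167 → ChainP n :=
  chainP_leaf 197779 201167 pr_197779 (by norm_num)
theorem pr_201167 : Nat.Prime 201167 := by norm_num
theorem seg_201167 : ∀ n : ℕ, 201167 ≤ n → n < 204599 → ChainP n :=
  chainP_leaf 201167 204599 pr_201167 (by norm_num)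
theorem pr_204599 : Nat.Prime 204599 := by norm_num
theorem seg_204599 : ∀ n : ℕ, 204599 ≤ n → n < 208067 → ChainP n :=
  chainP_leaf 204599 208067 pr_204599 (by norm_num)
theorem pr_208067 : Nat.Prime 208067 := by norm_num
theorem seg_208067 : ∀ n : ℕ, 208067 ≤ n → n < 211573 → ChainP n :=
  chainP_leaf 208067 211573 pr_208067 (by norm_num)
theorem pr_211573 : Nat.Prime 211573 := by norm_num
theorem seg_211573 : ∀ n : ℕ, 211573 ≤ n → n < 215123 → ChainP n :=
  chainP_leaf 211573 215123 pr_211573 (by norm_num)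
theorem pr_215123 : Nat.Prime 215123 := by norm_num
theorem seg_215123 : ∀ n : ℕ, 215123 ≤ n → n < 218711 → ChainP n :=
  chainP_leaf 215123 218711 pr_215123 (by norm_num)
theorem pr_218711 : Nat.Prime 218711 := by norm_num
theorem seg_218711 : ∀ n : ℕ, 218711 ≤ n → n < 222337 → ChainP n :=
  chainP_leaf 218711 222337 pr_218711 (by norm_num)
theorem pr_222337 : Nat.Prime 222337 := by norm_num
theorem seg_222337 : ∀ n : ℕ, 222337 ≤ n → n < 226007 → ChainP n :=
  chainP_leaf 222337 226007 pr_222337 (by norm_num)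
theorem pr_226007 : Nat.Prime 226007 := by norm_num
theorem seg_226007 : ∀ n : ℕ, 226007 ≤ n → n < 229717 → ChainP n :=
  chainP_leaf 226007 229717 pr_226007 (by norm_num)
theorem pr_229717 : Nat.Prime 229717 := by norm_num
theorem seg_229717 : ∀ n : ℕ, 229717 ≤ n → n < 233437 → ChainP n :=
  chainP_leaf 229717 233437 pr_229717 (by norm_num)
theorem pr_233437 : Nat.Prime 233437 := by norm_num
theorem seg_233437 : ∀ n : ℕ, 233437 ≤ n → n < 237217 → ChainP n :=
  chainP_leaf 233437 237217 pr_233437 (by norm_num)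
theorem pr_237217 : Nat.Prime 237217 := by norm_num
theorem seg_237217 : ∀ n : ℕ, 237217 ≤ n → n < 241049 → ChainP n :=
  chainP_leaf 237217 241049 pr_237217 (by norm_num)
theorem pr_241049 : Nat.Prime 241049 := by norm_num
theorem seg_241049 : ∀ n : ℕ, 241049 ≤ n → n < 244901 → ChainP n :=
  chainP_leaf 241049 244901 pr_241049 (by norm_num)
theorem pr_244901 : Nat.Prime 244901 := by norm_num
theorem seg_244901 : ∀ n : ℕ, 244901 ≤ n → n < 248813 → ChainP n :=
  chainP_leaf 244901 248813 pr_244901 (by norm_num)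
theorem pr_248813 : Nat.Prime 248813 := by norm_num
theorem seg_248813 : ∀ n : ℕ, 248813 ≤ n → n < 252767 → ChainP n :=
  chainP_leaf 248813 252767 pr_248813 (by norm_num)
theorem pr_252767 : Nat.Prime 252767 := by norm_num
theorem seg_252767 : ∀ n : ℕ, 252767 ≤ n → n < 256757 → ChainP n :=
  chainP_leaf 252767 256757 pr_252767 (by norm_num)
theorem pr_256757 : Nat.Prime 256757 := by norm_num
theorem seg_256757 : ∀ n : ℕ, 256757 ≤ n → n < 260791 → ChainP n :=
  chainP_leaf 256757 260791 pr_256757 (by norm_num)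
theorem pr_260791 : Nat.Prime 260791 := by norm_num
theorem seg_260791 : ∀ n : ℕ, 260791 ≤ n → n < 264871 → ChainP n :=
  chainP_leaf 260791 264871 pr_260791 (by norm_num)
theorem pr_264871 : Nat.Prime 264871 := by norm_num
theorem seg_264871 : ∀ n : ℕ, 264871 ≤ n → n < 268993 → ChainP n :=
  chainP_leaf 264871 268993 pr_264871 (by norm_num)
theorem pr_268993 : Nat.Prime 268993 := by norm_num
theorem seg_268993 : ∀ n : ℕ, 268993 ≤ n → n < 273157 → ChainP n :=
  chainP_leaf 268993 273157 pr_268993 (by norm_num)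
theorem pr_273157 : Nat.Prime 273157 := by norm_num
theorem seg_273157 : ∀ n : ℕ, 273157 ≤ n → n < 277363 → ChainP n :=
  chainP_leaf 273157 277363 pr_273157 (by norm_num)
theorem pr_277363 : Nat.Prime 277363 := by norm_num
theorem seg_277363 : ∀ n : ℕ, 277363 ≤ n → n < 281609 → ChainP n :=
  chainP_leaf 277363 281609 pr_277363 (by norm_num)
theorem pr_281609 : Nat.Prime 281609 := by norm_num
theorem seg_281609 : ∀ n : ℕ, 281609 ≤ n → n < 285871 → ChainP n :=
  chainP_leaf 281609 285871 pr_281609 (by norm_num)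
theorem pr_285871 : Nat.Prime 285871 := by norm_num
theorem seg_285871 : ∀ n : ℕ, 285871 ≤ n → n < 290209 → ChainP n :=
  chainP_leaf 285871 290209 pr_285871 (by norm_num)
theorem pr_290209 : Nat.Prime 290209 := by norm_num
theorem seg_290209 : ∀ n : ℕ, 290209 ≤ n → n < 294563 → ChainP n :=
  chainP_leaf 290209 294563 pr_290209 (by norm_num)
theorem pr_294563 : Nat.Prime 294563 := by norm_num
theorem seg_294563 : ∀ n : ℕ, 294563 ≤ n → n < 298943 → ChainP n :=
  chainP_leaf 294563 298943 pr_294563 (by norm_num)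
theorem pr_298943 : Nat.Prime 298943 := by norm_num
theorem seg_298943 : ∀ n : ℕ, 298943 ≤ n → n < 303409 → ChainP n :=
  chainP_leaf 298943 303409 pr_298943 (by norm_num)
theorem pr_303409 : Nat.Prime 303409 := by norm_num
theorem seg_303409 : ∀ n : ℕ, 303409 ≤ n → n < 307919 → ChainP n :=
  chainP_leaf 303409 307919 pr_303409 (by norm_num)
theorem pr_307919 : Nat.Prime 307919 := by norm_num
theorem seg_307919 : ∀ n : ℕ, 307919 ≤ n → n < 312469 → ChainP n :=
  chainP_leaf 307919 312469 pr_307919 (by norm_num)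
theorem pr_312469 : Nat.Prime 312469 := by norm_num
theorem seg_312469 : ∀ n : ℕ, 312469 ≤ n → n < 317071 → ChainP n :=
  chainP_leaf 312469 317071 pr_312469 (by norm_num)
theorem pr_317071 : Nat.Prime 317071 := by norm_num
theorem seg_317071 : ∀ n : ℕ, 317071 ≤ n → n < 321709 → ChainP n :=
  chainP_leaf 317071 321709 pr_317071 (by norm_num)
theorem pr_321709 : Nat.Prime 321709 := by norm_num
theorem seg_321709 : ∀ n : ℕ, 321709 ≤ n → n < 326369 → ChainP n :=
  chainP_leaf 321709 326369 pr_321709 (by norm_num)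
theorem pr_326369 : Nat.Prime 326369 := by norm_num
theorem seg_326369 : ∀ n : ℕ, 326369 ≤ n → n < 331099 → ChainP n :=
  chainP_leaf 326369 331099 pr_326369 (by norm_num)
theorem pr_331099 : Nat.Prime 331099 := by norm_num
theorem seg_331099 : ∀ n : ℕ, 331099 ≤ n → n < 335879 → ChainP n :=
  chainP_leaf 331099 335879 pr_331099 (by norm_num)
theorem pr_335879 : Nat.Prime 335879 := by norm_num
theorem seg_335879 : ∀ n : ℕ, 335879 ≤ n → n < 340709 → ChainP n :=
  chainP_leaf 335879 340709 pr_335879 (by norm_num)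
theorem pr_340709 : Nat.Prime 340709 := by norm_num
theorem seg_340709 : ∀ n : ℕ, 340709 ≤ n → n < 345581 → ChainP n :=
  chainP_leaf 340709 345581 pr_340709 (by norm_num)
theorem pr_345581 : Nat.Prime 345581 := by norm_num
theorem seg_345581 : ∀ n : ℕ, 345581 ≤ n → n < 350503 → ChainP n :=
  chainP_leaf 345581 350503 pr_345581 (by norm_num)
theorem pr_350503 : Nat.Prime 350503 := by norm_num
theorem seg_350503 : ∀ n : ℕ, 350503 ≤ n → n < 355463 → ChainP n :=
  chainP_leaf 350503 355463 pr_350503 (by norm_num)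
theorem pr_355463 : Nat.Prime 355463 := by norm_num
theorem seg_355463 : ∀ n : ℕ, 355463 ≤ n → n < 360461 → ChainP n :=
  chainP_leaf 355463 360461 pr_355463 (by norm_num)
theorem pr_360461 : Nat.Prime 360461 := by norm_num
theorem seg_360461 : ∀ n : ℕ, 360461 ≤ n → n < 365513 → ChainP n :=
  chainP_leaf 360461 365513 pr_360461 (by norm_num)
theorem pr_365513 : Nat.Prime 365513 := by norm_num
theorem seg_365513 : ∀ n : ℕ, 365513 ≤ n → n < 370619 → ChainP n :=
  chainP_leaf 365513 370619 pr_365513 (by norm_num)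
theorem pr_370619 : Nat.Prime 370619 := by norm_num
theorem seg_370619 : ∀ n : ℕ, 370619 ≤ n → n < 375773 → ChainP n :=
  chainP_leaf 370619 375773 pr_370619 (by norm_num)
theorem pr_375773 : Nat.Prime 375773 := by norm_num
theorem seg_375773 : ∀ n : ℕ, 375773 ≤ n → n < 380977 → ChainP n :=
  chainP_leaf 375773 380977 pr_375773 (by norm_num)
theorem pr_380977 : Nat.Prime 380977 := by norm_num
theorem seg_380977 : ∀ n : ℕ, 380977 ≤ n → n < 386227 → ChainP n :=
  chainP_leaf 380977 386227 pr_380977 (by norm_num)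
theorem pr_386227 : Nat.Prime 386227 := by norm_num
theorem seg_386227 : ∀ n : ℕ, 386227 ≤ n → n < 391519 → ChainP n :=
  chainP_leaf 386227 391519 pr_386227 (by norm_num)
theorem pr_391519 : Nat.Prime 391519 := by norm_num
theorem seg_391519 : ∀ n : ℕ, 391519 ≤ n → n < 396833 → ChainP n :=
  chainP_leaf 391519 396833 pr_391519 (by norm_num)
theorem pr_396833 : Nat.Prime 396833 := by norm_num
theorem seg_396833 : ∀ n : ℕ, 396833 ≤ n → n < 402223 → ChainP n :=
  chainP_leaf 396833 402223 pr_396833 (by norm_num)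
theorem pr_402223 : Nat.Prime 402223 := by norm_num
theorem seg_402223 : ∀ n : ℕ, 402223 ≤ n → n < 407669 → ChainP n :=
  chainP_leaf 402223 407669 pr_402223 (by norm_num)
theorem pr_407669 : Nat.Prime 407669 := by norm_num
theorem seg_407669 : ∀ n : ℕ, 407669 ≤ n → n < 413167 → ChainP n :=
  chainP_leaf 407669 413167 pr_407669 (by norm_num)
theorem pr_413167 : Nat.Prime 413167 := by norm_num
theorem seg_413167 : ∀ n : ℕ, 413167 ≤ n → n < 418709 → ChainP n :=
  chainP_leaf 413167 418709 pr_413167 (by norm_num)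
theorem pr_418709 : Nat.Prime 418709 := by norm_num
theorem seg_418709 : ∀ n : ℕ, 418709 ≤ n → n < 424273 → ChainP n :=
  chainP_leaf 418709 424273 pr_418709 (by norm_num)
theorem pr_424273 : Nat.Prime 424273 := by norm_num
theorem seg_424273 : ∀ n : ℕ, 424273 ≤ n → n < 429917 → ChainP n :=
  chainP_leaf 424273 429917 pr_424273 (by norm_num)
theorem pr_429917 : Nat.Prime 429917 := by norm_num
theorem seg_429917 : ∀ n : ℕ, 429917 ≤ n → n < 435593 → ChainP n :=
  chainP_leaf 429917 435593 pr_429917 (by norm_num)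
theorem pr_435593 : Nat.Prime 435593 := by norm_num
theorem seg_435593 : ∀ n : ℕ, 435593 ≤ n → n < 441319 → ChainP n :=
  chainP_leaf 435593 441319 pr_435593 (by norm_num)
theorem pr_441319 : Nat.Prime 441319 := by norm_num
theorem seg_441319 : ∀ n : ℕ, 441319 ≤ n → n < 447107 → ChainP n :=
  chainP_leaf 441319 447107 pr_441319 (by norm_num)
theorem pr_447107 : Nat.Prime 447107 := by norm_num
theorem seg_447107 : ∀ n : ℕ, 447107 ≤ n → n < 452953 → ChainP n :=
  chainP_leaf 447107 452953 pr_447107 (by norm_num)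
theorem pr_452953 : Nat.Prime 452953 := by norm_num
theorem seg_452953 : ∀ n : ℕ, 452953 ≤ n → n < 458849 → ChainP n :=
  chainP_leaf 452953 458849 pr_452953 (by norm_num)
theorem pr_458849 : Nat.Prime 458849 := by norm_num
theorem seg_458849 : ∀ n : ℕ, 458849 ≤ n → n < 464777 → ChainP n :=
  chainP_leaf 458849 464777 pr_458849 (by norm_num)
theorem pr_464777 : Nat.Prime 464777 := by norm_num
theorem seg_464777 : ∀ n : ℕ, 464777 ≤ n → n < 470749 → ChainP n :=
  chainP_leaf 464777 470749 pr_464777 (by norm_num)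
theorem pr_470749 : Nat.Prime 470749 := by norm_num
theorem seg_470749 : ∀ n : ℕ, 470749 ≤ n → n < 476783 → ChainP n :=
  chainP_leaf 470749 476783 pr_470749 (by norm_num)
theorem pr_476783 : Nat.Prime 476783 := by norm_num
theorem seg_476783 : ∀ n : ℕ, 476783 ≤ n → n < 482873 → ChainP n :=
  chainP_leaf 476783 482873 pr_476783 (by norm_num)
theorem pr_482873 : Nat.Prime 482873 := by norm_num
theorem seg_482873 : ∀ n : ℕ, 482873 ≤ n → n < 489019 → ChainP n :=
  chainP_leaf 482873 489019 pr_482873 (by norm_num)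
theorem pr_489019 : Nat.Prime 489019 := by norm_num
theorem seg_489019 : ∀ n : ℕ, 489019 ≤ n → n < 495221 → ChainP n :=
  chainP_leaf 489019 495221 pr_489019 (by norm_num)
theorem pr_495221 : Nat.Prime 495221 := by norm_num
theorem seg_495221 : ∀ n : ℕ, 495221 ≤ n → n < 501463 → ChainP n :=
  chainP_leaf 495221 501463 pr_495221 (by norm_num)
theorem pr_501463 : Nat.Prime 501463 := by norm_num
theorem seg_501463 : ∀ n : ℕ, 501463 ≤ n → n < 507757 → ChainP n :=
  chainP_leaf 501463 507757 pr_501463 (by norm_num)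
theorem pr_507757 : Nat.Prime 507757 := by norm_num
theorem seg_507757 : ∀ n : ℕ, 507757 ≤ n → n < 514117 → ChainP n :=
  chainP_leaf 507757 514117 pr_507757 (by norm_num)
theorem pr_514117 : Nat.Prime 514117 := by norm_num
theorem seg_514117 : ∀ n : ℕ, 514117 ≤ n → n < 520529 → ChainP n :=
  chainP_leaf 514117 520529 pr_514117 (by norm_num)
theorem pr_520529 : Nat.Prime 520529 := by norm_num
theorem seg_520529 : ∀ n : ℕ, 520529 ≤ n → n < 526997 → ChainP n :=
  chainP_leaf 520529 526997 pr_520529 (by norm_num)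
theorem pr_526997 : Nat.Prime 526997 := by norm_num
theorem seg_526997 : ∀ n : ℕ, 526997 ≤ n → n < 533509 → ChainP n :=
  chainP_leaf 526997 533509 pr_526997 (by norm_num)
theorem pr_533509 : Nat.Prime 533509 := by norm_num
theorem seg_533509 : ∀ n : ℕ, 533509 ≤ n → n < 540079 → ChainP n :=
  chainP_leaf 533509 540079 pr_533509 (by norm_num)
theorem pr_540079 : Nat.Prime 540079 := by norm_num
theorem seg_540079 : ∀ n : ℕ, 540079 ≤ n → n < 546709 → ChainP n :=
  chainP_leaf 540079 546709 pr_540079 (by norm_num)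
theorem pr_546709 : Nat.Prime 546709 := by norm_num
theorem seg_546709 : ∀ n : ℕ, 546709 ≤ n → n < 553369 → ChainP n :=
  chainP_leaf 546709 553369 pr_546709 (by norm_num)
theorem pr_553369 : Nat.Prime 553369 := by norm_num
theorem seg_553369 : ∀ n : ℕ, 553369 ≤ n → n < 560107 → ChainP n :=
  chainP_leaf 553369 560107 pr_553369 (by norm_num)
theorem pr_560107 : Nat.Prime 560107 := by norm_num
theorem seg_560107 : ∀ n : ℕ, 560107 ≤ n → n < 566879 → ChainP n :=
  chainP_leaf 560107 566879 pr_560107 (by norm_num)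
theorem pr_566879 : Nat.Prime 566879 := by norm_num
theorem seg_566879 : ∀ n : ℕ, 566879 ≤ n → n < 573719 → ChainP n :=
  chainP_leaf 566879 573719 pr_566879 (by norm_num)
theorem pr_573719 : Nat.Prime 573719 := by norm_num
theorem seg_573719 : ∀ n : ℕ, 573719 ≤ n → n < 580607 → ChainP n :=
  chainP_leaf 573719 580607 pr_573719 (by norm_num)
theorem pr_580607 : Nat.Prime 580607 := by norm_num
theorem seg_580607 : ∀ n : ℕ, 580607 ≤ n → n < 587563 → ChainP n :=
  chainP_leaf 580607 587563 pr_580607 (by norm_num)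
theorem pr_587563 : Nat.Prime 587563 := by norm_num
theorem seg_587563 : ∀ n : ℕ, 587563 ≤ n → n < 594577 → ChainP n :=
  chainP_leaf 587563 594577 pr_587563 (by norm_num)
theorem pr_594577 : Nat.Prime 594577 := by norm_num
theorem seg_594577 : ∀ n : ℕ, 594577 ≤ n → n < 601631 → ChainP n :=
  chainP_leaf 594577 601631 pr_594577 (by norm_num)
theorem pr_601631 : Nat.Prime 601631 := by norm_num
theorem seg_601631 : ∀ n : ℕ, 601631 ≤ n → n < 608749 → ChainP n :=
  chainP_leaf 601631 608749 pr_601631 (by norm_num)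
theorem pr_608749 : Nat.Prime 608749 := by norm_num
theorem seg_608749 : ∀ n : ℕ, 608749 ≤ n → n < 615919 → ChainP n :=
  chainP_leaf 608749 615919 pr_608749 (by norm_num)
theorem pr_615919 : Nat.Prime 615919 := by norm_num
theorem seg_615919 : ∀ n : ℕ, 615919 ≤ n → n < 623107 → ChainP n :=
  chainP_leaf 615919 623107 pr_615919 (by norm_num)
theorem pr_623107 : Nat.Prime 623107 := by norm_num
theorem seg_623107 : ∀ n : ℕ, 623107 ≤ n → n < 630391 → ChainP n :=
  chainP_leaf 623107 630391 pr_623107 (by norm_num)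
theorem pr_630391 : Nat.Prime 630391 := by norm_num
theorem seg_630391 : ∀ n : ℕ, 630391 ≤ n → n < 637729 → ChainP n :=
  chainP_leaf 630391 637729 pr_630391 (by norm_num)
theorem pr_637729 : Nat.Prime 637729 := by norm_num
theorem seg_637729 : ∀ n : ℕ, 637729 ≤ n → n < 645137 → ChainP n :=
  chainP_leaf 637729 645137 pr_637729 (by norm_num)
theorem pr_645137 : Nat.Prime 645137 := by norm_num
theorem seg_645137 : ∀ n : ℕ, 645137 ≤ n → n < 652601 → ChainP n :=
  chainP_leaf 645137 652601 pr_645137 (by norm_num)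
theorem pr_652601 : Nat.Prime 652601 := by norm_num
theorem seg_652601 : ∀ n : ℕ, 652601 ≤ n → n < 660119 → ChainP n :=
  chainP_leaf 652601 660119 pr_652601 (by norm_num)
theorem pr_660119 : Nat.Prime 660119 := by norm_num
theorem seg_660119 : ∀ n : ℕ, 660119 ≤ n → n < 667699 → ChainP n :=
  chainP_leaf 660119 667699 pr_660119 (by norm_num)
theorem pr_667699 : Nat.Prime 667699 := by norm_num
theorem seg_667699 : ∀ n : ℕ, 667699 ≤ n → n < 675319 → ChainP n :=
  chainP_leaf 667699 675319 pr_667699 (by norm_num)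
theorem pr_675319 : Nat.Prime 675319 := by norm_num
theorem seg_675319 : ∀ n : ℕ, 675319 ≤ n → n < 683003 → ChainP n :=
  chainP_leaf 675319 683003 pr_675319 (by norm_num)
theorem pr_683003 : Nat.Prime 683003 := by norm_num
theorem seg_683003 : ∀ n : ℕ, 683003 ≤ n → n < 690757 → ChainP n :=
  chainP_leaf 683003 690757 pr_683003 (by norm_num)
theorem pr_690757 : Nat.Prime 690757 := by norm_num
theorem seg_690757 : ∀ n : ℕ, 690757 ≤ n → n < 698567 → ChainP n :=
  chainP_leaf 690757 698567 pr_690757 (by norm_num)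
theorem pr_698567 : Nat.Prime 698567 := by norm_num
theorem seg_698567 : ∀ n : ℕ, 698567 ≤ n → n < 706427 → ChainP n :=
  chainP_leaf 698567 706427 pr_698567 (by norm_num)
theorem pr_706427 : Nat.Prime 706427 := by norm_num
theorem seg_706427 : ∀ n : ℕ, 706427 ≤ n → n < 714349 → ChainP n :=
  chainP_leaf 706427 714349 pr_706427 (by norm_num)
theorem pr_714349 : Nat.Prime 714349 := by norm_num
theorem seg_714349 : ∀ n : ℕ, 714349 ≤ n → n < 722333 → ChainP n :=
  chainP_leaf 714349 722333 pr_714349 (by norm_num)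
theorem pr_722333 : Nat.Prime 722333 := by norm_num
theorem seg_722333 : ∀ n : ℕ, 722333 ≤ n → n < 730363 → ChainP n :=
  chainP_leaf 722333 730363 pr_722333 (by norm_num)
theorem pr_730363 : Nat.Prime 730363 := by norm_num
theorem seg_730363 : ∀ n : ℕ, 730363 ≤ n → n < 738469 → ChainP n :=
  chainP_leaf 730363 738469 pr_730363 (by norm_num)
theorem pr_738469 : Nat.Prime 738469 := by norm_num
theorem seg_738469 : ∀ n : ℕ, 738469 ≤ n → n < 746597 → ChainP n :=
  chainP_leaf 738469 746597 pr_738469 (by norm_num)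
theorem pr_746597 : Nat.Prime 746597 := by norm_num
theorem seg_746597 : ∀ n : ℕ, 746597 ≤ n → n < 754811 → ChainP n :=
  chainP_leaf 746597 754811 pr_746597 (by norm_num)
theorem pr_754811 : Nat.Prime 754811 := by norm_num
theorem seg_754811 : ∀ n : ℕ, 754811 ≤ n → n < 763093 → ChainP n :=
  chainP_leaf 754811 763093 pr_754811 (by norm_num)
theorem pr_763093 : Nat.Prime 763093 := by norm_num
theorem seg_763093 : ∀ n : ℕ, 763093 ≤ n → n < 771439 → ChainP n :=
  chainP_leaf 763093 771439 pr_763093 (by norm_num)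
theorem pr_771439 : Nat.Prime 771439 := by norm_num
theorem seg_771439 : ∀ n : ℕ, 771439 ≤ n → n < 779837 → ChainP n :=
  chainP_leaf 771439 779837 pr_771439 (by norm_num)
theorem pr_779837 : Nat.Prime 779837 := by norm_num
theorem seg_779837 : ∀ n : ℕ, 779837 ≤ n → n < 788309 → ChainP n :=
  chainP_leaf 779837 788309 pr_779837 (by norm_num)
theorem pr_788309 : Nat.Prime 788309 := by norm_num
theorem seg_788309 : ∀ n : ℕ, 788309 ≤ n → n < 796819 → ChainP n :=
  chainP_leaf 788309 796819 pr_788309 (by norm_num)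
theorem pr_796819 : Nat.Prime 796819 := by norm_num
theorem seg_796819 : ∀ n : ℕ, 796819 ≤ n → n < 805403 → ChainP n :=
  chainP_leaf 796819 805403 pr_796819 (by norm_num)
theorem pr_805403 : Nat.Prime 805403 := by norm_num
theorem seg_805403 : ∀ n : ℕ, 805403 ≤ n → n < 814049 → ChainP n :=
  chainP_leaf 805403 814049 pr_805403 (by norm_num)
theorem pr_814049 : Nat.Prime 814049 := by norm_num
theorem seg_814049 : ∀ n : ℕ, 814049 ≤ n → n < 822763 → ChainP n :=
  chainP_leaf 814049 822763 pr_814049 (by norm_num)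
theorem pr_822763 : Nat.Prime 822763 := by norm_num
theorem seg_822763 : ∀ n : ℕ, 822763 ≤ n → n < 831541 → ChainP n :=
  chainP_leaf 822763 831541 pr_822763 (by norm_num)
theorem pr_831541 : Nat.Prime 831541 := by norm_num
theorem seg_831541 : ∀ n : ℕ, 831541 ≤ n → n < 840353 → ChainP n :=
  chainP_leaf 831541 840353 pr_831541 (by norm_num)
theorem pr_840353 : Nat.Prime 840353 := by norm_num
theorem seg_840353 : ∀ n : ℕ, 840353 ≤ n → n < 849253 → ChainP n :=
  chainP_leaf 840353 849253 pr_840353 (by norm_num)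
theorem pr_849253 : Nat.Prime 849253 := by norm_num
theorem seg_849253 : ∀ n : ℕ, 849253 ≤ n → n < 858217 → ChainP n :=
  chainP_leaf 849253 858217 pr_849253 (by norm_num)
theorem pr_858217 : Nat.Prime 858217 := by norm_num
theorem seg_858217 : ∀ n : ℕ, 858217 ≤ n → n < 867233 → ChainP n :=
  chainP_leaf 858217 867233 pr_858217 (by norm_num)
theorem pr_867233 : Nat.Prime 867233 := by norm_num
theorem seg_867233 : ∀ n : ℕ, 867233 ≤ n → n < 876311 → ChainP n :=
  chainP_leaf 867233 876311 pr_867233 (by norm_num)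
theorem pr_876311 : Nat.Prime 876311 := by norm_num
theorem seg_876311 : ∀ n : ℕ, 876311 ≤ n → n < 885449 → ChainP n :=
  chainP_leaf 876311 885449 pr_876311 (by norm_num)
theorem pr_885449 : Nat.Prime 885449 := by norm_num
theorem seg_885449 : ∀ n : ℕ, 885449 ≤ n → n < 894667 → ChainP n :=
  chainP_leaf 885449 894667 pr_885449 (by norm_num)
theorem pr_894667 : Nat.Prime 894667 := by norm_num
theorem seg_894667 : ∀ n : ℕ, 894667 ≤ n → n < 903949 → ChainP n :=
  chainP_leaf 894667 903949 pr_894667 (by norm_num)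
theorem pr_903949 : Nat.Prime 903949 := by norm_num
theorem seg_903949 : ∀ n : ℕ, 903949 ≤ n → n < 913279 → ChainP n :=
  chainP_leaf 903949 913279 pr_903949 (by norm_num)
theorem pr_913279 : Nat.Prime 913279 := by norm_num
theorem seg_913279 : ∀ n : ℕ, 913279 ≤ n → n < 922681 → ChainP n :=
  chainP_leaf 913279 922681 pr_913279 (by norm_num)
theorem pr_922681 : Nat.Prime 922681 := by norm_num
theorem seg_922681 : ∀ n : ℕ, 922681 ≤ n → n < 932153 → ChainP n :=
  chainP_leaf 922681 932153 pr_922681 (by norm_num)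
theorem pr_932153 : Nat.Prime 932153 := by norm_num
theorem seg_932153 : ∀ n : ℕ, 932153 ≤ n → n < 941683 → ChainP n :=
  chainP_leaf 932153 941683 pr_932153 (by norm_num)
theorem pr_941683 : Nat.Prime 941683 := by norm_num
theorem seg_941683 : ∀ n : ℕ, 941683 ≤ n → n < 951283 → ChainP n :=
  chainP_leaf 941683 951283 pr_941683 (by norm_num)
theorem pr_951283 : Nat.Prime 951283 := by norm_num
theorem seg_951283 : ∀ n : ℕ, 951283 ≤ n → n < 960941 → ChainP n :=
  chainP_leaf 951283 960941 pr_951283 (by norm_num)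
theorem pr_960941 : Nat.Prime 960941 := by norm_num
theorem seg_960941 : ∀ n : ℕ, 960941 ≤ n → n < 970667 → ChainP n :=
  chainP_leaf 960941 970667 pr_960941 (by norm_num)
theorem pr_970667 : Nat.Prime 970667 := by norm_num
theorem seg_970667 : ∀ n : ℕ, 970667 ≤ n → n < 980459 → ChainP n :=
  chainP_leaf 970667 980459 pr_970667 (by norm_num)
theorem pr_980459 : Nat.Prime 980459 := by norm_num
theorem seg_980459 : ∀ n : ℕ, 980459 ≤ n → n < 990323 → ChainP n :=
  chainP_leaf 980459 990323 pr_980459 (by norm_num)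
theorem pr_990323 : Nat.Prime 990323 := by norm_num
theorem seg_990323 : ∀ n : ℕ, 990323 ≤ n → n < 1000253 → ChainP n :=
  chainP_leaf 990323 1000253 pr_990323 (by norm_num)
theorem pr_1000253 : Nat.Prime 1000253 := by norm_num
theorem seg_1000253 : ∀ n : ℕ, 1000253 ≤ n → n < 1010237 → ChainP n :=
  chainP_leaf 1000253 1010237 pr_1000253 (by norm_num)
theorem pr_1010237 : Nat.Prime 1010237 := by norm_num
theorem seg_1010237 : ∀ n : ℕ, 1010237 ≤ n → n < 1020301 → ChainP n :=
  chainP_leaf 1010237 1020301 pr_1010237 (by norm_num)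
theorem pr_1020301 : Nat.Prime 1020301 := by norm_num
theorem seg_1020301 : ∀ n : ℕ, 1020301 ≤ n → n < 1030429 → ChainP n :=
  chainP_leaf 1020301 1030429 pr_1020301 (by norm_num)
theorem pr_1030429 : Nat.Prime 1030429 := by norm_num
theorem seg_1030429 : ∀ n : ℕ, 1030429 ≤ n → n < 1040629 → ChainP n :=
  chainP_leaf 1030429 1040629 pr_1030429 (by norm_num)
theorem pr_1040629 : Nat.Prime 1040629 := by norm_num
theorem seg_1040629 : ∀ n : ℕ, 1040629 ≤ n → n < 1050887 → ChainP n :=
  chainP_leaf 1040629 1050887 pr_1040629 (by norm_num)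
theorem pr_1050887 : Nat.Prime 1050887 := by norm_num
theorem seg_1050887 : ∀ n : ℕ, 1050887 ≤ n → n < 1061189 → ChainP n :=
  chainP_leaf 1050887 1061189 pr_1050887 (by norm_num)
theorem pr_1061189 : Nat.Prime 1061189 := by norm_num
theorem seg_1061189 : ∀ n : ℕ, 1061189 ≤ n → n < 1071589 → ChainP n :=
  chainP_leaf 1061189 1071589 pr_1061189 (by norm_num)
theorem pr_1071589 : Nat.Prime 1071589 := by norm_num
theorem seg_1071589 : ∀ n : ℕ, 1071589 ≤ n → n < 1082047 → ChainP n :=
  chainP_leaf 1071589 1082047 pr_1071589 (by norm_num)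
theorem pr_1082047 : Nat.Prime 1082047 := by norm_num
theorem seg_1082047 : ∀ n : ℕ, 1082047 ≤ n → n < 1092583 → ChainP n :=
  chainP_leaf 1082047 1092583 pr_1082047 (by norm_num)
theorem pr_1092583 : Nat.Prime 1092583 := by norm_num
theorem seg_1092583 : ∀ n : ℕ, 1092583 ≤ n → n < 1103191 → ChainP n :=
  chainP_leaf 1092583 1103191 pr_1092583 (by norm_num)
theorem pr_1103191 : Nat.Prime 1103191 := by norm_num
theorem seg_1103191 : ∀ n : ℕ, 1103191 ≤ n → n < 1113863 → ChainP n :=
  chainP_leaf 1103191 1113863 pr_1103191 (by norm_num)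
theorem pr_1113863 : Nat.Prime 1113863 := by norm_num
theorem seg_1113863 : ∀ n : ℕ, 1113863 ≤ n → n < 1124603 → ChainP n :=
  chainP_leaf 1113863 1124603 pr_1113863 (by norm_num)
theorem pr_1124603 : Nat.Prime 1124603 := by norm_num
theorem seg_1124603 : ∀ n : ℕ, 1124603 ≤ n → n < 1135411 → ChainP n :=
  chainP_leaf 1124603 1135411 pr_1124603 (by norm_num)
theorem pr_1135411 : Nat.Prime 1135411 := by norm_num
theorem seg_1135411 : ∀ n : ℕ, 1135411 ≤ n → n < 1146281 → ChainP n :=
  chainP_leaf 1135411 1146281 pr_1135411 (by norm_num)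
theorem pr_1146281 : Nat.Prime 1146281 := by norm_num
theorem seg_1146281 : ∀ n : ℕ, 1146281 ≤ n → n < 1157227 → ChainP n :=
  chainP_leaf 1146281 1157227 pr_1146281 (by norm_num)
theorem pr_1157227 : Nat.Prime 1157227 := by norm_num
theorem seg_1157227 : ∀ n : ℕ, 1157227 ≤ n → n < 1168249 → ChainP n :=
  chainP_leaf 1157227 1168249 pr_1157227 (by norm_num)
theorem pr_1168249 : Nat.Prime 1168249 := by norm_num
theorem seg_1168249 : ∀ n : ℕ, 1168249 ≤ n → n < 1179337 → ChainP n :=
  chainP_leaf 1168249 1179337 pr_1168249 (by norm_num)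
theorem pr_1179337 : Nat.Prime 1179337 := by norm_num
theorem seg_1179337 : ∀ n : ℕ, 1179337 ≤ n → n < 1190491 → ChainP n :=
  chainP_leaf 1179337 1190491 pr_1179337 (by norm_num)
theorem pr_1190491 : Nat.Prime 1190491 := by norm_num
theorem seg_1190491 : ∀ n : ℕ, 1190491 ≤ n → n < 1201709 → ChainP n :=
  chainP_leaf 1190491 1201709 pr_1190491 (by norm_num)
theorem pr_1201709 : Nat.Prime 1201709 := by norm_num
theorem seg_1201709 : ∀ n : ℕ, 1201709 ≤ n → n < 1213007 → ChainP n :=
  chainP_leaf 1201709 1213007 pr_1201709 (by norm_num)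
theorem pr_1213007 : Nat.Prime 1213007 := by norm_num
theorem seg_1213007 : ∀ n : ℕ, 1213007 ≤ n → n < 1224347 → ChainP n :=
  chainP_leaf 1213007 1224347 pr_1213007 (by norm_num)
theorem pr_1224347 : Nat.Prime 1224347 := by norm_num
theorem seg_1224347 : ∀ n : ℕ, 1224347 ≤ n → n < 1235791 → ChainP n :=
  chainP_leaf 1224347 1235791 pr_1224347 (by norm_num)
theorem pr_1235791 : Nat.Prime 1235791 := by norm_num
theorem seg_1235791 : ∀ n : ℕ, 1235791 ≤ n → n < 1247303 → ChainP n :=
  chainP_leaf 1235791 1247303 pr_1235791 (by norm_num)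
theorem pr_1247303 : Nat.Prime 1247303 := by norm_num
theorem seg_1247303 : ∀ n : ℕ, 1247303 ≤ n → n < 1258889 → ChainP n :=
  chainP_leaf 1247303 1258889 pr_1247303 (by norm_num)
theorem pr_1258889 : Nat.Prime 1258889 := by norm_num
theorem seg_1258889 : ∀ n : ℕ, 1258889 ≤ n → n < 1270547 → ChainP n :=
  chainP_leaf 1258889 1270547 pr_1258889 (by norm_num)
theorem pr_1270547 : Nat.Prime 1270547 := by norm_num
theorem seg_1270547 : ∀ n : ℕ, 1270547 ≤ n → n < 1282277 → ChainP n :=
  chainP_leaf 1270547 1282277 pr_1270547 (by norm_num)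
theorem pr_1282277 : Nat.Prime 1282277 := by norm_num
theorem seg_1282277 : ∀ n : ℕ, 1282277 ≤ n → n < 1294061 → ChainP n :=
  chainP_leaf 1282277 1294061 pr_1282277 (by norm_num)
theorem pr_1294061 : Nat.Prime 1294061 := by norm_num
theorem seg_1294061 : ∀ n : ℕ, 1294061 ≤ n → n < 1305919 → ChainP n :=
  chainP_leaf 1294061 1305919 pr_1294061 (by norm_num)
theorem pr_1305919 : Nat.Prime 1305919 := by norm_num
theorem seg_1305919 : ∀ n : ℕ, 1305919 ≤ n → n < 1317853 → ChainP n :=
  chainP_leaf 1305919 1317853 pr_1305919 (by norm_num)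
theorem pr_1317853 : Nat.Prime 1317853 := by norm_num
theorem seg_1317853 : ∀ n : ℕ, 1317853 ≤ n → n < 1329871 → ChainP n :=
  chainP_leaf 1317853 1329871 pr_1317853 (by norm_num)
theorem pr_1329871 : Nat.Prime 1329871 := by norm_num
theorem seg_1329871 : ∀ n : ℕ, 1329871 ≤ n → n < 1341947 → ChainP n :=
  chainP_leaf 1329871 1341947 pr_1329871 (by norm_num)
theorem pr_1341947 : Nat.Prime 1341947 := by norm_num
theorem seg_1341947 : ∀ n : ℕ, 1341947 ≤ n → n < 1354081 → ChainP n :=
  chainP_leaf 1341947 1354081 pr_1341947 (by norm_num)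
theorem pr_1354081 : Nat.Prime 1354081 := by norm_num
theorem seg_1354081 : ∀ n : ℕ, 1354081 ≤ n → n < 1366303 → ChainP n :=
  chainP_leaf 1354081 1366303 pr_1354081 (by norm_num)

theorem chainA : ∀ n : ℕ, 37 ≤ n → n < 1366303 → ChainP n :=
  (chainP_join 37 178261 1366303 (chainP_join 37 24281 178261 (chainP_join 37 3889 24281 (chainP_join 37 773 3889 (chainP_join 37 233 773 (chainP_join 37 107 233 (chainP_join 37 59 107 (chainP_join 37 47 59 seg_37 seg_47) (chainP_join 59 73 107 seg_59 (chainP_join 73 89 107 seg_73 seg_89))) (chainP_join 107 151 233 (chainP_join 107 127 151 seg_107 seg_127) (chainP_join 151 179 233 seg_151 (chainP_join 179 199 233 seg_179 seg_199)))) (chainP_join 233 449 773 (chainP_join 233 307 449 (chainP_join 233 269 307 seg_233 seg_269) (chainP_join 307 349 449 seg_307 (chainP_join 349 397 449 seg_349 seg_397))) (chainP_join 449 563 773 (chainP_join 449 503 563 seg_449 seg_503) (chainP_join 563 631 773 seg_563 (chainP_join 631 701 773 seg_631 seg_701))))) (chainP_join 773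 1831 3889 (chainP_join 773 1237 1831 (chainP_join 773 947 1237 (chainP_join 773 857 947 seg_773 seg_857) (chainP_join 947 1039 1237 seg_947 (chainP_join 1039 1129 1237 seg_1039 seg_1129))) (chainP_join 1237 1447 1831 (chainP_join 1237 1327 1447 seg_1237 seg_1327) (chainP_join 1447 1571 1831 seg_1447 (chainP_join 1571 1699 1831 seg_1571 seg_1699)))) (chainP_join 1831 2633 3889 (chainP_join 1831 2131 2633 (chainP_join 1831 1979 2131 seg_1831 seg_1979) (chainP_join 2131 2293 2633 seg_2131 (chainP_join 2293 2459 2633 seg_2293 seg_2459))) (chainP_join 2633 3217 3889 (chainP_join 2633 2819 3217 seg_2633 (chainP_join 2819 3011 3217 seg_2819 seg_3011)) (chainP_join 3217 3433 3889 seg_3217 (chainP_join 3433 3659 3889 seg_3433 seg_3659)))))) (chainP_join 3889 10867 24281 (chainP_join 3889 6763 10867 (chainP_join 3889 5197 6763 (chainP_join 3889 4373 5197 (chainP_join 3889 4133 4373 seg_3889 seg_4133) (chainP_join 4373 4639 5197 seg_4373 (chainP_join 4639 4909 5197 seg_4639 seg_4909))) (chainP_join 5197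 5791 6763 (chainP_join 5197 5483 5791 seg_5197 seg_5483) (chainP_join 5791 6113 6763 seg_5791 (chainP_join 6113 6427 6763 seg_6113 seg_6427)))) (chainP_join 6763 8647 10867 (chainP_join 6763 7477 8647 (chainP_join 6763 7109 7477 seg_6763 seg_7109) (chainP_join 7477 7853 8647 seg_7477 (chainP_join 7853 8243 8647 seg_7853 seg_8243))) (chainP_join 8647 9497 10867 (chainP_join 8647 9067 9497 seg_8647 seg_9067) (chainP_join 9497 9941 10867 seg_9497 (chainP_join 9941 10399 10867 seg_9941 seg_10399))))) (chainP_join 10867 16363 24281 (chainP_join 10867 13399 16363 (chainP_join 10867 11839 13399 (chainP_join 10867 11353 11839 seg_10867 seg_11353) (chainP_join 11839 12347 13399 seg_11839 (chainP_join 12347 12853 13399 seg_12347 seg_12853))) (chainP_join 13399 14537 16363 (chainP_join 13399 13963 14537 seg_13399 seg_13963) (chainP_join 14537 15131 16363 seg_14537 (chainP_join 15131 15739 16363 seg_15131 seg_15739)))) (chainP_join 16363 19687 24281 (chainP_join 16363 17627 19687 (chainP_join 16363 16993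 17627 seg_16363 seg_16993) (chainP_join 17627 18301 19687 seg_17627 (chainP_join 18301 18979 19687 seg_18301 seg_18979))) (chainP_join 19687 21911 24281 (chainP_join 19687 20411 21911 seg_19687 (chainP_join 20411 21157 21911 seg_20411 seg_21157)) (chainP_join 21911 22691 24281 seg_21911 (chainP_join 22691 23473 24281 seg_22691 seg_23473))))))) (chainP_join 24281 76379 178261 (chainP_join 24281 44809 76379 (chainP_join 24281 33493 44809 (chainP_join 24281 28649 33493 (chainP_join 24281 25969 28649 (chainP_join 24281 25117 25969 seg_24281 seg_25117) (chainP_join 25969 26839 28649 seg_25969 (chainP_join 26839 27733 28649 seg_26839 seg_27733))) (chainP_join 28649 30529 33493 (chainP_join 28649 29581 30529 seg_28649 seg_29581) (chainP_join 30529 31489 33493 seg_30529 (chainP_join 31489 32479 33493 seg_31489 seg_32479)))) (chainP_join 33493 38867 44809 (chainP_join 33493 35573 38867 (chainP_join 33493 34519 35573 seg_33493 seg_34519) (chainP_join 35573 36653 38867 seg_35573 (chainP_join 36653 37747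 38867 seg_36653 seg_37747))) (chainP_join 38867 41179 44809 (chainP_join 38867 40013 41179 seg_38867 seg_40013) (chainP_join 41179 42359 44809 seg_41179 (chainP_join 42359 43573 44809 seg_42359 seg_43573))))) (chainP_join 44809 58417 76379 (chainP_join 44809 51307 58417 (chainP_join 44809 47339 51307 (chainP_join 44809 46061 47339 seg_44809 seg_46061) (chainP_join 47339 48647 51307 seg_47339 (chainP_join 48647 49957 51307 seg_48647 seg_49957))) (chainP_join 51307 54059 58417 (chainP_join 51307 52673 54059 seg_51307 seg_52673) (chainP_join 54059 55487 58417 seg_54059 (chainP_join 55487 56941 58417 seg_55487 seg_56941)))) (chainP_join 58417 66173 76379 (chainP_join 58417 61441 66173 (chainP_join 58417 59921 61441 seg_58417 seg_59921) (chainP_join 61441 62989 66173 seg_61441 (chainP_join 62989 64567 66173 seg_62989 seg_64567))) (chainP_join 66173 71153 76379 (chainP_join 66173 67807 71153 seg_66173 (chainP_join 67807 69467 71153 seg_67807 seg_69467)) (chainP_join 71153 72869 76379 seg_71153 (chainP_join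 72869 74611 76379 seg_72869 seg_74611)))))) (chainP_join 76379 120209 178261 (chainP_join 76379 95617 120209 (chainP_join 76379 85643 95617 (chainP_join 76379 79999 85643 (chainP_join 76379 78179 79999 seg_76379 seg_78179) (chainP_join 79999 81853 85643 seg_79999 (chainP_join 81853 83737 85643 seg_81853 seg_83737))) (chainP_join 85643 89533 95617 (chainP_join 85643 87583 89533 seg_85643 seg_87583) (chainP_join 89533 91529 95617 seg_89533 (chainP_join 91529 93559 95617 seg_91529 seg_93559)))) (chainP_join 95617 106331 120209 (chainP_join 95617 99793 106331 (chainP_join 95617 97687 99793 seg_95617 seg_97687) (chainP_join 99793 101939 106331 seg_99793 (chainP_join 101939 104119 106331 seg_101939 seg_104119))) (chainP_join 106331 113123 120209 (chainP_join 106331 108571 113123 seg_106331 (chainP_join 108571 110821 113123 seg_108571 seg_110821)) (chainP_join 113123 115459 120209 seg_113123 (chainP_join 115459 117811 120209 seg_115459 seg_117811))))) (chainP_join 120209 145903 178261 (chainP_join 120209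 132637 145903 (chainP_join 120209 125063 132637 (chainP_join 120209 122611 125063 seg_120209 seg_122611) (chainP_join 125063 127549 132637 seg_125063 (chainP_join 127549 130079 132637 seg_127549 seg_130079))) (chainP_join 132637 137849 145903 (chainP_join 132637 135221 137849 seg_132637 seg_135221) (chainP_join 137849 140477 145903 seg_137849 (chainP_join 140477 143177 145903 seg_140477 seg_143177)))) (chainP_join 145903 160087 178261 (chainP_join 145903 151471 160087 (chainP_join 145903 148669 151471 seg_145903 seg_148669) (chainP_join 151471 154303 160087 seg_151471 (chainP_join 154303 157177 160087 seg_154303 seg_157177))) (chainP_join 160087 169003 178261 (chainP_join 160087 163027 169003 seg_160087 (chainP_join 163027 165983 169003 seg_163027 seg_165983)) (chainP_join 169003 172049 178261 seg_169003 (chainP_join 172049 175141 178261 seg_172049 seg_175141)))))))) (chainP_join 178261 580607 1366303 (chainP_join 178261 340709 580607 (chainP_join 178261 248813 340709 (chainP_join 178261 211573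 248813 (chainP_join 178261 194431 211573 (chainP_join 178261 184609 194431 (chainP_join 178261 181421 184609 seg_178261 seg_181421) (chainP_join 184609 187843 194431 seg_184609 (chainP_join 187843 191119 194431 seg_187843 seg_191119))) (chainP_join 194431 201167 211573 (chainP_join 194431 197779 201167 seg_194431 seg_197779) (chainP_join 201167 204599 211573 seg_201167 (chainP_join 204599 208067 211573 seg_204599 seg_208067)))) (chainP_join 211573 229717 248813 (chainP_join 211573 218711 229717 (chainP_join 211573 215123 218711 seg_211573 seg_215123) (chainP_join 218711 222337 229717 seg_218711 (chainP_join 222337 226007 229717 seg_222337 seg_226007))) (chainP_join 229717 237217 248813 (chainP_join 229717 233437 237217 seg_229717 seg_233437) (chainP_join 237217 241049 248813 seg_237217 (chainP_join 241049 244901 248813 seg_241049 seg_244901))))) (chainP_join 248813 290209 340709 (chainP_join 248813 268993 290209 (chainP_join 248813 256757 268993 (chainP_join 248813 252767 256757 seg_248813 seg_252767)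 (chainP_join 256757 260791 268993 seg_256757 (chainP_join 260791 264871 268993 seg_260791 seg_264871))) (chainP_join 268993 277363 290209 (chainP_join 268993 273157 277363 seg_268993 seg_273157) (chainP_join 277363 281609 290209 seg_277363 (chainP_join 281609 285871 290209 seg_281609 seg_285871)))) (chainP_join 290209 312469 340709 (chainP_join 290209 298943 312469 (chainP_join 290209 294563 298943 seg_290209 seg_294563) (chainP_join 298943 303409 312469 seg_298943 (chainP_join 303409 307919 312469 seg_303409 seg_307919))) (chainP_join 312469 326369 340709 (chainP_join 312469 317071 326369 seg_312469 (chainP_join 317071 321709 326369 seg_317071 seg_321709)) (chainP_join 326369 331099 340709 seg_326369 (chainP_join 331099 335879 340709 seg_331099 seg_335879)))))) (chainP_join 340709 447107 580607 (chainP_join 340709 391519 447107 (chainP_join 340709 365513 391519 (chainP_join 340709 350503 365513 (chainP_join 340709 345581 350503 seg_340709 seg_345581) (chainP_join 350503 355463 365513 seg_350503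 (chainP_join 355463 360461 365513 seg_355463 seg_360461))) (chainP_join 365513 375773 391519 (chainP_join 365513 370619 375773 seg_365513 seg_370619) (chainP_join 375773 380977 391519 seg_375773 (chainP_join 380977 386227 391519 seg_380977 seg_386227)))) (chainP_join 391519 418709 447107 (chainP_join 391519 402223 418709 (chainP_join 391519 396833 402223 seg_391519 seg_396833) (chainP_join 402223 407669 418709 seg_402223 (chainP_join 407669 413167 418709 seg_407669 seg_413167))) (chainP_join 418709 429917 447107 (chainP_join 418709 424273 429917 seg_418709 seg_424273) (chainP_join 429917 435593 447107 seg_429917 (chainP_join 435593 441319 447107 seg_435593 seg_441319))))) (chainP_join 447107 507757 580607 (chainP_join 447107 476783 507757 (chainP_join 447107 458849 476783 (chainP_join 447107 452953 458849 seg_447107 seg_452953) (chainP_join 458849 464777 476783 seg_458849 (chainP_join 464777 470749 476783 seg_464777 seg_470749))) (chainP_join 476783 489019 507757 (chainP_join 476783 482873 489019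 seg_476783 seg_482873) (chainP_join 489019 495221 507757 seg_489019 (chainP_join 495221 501463 507757 seg_495221 seg_501463)))) (chainP_join 507757 540079 580607 (chainP_join 507757 520529 540079 (chainP_join 507757 514117 520529 seg_507757 seg_514117) (chainP_join 520529 526997 540079 seg_520529 (chainP_join 526997 533509 540079 seg_526997 seg_533509))) (chainP_join 540079 560107 580607 (chainP_join 540079 546709 560107 seg_540079 (chainP_join 546709 553369 560107 seg_546709 seg_553369)) (chainP_join 560107 566879 580607 seg_560107 (chainP_join 566879 573719 580607 seg_566879 seg_573719))))))) (chainP_join 580607 913279 1366303 (chainP_join 580607 730363 913279 (chainP_join 580607 652601 730363 (chainP_join 580607 615919 652601 (chainP_join 580607 594577 615919 (chainP_join 580607 587563 594577 seg_580607 seg_587563) (chainP_join 594577 601631 615919 seg_594577 (chainP_join 601631 608749 615919 seg_601631 seg_608749))) (chainP_join 615919 630391 652601 (chainP_join 615919 623107 630391 seg_615919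 seg_623107) (chainP_join 630391 637729 652601 seg_630391 (chainP_join 637729 645137 652601 seg_637729 seg_645137)))) (chainP_join 652601 690757 730363 (chainP_join 652601 667699 690757 (chainP_join 652601 660119 667699 seg_652601 seg_660119) (chainP_join 667699 675319 690757 seg_667699 (chainP_join 675319 683003 690757 seg_675319 seg_683003))) (chainP_join 690757 706427 730363 (chainP_join 690757 698567 706427 seg_690757 seg_698567) (chainP_join 706427 714349 730363 seg_706427 (chainP_join 714349 722333 730363 seg_714349 seg_722333))))) (chainP_join 730363 814049 913279 (chainP_join 730363 771439 814049 (chainP_join 730363 746597 771439 (chainP_join 730363 738469 746597 seg_730363 seg_738469) (chainP_join 746597 754811 771439 seg_746597 (chainP_join 754811 763093 771439 seg_754811 seg_763093))) (chainP_join 771439 788309 814049 (chainP_join 771439 779837 788309 seg_771439 seg_779837) (chainP_join 788309 796819 814049 seg_788309 (chainP_join 796819 805403 814049 seg_796819 seg_805403)))) (chainP_join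 814049 858217 913279 (chainP_join 814049 831541 858217 (chainP_join 814049 822763 831541 seg_814049 seg_822763) (chainP_join 831541 840353 858217 seg_831541 (chainP_join 840353 849253 858217 seg_840353 seg_849253))) (chainP_join 858217 885449 913279 (chainP_join 858217 867233 885449 seg_858217 (chainP_join 867233 876311 885449 seg_867233 seg_876311)) (chainP_join 885449 894667 913279 seg_885449 (chainP_join 894667 903949 913279 seg_894667 seg_903949)))))) (chainP_join 913279 1124603 1366303 (chainP_join 913279 1010237 1124603 (chainP_join 913279 960941 1010237 (chainP_join 913279 932153 960941 (chainP_join 913279 922681 932153 seg_913279 seg_922681) (chainP_join 932153 941683 960941 seg_932153 (chainP_join 941683 951283 960941 seg_941683 seg_951283))) (chainP_join 960941 980459 1010237 (chainP_join 960941 970667 980459 seg_960941 seg_970667) (chainP_join 980459 990323 1010237 seg_980459 (chainP_join 990323 1000253 1010237 seg_990323 seg_1000253)))) (chainP_join 1010237 1061189 1124603 (chainP_join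 1010237 1030429 1061189 (chainP_join 1010237 1020301 1030429 seg_1010237 seg_1020301) (chainP_join 1030429 1040629 1061189 seg_1030429 (chainP_join 1040629 1050887 1061189 seg_1040629 seg_1050887))) (chainP_join 1061189 1092583 1124603 (chainP_join 1061189 1071589 1092583 seg_1061189 (chainP_join 1071589 1082047 1092583 seg_1071589 seg_1082047)) (chainP_join 1092583 1103191 1124603 seg_1092583 (chainP_join 1103191 1113863 1124603 seg_1103191 seg_1113863))))) (chainP_join 1124603 1235791 1366303 (chainP_join 1124603 1179337 1235791 (chainP_join 1124603 1146281 1179337 (chainP_join 1124603 1135411 1146281 seg_1124603 seg_1135411) (chainP_join 1146281 1157227 1179337 seg_1146281 (chainP_join 1157227 1168249 1179337 seg_1157227 seg_1168249))) (chainP_join 1179337 1201709 1235791 (chainP_join 1179337 1190491 1201709 seg_1179337 seg_1190491) (chainP_join 1201709 1213007 1235791 seg_1201709 (chainP_join 1213007 1224347 1235791 seg_1213007 seg_1224347)))) (chainP_join 1235791 1294061 1366303 (chainP_join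 1235791 1258889 1294061 (chainP_join 1235791 1247303 1258889 seg_1235791 seg_1247303) (chainP_join 1258889 1270547 1294061 seg_1258889 (chainP_join 1270547 1282277 1294061 seg_1270547 seg_1282277))) (chainP_join 1294061 1329871 1366303 (chainP_join 1294061 1305919 1329871 seg_1294061 (chainP_join 1305919 1317853 1329871 seg_1305919 seg_1317853)) (chainP_join 1329871 1341947 1366303 seg_1329871 (chainP_join 1341947 1354081 1366303 seg_1341947 seg_1354081)))))))))

end Cfsg.Agent.Lib.H14.SS
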