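import Mathlib

/-! Sylvester-Schur block (S3571 NT), piece SS11: generic glue for a chain of primes with small gaps.
`ChainP n` : there are `q ≤ n < q'` with `q` prime and `(q' - q)^3 ≤ q^2`. -/

set_option autoImplicit false

namespace Cfsg.Agent.Lib.H14.SS

/-- `n` lies in a window `[q, q')` whose left end is prime and whose length is small: `(q'-q)^3 ≤ q^2`. -/
def ChainP (n : ℕ) : Prop := ∃ q q' : ℕ, q.Prime ∧ q ≤ n ∧ n < q' ∧ (q' - q) ^ 3 ≤ q ^ 2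

theorem chainP_leaf (q q' : ℕ) (hq : q.Prime) (hgap : (q' - q) ^ 3 ≤ q ^ 2) :
    ∀ n : ℕ, q ≤ n → n < q' → ChainP n :=
  fun _ h1 h2 => ⟨q, q', hq, h1, h2, hgap⟩

theorem chainP_join (a m b : ℕ) (h1 : ∀ n : ℕ, a ≤ n → n < m → ChainP n)
    (h2 : ∀ n : ℕ, m ≤ n → n < b → ChainP n) : ∀ n : ℕ, a ≤ n → n < b → ChainP n :=
  fun n ha hb => if h : n < m then h1 n ha h else h2 n (not_lt.mp h) hb

end Cfsg.Agent.Lib.H14.SS
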