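import Mathlib
import Cfsg.Prelude.Def_Classical
import Cfsg.Agent.Lib.H3.CenterIso

set_option autoImplicit false
set_option linter.unusedSimpArgs false

/-! # Ring isomorphisms induce isomorphisms of the special unitary groups -/

namespace Cfsg.Agent.Lib.H14.SUTr

open Matrix hiding SpecialLinearGroup
open Matrix (SpecialLinearGroup)

variable {n : ℕ} {R S : Type*} [Field R] [Field S]

/-- ring isomorphisms induce isomorphisms of special linear groups -/
noncomputable def slMapEquiv (e : R ≃+* S) :
    SpecialLinearGroup (Fin n) R ≃* SpecialLinearGroup (Fin n) S :=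
  { toFun := SpecialLinearGroup.map (e : R →+* S)
    invFun := SpecialLinearGroup.map (e.symm : S →+* R)
    left_inv := fun g => by
      apply Subtype.ext
      ext i j
      show e.symm (e (g i j)) = g i j
      simp
    right_inv := fun g => by
      apply Subtype.ext
      ext i j
      show e (e.symm (g i j)) = g i j
      simp
    map_mul' := fun g h => map_mul _ g h }

theorem slMapEquiv_apply (e : R ≃+* S) (g : SpecialLinearGroup (Fin n) R) (i j : Fin n) :
    ((slMapEquiv e g : SpecialLinearGroup (Fin n) S) : Matrix (Fin n) (Fin n) S) i j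
      = e ((g : Matrix (Fin n) (Fin n) R) i j) := rfl

theorem hermForm_map (e : R ≃+* S) (q : ℕ) (u v : Fin n → R) :
    Cfsg.hermForm n S q (fun i => e (u i)) (fun i => e (v i)) = e (Cfsg.hermForm n R q u v) := by
  unfold Cfsg.hermForm
  rw [map_sum]
  apply Finset.sum_congr rfl
  intro i _
  rw [map_mul, map_pow]

theorem mulVec_map (e : R ≃+* S) (g : SpecialLinearGroup (Fin n) R) (u : Fin n → R) :
    ((slMapEquiv e g : SpecialLinearGroup (Fin n) S) : Matrix (Fin n) (Fin n) S) *ᵥ
      (fun i => e (u i)) = fun i => e (((g : Matrix (Fin n) (Fin n) R) *ᵥ u) i) := by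
  ext i
  unfold Matrix.mulVec dotProduct
  rw [map_sum]
  apply Finset.sum_congr rfl
  intro j _
  rw [map_mul]
  rfl

theorem mem_SU_map (e : R ≃+* S) (q : ℕ) (g : SpecialLinearGroup (Fin n) R)
    (hg : g ∈ Cfsg.SU n R q) : slMapEquiv e g ∈ Cfsg.SU n S q := by
  intro u v
  have hu : u = fun i => e (e.symm (u i)) := by ext i; simp
  have hv : v = fun i => e (e.symm (v i)) := by ext i; simp
  rw [hu, hv]
  show Cfsg.hermForm n S q
    (((slMapEquiv e g : SpecialLinearGroup (Fin n) S) : Matrix (Fin n) (Fin n) S) *ᵥ _)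
    (((slMapEquiv e g : SpecialLinearGroup (Fin n) S) : Matrix (Fin n) (Fin n) S) *ᵥ _) = _
  rw [mulVec_map, mulVec_map, hermForm_map, hermForm_map]
  congr 1
  exact hg _ _

theorem map_SU (e : R ≃+* S) (q : ℕ) :
    (Cfsg.SU n R q).map (slMapEquiv (n := n) e).toMonoidHom = Cfsg.SU n S q := by
  apply le_antisymm
  · rintro _ ⟨g, hg, rfl⟩
    exact mem_SU_map e q g hg
  · intro h hh
    refine ⟨(slMapEquiv (n := n) e).symm h, ?_, ?_⟩
    · have := mem_SU_map e.symm q h hh
      exact this
    · exact (slMapEquiv (n := n) e).apply_symm_apply h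

/-- ring isomorphisms induce isomorphisms of special unitary groups -/
noncomputable def suEquiv (e : R ≃+* S) (q : ℕ) : ↥(Cfsg.SU n R q) ≃* ↥(Cfsg.SU n S q) :=
  ((slMapEquiv (n := n) e).subgroupMap (Cfsg.SU n R q)).trans (MulEquiv.subgroupCongr (map_SU e q))

/-- ring isomorphisms induce isomorphisms of projective special unitary groups -/
noncomputable def psuEquiv (e : R ≃+* S) (q : ℕ) : Cfsg.PSU n R q ≃* Cfsg.PSU n S q :=
  Cfsg.Agent.Lib.H3.CenterIso.quotCenterCongr (suEquiv e q)

end Cfsg.Agent.Lib.H14.SUTr
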