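import Mathlib
import Cfsg.Prelude.Def_SporadicCombinatorics

set_option autoImplicit false

namespace Cfsg.Agent.Lib.H14.SextAbs

open Cfsg
open scoped Pointwise

/-- pointwise Klein-four behaviour on a block implies the pair condition -/
theorem pair_of_pointwise {α : Type*} [DecidableEq α] (g : Equiv.Perm α) (t : Finset α)
    (h1 : ∀ x ∈ t, g x ∈ t) (h2 : ∀ x ∈ t, g (g x) = x)
    (h3 : ∀ x ∈ t, g x = x → ∀ y ∈ t, g y = y)
    (p : Finset α) (hp : p ⊆ t) (hp2 : p.card = 2) (hq2 : (t \ p).card = 2) :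
    g • p = p ∨ g • p = t \ p := by
  obtain ⟨x, y, hxy, rfl⟩ := Finset.card_eq_two.1 hp2
  have hx : x ∈ t := hp (by simp)
  have hy : y ∈ t := hp (by simp)
  have hsm : g • ({x, y} : Finset α) = {g x, g y} := by
    rw [Finset.smul_finset_insert, Finset.smul_finset_singleton]
    rfl
  rw [hsm]
  by_cases hgx : g x = x
  · left
    rw [hgx, h3 x hx hgx y hy]
  · by_cases hgy : g x = y
    · left
      have : g y = x := by rw [← hgy]; exact h2 x hx
      rw [hgy, this, Finset.pair_comm]
    · right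
      have hgyy : g y ≠ y := fun h => hgx (h3 y hy h x hx)
      have hgyx : g y ≠ x := fun h => hgy (by
        have := h2 y hy
        rw [h] at this
        exact this)
      apply Finset.eq_of_subset_of_card_le
      · intro z hz
        rw [Finset.mem_insert, Finset.mem_singleton] at hz
        rw [Finset.mem_sdiff, Finset.mem_insert, Finset.mem_singleton]
        rcases hz with rfl | rfl
        · exact ⟨h1 x hx, fun h => h.elim hgx hgy⟩
        · exact ⟨h1 y hy, fun h => h.elim hgyx hgyy⟩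
      · rw [hq2, Finset.card_pair]
        exact fun h => hxy (g.injective h)

theorem smul_def' (g : ↥M24) (s : Finset GolayPt) : g • s = (g : Equiv.Perm GolayPt) • s := rfl

/-- tetrads of a sextet are pairwise disjoint -/
theorem sextet_disjoint {S : Finset (Finset GolayPt)} (hS : S ∈ sextets) {t u : Finset GolayPt}
    (ht : t ∈ S) (hu : u ∈ S) (htu : t ≠ u) : Disjoint t u := by
  obtain ⟨-, h4, h8⟩ := hS
  have := (h8 t ht u hu htu).2
  rw [← Finset.card_union_eq_card_add_card, this, h4 t ht, h4 u hu]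

/-- tetrads of a sextet cover the points -/
theorem sextet_cover {S : Finset (Finset GolayPt)} (hS : S ∈ sextets) (x : GolayPt) :
    ∃ t ∈ S, x ∈ t := by
  have hd : (S : Set (Finset GolayPt)).PairwiseDisjoint id := by
    intro t ht u hu htu
    exact sextet_disjoint hS ht hu htu
  have hc : (S.biUnion id).card = 24 := by
    rw [Finset.card_biUnion hd]
    have : ∀ t ∈ S, (id t : Finset GolayPt).card = 4 := hS.2.1
    rw [Finset.sum_congr rfl this, Finset.sum_const, hS.1]
    rfl
  have : S.biUnion id = Finset.univ := by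
    apply Finset.eq_univ_of_card
    rw [hc]
    rfl
  have hx : x ∈ S.biUnion id := by rw [this]; exact Finset.mem_univ x
  rw [Finset.mem_biUnion] at hx
  exact hx

variable (S : Finset (Finset GolayPt))

theorem smul_mem_of_stab (g : ↥(MulAction.stabilizer ↥M24 S)) {t : Finset GolayPt} (ht : t ∈ S) :
    ((g : ↥M24) : Equiv.Perm GolayPt) • t ∈ S := by
  have h := MulAction.mem_stabilizer_iff.1 g.2
  have : (g : ↥M24) • t ∈ (g : ↥M24) • S := Finset.smul_mem_smul_finset ht
  rw [h] at this
  exact this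

/-- the permutation of the tetrads induced by an element of the stabilizer -/
def tetPerm (g : ↥(MulAction.stabilizer ↥M24 S)) : Equiv.Perm ↥S where
  toFun t := ⟨((g : ↥M24) : Equiv.Perm GolayPt) • (t : Finset GolayPt), smul_mem_of_stab S g t.2⟩
  invFun t := ⟨((g⁻¹ : ↥(MulAction.stabilizer ↥M24 S)) : ↥M24).1 • (t : Finset GolayPt),
    smul_mem_of_stab S g⁻¹ t.2⟩
  left_inv t := by
    apply Subtype.ext
    show ((g⁻¹ : ↥(MulAction.stabilizer ↥M24 S)) : ↥M24).1 • (((g : ↥M24) : Equiv.Perm GolayPt) • (t : Finset GolayPt)) = t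
    rw [smul_smul]
    have : ((g⁻¹ : ↥(MulAction.stabilizer ↥M24 S)) : ↥M24).1 * ((g : ↥M24) : Equiv.Perm GolayPt) = 1 := by
      simp
    rw [this, one_smul]
  right_inv t := by
    apply Subtype.ext
    show ((g : ↥M24) : Equiv.Perm GolayPt) • (((g⁻¹ : ↥(MulAction.stabilizer ↥M24 S)) : ↥M24).1 • (t : Finset GolayPt)) = t
    rw [smul_smul]
    have : ((g : ↥M24) : Equiv.Perm GolayPt) * ((g⁻¹ : ↥(MulAction.stabilizer ↥M24 S)) : ↥M24).1 = 1 := by
      simp
    rw [this, one_smul]

theorem tetPerm_apply (g : ↥(MulAction.stabilizer ↥M24 S)) (t : ↥S) :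
    ((tetPerm S g t : ↥S) : Finset GolayPt) = ((g : ↥M24) : Equiv.Perm GolayPt) • (t : Finset GolayPt) := rfl

/-- the action on the tetrads as a homomorphism -/
def tetHom : ↥(MulAction.stabilizer ↥M24 S) →* Equiv.Perm ↥S where
  toFun := tetPerm S
  map_one' := by
    ext t
    rw [tetPerm_apply]
    simp
  map_mul' g h := by
    ext t
    rw [Equiv.Perm.mul_apply, tetPerm_apply, tetPerm_apply, tetPerm_apply, smul_smul]
    rfl

theorem mem_ker_tetHom (g : ↥(MulAction.stabilizer ↥M24 S)) :
    g ∈ (tetHom S).ker ↔ ∀ t ∈ S, ((g : ↥M24) : Equiv.Perm GolayPt) • t = t := by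
  rw [MonoidHom.mem_ker]
  constructor
  · intro h t ht
    have := congrArg (fun e : Equiv.Perm ↥S => ((e ⟨t, ht⟩ : ↥S) : Finset GolayPt)) h
    exact this
  · intro h
    apply Equiv.ext
    intro t
    apply Subtype.ext
    show ((tetPerm S g t : ↥S) : Finset GolayPt) = _
    rw [tetPerm_apply, h t t.2]
    rfl

/-- the "Klein four on every tetrad" subgroup -/
def vier : Subgroup ↥(MulAction.stabilizer ↥M24 S) where
  carrier := {g | ∀ t ∈ S, ∀ p : Finset GolayPt, p ⊆ t → p.card = 2 → (t \ p).card = 2 →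
    ((g : ↥M24) : Equiv.Perm GolayPt) • p = p ∨ ((g : ↥M24) : Equiv.Perm GolayPt) • p = t \ p}
  one_mem' := by
    intro t _ p _ _ _
    left
    simp
  mul_mem' := by
    intro g h hg hh t ht p hp hp2 hq2
    have e : (((g * h : ↥(MulAction.stabilizer ↥M24 S)) : ↥M24) : Equiv.Perm GolayPt) • p
        = ((g : ↥M24) : Equiv.Perm GolayPt) • (((h : ↥M24) : Equiv.Perm GolayPt) • p) := by
      rw [smul_smul]; rfl
    rw [e]
    rcases hh t ht p hp hp2 hq2 with h1 | h1
    · rw [h1]
      exact hg t ht p hp hp2 hq2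
    · rw [h1]
      have hpp : t \ (t \ p) = p := Finset.sdiff_sdiff_eq_self hp
      rcases hg t ht (t \ p) Finset.sdiff_subset hq2 (by rw [hpp]; exact hp2) with h2 | h2
      · right; exact h2
      · left; rw [h2, hpp]
  inv_mem' := by
    intro g hg t ht p hp hp2 hq2
    have hpp : t \ (t \ p) = p := Finset.sdiff_sdiff_eq_self hp
    have e : ∀ q : Finset GolayPt, (((g⁻¹ : ↥(MulAction.stabilizer ↥M24 S)) : ↥M24) : Equiv.Perm GolayPt) • q
        = (((g : ↥M24) : Equiv.Perm GolayPt))⁻¹ • q := fun q => rfl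
    rw [e]
    rcases hg t ht p hp hp2 hq2 with h1 | h1
    · left
      rw [inv_smul_eq_iff, h1]
    · right
      rcases hg t ht (t \ p) Finset.sdiff_subset hq2 (by rw [hpp]; exact hp2) with h2 | h2
      · exfalso
        have h3 : t \ p = p := smul_left_cancel _ (h2.trans h1.symm)
        have hne : p.Nonempty := by
          rw [← Finset.card_pos, hp2]; norm_num
        obtain ⟨x, hx⟩ := hne
        have hx' := hx
        rw [← h3, Finset.mem_sdiff] at hx'
        exact hx'.2 hx
      · rw [hpp] at h2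
        rw [inv_smul_eq_iff, h2]

theorem mem_vier (g : ↥(MulAction.stabilizer ↥M24 S)) :
    g ∈ vier S ↔ ∀ t ∈ S, ∀ p : Finset GolayPt, p ⊆ t → p.card = 2 → (t \ p).card = 2 →
    ((g : ↥M24) : Equiv.Perm GolayPt) • p = p ∨ ((g : ↥M24) : Equiv.Perm GolayPt) • p = t \ p := Iff.rfl

instance vier_normal : (vier S).Normal := by
  constructor
  intro n hn h t ht p hp hp2 hq2
  have e : (((h * n * h⁻¹ : ↥(MulAction.stabilizer ↥M24 S)) : ↥M24) : Equiv.Perm GolayPt) • p
      = ((h : ↥M24) : Equiv.Perm GolayPt) • (((n : ↥M24) : Equiv.Perm GolayPt) •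
        ((((h : ↥M24) : Equiv.Perm GolayPt))⁻¹ • p)) := by
    rw [smul_smul, smul_smul]; rfl
  rw [e]
  have hinv : ∀ q : Finset GolayPt, (((h⁻¹ : ↥(MulAction.stabilizer ↥M24 S)) : ↥M24) : Equiv.Perm GolayPt) • q
        = (((h : ↥M24) : Equiv.Perm GolayPt))⁻¹ • q := fun q => rfl
  have ht' : (((h : ↥M24) : Equiv.Perm GolayPt))⁻¹ • t ∈ S := by
    rw [← hinv]; exact smul_mem_of_stab S h⁻¹ ht
  have hsd : (((h : ↥M24) : Equiv.Perm GolayPt))⁻¹ • t \ (((h : ↥M24) : Equiv.Perm GolayPt))⁻¹ • p
      = (((h : ↥M24) : Equiv.Perm GolayPt))⁻¹ • (t \ p) := (Finset.smul_finset_sdiff).symm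
  rcases hn _ ht' ((((h : ↥M24) : Equiv.Perm GolayPt))⁻¹ • p) (Finset.smul_finset_subset_smul_finset hp)
    (by rw [Finset.card_smul_finset]; exact hp2) (by rw [hsd, Finset.card_smul_finset]; exact hq2) with h1 | h1
  · left
    rw [h1, smul_inv_smul]
  · right
    rw [h1, hsd, smul_inv_smul]

variable {S}

/-- elements of `vier` fix every tetrad -/
theorem vier_le_ker (hS : S ∈ sextets) : vier S ≤ (tetHom S).ker := by
  intro g hg
  rw [mem_ker_tetHom]
  intro t ht
  have h4 : t.card = 4 := hS.2.1 t ht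
  obtain ⟨p, hp, hp2⟩ := Finset.exists_subset_card_eq (s := t) (n := 2) (by rw [h4]; norm_num)
  have hq2 : (t \ p).card = 2 := by
    rw [Finset.card_sdiff_of_subset hp, h4, hp2]
  have hpp : t \ (t \ p) = p := Finset.sdiff_sdiff_eq_self hp
  have hun : p ∪ (t \ p) = t := Finset.union_sdiff_of_subset hp
  have hne : p.Nonempty := by
    rw [← Finset.card_pos, hp2]; norm_num
  have hpq : p ≠ t \ p := by
    intro h
    obtain ⟨x, hx⟩ := hne
    have hx' := hx
    rw [h, Finset.mem_sdiff] at hx'
    exact hx'.2 hx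
  conv_lhs => rw [← hun]
  rw [Finset.smul_finset_union]
  rcases hg t ht p hp hp2 hq2 with h1 | h1 <;>
    rcases hg t ht (t \ p) Finset.sdiff_subset hq2 (by rw [hpp]; exact hp2) with h2 | h2
  · rw [h1, h2, hun]
  · exfalso
    rw [hpp] at h2
    exact hpq (smul_left_cancel _ (h2.trans h1.symm)).symm
  · exfalso
    exact hpq (smul_left_cancel _ (h1.trans h2.symm))
  · rw [h1, h2, hpp, Finset.union_comm, hun]

/-- elements of `vier` square to the identity -/
theorem vier_sq (hS : S ∈ sextets) {g : ↥(MulAction.stabilizer ↥M24 S)} (hg : g ∈ vier S) :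
    g * g = 1 := by
  apply Subtype.ext
  apply Subtype.ext
  apply Equiv.ext
  intro x
  show ((g : ↥M24) : Equiv.Perm GolayPt) (((g : ↥M24) : Equiv.Perm GolayPt) x) = x
  obtain ⟨t, ht, hx⟩ := sextet_cover hS x
  have h4 : t.card = 4 := hS.2.1 t ht
  have hfix := (mem_ker_tetHom S g).1 (vier_le_ker hS hg) t ht
  set σ := ((g : ↥M24) : Equiv.Perm GolayPt) with hσ
  by_cases hgx : σ x = x
  · rw [hgx, hgx]
  · have hy : σ x ∈ t := by
      have : σ x ∈ σ • t := Finset.smul_mem_smul_finset hx
      rw [hfix] at this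
      exact this
    have hp : ({x, σ x} : Finset GolayPt) ⊆ t := by
      intro z hz
      rw [Finset.mem_insert, Finset.mem_singleton] at hz
      rcases hz with rfl | rfl
      · exact hx
      · exact hy
    have hp2 : ({x, σ x} : Finset GolayPt).card = 2 := Finset.card_pair (Ne.symm hgx)
    have hq2 : (t \ {x, σ x}).card = 2 := by
      rw [Finset.card_sdiff_of_subset hp, h4, hp2]
    have hsm : σ • ({x, σ x} : Finset GolayPt) = {σ x, σ (σ x)} := by
      rw [Finset.smul_finset_insert, Finset.smul_finset_singleton]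
      rfl
    rcases hg t ht _ hp hp2 hq2 with h1 | h1
    · rw [hsm] at h1
      have : σ (σ x) ∈ ({x, σ x} : Finset GolayPt) := by
        rw [← h1]; simp
      rw [Finset.mem_insert, Finset.mem_singleton] at this
      rcases this with h | h
      · exact h
      · exact absurd (σ.injective h) hgx
    · exfalso
      rw [hsm] at h1
      have : σ x ∈ t \ {x, σ x} := by
        rw [← h1]; simp
      rw [Finset.mem_sdiff] at this
      exact this.2 (by simp)

/-- order of the kernel from the order of the stabilizer and surjectivity -/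
theorem card_ker (hS : S ∈ sextets) (hc : Nat.card ↥(MulAction.stabilizer ↥M24 S) = 138240)
    (hsurj : Function.Surjective (tetHom S)) : Nat.card ↥(tetHom S).ker = 192 := by
  have h1 := Subgroup.card_eq_card_quotient_mul_card_subgroup (tetHom S).ker
  have h2 : Nat.card (↥(MulAction.stabilizer ↥M24 S) ⧸ (tetHom S).ker) = Nat.card (Equiv.Perm ↥S) :=
    Nat.card_congr (QuotientGroup.quotientKerEquivOfSurjective (tetHom S) hsurj).toEquiv
  have h3 : Nat.card (Equiv.Perm ↥S) = 720 := by
    rw [Nat.card_eq_fintype_card, Fintype.card_perm, Fintype.card_coe, hS.1]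
    rfl
  rw [h2, h3, hc] at h1
  omega

/-- order of `vier` from 64 elements -/
theorem card_vier (hS : S ∈ sextets) (hk : Nat.card ↥(tetHom S).ker = 192)
    (h64 : 64 ≤ Nat.card ↥(vier S)) : Nat.card ↥(vier S) = 64 := by
  have hdvd : Nat.card ↥(vier S) ∣ 192 := by
    rw [← hk]
    exact Subgroup.card_dvd_of_le (vier_le_ker hS)
  have hp : IsPGroup 2 ↥(vier S) := by
    intro g
    refine ⟨1, ?_⟩
    rw [pow_one, pow_two]
    apply Subtype.ext
    exact vier_sq hS g.2
  obtain ⟨n, hn⟩ := hp.exists_card_eq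
  rw [hn] at hdvd h64 ⊢
  have hn8 : n < 8 := by
    by_contra h
    push Not at h
    have : 2 ^ 8 ≤ 2 ^ n := Nat.pow_le_pow_right (by norm_num) h
    have := Nat.le_of_dvd (by norm_num) hdvd
    omega
  interval_cases n <;> first | rfl | omega

end Cfsg.Agent.Lib.H14.SextAbs
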