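import Cfsg.Agent.Lib.H14.SextAbs
import Cfsg.Agent.Lib.H28.SextTrioBase

set_option autoImplicit false

namespace Cfsg.Agent.Lib.H14.SextConc

open Cfsg Cfsg.Agent.Lib.H28 Cfsg.Agent.Lib.H14.SextAbs
open scoped Pointwise

def swapTab : List (ℕ × ℕ × List ℕ) := [
  (147496, 268544, [1, 2, 4, 4, 0, 0, 4, 1, 2, 4, 4, 0, 0, 4, 3, 0, 4, 0, 3, 1, 1, 3, 3, 0, 4, 0, 3, 1, 1, 3, 1, 2, 4, 4, 0, 0, 4, 4, 0, 0, 4, 1, 3, 1, 4, 1, 2, 4, 4, 0, 0, 4]),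
  (147496, 1082880, [3, 1, 1, 3, 3, 2, 0, 3, 0, 4, 0, 3, 1, 1, 3, 3, 1, 1, 3, 3, 2, 0, 4, 0, 0, 4, 1, 3, 1, 4, 1, 2, 4, 4, 0, 0, 4, 3, 0, 4, 0, 3, 1, 1, 3]),
  (147496, 2621632, [1, 2, 4, 4, 0, 0, 4, 1, 2, 4, 4, 0, 0, 4, 3, 0, 4, 0, 3, 1, 1, 3, 1, 2, 4, 4, 0, 0, 4, 1, 2, 4, 4, 0, 0, 4, 4, 0, 0, 4, 1, 3, 1, 4, 3, 1, 1, 3, 3, 2, 0, 4, 0, 0, 4, 1, 3, 1, 4]),
  (147496, 4268048, [3, 0, 4, 0, 3, 1, 1, 3, 3, 1, 1, 3, 3, 2, 0, 4, 0, 0, 4, 1, 3, 1, 4, 3, 1, 1, 3, 3, 2, 0, 4, 0, 0, 4, 1, 3, 1, 4, 3, 1, 1, 3, 3, 2, 0, 3, 0, 4, 0, 3, 1, 1, 3, 3, 0, 4, 0, 3, 1, 1, 3]),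
  (147496, 8388615, [3, 0, 4, 0, 3, 1, 1, 3, 1, 2, 4, 4, 0, 0, 4, 1, 2, 4, 4, 0, 0, 4, 3, 0, 4, 0, 3, 1, 1, 3, 3, 1, 1, 3, 3, 2, 0, 3, 0, 4, 0, 3, 1, 1, 3]),
  (268544, 1082880, [3, 0, 4, 0, 3, 1, 1, 3, 3, 1, 1, 3, 3, 2, 0, 3, 0, 4, 0, 3, 1, 1, 3, 3, 1, 1, 3, 3, 2, 0, 4, 0, 0, 4, 1, 3, 1, 4, 1, 2, 4, 4, 0, 0, 4]),
  (268544, 2621632, [1, 2, 4, 4, 0, 0, 4, 3, 0, 4, 0, 3, 1, 1, 3, 1, 2, 4, 4, 0, 0, 4, 3, 0, 4, 0, 3, 1, 1, 3, 1, 2, 4, 4, 0, 0, 4, 3, 0, 4, 0, 3, 1, 1, 3]),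
  (268544, 4268048, [1, 2, 4, 4, 0, 0, 4, 3, 0, 4, 0, 3, 1, 1, 3, 3, 0, 4, 0, 3, 1, 1, 3, 1, 2, 4, 4, 0, 0, 4, 4, 0, 0, 4, 1, 3, 1, 4, 1, 2, 4, 4, 0, 0, 4, 1, 2, 4, 4, 0, 0, 4]),
  (268544, 8388615, [1, 2, 4, 4, 0, 0, 4, 4, 0, 0, 4, 1, 3, 1, 4, 3, 1, 1, 3, 3, 2, 0, 3, 1, 1, 3, 3, 2, 0, 3, 0, 4, 0, 3, 1, 1, 3, 3, 0, 4, 0, 3, 1, 1, 3]),
  (1082880, 2621632, [3, 1, 1, 3, 3, 2, 0, 4, 0, 0, 4, 1, 3, 1, 4, 1, 2, 4, 4, 0, 0, 4, 3, 0, 4, 0, 3, 1, 1, 3, 3, 0, 4, 0, 3, 1, 1, 3, 1, 2, 4, 4, 0, 0, 4, 3, 0, 4, 0, 3, 1, 1, 3, 3, 0, 4, 0, 3, 1, 1, 3]),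
  (1082880, 4268048, [3, 1, 1, 3, 3, 2, 0, 3, 0, 4, 0, 3, 1, 1, 3, 3, 0, 4, 0, 3, 1, 1, 3, 1, 2, 4, 4, 0, 0, 4, 1, 2, 4, 4, 0, 0, 4, 3, 0, 4, 0, 3, 1, 1, 3]),
  (1082880, 8388615, [3, 1, 1, 3, 3, 2, 0, 4, 0, 0, 4, 1, 3, 1, 4, 1, 2, 4, 4, 0, 0, 4, 3, 0, 4, 0, 3, 1, 1, 3, 3, 1, 1, 3, 3, 2, 0, 3, 0, 4, 0, 3, 1, 1, 3]),
  (2621632, 4268048, [3, 0, 4, 0, 3, 1, 1, 3, 1, 2, 4, 4, 0, 0, 4, 3, 0, 4, 0, 3, 1, 1, 3, 1, 2, 4, 4, 0, 0, 4, 3, 0, 4, 0, 3, 1, 1, 3, 1, 2, 4, 4, 0, 0, 4]),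
  (2621632, 8388615, [3, 0, 4, 0, 3, 1, 1, 3, 1, 2, 4, 4, 0, 0, 4, 4, 0, 0, 4, 1, 3, 1, 4, 3, 1, 1, 3, 3, 2, 0, 3, 1, 1, 3, 3, 2, 0, 3, 0, 4, 0, 3, 1, 1, 3]),
  (4268048, 8388615, [1, 2, 4, 4, 0, 0, 4, 1, 2, 4, 4, 0, 0, 4, 3, 0, 4, 0, 3, 1, 1, 3, 3, 1, 1, 3, 3, 2, 0, 3, 0, 4, 0, 3, 1, 1, 3, 3, 0, 4, 0, 3, 1, 1, 3])]

def n0gens : List (List ℕ) := [
  [3, 1, 1, 3, 3, 2, 0, 3, 0, 4, 0, 3, 1, 1, 3, 1, 2, 4, 4, 0, 0, 4, 3, 0, 4, 0, 3, 1, 1, 3, 1, 2, 4, 4, 0, 0, 4, 1, 2, 4, 4, 0, 0, 4, 1, 2, 4, 4, 0, 0, 4, 1, 2, 4, 4, 0, 0, 4, 3, 0, 4, 0, 3, 1, 1, 3, 1, 2, 4, 4, 0, 0, 4, 3, 0, 4, 0, 3, 1, 1, 3],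
  [1, 2, 4, 4, 0, 0, 4, 1, 2, 4, 4, 0, 0, 4, 1, 2, 4, 4, 0, 0, 4, 1, 2, 4, 4, 0, 0, 4, 3, 0, 4, 0, 3, 1, 1, 3, 1, 2, 4, 4, 0, 0, 4, 3, 0, 4, 0, 3, 1, 1, 3, 3, 1, 1, 3, 3, 2, 0, 3, 0, 4, 0, 3, 1, 1, 3, 1, 2, 4, 4, 0, 0, 4, 3, 0, 4, 0, 3, 1, 1, 3],
  [3, 1, 1, 3, 3, 2, 0, 3, 0, 4, 0, 3, 1, 1, 3, 3, 1, 1, 3, 3, 2, 0, 3, 1, 1, 3, 3, 2, 0, 3, 1, 1, 3, 3, 2, 0, 3, 1, 1, 3, 3, 2, 0, 3, 0, 4, 0, 3, 1, 1, 3, 3, 1, 1, 3, 3, 2, 0, 3, 0, 4, 0, 3, 1, 1, 3, 1, 2, 4, 4, 0, 0, 4, 3, 0, 4, 0, 3, 1, 1, 3],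
  [1, 2, 4, 4, 0, 0, 4, 3, 0, 4, 0, 3, 1, 1, 3, 3, 1, 1, 3, 3, 2, 0, 3, 0, 4, 0, 3, 1, 1, 3, 1, 2, 4, 4, 0, 0, 4, 3, 0, 4, 0, 3, 1, 1, 3, 1, 2, 4, 4, 0, 0, 4, 1, 2, 4, 4, 0, 0, 4, 1, 2, 4, 4, 0, 0, 4, 1, 2, 4, 4, 0, 0, 4, 3, 0, 4, 0, 3, 1, 1, 3],
  [1, 2, 4, 4, 0, 0, 4, 3, 0, 4, 0, 3, 1, 1, 3, 1, 2, 4, 4, 0, 0, 4, 1, 2, 4, 4, 0, 0, 4, 1, 2, 4, 4, 0, 0, 4, 1, 2, 4, 4, 0, 0, 4, 3, 0, 4, 0, 3, 1, 1, 3, 1, 2, 4, 4, 0, 0, 4, 3, 0, 4, 0, 3, 1, 1, 3, 3, 1, 1, 3, 3, 2, 0, 3, 0, 4, 0, 3, 1, 1, 3],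
  [3, 1, 1, 3, 3, 2, 0, 3, 1, 1, 3, 3, 2, 0, 3, 1, 1, 3, 3, 2, 0, 3, 1, 1, 3, 3, 2, 0, 3, 0, 4, 0, 3, 1, 1, 3, 3, 1, 1, 3, 3, 2, 0, 3, 0, 4, 0, 3, 1, 1, 3, 1, 2, 4, 4, 0, 0, 4, 3, 0, 4, 0, 3, 1, 1, 3, 3, 1, 1, 3, 3, 2, 0, 3, 0, 4, 0, 3, 1, 1, 3]]

def sigList : List ℕ := [2376, 7608, 13080, 9552, 2447, 7583, 13031, 9647, 2714, 7826, 12746, 9338, 2641, 7897, 12793, 9289, 2425, 7561, 13009, 9625, 2378, 7610, 13082, 9554, 2663, 7919, 12815, 9311, 2712, 7824, 12744, 9336, 2399, 7631, 13103, 9575, 2424, 7560, 13008, 9624, 2713, 7825, 12745, 9337, 2642, 7898, 12794, 9290, 2426, 7562, 13010, 9626, 2377, 7609, 13081, 9553, 2640, 7896, 12792, 9288, 2735, 7847, 12767, 9359]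

/-- the standard sextet -/
abbrev S0 : Finset (Finset GolayPt) := decL sext0Key

theorem S0_mem : S0 ∈ sextets := sext0_mem_sextets

theorem sext0Key_lt : ∀ m ∈ sext0Key, m < 2 ^ 24 := by decide

theorem wsmul_ptsMask (w : List ℕ) (m : ℕ) :
    wordPerm w • ptsMask m = ptsMask (pullMask (wordTab (invWord w)) m) :=
  smul_ptsMask (wordPerm w) (wordTab (invWord w)) (fun p => by
    rw [← wordTab_spec, wordPerm_invWord, Equiv.Perm.inv_def]) m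

/-! ### swaps of tetrads -/

def swapOK (e : ℕ × ℕ × List ℕ) : Bool :=
  sext0Key.all (fun m => pullMask (wordTab (invWord e.2.2)) m ==
    (if m = e.1 then e.2.1 else if m = e.2.1 then e.1 else m)) &&
  sameL (sext0Key.map (pullMask (wordTab (invWord e.2.2)))) sext0Key

theorem swapTab_ok : swapTab.all swapOK = true := by decide +kernel

theorem swapTab_complete : ∀ mi ∈ sext0Key, ∀ mj ∈ sext0Key, mi ≠ mj →
    ∃ e ∈ swapTab, (e.1 = mi ∧ e.2.1 = mj) ∨ (e.1 = mj ∧ e.2.1 = mi) := by decide +kernel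

theorem exists_swap_aux (e : ℕ × ℕ × List ℕ) (he : e ∈ swapTab) (x y : ↥S0)
    (hx : ptsMask e.1 = (x : Finset GolayPt)) (hy : ptsMask e.2.1 = (y : Finset GolayPt))
    (h1 : e.1 ∈ sext0Key) (h2 : e.2.1 ∈ sext0Key) :
    ∃ g : ↥(MulAction.stabilizer ↥M24 S0), tetHom S0 g = Equiv.swap x y := by
  have hok := List.all_eq_true.1 swapTab_ok e he
  unfold swapOK at hok
  rw [Bool.and_eq_true, List.all_eq_true] at hok
  obtain ⟨hm, hsame⟩ := hok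
  have hst : (⟨wordPerm e.2.2, wordPerm_mem_M24 _⟩ : ↥M24) ∈ MulAction.stabilizer ↥M24 S0 := by
    rw [MulAction.mem_stabilizer_iff]
    exact wordPerm_smul_decL_of_sameL hsame
  refine ⟨⟨⟨wordPerm e.2.2, wordPerm_mem_M24 _⟩, hst⟩, ?_⟩
  apply Equiv.ext
  intro t
  apply Subtype.ext
  show wordPerm e.2.2 • (t : Finset GolayPt) = _
  obtain ⟨m, hmk, hmt⟩ := mem_decL.1 t.2
  have h3 := hm m hmk
  rw [beq_iff_eq] at h3
  rw [← hmt, wsmul_ptsMask, h3]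
  by_cases c1 : m = e.1
  · rw [if_pos c1]
    have : t = x := Subtype.ext (by rw [← hmt, c1, hx])
    rw [this, Equiv.swap_apply_left, hy]
  · rw [if_neg c1]
    by_cases c2 : m = e.2.1
    · rw [if_pos c2]
      have : t = y := Subtype.ext (by rw [← hmt, c2, hy])
      rw [this, Equiv.swap_apply_right, hx]
    · rw [if_neg c2]
      have n1 : t ≠ x := by
        intro h
        apply c1
        apply ptsMask_inj (sext0Key_lt m hmk) (sext0Key_lt _ h1)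
        rw [hmt, hx, h]
      have n2 : t ≠ y := by
        intro h
        apply c2
        apply ptsMask_inj (sext0Key_lt m hmk) (sext0Key_lt _ h2)
        rw [hmt, hy, h]
      rw [Equiv.swap_apply_of_ne_of_ne n1 n2, hmt]

theorem exists_swap (x y : ↥S0) (hxy : x ≠ y) :
    ∃ g : ↥(MulAction.stabilizer ↥M24 S0), tetHom S0 g = Equiv.swap x y := by
  obtain ⟨mi, hmi, hxi⟩ := mem_decL.1 x.2
  obtain ⟨mj, hmj, hyj⟩ := mem_decL.1 y.2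
  have hne : mi ≠ mj := by
    intro h
    apply hxy
    apply Subtype.ext
    rw [← hxi, ← hyj, h]
  obtain ⟨e, he, h | h⟩ := swapTab_complete mi hmi mj hmj hne
  · exact exists_swap_aux e he x y (by rw [h.1, hxi]) (by rw [h.2, hyj]) (by rw [h.1]; exact hmi)
      (by rw [h.2]; exact hmj)
  · rw [Equiv.swap_comm]
    exact exists_swap_aux e he y x (by rw [h.1, hyj]) (by rw [h.2, hxi]) (by rw [h.1]; exact hmj)
      (by rw [h.2]; exact hmi)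

theorem tetHom_surj : Function.Surjective (tetHom S0) := by
  intro e
  induction e using Equiv.Perm.swap_induction_on with
  | one => exact ⟨1, map_one _⟩
  | swap_mul f x y hxy ih =>
    obtain ⟨g, hg⟩ := ih
    obtain ⟨s, hs⟩ := exists_swap x y hxy
    exact ⟨s * g, by rw [map_mul, hg, hs]⟩

/-! ### the subgroup `vier S0` has at least 64 elements -/

def ptCheck (w : List ℕ) (m : ℕ) : Bool :=
  (List.range 24).all (fun k => !m.testBit k ||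
    (m.testBit (evalPt w k) && evalPt w (evalPt w k) == k &&
      (evalPt w k != k || (List.range 24).all (fun j => !m.testBit j || evalPt w j == j))))

def vierCheck (w : List ℕ) : Bool :=
  sext0Key.all (ptCheck w) && sameL (sext0Key.map (pullMask (wordTab (invWord w)))) sext0Key

theorem n0gens_ok : n0gens.all vierCheck = true := by decide +kernel

/-- the subgroup `vier S0` viewed inside the permutation group -/
noncomputable def vierP : Subgroup (Equiv.Perm GolayPt) :=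
  (vier S0).map ((Subgroup.subtype M24).comp (Subgroup.subtype (MulAction.stabilizer ↥M24 S0)))

theorem card_vierP : Nat.card ↥vierP = Nat.card ↥(vier S0) := by
  apply Nat.card_congr
  exact ((vier S0).equivMapOfInjective _ (by
    intro a b h
    exact Subtype.ext (Subtype.ext h))).symm.toEquiv

theorem gen_mem_vierP (w : List ℕ) (hw : w ∈ n0gens) : wordPerm w ∈ vierP := by
  have hok := List.all_eq_true.1 n0gens_ok w hw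
  unfold vierCheck at hok
  rw [Bool.and_eq_true, List.all_eq_true] at hok
  obtain ⟨hm, hsame⟩ := hok
  have hst : (⟨wordPerm w, wordPerm_mem_M24 _⟩ : ↥M24) ∈ MulAction.stabilizer ↥M24 S0 := by
    rw [MulAction.mem_stabilizer_iff]
    exact wordPerm_smul_decL_of_sameL hsame
  refine ⟨⟨⟨wordPerm w, wordPerm_mem_M24 _⟩, hst⟩, ?_, rfl⟩
  intro t ht p hp hp2 hq2
  show wordPerm w • p = p ∨ wordPerm w • p = t \ p
  obtain ⟨m, hmk, rfl⟩ := mem_decL.1 ht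
  have hc := hm m hmk
  unfold ptCheck at hc
  rw [List.all_eq_true] at hc
  have key : ∀ x ∈ ptsMask m, wordPerm w x ∈ ptsMask m ∧ wordPerm w (wordPerm w x) = x ∧
      (wordPerm w x = x → ∀ y ∈ ptsMask m, wordPerm w y = y) := by
    intro x hx
    rw [mem_ptsMask] at hx
    have h := hc (gIdx x) (List.mem_range.2 (gIdx_lt x))
    rw [hx] at h
    simp only [Bool.not_true, Bool.false_or, Bool.and_eq_true, beq_iff_eq, Bool.or_eq_true,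
      bne_iff_ne, ne_eq, List.all_eq_true, List.mem_range, Bool.not_eq_true'] at h
    obtain ⟨⟨h1, h2⟩, h3⟩ := h
    refine ⟨?_, ?_, ?_⟩
    · rw [mem_ptsMask, gIdx_wordPerm]; exact h1
    · apply gIdx_injective
      rw [gIdx_wordPerm, gIdx_wordPerm]; exact h2
    · intro hfix y hy
      have hfix' : evalPt w (gIdx x) = gIdx x := by
        rw [← gIdx_wordPerm, hfix]
      rcases h3 with h3 | h3
      · exact absurd hfix' h3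
      · rw [mem_ptsMask] at hy
        rcases h3 (gIdx y) (gIdx_lt y) with h4 | h4
        · rw [hy] at h4; exact absurd h4 (by decide)
        · apply gIdx_injective
          rw [gIdx_wordPerm]; exact h4
  exact pair_of_pointwise (wordPerm w) (ptsMask m) (fun x hx => (key x hx).1)
    (fun x hx => (key x hx).2.1) (fun x hx => (key x hx).2.2) p hp hp2 hq2

/-- the 64 products -/
def prodWords : List (List ℕ) := (List.sublists n0gens).map List.flatten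

theorem prod_mem_vierP : ∀ w ∈ prodWords, wordPerm w ∈ vierP := by
  intro w hw
  unfold prodWords at hw
  rw [List.mem_map] at hw
  obtain ⟨l, hl, rfl⟩ := hw
  rw [List.mem_sublists] at hl
  have hsub : ∀ a ∈ l, a ∈ n0gens := fun a ha => hl.subset ha
  clear hl
  induction l with
  | nil => exact Subgroup.one_mem _
  | cons a l ih =>
    rw [List.flatten_cons, wordPerm_append]
    exact Subgroup.mul_mem _ (gen_mem_vierP a (hsub a List.mem_cons_self))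
      (ih (fun b hb => hsub b (List.mem_cons_of_mem _ hb)))

def sigN (w : List ℕ) : ℕ := evalPt w 0 + 24 * evalPt w 3 + 576 * evalPt w 4

theorem sigs_eq : prodWords.map sigN = sigList := by decide +kernel

theorem sigList_nodup : sigList.Nodup := by decide +kernel

theorem prodWords_length : prodWords.length = 64 := by
  unfold prodWords
  rw [List.length_map, List.length_sublists]
  rfl

theorem sigN_eq_of_wordPerm_eq {w w' : List ℕ} (h : wordPerm w = wordPerm w') : sigN w = sigN w' := by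
  have e : ∀ k < 24, evalPt w k = evalPt w' k := by
    intro k hk
    rw [← gIdx_gPt hk, ← gIdx_wordPerm, ← gIdx_wordPerm, h]
  unfold sigN
  rw [e 0 (by norm_num), e 3 (by norm_num), e 4 (by norm_num)]

theorem card_vier_ge : 64 ≤ Nat.card ↥(vier S0) := by
  rw [← card_vierP]
  have hlen := prodWords_length
  let F : Fin 64 → ↥vierP := fun i =>
    ⟨wordPerm (prodWords.get ⟨i.1, by rw [hlen]; exact i.2⟩), prod_mem_vierP _ (List.get_mem _ _)⟩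
  have hF : Function.Injective F := by
    intro i j hij
    have h1 : wordPerm (prodWords.get ⟨i.1, by rw [hlen]; exact i.2⟩)
        = wordPerm (prodWords.get ⟨j.1, by rw [hlen]; exact j.2⟩) := congrArg Subtype.val hij
    have h2 := sigN_eq_of_wordPerm_eq h1
    have hnd : (prodWords.map sigN).Nodup := by rw [sigs_eq]; exact sigList_nodup
    have h3 := (List.nodup_iff_injective_get.1 hnd)
      (a₁ := ⟨i.1, by rw [List.length_map, hlen]; exact i.2⟩)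
      (a₂ := ⟨j.1, by rw [List.length_map, hlen]; exact j.2⟩) (by
        simp only [List.get_eq_getElem, List.getElem_map] at h2 ⊢
        exact h2)
    apply Fin.ext
    exact congrArg Fin.val h3
  have := Nat.card_le_card_of_injective F hF
  rwa [Nat.card_fin] at this

end Cfsg.Agent.Lib.H14.SextConc
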