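import Cfsg.Agent.Lib.H15.SpSubA

/-!
# S5650 farm-out, task V3a: spreading one short root element to all of them
-/

set_option autoImplicit false

namespace Cfsg.Agent.Lib.H14.SpSub

open Matrix
open Cfsg.Agent.Lib.H11.SubspMax
open Cfsg.Agent.Lib.H15.SpSub

variable {F : Type*} [Field F] {m : ℕ} {F₀ : Subfield F}
variable {H : Subgroup (GL (Fin m ⊕ Fin m) F)}

/-- an index of `Fin m` avoiding two given ones, `m ≥ 3` -/
theorem exists_ne_ne (hm : 3 ≤ m) (i j : Fin m) : ∃ k : Fin m, k ≠ i ∧ k ≠ j := by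
  by_contra hcon
  have hcon : ∀ k : Fin m, k ≠ i → k = j := by
    intro k hk
    by_contra hkj
    exact hcon ⟨k, hk, hkj⟩
  have hsub : (Finset.univ : Finset (Fin m)) ⊆ {i, j} := by
    intro k _
    by_cases hk : k = i
    · simp [hk]
    · simp [hcon k hk]
  have h1 := Finset.card_le_card hsub
  have h2 : ({i, j} : Finset (Fin m)).card ≤ 2 := Finset.card_le_two
  rw [Finset.card_univ, Fintype.card_fin] at h1
  omega

/-- the transfer step -/
theorem transfer (hM : M0 m F₀ ≤ H) {u z z' v : Fin m ⊕ Fin m → F}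
    (hz' : IsRat F₀ z') (hv : IsRat F₀ v)
    (huz : Cfsg.sympForm m F u z = 0) (huz' : Cfsg.sympForm m F u z' = 0)
    (huv : Cfsg.sympForm m F u v = 0) (hzv : Cfsg.sympForm m F z v = 0)
    (hz'v : Cfsg.sympForm m F z' v = 0)
    (hε0 : Cfsg.sympForm m F z z' ≠ 0) (hεm : Cfsg.sympForm m F z z' ∈ F₀)
    {s : F} (hs : sr u z s ∈ H) : sr u v s ∈ H := by
  have h1 : sr z' v (-(Cfsg.sympForm m F z z')⁻¹) ∈ H :=
    hM (sr_mem_M0 hz' hv (F₀.neg_mem (F₀.inv_mem hεm)))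
  have h2 := sr_commutator huz huz' huv hzv hz'v s (-(Cfsg.sympForm m F z z')⁻¹)
  have h3 : -(s * -(Cfsg.sympForm m F z z')⁻¹ * Cfsg.sympForm m F z z') = s := by
    field_simp
  rw [h3] at h2
  rw [← h2]
  exact H.mul_mem (H.mul_mem (H.mul_mem hs h1) (H.inv_mem hs)) (H.inv_mem h1)

/-- changing the second index to one in a third plane -/
theorem step1 (hM : M0 m F₀ ≤ H) {a c d : Fin m ⊕ Fin m} (hac : pl a ≠ pl c)
    (had : pl a ≠ pl d) (hcd : pl c ≠ pl d) {t : F} (ht : sr (eb a) (eb c) t ∈ H) :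
    sr (eb a) (eb d) t ∈ H := by
  refine transfer hM (z := eb c) (z' := eb c.swap) (eb_rat _) (eb_rat _) ?_ ?_ ?_ ?_ ?_ ?_ ?_ ht
  · exact B_eb_eb_of_pl hac
  · exact B_eb_eb_of_pl (by rw [pl_swap]; exact hac)
  · exact B_eb_eb_of_pl had
  · exact B_eb_eb_of_pl hcd
  · exact B_eb_eb_of_pl (by rw [pl_swap]; exact hcd)
  · rw [B_eb_swap']; exact neg_ne_zero.mpr (sg_ne_zero c)
  · rw [B_eb_swap']; exact F₀.neg_mem (sg_mem c)

/-- changing the second index arbitrarily -/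
theorem step2 (hM : M0 m F₀ ≤ H) (hm : 3 ≤ m) {a c d : Fin m ⊕ Fin m} (hac : pl a ≠ pl c)
    (had : pl a ≠ pl d) {t : F} (ht : sr (eb a) (eb c) t ∈ H) :
    sr (eb a) (eb d) t ∈ H := by
  by_cases hcd : pl c = pl d
  · obtain ⟨k, hka, hkc⟩ := exists_ne_ne hm (pl a) (pl c)
    have e1 : pl a ≠ pl (Sum.inl k : Fin m ⊕ Fin m) := fun h => hka h.symm
    have e2 : pl c ≠ pl (Sum.inl k : Fin m ⊕ Fin m) := fun h => hkc h.symm
    have e3 : pl (Sum.inl k : Fin m ⊕ Fin m) ≠ pl d := fun h => hkc (by rw [hcd]; exact h)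
    have h1 : sr (eb a) (eb (Sum.inl k : Fin m ⊕ Fin m)) t ∈ H := step1 hM hac e1 e2 ht
    exact step1 hM e1 had e3 h1
  · exact step1 hM hac had hcd ht

/-- swapping the two indices -/
theorem step_swap {a c : Fin m ⊕ Fin m} (hac : pl a ≠ pl c) {t : F}
    (ht : sr (eb a) (eb c) t ∈ H) : sr (eb c) (eb a) t ∈ H := by
  rw [sr_comm (B_eb_eb_of_pl hac.symm)]
  exact ht

/-- **V3a** spread: one short root element with coefficient `t` gives all of them -/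
theorem mem_Lam_of (hM : M0 m F₀ ≤ H) (hm : 3 ≤ m) {a c : Fin m ⊕ Fin m} (hac : pl a ≠ pl c)
    {t : F} (ht : sr (eb a) (eb c) t ∈ H) : t ∈ Lam H := by
  intro a' c' hac'
  obtain ⟨k, hka, hka'⟩ := exists_ne_ne hm (pl a) (pl a')
  have e1 : pl a ≠ pl (Sum.inl k : Fin m ⊕ Fin m) := fun h => hka h.symm
  have e2 : pl (Sum.inl k : Fin m ⊕ Fin m) ≠ pl a := hka
  have e3 : pl (Sum.inl k : Fin m ⊕ Fin m) ≠ pl a' := hka'
  have e4 : pl a' ≠ pl (Sum.inl k : Fin m ⊕ Fin m) := fun h => hka' h.symm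
  have h1 : sr (eb a) (eb (Sum.inl k : Fin m ⊕ Fin m)) t ∈ H := step2 hM hm hac e1 ht
  have h2 : sr (eb (Sum.inl k : Fin m ⊕ Fin m)) (eb a) t ∈ H := step_swap e1 h1
  have h3 : sr (eb (Sum.inl k : Fin m ⊕ Fin m)) (eb a') t ∈ H := step2 hM hm e2 e3 h2
  have h4 : sr (eb a') (eb (Sum.inl k : Fin m ⊕ Fin m)) t ∈ H := step_swap e3 h3
  exact step2 hM hm e4 hac' h4

end Cfsg.Agent.Lib.H14.SpSub
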