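import Cfsg.Agent.Lib.H14.SpSubV3a
import Cfsg.Agent.Lib.H10.SfB

/-!
# S5650 farm-out, task V3b: the coefficient set `Lam H` is a subalgebra; the dichotomy
-/

set_option autoImplicit false

namespace Cfsg.Agent.Lib.H14.SpSub

open Matrix
open Cfsg.Agent.Lib.H11.SubspMax
open Cfsg.Agent.Lib.H15.SpSub

variable {F : Type*} [Field F] {m : ℕ} {F₀ : Subfield F}
variable {H : Subgroup (GL (Fin m ⊕ Fin m) F)}

/-- rational coefficients lie in `Lam H` -/
theorem Lam_of_mem (hM : M0 m F₀ ≤ H) {t : F} (ht : t ∈ F₀) : t ∈ Lam H :=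
  fun a c _ => hM (sr_mem_M0 (eb_rat a) (eb_rat c) ht)

theorem Lam_add {s t : F} (hs : s ∈ Lam H) (ht : t ∈ Lam H) : s + t ∈ Lam H := by
  intro a c hac
  rw [sr_add (B_eb_eb_of_pl hac)]
  exact H.mul_mem (hs a c hac) (ht a c hac)

/-- `Lam H` is closed under products -/
theorem Lam_mul (hm : 3 ≤ m) {s t : F} (hs : s ∈ Lam H) (ht : t ∈ Lam H) : s * t ∈ Lam H := by
  intro a c hac
  obtain ⟨k, hka, hkc⟩ := exists_ne_ne hm (pl a) (pl c)
  have e1 : pl a ≠ pl (Sum.inl k : Fin m ⊕ Fin m) := fun h => hka h.symm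
  have e1' : pl a ≠ pl (Sum.inr k : Fin m ⊕ Fin m) := fun h => hka h.symm
  have e2 : pl (Sum.inl k : Fin m ⊕ Fin m) ≠ pl c := hkc
  have e2' : pl (Sum.inr k : Fin m ⊕ Fin m) ≠ pl c := hkc
  have h1 : sr (eb a) (eb (Sum.inl k : Fin m ⊕ Fin m)) s ∈ H := hs _ _ e1
  have h2 : sr (eb (Sum.inr k : Fin m ⊕ Fin m)) (eb c) t ∈ H := ht _ _ e2'
  have h3 := sr_commutator (u := eb a) (z := eb (Sum.inl k : Fin m ⊕ Fin m))
    (z' := eb (Sum.inr k : Fin m ⊕ Fin m)) (v := eb c)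
    (B_eb_eb_of_pl e1) (B_eb_eb_of_pl e1') (B_eb_eb_of_pl hac) (B_eb_eb_of_pl e2)
    (B_eb_eb_of_pl e2') s t
  have h4 : Cfsg.sympForm m F (eb (Sum.inl k : Fin m ⊕ Fin m)) (eb (Sum.inr k : Fin m ⊕ Fin m))
      = -1 := by
    have := B_eb_swap' (F := F) (Sum.inl k : Fin m ⊕ Fin m)
    simpa [sg] using this
  rw [h4] at h3
  have h5 : -(s * t * -1) = s * t := by ring
  rw [h5] at h3
  rw [← h3]
  exact H.mul_mem (H.mul_mem (H.mul_mem h1 h2) (H.inv_mem h1)) (H.inv_mem h2)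

/-- **V3b** closure under rational multiples -/
theorem Lam_smul_mem (hM : M0 m F₀ ≤ H) (hm : 3 ≤ m) {s t : F} (hs : s ∈ F₀) (ht : t ∈ Lam H) :
    s * t ∈ Lam H :=
  Lam_mul hm (Lam_of_mem hM hs) ht

/-- the coefficient subalgebra -/
def LamAlg (hM : M0 m F₀ ≤ H) (hm : 3 ≤ m) : Subalgebra F₀ F where
  carrier := Lam H
  mul_mem' := fun hs ht => Lam_mul hm hs ht
  add_mem' := fun hs ht => Lam_add hs ht
  algebraMap_mem' := fun c => Lam_of_mem hM c.2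

/-- **V3b** the dichotomy -/
theorem Lam_dichotomy [Fintype F] (hM : M0 m F₀ ≤ H) (hm : 3 ≤ m) {r : ℕ} (hr : r.Prime)
    (hcard : Fintype.card F = Nat.card F₀ ^ r) :
    (∀ t ∈ Lam H, t ∈ F₀) ∨ (∀ t : F, t ∈ Lam H) := by
  have hp : (Module.finrank F₀ F).Prime := by
    rw [Cfsg.Agent.Lib.H10.Sf.finrank_eq hcard]; exact hr
  have := Subalgebra.isSimpleOrder_of_finrank_prime F₀ F hp
  rcases this.eq_bot_or_eq_top (LamAlg hM hm) with h | h
  · left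
    intro c hc
    have : c ∈ LamAlg hM hm := hc
    rw [h, Algebra.mem_bot] at this
    obtain ⟨x, rfl⟩ := this
    exact x.2
  · right
    intro c
    have : c ∈ LamAlg hM hm := by rw [h]; exact Algebra.mem_top
    exact this

end Cfsg.Agent.Lib.H14.SpSub
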