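import Cfsg.Agent.Lib.H15.SpSubA

/-!
# S5650 farm-out, task V4a: the extraction lemma
-/

set_option autoImplicit false

namespace Cfsg.Agent.Lib.H14.SpSub

open Matrix
open Cfsg.Agent.Lib.H11.SubspMax
open Cfsg.Agent.Lib.H15.SpSub
open Cfsg.Agent.Lib.H4 (sympForm_self sympForm_add_left sympForm_add_right sympForm_smul_left
  sympForm_smul_right sympForm_swap)

variable {F : Type*} [Field F] {m : ℕ} {F₀ : Subfield F}
variable {H : Subgroup (GL (Fin m ⊕ Fin m) F)}

/-- conjugating `sr n v β * stv n κ` by a symplectic `g` fixing `n` -/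
theorem conj_sr_stv (g : GL (Fin m ⊕ Fin m) F) (hg : g ∈ Cfsg.spGL m F)
    {n : Fin m ⊕ Fin m → F} (hgn : (g : Matrix _ _ F) *ᵥ n = n) (v : Fin m ⊕ Fin m → F)
    (β κ : F) :
    g * (sr n v β * stv n κ) * g⁻¹ = sr n ((g : Matrix _ _ F) *ᵥ v) β * stv n κ := by
  have h1 := sr_conj g hg n v β
  have h2 := conj_stv g hg n κ
  rw [hgn] at h1 h2
  have h3 : g * (sr n v β * stv n κ) * g⁻¹ = (g * sr n v β * g⁻¹) * (g * stv n κ * g⁻¹) := by
    group
  rw [h3, ← h1, ← h2]

/-- **V4a** the extraction lemma -/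
theorem extract (hM : M0 m F₀ ≤ H) {n n' w z e : Fin m ⊕ Fin m → F} {β κ : F}
    (hnn' : Cfsg.sympForm m F n n' = 0) (hX : sr n n' β * stv n κ ∈ H)
    (hw : IsRat F₀ w) (hz : IsRat F₀ z) (he : IsRat F₀ e)
    (hnw : Cfsg.sympForm m F n w = 0) (hnz : Cfsg.sympForm m F n z = 0)
    (hne : Cfsg.sympForm m F n e = 0) (hwe : Cfsg.sympForm m F w e = 0)
    (hze : Cfsg.sympForm m F z e = 0) :
    sr n e (β * Cfsg.sympForm m F n' w * Cfsg.sympForm m F w z) ∈ H := by
  set lam : F := Cfsg.sympForm m F n' w with hlam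
  set mu : F := Cfsg.sympForm m F w z with hmu
  have hez : Cfsg.sympForm m F e z = 0 := sympForm_eq_swap hze
  -- first conjugation
  have hg1 : stv w (1 : F) ∈ H := hM (stv_mem_M0 hw F₀.one_mem)
  have hg1n : (stv w (1 : F) : Matrix _ _ F) *ᵥ n = n := stv_fix hnw 1
  have hg1n' : (stv w (1 : F) : Matrix _ _ F) *ᵥ n' = n' + lam • w := by
    rw [stv_mulVec, one_mul]
  have hnlw : Cfsg.sympForm m F n (lam • w) = 0 := by
    rw [sympForm_smul_right, hnw, mul_zero]
  have hY : sr n (lam • w) β * stv n (-(β * β * Cfsg.sympForm m F n' (lam • w))) ∈ H := by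
    have h1 := conj_sr_stv (stv w (1 : F)) (stv_mem_spGL w 1) hg1n n' β κ
    rw [hg1n', sr_add_right hnn' hnlw β] at h1
    have h2 : sr n (lam • w) β * stv n (-(β * β * Cfsg.sympForm m F n' (lam • w))) =
        (stv w (1 : F) * (sr n n' β * stv n κ) * (stv w (1 : F))⁻¹) *
          (sr n n' β * stv n κ)⁻¹ := by
      rw [h1]; group
    rw [h2]
    exact H.mul_mem (H.mul_mem (H.mul_mem hg1 hX) (H.inv_mem hg1)) (H.inv_mem hX)
  -- second conjugation
  have hg2 : sr e z (1 : F) ∈ H := hM (sr_mem_M0 he hz F₀.one_mem)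
  have hg2n : (sr e z (1 : F) : Matrix _ _ F) *ᵥ n = n := by
    rw [sr_mulVec hez, hne, hnz]; module
  have hg2w : (sr e z (1 : F) : Matrix _ _ F) *ᵥ (lam • w) = lam • w + (lam * mu) • e := by
    rw [sr_mulVec hez, sympForm_smul_left, sympForm_smul_left, hwe, ← hmu]; module
  have hnle : Cfsg.sympForm m F n ((lam * mu) • e) = 0 := by
    rw [sympForm_smul_right, hne, mul_zero]
  have hwe' : Cfsg.sympForm m F (lam • w) ((lam * mu) • e) = 0 := by
    rw [sympForm_smul_left, sympForm_smul_right, hwe]; ring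
  have h3 := conj_sr_stv (sr e z (1 : F)) (sr_mem_spGL e z 1) hg2n (lam • w) β
    (-(β * β * Cfsg.sympForm m F n' (lam • w)))
  rw [hg2w, sr_add_right hnlw hnle β, hwe', mul_zero, neg_zero, stv_zero, mul_one,
    sr_smul_right hne] at h3
  have h4 : sr n e (β * lam * mu) =
      (sr e z (1 : F) * (sr n (lam • w) β * stv n (-(β * β * Cfsg.sympForm m F n' (lam • w)))) *
        (sr e z (1 : F))⁻¹) *
        (sr n (lam • w) β * stv n (-(β * β * Cfsg.sympForm m F n' (lam • w))))⁻¹ := by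
    rw [h3]
    have : lam * mu * β = β * lam * mu := by ring
    rw [this]
    group
  rw [h4]
  exact H.mul_mem (H.mul_mem (H.mul_mem hg2 hY) (H.inv_mem hg2)) (H.inv_mem hY)

end Cfsg.Agent.Lib.H14.SpSub
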