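import Mathlib
import Cfsg.Prelude.Def_SporadicCombinatorics

set_option autoImplicit false

namespace Cfsg.Agent.Lib.H14.StabTransp

open Cfsg
open scoped Pointwise

/-- transport of a normal subgroup of exponent two along an isomorphism -/
theorem exists_normal_transport {A B : Type*} [Group A] [Group B] (ψ : A ≃* B) {n : ℕ}
    (h : ∃ N : Subgroup A, N.Normal ∧ Nat.card N = n ∧ ∀ x ∈ N, x * x = 1) :
    ∃ N : Subgroup B, N.Normal ∧ Nat.card N = n ∧ ∀ x ∈ N, x * x = 1 := by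
  obtain ⟨N, hN, hc, he⟩ := h
  refine ⟨N.map ψ.toMonoidHom, hN.map _ ψ.surjective, ?_, ?_⟩
  · rw [← hc]
    exact Nat.card_congr (N.equivMapOfInjective _ ψ.injective).symm.toEquiv
  · rintro _ ⟨x, hx, rfl⟩
    rw [← map_mul, he x hx, map_one]

/-- transport of a normal subgroup of exponent two with given quotient along an isomorphism -/
theorem exists_normal_quot_transport {A B Q : Type*} [Group A] [Group B] [Group Q] (ψ : A ≃* B) {n : ℕ}
    (h : ∃ (N : Subgroup A) (_ : N.Normal), Nat.card N = n ∧ (∀ x ∈ N, x * x = 1) ∧ Nonempty (A ⧸ N ≃* Q)) :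
    ∃ (N : Subgroup B) (_ : N.Normal), Nat.card N = n ∧ (∀ x ∈ N, x * x = 1) ∧ Nonempty (B ⧸ N ≃* Q) := by
  obtain ⟨N, hN, hc, he, ⟨φ⟩⟩ := h
  have : (N.map ψ.toMonoidHom).Normal := hN.map _ ψ.surjective
  refine ⟨N.map ψ.toMonoidHom, inferInstance, ?_, ?_, ?_⟩
  · rw [← hc]
    exact Nat.card_congr (N.equivMapOfInjective _ ψ.injective).symm.toEquiv
  · rintro _ ⟨x, hx, rfl⟩
    rw [← map_mul, he x hx, map_one]
  · exact ⟨(QuotientGroup.congr N (N.map ψ.toMonoidHom) ψ rfl).symm.trans φ⟩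

variable (S : Finset (Finset GolayPt)) (g0 : ↥M24)

/-- transport of "every permutation of the members is induced" along conjugation -/
theorem perm_transport
    (h : ∀ e : Equiv.Perm ↥S, ∃ g ∈ MulAction.stabilizer ↥M24 S, ∀ t : ↥S,
      ((g : ↥M24) : Equiv.Perm GolayPt) • (t : Finset GolayPt) = ((e t : ↥S) : Finset GolayPt)) :
    ∀ e : Equiv.Perm ↥(g0 • S), ∃ g ∈ MulAction.stabilizer ↥M24 (g0 • S), ∀ t : ↥(g0 • S),
      ((g : ↥M24) : Equiv.Perm GolayPt) • (t : Finset GolayPt) = ((e t : ↥(g0 • S)) : Finset GolayPt) := by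
  intro e'
  have hmem : ∀ t' : ↥(g0 • S), g0⁻¹ • (t' : Finset GolayPt) ∈ S := fun t' =>
    Finset.inv_smul_mem_iff.2 t'.2
  let β : ↥S ≃ ↥(g0 • S) :=
    { toFun := fun t => ⟨g0 • (t : Finset GolayPt), Finset.smul_mem_smul_finset t.2⟩
      invFun := fun t' => ⟨g0⁻¹ • (t' : Finset GolayPt), hmem t'⟩
      left_inv := fun t => Subtype.ext (inv_smul_smul _ _)
      right_inv := fun t' => Subtype.ext (smul_inv_smul _ _) }
  obtain ⟨g, hg, hgt⟩ := h ((β.trans e').trans β.symm)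
  refine ⟨g0 * g * g0⁻¹, ?_, ?_⟩
  · rw [MulAction.mem_stabilizer_iff] at hg ⊢
    rw [mul_smul, mul_smul, inv_smul_smul, hg]
  · intro t'
    have h1 := hgt (β.symm t')
    show (g0 * g * g0⁻¹) • (t' : Finset GolayPt) = _
    rw [mul_smul, mul_smul]
    have h2 : g • (g0⁻¹ • (t' : Finset GolayPt)) = g0⁻¹ • ((e' t' : ↥(g0 • S)) : Finset GolayPt) := by
      have h3 : (((β.trans e').trans β.symm) (β.symm t') : ↥S) = β.symm (e' t') := by
        simp
      rw [h3] at h1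
      exact h1
    rw [h2, smul_inv_smul]

end Cfsg.Agent.Lib.H14.StabTransp
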