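import Cfsg.Agent.Lib.H14.Large
import Cfsg.Prelude.Def_EvenType

/-! Strongly `p`-embedded subgroups (`Cfsg.IsStronglyPEmbedded`): basic tools. -/

set_option autoImplicit false

namespace Cfsg.Agent.Lib.H14

/-- normalizer condition for a `p`-subgroup, relative form. -/
theorem exists_normalizing_of_lt {G : Type*} [Group G] [Finite G] {p : ℕ} [Fact p.Prime]
    (R₀ R : Subgroup G) (hR : IsPGroup p R) (hlt : R₀ < R) :
    ∃ x ∈ R, x ∉ R₀ ∧ x ∈ Subgroup.normalizer (R₀ : Set G) := by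
  have hlt' : R₀.subgroupOf R < ⊤ := by
    rw [lt_top_iff_ne_top]
    intro htop
    apply hlt.ne
    apply le_antisymm hlt.le
    intro r hr
    have h0 : (⟨r, hr⟩ : ↥R) ∈ R₀.subgroupOf R := by rw [htop]; exact Subgroup.mem_top _
    exact h0
  have hnil : Group.IsNilpotent ↥R := hR.isNilpotent
  have hnc : NormalizerCondition ↥R := Group.normalizerCondition_of_isNilpotent
  obtain ⟨x, hxn, hxS⟩ := SetLike.exists_of_lt (hnc _ hlt')
  refine ⟨x, x.2, hxS, ?_⟩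
  rw [Subgroup.mem_normalizer_iff] at hxn ⊢
  intro n
  constructor
  · intro hn
    exact (hxn ⟨n, hlt.le hn⟩).mp hn
  · intro hn
    have hnR : n ∈ R := by
      have h4 := R.mul_mem (R.mul_mem (R.inv_mem x.2) (hlt.le hn)) x.2
      have e : (x : G)⁻¹ * ((x : G) * n * (x : G)⁻¹) * (x : G) = n := by group
      rw [e] at h4
      exact h4
    exact (hxn ⟨n, hnR⟩).mpr hn

theorem not_pRankLE_zero {G : Type*} [Group G] [Finite G] {p : ℕ} [Fact p.Prime] (Q : Subgroup G)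
    (hQ : IsPGroup p Q) (hQ1 : Q ≠ ⊥) : ¬ Cfsg.PRankLE p 0 ↥Q := by
  intro h
  have hnt : Nontrivial ↥Q := (Subgroup.nontrivial_iff_ne_bot Q).mpr hQ1
  have hdvd : p ∣ Nat.card ↥Q := by
    rcases hQ.card_eq_or_dvd with h1 | h1
    · exact absurd h1 (Finite.one_lt_card (α := ↥Q)).ne'
    · exact h1
  obtain ⟨x, hx⟩ := exists_prime_orderOf_dvd_card' p hdvd
  have h2 := h (Subgroup.zpowers x) inferInstance (by
    intro a ha
    obtain ⟨k, rfl⟩ := Subgroup.mem_zpowers_iff.mp ha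
    rw [← zpow_natCast, ← zpow_mul, mul_comm, zpow_mul, zpow_natCast, ← hx, pow_orderOf_eq_one,
      one_zpow])
  rw [Nat.card_zpowers, hx, pow_zero] at h2
  exact absurd h2 (not_le.mpr (Fact.out : p.Prime).one_lt)

theorem nzr_le_kGeneratedCore {G : Type*} [Group G] [Finite G] {p : ℕ} [Fact p.Prime]
    (P Q : Subgroup G) (hP : IsPGroup p P) (hQP : Q ≤ P) (hQ1 : Q ≠ ⊥) :
    Subgroup.normalizer (Q : Set G) ≤ Cfsg.kGeneratedCore p 1 P := by
  unfold Cfsg.kGeneratedCore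
  exact le_iSup (fun Q : {Q : Subgroup G // Q ≤ P ∧ ¬ Cfsg.PRankLE p (1 - 1) Q} =>
    Subgroup.normalizer ((Q : Subgroup G) : Set G))
    ⟨Q, hQP, by
      have h0 := not_pRankLE_zero Q (hP.to_le hQP) hQ1
      simpa using h0⟩

/-- The Sylow subgroup in the definition lies in `H`. -/
theorem strEmb_sylow {G : Type*} [Group G] [Finite G] {p : ℕ} [Fact p.Prime] (H : Subgroup G)
    (hH : Cfsg.IsStronglyPEmbedded p H) :
    ∃ P : Sylow p G, (P : Subgroup G) ≤ H ∧ (P : Subgroup G) ≠ ⊥ ∧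
      ∀ Q : Subgroup G, Q ≤ (P : Subgroup G) → Q ≠ ⊥ → Subgroup.normalizer (Q : Set G) ≤ H := by
  obtain ⟨hdvd, _, P, hP⟩ := hH
  have hP1 : (P : Subgroup G) ≠ ⊥ := P.ne_bot_of_dvd_card hdvd
  have key : ∀ Q : Subgroup G, Q ≤ (P : Subgroup G) → Q ≠ ⊥ →
      Subgroup.normalizer (Q : Set G) ≤ H :=
    fun Q hQP hQ1 => le_trans (nzr_le_kGeneratedCore (P : Subgroup G) Q P.2 hQP hQ1) hP
  have hPN : (P : Subgroup G) ≤ Subgroup.normalizer (((P : Subgroup G)) : Set G) :=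
    Subgroup.le_normalizer
  have hPH : (P : Subgroup G) ≤ H := hPN.trans (key (P : Subgroup G) le_rfl hP1)
  exact ⟨P, hPH, hP1, key⟩

/-- L2: normalizers of nontrivial `p`-subgroups of `H` lie in `H`. -/
theorem strEmb_nzr_le {G : Type*} [Group G] [Finite G] {p : ℕ} [Fact p.Prime] (H : Subgroup G)
    (hH : Cfsg.IsStronglyPEmbedded p H) (Q : Subgroup G) (hQH : Q ≤ H) (hQp : IsPGroup p Q)
    (hQ1 : Q ≠ ⊥) : Subgroup.normalizer (Q : Set G) ≤ H := by
  obtain ⟨P, hPH, _, key⟩ := strEmb_sylow H hH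
  obtain ⟨S, hS⟩ := (hQp.comap_subtype (K := H)).exists_le_sylow
  obtain ⟨h, rfl⟩ := MulAction.exists_smul_eq ↥H (P.subtype hPH) S
  have h1 : Q ≤ (P : Subgroup G).map (cj (h : G)) := by
    have e : ((P.subtype hPH : Sylow p ↥H) : Subgroup ↥H).map H.subtype = (P : Subgroup G) := by
      rw [Sylow.coe_subtype, Subgroup.map_subgroupOf_eq_of_le hPH]
    rw [← e, ← sylow_smul_map_subtype]
    intro q hq
    exact ⟨⟨q, hQH hq⟩, hS hq, rfl⟩
  have h2 : Q.map (cj (h : G)⁻¹) ≤ (P : Subgroup G) := by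
    rw [map_cj_le_iff, inv_inv]; exact h1
  have h3 : Q.map (cj (h : G)⁻¹) ≠ ⊥ := by
    intro hb
    apply hQ1
    rw [← map_cj_cj_inv Q (h : G)⁻¹, hb, Subgroup.map_bot]
  have h4 := key _ h2 h3
  have h5 := Subgroup.map_mono (f := cj (h : G)) h4
  rw [← nzr_map_cj, map_cj_inv_cj, map_cj_eq_of_mem_nzr H (h : G) (Subgroup.le_normalizer h.2)] at h5
  exact h5

/-- L3: a `p`-subgroup meeting `H` nontrivially lies in `H`. -/
theorem strEmb_le_of_inf_ne_bot {G : Type*} [Group G] [Finite G] {p : ℕ} [Fact p.Prime]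
    (H : Subgroup G) (hH : Cfsg.IsStronglyPEmbedded p H) (R : Subgroup G) (hR : IsPGroup p R)
    (hRH : R ⊓ H ≠ ⊥) : R ≤ H := by
  by_contra hne
  have hlt : R ⊓ H < R := lt_of_le_of_ne inf_le_left (fun h => hne (h ▸ inf_le_right))
  obtain ⟨x, hxR, hx0, hxn⟩ := exists_normalizing_of_lt _ R hR hlt
  apply hx0
  exact ⟨hxR, strEmb_nzr_le H hH _ inf_le_right (hR.to_le inf_le_left) hRH hxn⟩

/-- L4. -/
theorem strEmb_mem_of_conj {G : Type*} [Group G] [Finite G] {p : ℕ} [Fact p.Prime]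
    (H : Subgroup G) (hH : Cfsg.IsStronglyPEmbedded p H) (Y : Subgroup G) (hYp : IsPGroup p Y)
    (hY1 : Y ≠ ⊥) (hYH : Y ≤ H) (u : G) (hu : Y.map (cj u) ≤ H) : u ∈ H := by
  obtain ⟨S, hS⟩ := hYp.exists_le_sylow
  have hne : ∀ A B : Subgroup G, A ≠ ⊥ → A ≤ B → B ≠ ⊥ := by
    intro A B hA hAB hB
    exact hA (le_bot_iff.mp (hB ▸ hAB))
  have h1 : (S : Subgroup G) ≤ H :=
    strEmb_le_of_inf_ne_bot H hH S S.2 (hne Y _ hY1 (le_inf hS hYH))
  have hYu1 : Y.map (cj u) ≠ ⊥ := by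
    intro hb
    apply hY1
    rw [← map_cj_cj_inv Y u, hb, Subgroup.map_bot]
  have h2 : ((u • S : Sylow p G) : Subgroup G) ≤ H := by
    apply strEmb_le_of_inf_ne_bot H hH _ (u • S).2
    apply hne _ _ hYu1
    refine le_inf ?_ hu
    rw [sylow_smul_coe]
    exact Subgroup.map_mono hS
  obtain ⟨a, ha, hau⟩ := exists_mul_mem_normalizer_of_le H S u h1 h2
  have hS1 : (S : Subgroup G) ≠ ⊥ := hne Y _ hY1 hS
  have h3 := strEmb_nzr_le H hH S h1 S.2 hS1 hau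
  have h4 := H.mul_mem ha h3
  have e : a * (a⁻¹ * u) = u := by group
  rw [e] at h4
  exact h4

end Cfsg.Agent.Lib.H14
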