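import Cfsg.Agent.Lib.H14.YMin

/-! Subnormal closure: basic tools. -/

set_option autoImplicit false

namespace Cfsg.Agent.Lib.H14

theorem isSubnormal_sInf_of_finite {G : Type*} [Group G] [Finite G] (S : Set (Subgroup G))
    (h : ∀ K ∈ S, K.IsSubnormal) : (sInf S).IsSubnormal := by
  have hfin : S.Finite := Set.toFinite S
  induction S, hfin using Set.Finite.induction_on with
  | empty => rw [sInf_empty]; exact Subgroup.IsSubnormal.top
  | insert _ _ ih =>
    rw [sInf_insert]
    exact (h _ (Set.mem_insert _ _)).inf (ih fun K hK => h K (Set.mem_insert_of_mem _ hK))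

theorem subnormalClosure_isSubnormal {H : Type*} [Group H] [Finite H] (A : Subgroup H) :
    (Cfsg.subnormalClosure A).IsSubnormal :=
  isSubnormal_sInf_of_finite _ fun _ hK => hK.2

theorem le_subnormalClosure {H : Type*} [Group H] (A : Subgroup H) :
    A ≤ Cfsg.subnormalClosure A :=
  le_sInf fun _ hK => hK.1

theorem subnormalClosure_le {H : Type*} [Group H] (A B : Subgroup H) (hB : B.IsSubnormal)
    (hAB : A ≤ B) : Cfsg.subnormalClosure A ≤ B :=
  sInf_le ⟨hAB, hB⟩

theorem isSubnormal_of_normalizerCondition {G : Type*} [Group G] [Finite G]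
    (hnc : NormalizerCondition G) (B : Subgroup G) : B.IsSubnormal := by
  induction B using WellFoundedGT.induction with
  | ind B ih =>
    by_cases hB : B = ⊤
    · rw [hB]; exact Subgroup.IsSubnormal.top
    · have hlt := hnc B (lt_top_iff_ne_top.mpr hB)
      exact Subgroup.IsSubnormal.step B _ hlt.le (ih _ hlt) Subgroup.normal_in_normalizer

theorem isSubnormal_of_isPGroup {G : Type*} [Group G] [Finite G] {p : ℕ} [Fact p.Prime]
    (hG : IsPGroup p G) (B : Subgroup G) : B.IsSubnormal := by
  have hnil : Group.IsNilpotent G := hG.isNilpotent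
  exact isSubnormal_of_normalizerCondition Group.normalizerCondition_of_isNilpotent B

theorem isSubnormal_of_pResidual_le {K : Type*} [Group K] [Finite K] {p : ℕ} [Fact p.Prime]
    (B : Subgroup K) (h : Cfsg.pResidual p K ≤ B) : B.IsSubnormal := by
  have hn : (Cfsg.pResidual p K).Normal := pResidual_normal'
  have hq : IsPGroup p (K ⧸ Cfsg.pResidual p K) := pResidual_quotient_isPGroup
  have h1 := isSubnormal_of_isPGroup hq (B.map (QuotientGroup.mk' (Cfsg.pResidual p K)))
  have h2 := h1.comap (QuotientGroup.mk' (Cfsg.pResidual p K))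
  rw [Subgroup.comap_map_eq, QuotientGroup.ker_mk', sup_eq_left.mpr h] at h2
  exact h2

end Cfsg.Agent.Lib.H14
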