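import Cfsg.Agent.Lib.H28.WordChain
import Cfsg.Agent.Lib.H28.KeyOrbit
import Cfsg.Agent.Lib.H28.M24Octad
import Cfsg.Agent.Lib.H28.M24OctadOrbits
import Cfsg.Agent.Lib.H28.M24OctadPair
import Cfsg.Agent.Lib.H14.M24SylGen
import Cfsg.Agent.Lib.H28.M12

set_option autoImplicit false

/-!
Certificates for small 2-subgroups of `M24` given by generating words and an explicit list of tables (helper14):
the centre, fusion chains, and the normalizer via invariant flags on the octad fixed by the central involution.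
-/

namespace Cfsg.Agent.Lib.H14.SylCert

open Cfsg Cfsg.Agent.Lib.H28
open scoped Pointwise

/-! ### tables -/

/-- `t` is the table of the permutation `g` -/
def IsTab (g : Equiv.Perm GolayPt) (t : List ℕ) : Prop := ∀ p, gIdx (g p) = t.getD (gIdx p) 0

/-- composition of tables -/
def compT (a b : List ℕ) : List ℕ := (List.range 24).map (fun k => a.getD (b.getD k 0) 0)

def idT : List ℕ := List.range 24

theorem getD_map_range (f : ℕ → ℕ) {k : ℕ} (hk : k < 24) : ((List.range 24).map f).getD k 0 = f k := by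
  rw [List.getD_eq_getElem _ _ (by simpa using hk)]
  simp

theorem isTab_wordPerm (w : List ℕ) : IsTab (wordPerm w) (wordTab w) := wordTab_spec w

theorem isTab_one : IsTab 1 idT := by
  intro p
  unfold idT
  rw [Equiv.Perm.one_apply, List.getD_eq_getElem _ _ (by simpa using gIdx_lt p)]
  simp

theorem isTab_mul {g h : Equiv.Perm GolayPt} {a b : List ℕ} (ha : IsTab g a) (hb : IsTab h b) :
    IsTab (g * h) (compT a b) := by
  intro p
  unfold compT
  rw [getD_map_range _ (gIdx_lt p), Equiv.Perm.mul_apply, ha, hb]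

theorem eq_of_isTab {g h : Equiv.Perm GolayPt} {t : List ℕ} (hg : IsTab g t) (hh : IsTab h t) : g = h := by
  apply Equiv.ext
  intro p
  apply gIdx_injective
  rw [hg, hh]

theorem isTab_apply_gPt {g : Equiv.Perm GolayPt} {t : List ℕ} (hg : IsTab g t) {i : ℕ} (hi : i < 24) :
    g (gPt i) = gPt (t.getD i 0) := by
  apply gIdx_injective
  have h1 := hg (gPt i)
  rw [gIdx_gPt hi] at h1
  have h2 : t.getD i 0 < 24 := by rw [← h1]; exact gIdx_lt _
  rw [h1, gIdx_gPt h2]

theorem isTab_lt {g : Equiv.Perm GolayPt} {t : List ℕ} (hg : IsTab g t) {i : ℕ} (hi : i < 24) :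
    t.getD i 0 < 24 := by
  have h1 := hg (gPt i)
  rw [gIdx_gPt hi] at h1
  rw [← h1]; exact gIdx_lt _

theorem isTab_fix_iff {g : Equiv.Perm GolayPt} {t : List ℕ} (hg : IsTab g t) {i j : ℕ} (hi : i < 24) (hj : j < 24) :
    g (gPt i) = gPt j ↔ t.getD i 0 = j := by
  rw [isTab_apply_gPt hg hi]
  constructor
  · intro h
    have := congrArg gIdx h
    rwa [gIdx_gPt (isTab_lt hg hi), gIdx_gPt hj] at this
  · intro h; rw [h]

/-- equality of tables on the 24 points -/
def eqT (a b : List ℕ) : Bool := (List.range 24).all (fun k => a.getD k 0 == b.getD k 0)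

theorem eqT_spec {a b : List ℕ} (h : eqT a b = true) {k : ℕ} (hk : k < 24) : a.getD k 0 = b.getD k 0 := by
  unfold eqT at h
  rw [List.all_eq_true] at h
  have := h k (List.mem_range.2 hk)
  rwa [beq_iff_eq] at this

theorem isTab_of_eqT {g : Equiv.Perm GolayPt} {a b : List ℕ} (hg : IsTab g a) (h : eqT a b = true) : IsTab g b := by
  intro p
  rw [hg, eqT_spec h (gIdx_lt p)]

/-- membership of a table in a list, up to agreement on the 24 points -/
def memT (t : List ℕ) (tabs : List (List ℕ)) : Bool := tabs.any (fun u => eqT t u)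

theorem memT_spec {g : Equiv.Perm GolayPt} {t : List ℕ} {tabs : List (List ℕ)} (hg : IsTab g t)
    (h : memT t tabs = true) : ∃ u ∈ tabs, IsTab g u := by
  unfold memT at h
  rw [List.any_eq_true] at h
  obtain ⟨u, hu, he⟩ := h
  exact ⟨u, hu, isTab_of_eqT hg he⟩

/-! ### the data -/

/-- the data: generating words, the elements as products of generators, and their tables -/
structure Data where
  tws : List (List ℕ)
  elts : List (List ℕ)
  tabs : List (List ℕ)

/-- the basic checks: the tables are those of the elements, contain the identity and are closed under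
multiplication on the left by the generators and their inverses -/
def Data.basicB (D : Data) : Bool :=
  (D.tabs == D.elts.map (fun m => wordTab (metaFlat D.tws m))) && memT idT D.tabs &&
  D.tws.all (fun w => D.tabs.all (fun t => memT (compT (wordTab w) t) D.tabs &&
    memT (compT (wordTab (invWord w)) t) D.tabs))

/-- the subgroup generated -/
noncomputable def Data.S0 (D : Data) : Subgroup (Equiv.Perm GolayPt) := wordsClosure D.tws

theorem Data.exists_tab (D : Data) (h : D.basicB = true) {g : Equiv.Perm GolayPt} (hg : g ∈ D.S0) :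
    ∃ t ∈ D.tabs, IsTab g t := by
  unfold Data.basicB at h
  rw [Bool.and_eq_true, Bool.and_eq_true, List.all_eq_true] at h
  obtain ⟨⟨-, h1⟩, h2⟩ := h
  unfold Data.S0 wordsClosure at hg
  induction hg using Subgroup.closure_induction_left with
  | one => exact memT_spec isTab_one h1
  | mul_left x hx y _ ih =>
    obtain ⟨w, hw, rfl⟩ := hx
    obtain ⟨t, ht, hyt⟩ := ih
    have := h2 w hw
    rw [List.all_eq_true] at this
    have := this t ht
    rw [Bool.and_eq_true] at this
    exact memT_spec (isTab_mul (isTab_wordPerm w) hyt) this.1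
  | inv_mul_cancel x hx y _ ih =>
    obtain ⟨w, hw, rfl⟩ := hx
    obtain ⟨t, ht, hyt⟩ := ih
    have := h2 w hw
    rw [List.all_eq_true] at this
    have := this t ht
    rw [Bool.and_eq_true] at this
    rw [← wordPerm_invWord]
    exact memT_spec (isTab_mul (isTab_wordPerm (invWord w)) hyt) this.2

theorem Data.exists_elt (D : Data) (h : D.basicB = true) {t : List ℕ} (ht : t ∈ D.tabs) :
    ∃ g ∈ D.S0, IsTab g t := by
  unfold Data.basicB at h
  rw [Bool.and_eq_true, Bool.and_eq_true, beq_iff_eq] at h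
  obtain ⟨⟨h0, -⟩, -⟩ := h
  rw [h0, List.mem_map] at ht
  obtain ⟨m, _, rfl⟩ := ht
  exact ⟨wordPerm (metaFlat D.tws m), wordPerm_metaFlat_mem D.tws m, isTab_wordPerm _⟩

/-! ### the order of the generated subgroup -/

/-- the tables are pairwise distinct -/
def Data.distinctB (D : Data) : Bool :=
  (List.range D.tabs.length).all (fun i => (List.range D.tabs.length).all (fun j =>
    decide (i = j) || !(eqT (D.tabs.getD i []) (D.tabs.getD j []))))

theorem Data.card_ge (D : Data) (h : D.basicB = true) (hd : D.distinctB = true) :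
    D.tabs.length ≤ Nat.card ↥D.S0 := by
  have hex : ∀ i : Fin D.tabs.length, ∃ g : ↥D.S0, IsTab g.1 (D.tabs.getD i.val []) := by
    intro i
    have hm : D.tabs.getD i.val [] ∈ D.tabs := by
      rw [List.getD_eq_getElem _ _ i.2]
      exact List.getElem_mem _
    obtain ⟨g, hg, hgt⟩ := D.exists_elt h hm
    exact ⟨⟨g, hg⟩, hgt⟩
  choose f hf using hex
  have hinj : Function.Injective f := by
    intro i j hij
    unfold Data.distinctB at hd
    rw [List.all_eq_true] at hd
    have h1 := hd i.val (List.mem_range.2 i.2)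
    rw [List.all_eq_true] at h1
    have h2 := h1 j.val (List.mem_range.2 j.2)
    rw [Bool.or_eq_true, decide_eq_true_eq] at h2
    rcases h2 with h2 | h2
    · exact Fin.ext h2
    · exfalso
      rw [Bool.not_eq_true'] at h2
      have h3 : eqT (D.tabs.getD i.val []) (D.tabs.getD j.val []) = true := by
        unfold eqT
        rw [List.all_eq_true]
        intro k hk
        rw [List.mem_range] at hk
        rw [beq_iff_eq]
        have e1 := hf i (gPt k)
        have e2 := hf j (gPt k)
        rw [gIdx_gPt hk] at e1 e2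
        rw [← e1, ← e2, hij]
      rw [h3] at h2
      exact Bool.noConfusion h2
  have := Nat.card_le_card_of_injective f hinj
  rwa [Nat.card_eq_fintype_card, Fintype.card_fin] at this

/-! ### invariant relations -/

section Rel

variable (K : Subgroup (Equiv.Perm GolayPt))

/-- the stabilizer of `x` in `K` fixes `y` -/
def RelR (x y : GolayPt) : Prop := ∀ s ∈ K, s x = x → s y = y

/-- `x` and `y` lie in the same orbit of `K` -/
def RelO (x y : GolayPt) : Prop := ∃ s ∈ K, s x = y

/-- the stabilizer of `x` in `K` fixes the orbit of `x` pointwise -/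
def RelU (x : GolayPt) : Prop := ∀ s ∈ K, ∀ t ∈ K, t x = x → t (s x) = s x

/-- the first level relation -/
def RelE1 (x y : GolayPt) : Prop := RelO K x y ∨ (RelU K x ∧ RelU K y)

/-- the second level relation -/
def RelE2 (x y : GolayPt) : Prop := RelR K x y ∧ RelR K y x

variable {K}

theorem conj_inv_mem {n : Equiv.Perm GolayPt} (hn : n ∈ Subgroup.normalizer (K : Set (Equiv.Perm GolayPt)))
    {s : Equiv.Perm GolayPt} (hs : s ∈ K) : n⁻¹ * s * n ∈ K := by
  have := (Subgroup.mem_normalizer_iff.1 (Subgroup.inv_mem _ hn) s).1 hs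
  rwa [inv_inv] at this

theorem relR_smul {n : Equiv.Perm GolayPt} (hn : n ∈ Subgroup.normalizer (K : Set (Equiv.Perm GolayPt)))
    {x y : GolayPt} (h : RelR K x y) : RelR K (n x) (n y) := by
  intro s hs hsx
  have h1 := h _ (conj_inv_mem hn hs) (by
    rw [Equiv.Perm.mul_apply, Equiv.Perm.mul_apply, hsx, Equiv.Perm.inv_def, Equiv.symm_apply_apply])
  rw [Equiv.Perm.mul_apply, Equiv.Perm.mul_apply, Equiv.Perm.inv_def, Equiv.symm_apply_eq] at h1
  exact h1

theorem relO_smul {n : Equiv.Perm GolayPt} (hn : n ∈ Subgroup.normalizer (K : Set (Equiv.Perm GolayPt)))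
    {x y : GolayPt} (h : RelO K x y) : RelO K (n x) (n y) := by
  obtain ⟨s, hs, hsx⟩ := h
  refine ⟨n * s * n⁻¹, (Subgroup.mem_normalizer_iff.1 hn s).1 hs, ?_⟩
  rw [Equiv.Perm.mul_apply, Equiv.Perm.mul_apply, Equiv.Perm.inv_def, Equiv.symm_apply_apply, hsx]

theorem relU_smul {n : Equiv.Perm GolayPt} (hn : n ∈ Subgroup.normalizer (K : Set (Equiv.Perm GolayPt)))
    {x : GolayPt} (h : RelU K x) : RelU K (n x) := by
  intro s hs t ht htx
  have h1 := h _ (conj_inv_mem hn hs) _ (conj_inv_mem hn ht) (by
    rw [Equiv.Perm.mul_apply, Equiv.Perm.mul_apply, htx, Equiv.Perm.inv_def, Equiv.symm_apply_apply])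
  simp only [Equiv.Perm.mul_apply, Equiv.Perm.inv_def, Equiv.apply_symm_apply] at h1
  rw [Equiv.symm_apply_eq] at h1
  rw [Equiv.apply_symm_apply] at h1
  exact h1

theorem relE1_smul {n : Equiv.Perm GolayPt} (hn : n ∈ Subgroup.normalizer (K : Set (Equiv.Perm GolayPt)))
    {x y : GolayPt} (h : RelE1 K x y) : RelE1 K (n x) (n y) := by
  rcases h with h | ⟨h1, h2⟩
  · left; exact relO_smul hn h
  · right; exact ⟨relU_smul hn h1, relU_smul hn h2⟩

theorem relE2_smul {n : Equiv.Perm GolayPt} (hn : n ∈ Subgroup.normalizer (K : Set (Equiv.Perm GolayPt)))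
    {x y : GolayPt} (h : RelE2 K x y) : RelE2 K (n x) (n y) :=
  ⟨relR_smul hn h.1, relR_smul hn h.2⟩

theorem iff_of_smul {E : GolayPt → GolayPt → Prop}
    (hE : ∀ n ∈ Subgroup.normalizer (K : Set (Equiv.Perm GolayPt)), ∀ x y, E x y → E (n x) (n y))
    {n : Equiv.Perm GolayPt} (hn : n ∈ Subgroup.normalizer (K : Set (Equiv.Perm GolayPt))) (x y : GolayPt) :
    E (n x) (n y) ↔ E x y := by
  constructor
  · intro h
    have := hE n⁻¹ (Subgroup.inv_mem _ hn) _ _ h
    rwa [Equiv.Perm.inv_def, Equiv.symm_apply_apply, Equiv.symm_apply_apply] at this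
  · exact hE n hn x y

end Rel

/-! ### Boolean versions of the relations -/

def relRB (tabs : List (List ℕ)) (i j : ℕ) : Bool :=
  tabs.all (fun t => t.getD i 0 != i || t.getD j 0 == j)

def relOB (tabs : List (List ℕ)) (i j : ℕ) : Bool :=
  tabs.any (fun t => t.getD i 0 == j)

def relUB (tabs : List (List ℕ)) (i : ℕ) : Bool :=
  tabs.all (fun s => tabs.all (fun t => t.getD i 0 != i || t.getD (s.getD i 0) 0 == s.getD i 0))

def relE1B (tabs : List (List ℕ)) (i j : ℕ) : Bool :=
  relOB tabs i j || (relUB tabs i && relUB tabs j)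

def relE2B (tabs : List (List ℕ)) (i j : ℕ) : Bool :=
  relRB tabs i j && relRB tabs j i

theorem Data.relR_iff (D : Data) (h : D.basicB = true) {i j : ℕ} (hi : i < 24) (hj : j < 24) :
    RelR D.S0 (gPt i) (gPt j) ↔ relRB D.tabs i j = true := by
  unfold RelR relRB
  rw [List.all_eq_true]
  constructor
  · intro hR t ht
    obtain ⟨g, hg, hgt⟩ := D.exists_elt h ht
    have := hR g hg
    rw [isTab_fix_iff hgt hi hi, isTab_fix_iff hgt hj hj] at this
    rw [Bool.or_eq_true, bne_iff_ne, beq_iff_eq]
    by_cases h1 : t.getD i 0 = i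
    · right; exact this h1
    · left; exact h1
  · intro hB s hs
    obtain ⟨t, ht, hst⟩ := D.exists_tab h hs
    rw [isTab_fix_iff hst hi hi, isTab_fix_iff hst hj hj]
    have := hB t ht
    rw [Bool.or_eq_true, bne_iff_ne, beq_iff_eq] at this
    intro h1
    rcases this with h2 | h2
    · exact absurd h1 h2
    · exact h2

theorem Data.relO_iff (D : Data) (h : D.basicB = true) {i j : ℕ} (hi : i < 24) (hj : j < 24) :
    RelO D.S0 (gPt i) (gPt j) ↔ relOB D.tabs i j = true := by
  unfold RelO relOB
  rw [List.any_eq_true]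
  constructor
  · rintro ⟨s, hs, hsx⟩
    obtain ⟨t, ht, hst⟩ := D.exists_tab h hs
    refine ⟨t, ht, ?_⟩
    rw [beq_iff_eq]
    exact (isTab_fix_iff hst hi hj).1 hsx
  · rintro ⟨t, ht, htx⟩
    rw [beq_iff_eq] at htx
    obtain ⟨g, hg, hgt⟩ := D.exists_elt h ht
    exact ⟨g, hg, (isTab_fix_iff hgt hi hj).2 htx⟩

theorem Data.relU_iff (D : Data) (h : D.basicB = true) {i : ℕ} (hi : i < 24) :
    RelU D.S0 (gPt i) ↔ relUB D.tabs i = true := by
  unfold RelU relUB
  rw [List.all_eq_true]
  constructor
  · intro hU s hs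
    rw [List.all_eq_true]
    intro t ht
    obtain ⟨g, hg, hgs⟩ := D.exists_elt h hs
    obtain ⟨k, hk, hkt⟩ := D.exists_elt h ht
    have := hU g hg k hk
    rw [isTab_apply_gPt hgs hi, isTab_fix_iff hkt hi hi,
      isTab_fix_iff hkt (isTab_lt hgs hi) (isTab_lt hgs hi)] at this
    rw [Bool.or_eq_true, bne_iff_ne, beq_iff_eq]
    by_cases h1 : t.getD i 0 = i
    · right; exact this h1
    · left; exact h1
  · intro hB g hg k hk
    obtain ⟨s, hs, hgs⟩ := D.exists_tab h hg
    obtain ⟨t, ht, hkt⟩ := D.exists_tab h hk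
    rw [isTab_apply_gPt hgs hi, isTab_fix_iff hkt hi hi,
      isTab_fix_iff hkt (isTab_lt hgs hi) (isTab_lt hgs hi)]
    have := hB s hs
    rw [List.all_eq_true] at this
    have := this t ht
    rw [Bool.or_eq_true, bne_iff_ne, beq_iff_eq] at this
    intro h1
    rcases this with h2 | h2
    · exact absurd h1 h2
    · exact h2

theorem Data.relE1_iff (D : Data) (h : D.basicB = true) {i j : ℕ} (hi : i < 24) (hj : j < 24) :
    RelE1 D.S0 (gPt i) (gPt j) ↔ relE1B D.tabs i j = true := by
  unfold RelE1 relE1B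
  rw [Bool.or_eq_true, Bool.and_eq_true, D.relO_iff h hi hj, D.relU_iff h hi, D.relU_iff h hj]

theorem Data.relE2_iff (D : Data) (h : D.basicB = true) {i j : ℕ} (hi : i < 24) (hj : j < 24) :
    RelE2 D.S0 (gPt i) (gPt j) ↔ relE2B D.tabs i j = true := by
  unfold RelE2 relE2B
  rw [Bool.and_eq_true, D.relR_iff h hi hj, D.relR_iff h hj hi]

/-! ### partitions from invariant relations -/

/-- the blocks of `B` are nonempty subsets of the set with mask `om`, cover it, and each block is the set of
neighbours inside `om` of each of its points -/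
def nbB (EB : ℕ → ℕ → Bool) (om : ℕ) (B : List ℕ) : Bool :=
  B.all (fun b => (List.range 24).any (fun i => b.testBit i) && (b &&& om == b) &&
    (List.range 24).all (fun i => !b.testBit i ||
      (List.range 24).all (fun j => !om.testBit j || (b.testBit j == EB i j)))) &&
  (List.range 24).all (fun i => !om.testBit i || B.any (fun b => b.testBit i))

theorem smul_decL_of_nb (n : Equiv.Perm GolayPt) (om : ℕ) (B : List ℕ) (E : GolayPt → GolayPt → Prop)
    (EB : ℕ → ℕ → Bool) (hEB : ∀ i < 24, ∀ j < 24, E (gPt i) (gPt j) ↔ EB i j = true)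
    (hE : ∀ x y, E (n x) (n y) ↔ E x y)
    (ho : n • ptsMask om = ptsMask om) (hnb : nbB EB om B = true) : n • decL B = decL B := by
  unfold nbB at hnb
  rw [Bool.and_eq_true, List.all_eq_true, List.all_eq_true] at hnb
  obtain ⟨hb, hcov⟩ := hnb
  have hmem : ∀ x, x ∈ ptsMask om → n x ∈ ptsMask om := by
    intro x hx
    have : n x ∈ n • ptsMask om := Finset.smul_mem_smul_finset hx
    rwa [ho] at this
  have key : ∀ b ∈ B, n • ptsMask b ∈ decL B := by
    intro b hbB
    have h1 := hb b hbB
    rw [Bool.and_eq_true, Bool.and_eq_true, List.any_eq_true, beq_iff_eq, List.all_eq_true] at h1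
    obtain ⟨⟨⟨i, hi, hbi⟩, hsub⟩, hnbr⟩ := h1
    rw [List.mem_range] at hi
    have hbo : ptsMask b ⊆ ptsMask om := Cfsg.Agent.Lib.H14.M24SylGen.ptsMask_subset_of_and hsub
    -- neighbourhood property in terms of points
    have hN : ∀ b' ∈ B, ∀ x ∈ ptsMask b', ∀ y ∈ ptsMask om, (y ∈ ptsMask b' ↔ E x y) := by
      intro b' hb' x hx y hy
      have h1 := hb b' hb'
      rw [Bool.and_eq_true, List.all_eq_true] at h1
      have h2 := h1.2 (gIdx x) (List.mem_range.2 (gIdx_lt x))
      rw [mem_ptsMask] at hx hy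
      rw [hx] at h2
      simp only [Bool.not_true, Bool.false_or, List.all_eq_true] at h2
      have h3 := h2 (gIdx y) (List.mem_range.2 (gIdx_lt y))
      rw [hy] at h3
      simp only [Bool.not_true, Bool.false_or, beq_iff_eq] at h3
      have h4 := hEB (gIdx x) (gIdx_lt x) (gIdx y) (gIdx_lt y)
      rw [gPt_gIdx, gPt_gIdx] at h4
      rw [h4, ← h3, mem_ptsMask]
    set x := gPt i with hx
    have hxb : x ∈ ptsMask b := by rw [mem_ptsMask, hx, gIdx_gPt hi]; exact hbi
    have hnx : n x ∈ ptsMask om := hmem x (hbo hxb)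
    have h2 := hcov (gIdx (n x)) (List.mem_range.2 (gIdx_lt _))
    rw [mem_ptsMask] at hnx
    rw [hnx] at h2
    simp only [Bool.not_true, Bool.false_or, List.any_eq_true] at h2
    obtain ⟨b', hb', hb'x⟩ := h2
    have hnxb' : n x ∈ ptsMask b' := by rw [mem_ptsMask]; exact hb'x
    rw [mem_decL]
    refine ⟨b', hb', ?_⟩
    have h1' := hb b' hb'
    rw [Bool.and_eq_true, Bool.and_eq_true, beq_iff_eq] at h1'
    have hb'o : ptsMask b' ⊆ ptsMask om := Cfsg.Agent.Lib.H14.M24SylGen.ptsMask_subset_of_and h1'.1.2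
    ext w
    constructor
    · intro hw
      have hwo := hb'o hw
      have hw' : n⁻¹ w ∈ ptsMask om := by
        have : n⁻¹ w ∈ n⁻¹ • ptsMask om := Finset.smul_mem_smul_finset hwo
        rwa [inv_smul_eq_iff.2 ho.symm] at this
      have h5 := (hN b' hb' (n x) hnxb' w hwo).1 hw
      have e : w = n (n⁻¹ w) := by rw [Equiv.Perm.inv_def, Equiv.apply_symm_apply]
      rw [e, hE] at h5
      have h6 := (hN b hbB x hxb _ hw').2 h5
      rw [e]
      exact Finset.smul_mem_smul_finset h6
    · intro hw
      obtain ⟨y, hy, rfl⟩ := Finset.mem_smul_finset.1 hw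
      have hyo := hbo hy
      have h5 := (hN b hbB x hxb y hyo).1 hy
      rw [← hE] at h5
      exact (hN b' hb' (n x) hnxb' _ (hmem y hyo)).2 h5
  apply Finset.eq_of_subset_of_card_le
  · intro c hc
    obtain ⟨c', hc', rfl⟩ := Finset.mem_smul_finset.1 hc
    obtain ⟨b, hb', rfl⟩ := mem_decL.1 hc'
    exact key b hb'
  · rw [Finset.card_smul_finset]

/-! ### elements stabilizing a binary flag on an octad have order dividing 16 -/

theorem ptsMask_mem_octads {om : ℕ} (h1 : inC om = true) (h2 : popc om = 8) : ptsMask om ∈ octads := by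
  rw [ptsMask_eq_support₂]
  refine ⟨⟨W om, W_mem_of_inC h1, rfl⟩, ?_⟩
  rw [← supp_eq_support₂, ← hammingNorm_eq_card_supp, hammingNorm_W]
  exact h2

open Cfsg.Agent.Lib.H14.M24SylGen in
theorem pow_sixteen_of_flags (om : ℕ) (ho : ptsMask om ∈ octads) (A1 A2 A3 : List ℕ)
    (hs0 : splitB [om] A1 = true) (hs1 : splitB A1 A2 = true) (hs2 : splitB A2 A3 = true)
    (hsing : ∀ k < 24, om.testBit k = true → 2 ^ k ∈ A3)
    {g : Equiv.Perm GolayPt} (hM : g ∈ M24) (h0 : g • ptsMask om = ptsMask om) (h1 : g • decL A1 = decL A1)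
    (h2 : g • decL A2 = decL A2) (h3 : g • decL A3 = decL A3) : g ^ 16 = 1 := by
  have hst : ∀ (X : Finset (Finset GolayPt)) (σ : Equiv.Perm GolayPt), σ • X = X → (σ * σ) • X = X := by
    intro X σ h
    rw [mul_smul, h, h]
  have s0 := step g [om] A1 (by
    intro a ha
    rw [List.mem_singleton] at ha
    rw [ha]; exact h0) h1 hs0
  have s1 := step (g * g) A1 A2 s0 (hst _ _ h2) hs1
  have s2 := step (g * g * (g * g)) A2 A3 s1 (hst _ _ (hst _ _ h3)) hs2
  set h8 := g * g * (g * g) * (g * g * (g * g)) with hh8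
  have hfix : ∀ x ∈ ptsMask om, h8 x = x := by
    intro x hx
    rw [mem_ptsMask] at hx
    have h := s2 (2 ^ gIdx x) (hsing _ (gIdx_lt x) hx)
    have hx' : x ∈ ptsMask (2 ^ gIdx x) := mem_ptsMask_two_pow.2 rfl
    have : h8 x ∈ h8 • ptsMask (2 ^ gIdx x) := Finset.smul_mem_smul_finset hx'
    rw [h, mem_ptsMask_two_pow] at this
    exact gIdx_injective this
  have hK : h8 ∈ M24 ⊓ fixingSubgroup (Equiv.Perm GolayPt) ((ptsMask om : Finset GolayPt) : Set GolayPt) := by
    refine Subgroup.mem_inf.2 ⟨?_, ?_⟩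
    · rw [hh8]
      exact M24.mul_mem (M24.mul_mem (M24.mul_mem hM hM) (M24.mul_mem hM hM))
        (M24.mul_mem (M24.mul_mem hM hM) (M24.mul_mem hM hM))
    · rw [mem_fixingSubgroup_iff]
      intro y hy
      exact hfix y hy
  have := (octad_pointwise_stabilizer ho).2 h8 hK
  rw [hh8] at this
  have e : g ^ 16 = g * g * (g * g) * (g * g * (g * g)) * (g * g * (g * g) * (g * g * (g * g))) := by
    rw [show (16:ℕ) = 2*2*2*2 from rfl, pow_mul, pow_mul, pow_mul]
    simp only [sq]
  rw [e]
  exact this

/-! ### the centre and the fixed octad -/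

theorem eqT_of_isTab {g : Equiv.Perm GolayPt} {a b : List ℕ} (ha : IsTab g a) (hb : IsTab g b) : eqT a b = true := by
  unfold eqT
  rw [List.all_eq_true]
  intro k hk
  rw [List.mem_range] at hk
  rw [beq_iff_eq]
  have e1 := ha (gPt k)
  have e2 := hb (gPt k)
  rw [gIdx_gPt hk] at e1 e2
  rw [← e1, ← e2]

/-- the word of the central involution: the first generator -/
def Data.zw (D : Data) : List ℕ := D.tws.getD 0 []

/-- the centre check: the first generator commutes with all generators and is not the identity, and every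
element commuting with all generators is the identity or the first generator -/
def Data.centerB (D : Data) : Bool :=
  D.tws.all (fun w => eqT (compT (wordTab w) (wordTab D.zw)) (compT (wordTab D.zw) (wordTab w))) &&
  !(eqT (wordTab D.zw) idT) &&
  D.tabs.all (fun t => !(D.tws.all (fun w => eqT (compT (wordTab w) t) (compT t (wordTab w)))) ||
    eqT t idT || eqT t (wordTab D.zw))

theorem Data.zw_mem (D : Data) : wordPerm D.zw ∈ D.S0 := wordPerm_getD_mem D.tws 0

theorem Data.z_comm (D : Data) (hc : D.centerB = true) {s : Equiv.Perm GolayPt} (hs : s ∈ D.S0) :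
    s * wordPerm D.zw = wordPerm D.zw * s := by
  unfold Data.centerB at hc
  rw [Bool.and_eq_true, Bool.and_eq_true, List.all_eq_true] at hc
  obtain ⟨⟨h1, -⟩, -⟩ := hc
  have hle : D.S0 ≤ Subgroup.centralizer {wordPerm D.zw} := by
    apply wordsClosure_le
    intro w hw
    rw [Subgroup.mem_centralizer_singleton_iff]
    have := h1 w hw
    exact (eq_of_isTab (isTab_mul (isTab_wordPerm w) (isTab_wordPerm D.zw))
      (isTab_of_eqT (isTab_mul (isTab_wordPerm D.zw) (isTab_wordPerm w)) (by
        unfold eqT at this ⊢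
        rw [List.all_eq_true] at this ⊢
        intro k hk
        have := this k hk
        rw [beq_iff_eq] at this ⊢
        exact this.symm)))
  have := hle hs
  rw [Subgroup.mem_centralizer_singleton_iff] at this
  exact this

theorem Data.z_ne_one (D : Data) (hc : D.centerB = true) : wordPerm D.zw ≠ 1 := by
  unfold Data.centerB at hc
  rw [Bool.and_eq_true, Bool.and_eq_true, Bool.not_eq_true'] at hc
  obtain ⟨⟨-, h2⟩, -⟩ := hc
  intro h
  have h1 : IsTab (wordPerm D.zw) idT := by rw [h]; exact isTab_one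
  rw [eqT_of_isTab (isTab_wordPerm D.zw) h1] at h2
  exact Bool.noConfusion h2

theorem Data.center (D : Data) (hb : D.basicB = true) (hc : D.centerB = true) {c : Equiv.Perm GolayPt}
    (hcS : c ∈ D.S0) (hcomm : ∀ s ∈ D.S0, s * c = c * s) : c = 1 ∨ c = wordPerm D.zw := by
  obtain ⟨t, ht, hct⟩ := D.exists_tab hb hcS
  unfold Data.centerB at hc
  rw [Bool.and_eq_true, List.all_eq_true] at hc
  have h3 := hc.2 t ht
  rw [Bool.or_eq_true, Bool.or_eq_true] at h3
  rcases h3 with (h3 | h3) | h3
  · exfalso
    rw [Bool.not_eq_true', ← Bool.not_eq_true, List.all_eq_true] at h3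
    apply h3
    intro w hw
    have e := hcomm _ (wordPerm_mem_wordsClosure hw)
    have t1 := isTab_mul (isTab_wordPerm w) hct
    have t2 := isTab_mul hct (isTab_wordPerm w)
    rw [e] at t1
    exact eqT_of_isTab t1 t2
  · left
    exact eq_of_isTab (isTab_of_eqT hct h3) isTab_one
  · right
    exact eq_of_isTab (isTab_of_eqT hct h3) (isTab_wordPerm D.zw)

/-- the mask `om` is the set of fixed points of the central involution and is an octad -/
def Data.octB (D : Data) (om : ℕ) : Bool :=
  (List.range 24).all (fun k => om.testBit k == ((wordTab D.zw).getD k 0 == k)) && inC om && (popc om == 8)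

theorem Data.mem_om_iff (D : Data) {om : ℕ} (ho : D.octB om = true) (x : GolayPt) :
    x ∈ ptsMask om ↔ wordPerm D.zw x = x := by
  unfold Data.octB at ho
  rw [Bool.and_eq_true, Bool.and_eq_true, List.all_eq_true] at ho
  have := ho.1.1 (gIdx x) (List.mem_range.2 (gIdx_lt x))
  rw [beq_iff_eq] at this
  rw [mem_ptsMask, this, beq_iff_eq]
  have h1 := isTab_fix_iff (isTab_wordPerm D.zw) (gIdx_lt x) (gIdx_lt x)
  rw [gPt_gIdx] at h1
  exact h1.symm

theorem Data.om_mem_octads (D : Data) {om : ℕ} (ho : D.octB om = true) : ptsMask om ∈ octads := by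
  unfold Data.octB at ho
  rw [Bool.and_eq_true, Bool.and_eq_true, beq_iff_eq] at ho
  exact ptsMask_mem_octads ho.1.2 ho.2

theorem Data.normalizer_comm_z (D : Data) (hb : D.basicB = true) (hc : D.centerB = true)
    {n : Equiv.Perm GolayPt} (hn : n ∈ Subgroup.normalizer (D.S0 : Set (Equiv.Perm GolayPt))) :
    n * wordPerm D.zw * n⁻¹ = wordPerm D.zw := by
  have hmem : n * wordPerm D.zw * n⁻¹ ∈ D.S0 := (Subgroup.mem_normalizer_iff.1 hn _).1 D.zw_mem
  rcases D.center hb hc hmem (by
    intro s hs
    have h1 := D.z_comm hc (conj_inv_mem hn hs)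
    have e1 : s * (n * wordPerm D.zw * n⁻¹) = n * ((n⁻¹ * s * n) * wordPerm D.zw) * n⁻¹ := by group
    have e2 : n * wordPerm D.zw * n⁻¹ * s = n * (wordPerm D.zw * (n⁻¹ * s * n)) * n⁻¹ := by group
    rw [e1, e2, h1]) with h | h
  · exfalso
    apply D.z_ne_one hc
    have : wordPerm D.zw = n⁻¹ * (n * wordPerm D.zw * n⁻¹) * n := by group
    rw [this, h]; group
  · exact h

theorem Data.normalizer_smul_om (D : Data) (hb : D.basicB = true) (hc : D.centerB = true) {om : ℕ}
    (ho : D.octB om = true) {n : Equiv.Perm GolayPt}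
    (hn : n ∈ Subgroup.normalizer (D.S0 : Set (Equiv.Perm GolayPt))) : n • ptsMask om = ptsMask om := by
  have hz := D.normalizer_comm_z hb hc hn
  apply Finset.eq_of_subset_of_card_le
  · intro y hy
    obtain ⟨x, hx, rfl⟩ := Finset.mem_smul_finset.1 hy
    rw [D.mem_om_iff ho] at hx ⊢
    show wordPerm D.zw (n x) = n x
    have e : wordPerm D.zw * n = n * wordPerm D.zw := by
      calc wordPerm D.zw * n = (n * wordPerm D.zw * n⁻¹) * n := by rw [hz]
        _ = n * wordPerm D.zw := by group
    have := congrArg (fun f : Equiv.Perm GolayPt => f x) e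
    simp only [Equiv.Perm.mul_apply] at this
    rw [this, hx]
  · rw [Finset.card_smul_finset]

/-! ### the normalizer -/

/-- the flag checks -/
def Data.flagB (D : Data) (om : ℕ) (A1 A2 A3 : List ℕ) : Bool :=
  D.octB om && Cfsg.Agent.Lib.H14.M24SylGen.splitB [om] A1 && Cfsg.Agent.Lib.H14.M24SylGen.splitB A1 A2 &&
  Cfsg.Agent.Lib.H14.M24SylGen.splitB A2 A3 &&
  (List.range 24).all (fun k => !om.testBit k || A3.contains (2 ^ k)) &&
  nbB (relE1B D.tabs) om A1 && nbB (relE2B D.tabs) om A2 && nbB (fun i j => i == j) om A3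

theorem Data.pow_sixteen (D : Data) (hb : D.basicB = true) (hc : D.centerB = true) {om : ℕ} {A1 A2 A3 : List ℕ}
    (hf : D.flagB om A1 A2 A3 = true) {n : Equiv.Perm GolayPt} (hM : n ∈ M24)
    (hn : n ∈ Subgroup.normalizer (D.S0 : Set (Equiv.Perm GolayPt))) : n ^ 16 = 1 := by
  unfold Data.flagB at hf
  simp only [Bool.and_eq_true] at hf
  obtain ⟨⟨⟨⟨⟨⟨⟨ho, hs0⟩, hs1⟩, hs2⟩, hsing⟩, hn1⟩, hn2⟩, hn3⟩ := hf
  have h0 := D.normalizer_smul_om hb hc ho hn
  apply pow_sixteen_of_flags om (D.om_mem_octads ho) A1 A2 A3 hs0 hs1 hs2 _ hM h0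
  · exact smul_decL_of_nb n om A1 (RelE1 D.S0) (relE1B D.tabs) (fun i hi j hj => D.relE1_iff hb hi hj)
      (iff_of_smul (fun m hm x y h => relE1_smul hm h) hn) h0 hn1
  · exact smul_decL_of_nb n om A2 (RelE2 D.S0) (relE2B D.tabs) (fun i hi j hj => D.relE2_iff hb hi hj)
      (iff_of_smul (fun m hm x y h => relE2_smul hm h) hn) h0 hn2
  · refine smul_decL_of_nb n om A3 (fun x y => x = y) (fun i j => i == j) (fun i hi j hj => ?_)
      (fun x y => n.injective.eq_iff) h0 hn3
    rw [beq_iff_eq]
    constructor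
    · intro h
      have := congrArg gIdx h
      rwa [gIdx_gPt hi, gIdx_gPt hj] at this
    · intro h; rw [h]
  · intro k hk hbit
    rw [List.all_eq_true] at hsing
    have := hsing k (List.mem_range.2 hk)
    rw [hbit] at this
    simpa using this

/-! ### fusion chains -/

/-- the fusion chain check: each generator after the first is conjugate, by an element passing the test `inG`,
to a product of earlier generators -/
def Data.fusB (D : Data) (inG : List ℕ → Bool) (steps : List (List ℕ × List ℕ)) : Bool :=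
  decide (D.tws.length = steps.length + 1) &&
  (List.range steps.length).all (fun i => inG (steps.getD i ([], [])).1 &&
    eqT (wordTab ((steps.getD i ([], [])).1 ++ metaFlat (D.tws.take (i + 1)) (steps.getD i ([], [])).2 ++
      invWord (steps.getD i ([], [])).1)) (wordTab (D.tws.getD (i + 1) [])))

theorem Data.le_of_fus (D : Data) (inG : List ℕ → Bool) (steps : List (List ℕ × List ℕ))
    (G : Subgroup (Equiv.Perm GolayPt)) (hinG : ∀ w, inG w = true → wordPerm w ∈ G)
    (hf : D.fusB inG steps = true) (T : Subgroup (Equiv.Perm GolayPt)) (hz : wordPerm D.zw ∈ T)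
    (hcl : ∀ t ∈ T, ∀ g ∈ G, g * t * g⁻¹ ∈ D.S0 → g * t * g⁻¹ ∈ T) : D.S0 ≤ T := by
  unfold Data.fusB at hf
  rw [Bool.and_eq_true, decide_eq_true_eq, List.all_eq_true] at hf
  obtain ⟨hlen, hsteps⟩ := hf
  have key : ∀ i, i ≤ steps.length → ∀ j ≤ i, wordPerm (D.tws.getD j []) ∈ T := by
    intro i
    induction i with
    | zero =>
      intro _ j hj
      rw [Nat.le_zero.1 hj]
      exact hz
    | succ i ih =>
      intro hi j hj
      rcases Nat.lt_or_ge j (i + 1) with h | h
      · exact ih (by omega) j (by omega)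
      · have hji : j = i + 1 := by omega
        rw [hji]
        have h1 := hsteps i (List.mem_range.2 (by omega))
        rw [Bool.and_eq_true] at h1
        obtain ⟨hg, he⟩ := h1
        set gw := (steps.getD i ([], [])).1 with hgw
        set m := (steps.getD i ([], [])).2 with hm
        have e : wordPerm (D.tws.getD (i + 1) []) =
            wordPerm gw * wordPerm (metaFlat (D.tws.take (i + 1)) m) * (wordPerm gw)⁻¹ := by
          rw [← wordPerm_invWord, ← wordPerm_append, ← wordPerm_append]
          exact eq_of_isTab (isTab_wordPerm _) (isTab_of_eqT (isTab_wordPerm _) he)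
        rw [e]
        apply hcl _ _ _ (hinG _ hg)
        · rw [← e]
          exact wordPerm_getD_mem D.tws (i + 1)
        · have hle : wordsClosure (D.tws.take (i + 1)) ≤ T := by
            apply wordsClosure_le
            intro w hw
            obtain ⟨k, hk, rfl⟩ := List.mem_iff_getElem.1 hw
            rw [List.length_take] at hk
            rw [List.getElem_take]
            have := ih (by omega) k (by omega)
            rwa [List.getD_eq_getElem _ _ (by omega)] at this
          exact hle (wordPerm_metaFlat_mem _ _)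
  apply wordsClosure_le
  intro w hw
  obtain ⟨k, hk, rfl⟩ := List.mem_iff_getElem.1 hw
  have := key steps.length le_rfl k (by omega)
  rwa [List.getD_eq_getElem _ _ hk] at this

end Cfsg.Agent.Lib.H14.SylCert
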