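import Cfsg.Agent.Lib.H14.PReduced5
import Cfsg.Agent.Lib.H14.SylowTrace
set_option autoImplicit false
open Cfsg

namespace Cfsg.Agent.Lib.H14

open scoped commutatorElement

section
variable {G : Type*} [Group G] {p : ℕ}

/-- Ambient trace lemma for `R` acting on an elementary abelian `V`: a vector fixed by a Sylow
`p`-subgroup `T` of `R` has a `p'`-power in `C_V(R) [V, R]`. -/
theorem exists_central_mul_commutator_of_action [Finite G] [Fact p.Prime] (V R : Subgroup G)
    (hV : Cfsg.IsElementaryAbelian p V) (hRV : R ≤ Subgroup.normalizer (V : Set G))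
    (S : Sylow p ↥R) (v : G) (hv : v ∈ V)
    (hvT : v ∈ Subgroup.centralizer (((S : Subgroup ↥R).map R.subtype : Subgroup G) : Set G)) :
    ∃ c ∈ V ⊓ Subgroup.centralizer (R : Set G), ∃ w ∈ ⁅V, R⁆, ∃ n : ℕ, n.Coprime p ∧
      v ^ n = c * w := by
  set T : Subgroup G := (S : Subgroup ↥R).map R.subtype with hT
  have hTR : T ≤ R := Subgroup.map_subtype_le _
  have hTp : IsPGroup p T := S.2.map R.subtype
  have hVp : IsPGroup p V := isPGroup_of_isElementaryAbelian V hV
  have hVc := comm_of_isElementaryAbelian V hV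
  set L := R ⊔ V with hL
  have hVL : V ≤ L := le_sup_right
  have hRL : R ≤ L := le_sup_left
  have hLV : L ≤ Subgroup.normalizer (V : Set G) := sup_le hRV Subgroup.le_normalizer
  have hVTp : IsPGroup p ((T ⊔ V : Subgroup G)) :=
    IsPGroup.to_sup_of_normal_right' hTp hVp (hTR.trans hRV)
  have hVTL : T ⊔ V ≤ L := sup_le (hTR.trans hRL) hVL
  obtain ⟨S', hS'⟩ := IsPGroup.exists_le_sylow (P := (T ⊔ V).subgroupOf L) hVTp.comap_subtype
  -- elements of S' are products of elements of T and V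
  have hS'mem : ∀ x : ↥L, x ∈ S' → ∃ r ∈ T, ∃ v₁ ∈ V, (x : G) = r * v₁ := by
    intro x hx
    have hxL : (x : G) ∈ ((R ⊔ V : Subgroup G) : Set G) := x.2
    rw [Subgroup.coe_mul_of_left_le_normalizer_right R V hRV] at hxL
    obtain ⟨r, hr, v₁, hv₁, e⟩ := Set.mem_mul.mp hxL
    refine ⟨r, ?_, v₁, hv₁, e.symm⟩
    -- r ∈ S'.map ∩ R
    have hv₁S : (⟨v₁, hVL hv₁⟩ : ↥L) ∈ S' := hS' (by
      rw [Subgroup.mem_subgroupOf]; exact (le_sup_right : V ≤ T ⊔ V) hv₁)
    have hrS : (⟨r, hRL hr⟩ : ↥L) ∈ S' := by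
      have : (⟨r, hRL hr⟩ : ↥L) = x * (⟨v₁, hVL hv₁⟩ : ↥L)⁻¹ := by
        apply Subtype.ext
        simp only [Subgroup.coe_mul, InvMemClass.coe_inv]
        rw [← e]; group
      rw [this]
      exact Subgroup.mul_mem _ hx (Subgroup.inv_mem _ hv₁S)
    set Q : Subgroup G := ((S' : Subgroup ↥L).map L.subtype) ⊓ R with hQ
    have hQp : IsPGroup p Q := (S'.2.map L.subtype).to_le inf_le_left
    have hTQ : T ≤ Q := by
      apply le_inf _ hTR
      intro t ht
      exact ⟨⟨t, hRL (hTR ht)⟩, hS' (by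
        rw [Subgroup.mem_subgroupOf]; exact (le_sup_left : T ≤ T ⊔ V) ht), rfl⟩
    have hQS : Q.subgroupOf R = (S : Subgroup ↥R) := by
      apply S.is_maximal' (Q := Q.subgroupOf R) hQp.comap_subtype
      intro s hs
      rw [Subgroup.mem_subgroupOf]
      exact hTQ ⟨s, hs, rfl⟩
    have hrQ : (⟨r, hr⟩ : ↥R) ∈ Q.subgroupOf R := by
      rw [Subgroup.mem_subgroupOf]
      exact ⟨⟨⟨r, hRL hr⟩, hrS, rfl⟩, hr⟩
    rw [hQS] at hrQ
    exact ⟨⟨r, hr⟩, hrQ, rfl⟩
  have hVn : (V.subgroupOf L).Normal := by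
    rw [Subgroup.normal_subgroupOf_iff_le_normalizer hVL]; exact hLV
  have hVcomm : IsMulCommutative (V.subgroupOf L) := by
    refine ⟨⟨?_⟩⟩
    rintro ⟨a, ha⟩ ⟨b, hb⟩
    rw [Subgroup.mem_subgroupOf] at ha hb
    apply Subtype.ext
    apply Subtype.ext
    exact hVc _ ha _ hb
  have hRn : (Cfsg.pResidual p ↥L).Normal := pResidual_normal'
  obtain ⟨c, hcV, hcc, w, hw, e⟩ := exists_central_mul_commutator (V.subgroupOf L)
    (S' : Subgroup ↥L) (Cfsg.pResidual p ↥L) (pResidual_sup_sylow S') (⟨v, hVL hv⟩ : ↥L)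
    (by rw [Subgroup.mem_subgroupOf]; exact hv)
    (by
      intro x hx
      obtain ⟨r, hr, v₁, hv₁, ex⟩ := hS'mem x hx
      apply Subtype.ext
      simp only [Subgroup.coe_mul]
      rw [ex]
      have h1 : r * v = v * r := Subgroup.mem_centralizer_iff.mp hvT r hr
      have h2 : v₁ * v = v * v₁ := hVc v₁ hv₁ v hv
      calc r * v₁ * v = r * (v₁ * v) := by group
        _ = r * (v * v₁) := by rw [h2]
        _ = (r * v) * v₁ := by group
        _ = v * r * v₁ := by rw [h1]
        _ = v * (r * v₁) := by group)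
  rw [Subgroup.mem_subgroupOf] at hcV
  refine ⟨(c : G), Subgroup.mem_inf.mpr ⟨hcV, ?_⟩, (w : G), ?_, (S' : Subgroup ↥L).index, ?_, ?_⟩
  · rw [Subgroup.mem_centralizer_iff]
    intro r hr
    have := congrArg Subtype.val (hcc ⟨r, hRL hr⟩)
    simpa using this
  · have h1 : (w : G) ∈ (⁅V.subgroupOf L, Cfsg.pResidual p ↥L⁆).map L.subtype := ⟨w, hw, rfl⟩
    rw [Subgroup.map_commutator, Subgroup.map_subgroupOf_eq_of_le hVL, pResidual_map_eq] at h1
    have h2 : ⁅V, presOf p L⁆ ≤ ⁅V, R⁆ := by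
      rw [Subgroup.commutator_comm V _, Subgroup.commutator_comm V R]
      apply commutator_closure_le
      · refine le_trans (presOf_le p L) (sup_le ?_ ?_)
        · exact le_nzr_commutator R R V Subgroup.le_normalizer hRV
        · have hle : ⁅R, V⁆ ≤ V := Subgroup.le_normalizer_iff_commutator_le_right.mp hRV
          intro y hy
          apply Subgroup.centralizer_le_normalizer
          rw [Subgroup.mem_centralizer_iff]
          intro z hz
          exact hVc z (hle hz) y hy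
      · rintro y ⟨hyL, -⟩ u hu
        have hyL' : y ∈ ((R ⊔ V : Subgroup G) : Set G) := hyL
        rw [Subgroup.coe_mul_of_left_le_normalizer_right R V hRV] at hyL'
        obtain ⟨r, hr, v₁, hv₁, rfl⟩ := Set.mem_mul.mp hyL'
        rw [commutatorElement_mul_left_eq_conj_mul]
        have : ⁅v₁, u⁆ = 1 := by
          rw [commutatorElement_eq_one_iff_commute]; exact hVc v₁ hv₁ u hu
        rw [this]
        have : r * 1 * r⁻¹ * ⁅r, u⁆ = ⁅r, u⁆ := by group
        rw [this]
        exact Subgroup.commutator_mem_commutator hr hu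
    exact h2 h1
  · rw [Nat.coprime_comm, Nat.Prime.coprime_iff_not_dvd Fact.out]
    exact S'.not_dvd_index
  · have := congrArg Subtype.val e
    simpa using this

end

end Cfsg.Agent.Lib.H14
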