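import Mathlib
import Cfsg.Agent.Lib.H7.T27Defs
import Cfsg.Agent.Lib.H3.H108Hyp
import Cfsg.Agent.Lib.H8.DadeInd
import Cfsg.Agent.Lib.H8.TIInd
import Cfsg.Agent.Lib.L0.CharOps
import Cfsg.Agent.Lib.L0.CharIndChar
import Cfsg.Agent.Lib.L0.CharDegree

/-!
# S3701 piece IND2 (`inner_Ind_class`), `Ind_one` of IND0, and the cores of IND0, IND1, IND3 with the `CHAR` inputs as hypotheses (helper14; architect helper7)
-/

set_option autoImplicit false
set_option linter.unusedSectionVars false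

namespace Cfsg.Agent.Lib.H14.T27

open Cfsg Cfsg.Agent.Lib.H7.K4 Cfsg.Agent.Lib.H3.H108 Cfsg.Agent.Lib.H7.T27
open scoped ComplexConjugate

variable {G : Type*} [Group G] [Fintype G]

/-- `h.pull f = f ∘ e` -/
theorem pull_eq_comp3 (h : Hyp3 G) (f : ↥M3 → ℂ) : h.pull f = f ∘ (h.e : ↥h.N →* ↥M3) := rfl

/-- transport of the inner product along `e` -/
theorem classInner_transport3 (h : Hyp3 G) [Fintype ↥h.N] (φ ψ : ↥M3 → ℂ) :
    classInner (fun n : ↥h.N => φ (h.e n)) (fun n : ↥h.N => ψ (h.e n)) = classInner φ ψ := by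
  rw [Cfsg.Agent.Lib.H8.classInner_def, Cfsg.Agent.Lib.H8.classInner_def,
    Nat.card_congr h.e.toEquiv]
  congr 1
  exact Fintype.sum_equiv h.e.toEquiv _ _ (fun n => rfl)

/-- the value of `S_a` at `1` -/
theorem Sfun_one (a : V) : Sfun a 1 = 4 := by
  unfold Sfun
  have h1 : ((1 : ↥M3) : S333) ^ 3 = 1 := by simp
  rw [if_pos h1]
  have h2 : lg3 ((1 : ↥M3) : S333) = (0, 0, 0) := by
    show lg3 (1 : S333) = (0, 0, 0)
    decide
  rw [h2]
  have h3 : ∀ κ ∈ Ksgn, ζ ^ (dot (act κ a) ((0, 0, 0) : V)).val = 1 := by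
    intro κ _
    have : dot (act κ a) ((0, 0, 0) : V) = 0 := by
      unfold dot; simp
    rw [this]; simp
  rw [Finset.sum_congr rfl h3]
  have h4 : Ksgn.card = 4 := by decide
  rw [Finset.sum_const, h4]
  norm_num

/-- `S_a` vanishes off the elements of order dividing `3` -/
theorem Sfun_of_ne (a : V) (s : ↥M3) (hs : (s : S333) ^ 3 ≠ 1) : Sfun a s = 0 := by
  unfold Sfun
  rw [if_neg hs]

/-- `S_a - S_a'` vanishes where `s ^ 4 = 1` -/
theorem Sfun_sub_of_pow_four (a a' : V) (s : ↥M3) (hs : s ^ 4 = 1) : Sfun a s - Sfun a' s = 0 := by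
  by_cases h3 : (s : S333) ^ 3 = 1
  · have h3' : s ^ 3 = 1 := Subtype.ext (by rw [Subgroup.coe_pow, h3]; rfl)
    have : s = 1 := by
      have h4 : s ^ 4 = s ^ 3 * s := pow_succ s 3
      rw [h4, h3', one_mul] at hs
      exact hs
    rw [this, Sfun_one, Sfun_one, sub_self]
  · rw [Sfun_of_ne a s h3, Sfun_of_ne a' s h3, sub_self]

/-- IND0 core. -/
theorem isCharacter_Ind_of (h : Hyp3 G) (a : V) (hS : IsCharacter ↥M3 (Sfun a)) :
    IsCharacter G (Ind h a) := by
  unfold Ind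
  refine Cfsg.Agent.Lib.L0.isCharacter_indFun h.N ?_
  rw [pull_eq_comp3]
  exact Cfsg.Agent.Lib.L0.isCharacter_comp _ hS

/-- IND0, second part. -/
theorem Ind_one (h : Hyp3 G) (a : V) : Ind h a 1 = ((4 * h.N.index : ℕ) : ℂ) := by
  unfold Ind
  rw [Cfsg.Agent.Lib.L0.indFun_apply_one]
  show (h.N.index : ℂ) * Sfun a (h.e 1) = _
  rw [map_one, Sfun_one]
  push_cast
  ring

/-- linearity of induction -/
theorem indFun_sub3 (H : Subgroup G) (θ₁ θ₂ : H → ℂ) :
    indFun H (θ₁ - θ₂) = indFun H θ₁ - indFun H θ₂ := by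
  have h1 : θ₁ - θ₂ = θ₁ + (-1 : ℂ) • θ₂ := by
    funext x; simp [sub_eq_add_neg]
  rw [h1, Cfsg.Agent.Lib.L0.indFun_add, Cfsg.Agent.Lib.L0.indFun_smul]
  funext x; simp [sub_eq_add_neg]

theorem Ind_sub_eq (h : Hyp3 G) (a a' : V) :
    Ind h a - Ind h a' = indFun h.N (h.pull (Sfun a - Sfun a')) := by
  unfold Ind
  rw [← indFun_sub3]
  rfl

/-- bilinearity of `classInner` on differences -/
theorem classInner_sub_sub {M : Type*} [Group M] [Fintype M] (p p' q q' : M → ℂ) :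
    classInner (p - p') (q - q') =
      classInner p q - classInner p q' - classInner p' q + classInner p' q' := by
  simp only [Cfsg.Agent.Lib.H8.classInner_def, Pi.sub_apply, map_sub]
  rw [← mul_sub, ← mul_sub, ← mul_add, ← Finset.sum_sub_distrib, ← Finset.sum_sub_distrib,
    ← Finset.sum_add_distrib]
  congr 1
  refine Finset.sum_congr rfl fun x _ => ?_
  ring

/-- IND1 core. -/
theorem inner_Ind_sub_of (h : Hyp3 G)
    (hcl : ∀ a : V, IsClassFunction ↥M3 (Sfun a))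
    (hgram : ∀ a b : V, classInner (Sfun a) (Sfun b) = (nn a b : ℂ))
    (a a' b b' : V) :
    classInner (Ind h a - Ind h a') (Ind h b - Ind h b') =
      (((nn a b : ℤ) - nn a b' - nn a' b + nn a' b' : ℤ) : ℂ) := by
  classical
  have : Fintype ↥h.N := Fintype.ofFinite _
  have hTI : ∀ x : G, ∀ d ∈ {d : G | d ∈ h.N ∧ d ^ 4 ≠ 1}, x * d * x⁻¹ ∈ {d : G | d ∈ h.N ∧ d ^ 4 ≠ 1} →
      x ∈ h.N := fun x d hd hxd => h.ti x d hd.1 hd.2 hxd.1
  have hzero : ∀ (c c' : V),
      ∀ x : ↥h.N, (x : G) ∉ {d : G | d ∈ h.N ∧ d ^ 4 ≠ 1} → h.pull (Sfun c - Sfun c') x = 0 := by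
    intro c c' x hx
    have hx4 : (x : G) ^ 4 = 1 := by
      by_contra hne
      exact hx ⟨x.2, hne⟩
    have hx4' : x ^ 4 = 1 := Subtype.ext (by rw [Subgroup.coe_pow, hx4]; rfl)
    have he4 : (h.e x) ^ 4 = 1 := by rw [← map_pow, hx4', map_one]
    show Sfun c (h.e x) - Sfun c' (h.e x) = 0
    exact Sfun_sub_of_pow_four c c' _ he4
  have hclN : IsClassFunction ↥h.N (h.pull (Sfun b - Sfun b')) := by
    intro n k
    show Sfun b (h.e (k * n * k⁻¹)) - Sfun b' (h.e (k * n * k⁻¹)) = Sfun b (h.e n) - Sfun b' (h.e n)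
    rw [map_mul, map_mul, map_inv, hcl b, hcl b']
  rw [Ind_sub_eq, Ind_sub_eq,
    Cfsg.Agent.Lib.H8.classInner_indFun_of_tiSet h.N {d : G | d ∈ h.N ∧ d ^ 4 ≠ 1} hTI
    (h.pull (Sfun a - Sfun a')) (h.pull (Sfun b - Sfun b')) hclN (hzero a a') (hzero b b')]
  have htr := classInner_transport3 h (Sfun a - Sfun a') (Sfun b - Sfun b')
  have : classInner (h.pull (Sfun a - Sfun a')) (h.pull (Sfun b - Sfun b')) =
      classInner (Sfun a - Sfun a') (Sfun b - Sfun b') := htr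
  rw [this, classInner_sub_sub, hgram, hgram, hgram, hgram]
  push_cast
  ring

/-- IND2.  Frobenius reciprocity + transport. -/
theorem inner_Ind_class (h : Hyp3 G) (a : V) (F : G → ℂ) (hF : IsClassFunction G F) :
    classInner (Ind h a) F = classInner (Sfun a) (fun s : ↥M3 => F (h.el s)) := by
  classical
  have : Fintype ↥h.N := Fintype.ofFinite _
  unfold Ind
  rw [Cfsg.Agent.Lib.H8.frobenius_reciprocity h.N (h.pull (Sfun a)) F hF]
  have h1 : (fun n : ↥h.N => F (n : G)) = fun n : ↥h.N => (fun s => F (h.el s)) (h.e n) := by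
    funext n
    show F (n : G) = F (h.el (h.e n))
    rw [h.el_e]
  rw [h1]
  exact classInner_transport3 h (Sfun a) (fun s => F (h.el s))

/-- IND3 core. -/
theorem inner_Ind_one_of (h : Hyp3 G) (a : V)
    (hone : classInner (Sfun a) (1 : ↥M3 → ℂ) = if a = 0 then 1 else 0) :
    classInner (Ind h a) (1 : G → ℂ) = if a = 0 then 1 else 0 := by
  rw [inner_Ind_class h a 1 (fun _ _ => rfl)]
  exact hone

end Cfsg.Agent.Lib.H14.T27
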