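import Mathlib
import Cfsg.Agent.Lib.H14.T27IND2
import Cfsg.Agent.Lib.H3.T27CHAR1

/-!
# S3701 piece IND0 (helper14; architect helper7): `I(a)` is a character of `G`

(`Ind_one` is in `Cfsg.Agent.Lib.H14.T27IND2`, same namespace.)
-/

set_option autoImplicit false
set_option linter.unusedSectionVars false

namespace Cfsg.Agent.Lib.H14.T27

open Cfsg Cfsg.Agent.Lib.H7.K4 Cfsg.Agent.Lib.H3.H108 Cfsg.Agent.Lib.H7.T27
open scoped ComplexConjugate

variable {G : Type*} [Group G] [Fintype G]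

/-- IND0.  `I(a)` is a character of `G`. -/
theorem isCharacter_Ind (h : Hyp3 G) (a : V) : IsCharacter G (Ind h a) :=
  isCharacter_Ind_of h a (Cfsg.Agent.Lib.H3.T27.isCharacter_Sfun a)

end Cfsg.Agent.Lib.H14.T27
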