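import Mathlib
import Cfsg.Agent.Lib.H14.T27IND2
import Cfsg.Agent.Lib.H4.T27CHAR2
import Cfsg.Agent.Lib.H24.T27CHAR3

/-!
# S3701 piece IND1 (helper14; architect helper7): the TI isometry for the differences `I(a) - I(a')`

The class-function property of `S_a` is proved directly (conjugation by `x` acts on the `T`-part
through the sign vector of `x`), so the piece depends on CHAR2 only.
-/

set_option autoImplicit false
set_option linter.unusedSectionVars false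

namespace Cfsg.Agent.Lib.H14.T27

open Cfsg Cfsg.Agent.Lib.H7.K4 Cfsg.Agent.Lib.H3.H108 Cfsg.Agent.Lib.H7.T27
open scoped ComplexConjugate

/-- the sign of a permutation as an element of `ZMod 3` (`2 = -1`) -/
def sg (x : S3) : ZMod 3 := if Equiv.Perm.sign x = 1 then 1 else 2

/-- the sign vector of an element of `S3 × S3 × S3` -/
def sv (x : S333) : V := (sg x.1, sg x.2.1, sg x.2.2)

set_option maxRecDepth 100000 in
theorem lg_conj : ∀ (x a : S3), a ^ 3 = 1 → lg (x * a * x⁻¹) = sg x * lg a := by decide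

set_option maxRecDepth 100000 in
theorem pow3_conj : ∀ (x a : S3), (x * a * x⁻¹) ^ 3 = 1 ↔ a ^ 3 = 1 := by decide

theorem sv_mem (x : S333) (hx : x ∈ M3) : sv x ∈ Ksgn := by
  rw [mem_M3, sgn3_apply] at hx
  unfold sv sg Ksgn
  rcases Int.units_eq_one_or (Equiv.Perm.sign x.1) with h1 | h1 <;>
  rcases Int.units_eq_one_or (Equiv.Perm.sign x.2.1) with h2 | h2 <;>
  rcases Int.units_eq_one_or (Equiv.Perm.sign x.2.2) with h3 | h3 <;>
  rw [h1, h2, h3] at hx <;> simp only [h1, h2, h3] <;> revert hx <;> decide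

theorem pow3_iff (s : S333) : s ^ 3 = 1 ↔ s.1 ^ 3 = 1 ∧ s.2.1 ^ 3 = 1 ∧ s.2.2 ^ 3 = 1 := by
  constructor
  · intro h
    have h1 := congrArg Prod.fst h
    have h2 := congrArg (fun p : S333 => p.2.1) h
    have h3 := congrArg (fun p : S333 => p.2.2) h
    exact ⟨h1, h2, h3⟩
  · rintro ⟨h1, h2, h3⟩
    exact Prod.ext h1 (Prod.ext h2 h3)

theorem pow3_conj3 (x s : S333) : (x * s * x⁻¹) ^ 3 = 1 ↔ s ^ 3 = 1 := by
  rw [pow3_iff, pow3_iff]
  show (x.1 * s.1 * x.1⁻¹) ^ 3 = 1 ∧ (x.2.1 * s.2.1 * x.2.1⁻¹) ^ 3 = 1 ∧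
    (x.2.2 * s.2.2 * x.2.2⁻¹) ^ 3 = 1 ↔ _
  rw [pow3_conj, pow3_conj, pow3_conj]

theorem lg3_conj (x s : S333) (hs : s ^ 3 = 1) : lg3 (x * s * x⁻¹) = act (sv x) (lg3 s) := by
  rw [pow3_iff] at hs
  unfold lg3 act sv
  show (lg (x.1 * s.1 * x.1⁻¹), lg (x.2.1 * s.2.1 * x.2.1⁻¹), lg (x.2.2 * s.2.2 * x.2.2⁻¹)) = _
  rw [lg_conj _ _ hs.1, lg_conj _ _ hs.2.1, lg_conj _ _ hs.2.2]

theorem dot_act_act (κ σ a t : V) : dot (act κ a) (act σ t) = dot (act (act κ σ) a) t := by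
  unfold dot act
  ring

/-- `S_a` is a class function on `M3` -/
theorem isClassFunction_Sfun (a : V) : IsClassFunction ↥M3 (Sfun a) := by
  intro s x
  unfold Sfun
  have hco : ((x * s * x⁻¹ : ↥M3) : S333) = (x : S333) * (s : S333) * (x : S333)⁻¹ := rfl
  rw [hco]
  by_cases h3 : (s : S333) ^ 3 = 1
  · rw [if_pos h3, if_pos ((pow3_conj3 _ _).mpr h3), lg3_conj _ _ h3]
    have hσ : sv (x : S333) ∈ Ksgn := sv_mem _ x.2
    apply Finset.sum_bij (fun κ' _ => act κ' (sv (x : S333)))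
    · intro κ' hκ'; exact Cfsg.Agent.Lib.H24.T27.Ksgn_closed _ hσ κ' hκ'
    · intro κ1 h1 κ2 h2 heq; exact Cfsg.Agent.Lib.H24.T27.Ksgn_inj _ hσ κ1 h1 κ2 h2 heq
    · intro κ'' hκ''
      obtain ⟨κ', hκ', he⟩ := Cfsg.Agent.Lib.H24.T27.Ksgn_surj _ hσ κ'' hκ''
      exact ⟨κ', hκ', he⟩
    · intro κ' _
      rw [dot_act_act]
  · rw [if_neg h3, if_neg (fun h => h3 ((pow3_conj3 _ _).mp h))]

variable {G : Type*} [Group G] [Fintype G]

/-- IND1.  TI isometry + transport along `e` + CHAR2. -/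
theorem inner_Ind_sub (h : Hyp3 G) (a a' b b' : V) :
    classInner (Ind h a - Ind h a') (Ind h b - Ind h b') =
      (((nn a b : ℤ) - nn a b' - nn a' b + nn a' b' : ℤ) : ℂ) :=
  inner_Ind_sub_of h isClassFunction_Sfun Cfsg.Agent.Lib.H4.T27.inner_Sfun a a' b b'

end Cfsg.Agent.Lib.H14.T27
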