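import Mathlib
import Cfsg.Agent.Lib.H14.T27IND2
import Cfsg.Agent.Lib.H4.T27CHAR5

/-!
# S3701 piece IND3 (helper14; architect helper7): the multiplicity of `1_G` in `I(a)`
-/

set_option autoImplicit false
set_option linter.unusedSectionVars false

namespace Cfsg.Agent.Lib.H14.T27

open Cfsg Cfsg.Agent.Lib.H7.K4 Cfsg.Agent.Lib.H3.H108 Cfsg.Agent.Lib.H7.T27
open scoped ComplexConjugate

variable {G : Type*} [Group G] [Fintype G]

/-- IND3.  The multiplicity of `1_G` (IND2 + CHAR5). -/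
theorem inner_Ind_one (h : Hyp3 G) (a : V) :
    classInner (Ind h a) (1 : G → ℂ) = if a = 0 then 1 else 0 :=
  inner_Ind_one_of h a (Cfsg.Agent.Lib.H4.T27.inner_Sfun_one a)

end Cfsg.Agent.Lib.H14.T27
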