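import Mathlib
import Cfsg.Agent.Lib.H7.T648Defs

/-!
# S3702 piece CONG (helper14): `|G : N| ≡ 1 mod |K|` by Burnside's lemma on `G ⧸ N`
-/

set_option autoImplicit false
set_option linter.style.haveILetI false

namespace Cfsg.Agent.Lib.H14.T648

open Cfsg Cfsg.Agent.Lib.H7.T648

theorem index_modEq {M : Type*} [Group M] {A : M → Prop} {G : Type*} [Group G] [Finite G]
    (h : HypTI M A G) (K : Subgroup M) [Finite K] (hK : ∀ x ∈ K, x ≠ 1 → A x) :
    h.N.index ≡ 1 [MOD Nat.card K] := by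
  classical
  let φ : ↥K →* G := (h.N.subtype.comp h.e.symm.toMonoidHom).comp K.subtype
  have hφ : ∀ k : ↥K, φ k = h.el k.1 := fun k => rfl
  letI : MulAction ↥K (G ⧸ h.N) := MulAction.compHom (G ⧸ h.N) φ
  have hsmul : ∀ (k : ↥K) (g : G), k • (QuotientGroup.mk g : G ⧸ h.N) =
      QuotientGroup.mk (h.el k.1 * g) := fun k g => rfl
  haveI : Fintype ↥K := Fintype.ofFinite _
  haveI : Fintype (G ⧸ h.N) := Fintype.ofFinite _
  haveI : Fintype (Quotient (MulAction.orbitRel ↥K (G ⧸ h.N))) := Fintype.ofFinite _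
  haveI : ∀ k : ↥K, Fintype (MulAction.fixedBy (G ⧸ h.N) k) := fun k => Fintype.ofFinite _
  have hB := MulAction.sum_card_fixedBy_eq_card_orbits_mul_card_group ↥K (G ⧸ h.N)
  -- the fixed points of the identity
  have h1 : Fintype.card (MulAction.fixedBy (G ⧸ h.N) (1 : ↥K)) = h.N.index := by
    rw [Subgroup.index_eq_card, Nat.card_eq_fintype_card]
    refine Fintype.card_congr ⟨fun q => q.1, fun q => ⟨q, ?_⟩, fun q => rfl, fun q => rfl⟩
    rw [MulAction.mem_fixedBy, one_smul]
  -- the fixed points of a nontrivial element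
  have h2 : ∀ k : ↥K, k ≠ 1 → Fintype.card (MulAction.fixedBy (G ⧸ h.N) k) = 1 := by
    intro k hk
    rw [Fintype.card_eq_one_iff]
    have hfix : (QuotientGroup.mk (1 : G) : G ⧸ h.N) ∈ MulAction.fixedBy (G ⧸ h.N) k := by
      rw [MulAction.mem_fixedBy, hsmul, QuotientGroup.eq]
      simpa using h.el_mem k.1
    refine ⟨⟨_, hfix⟩, ?_⟩
    rintro ⟨q, hq⟩
    apply Subtype.ext
    induction q using QuotientGroup.induction_on with
    | H g =>
      rw [MulAction.mem_fixedBy, hsmul, QuotientGroup.eq] at hq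
      show (QuotientGroup.mk g : G ⧸ h.N) = QuotientGroup.mk 1
      rw [QuotientGroup.eq]
      have hk1 : (k.1)⁻¹ ≠ 1 := by
        intro h0
        apply hk
        apply Subtype.ext
        simpa using h0
      have hA : A (k.1)⁻¹ := hK _ (K.inv_mem k.2) hk1
      have hmem : g⁻¹ * h.el (k.1)⁻¹ * (g⁻¹)⁻¹ ∈ h.N := by
        rw [h.el_inv, inv_inv]
        have : (h.el k.1 * g)⁻¹ * g = g⁻¹ * (h.el k.1)⁻¹ * g := by group
        rw [← this]
        exact hq
      have := h.ti_el g⁻¹ (k.1)⁻¹ hA hmem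
      simpa using this
  have hsum : (∑ k : ↥K, Fintype.card (MulAction.fixedBy (G ⧸ h.N) k)) =
      h.N.index + (Fintype.card ↥K - 1) := by
    rw [← Finset.add_sum_erase Finset.univ _ (Finset.mem_univ (1 : ↥K)), h1]
    congr 1
    rw [Finset.sum_congr rfl (fun k hk => h2 k (Finset.ne_of_mem_erase hk)), Finset.sum_const,
      Finset.card_erase_of_mem (Finset.mem_univ _), Finset.card_univ, smul_eq_mul, mul_one]
  rw [hsum] at hB
  rw [Nat.card_eq_fintype_card]
  have hpos : 0 < Fintype.card ↥K := Fintype.card_pos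
  set c := Fintype.card (Quotient (MulAction.orbitRel ↥K (G ⧸ h.N))) with hc
  set k := Fintype.card ↥K with hk
  have hB' : h.N.index + k = c * k + 1 := by omega
  show h.N.index % k = 1 % k
  calc h.N.index % k = (h.N.index + k) % k := (Nat.add_mod_right _ _).symm
    _ = (c * k + 1) % k := by rw [hB']
    _ = 1 % k := by rw [Nat.add_comm, Nat.add_mul_mod_self_right]

end Cfsg.Agent.Lib.H14.T648
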