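import Mathlib
import Cfsg.Agent.Lib.H14.ThetaDefs
import Cfsg.Agent.Lib.H12.ThetaIND
import Cfsg.Agent.Lib.H21.ThetaLATb
import Cfsg.Agent.Lib.H26.ThetaSUMM1
import Cfsg.Agent.Lib.H24.ThetaSUMM2

/-!
# S1632 piece THS: the functional equation `thetaS B (1/s) = s^12 * thetaS B s` of the theta series of an even
unimodular lattice of rank 24 (from the Gaussian Poisson formula IND, the lattice lemmas LAT and summability).
-/

set_option autoImplicit false

namespace Cfsg.Agent.Lib.H14.Theta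

open Complex Matrix



section THS

variable {n : ℕ} (B : Matrix (Fin n) (Fin n) ℤ)

theorem gterm_Br_zero (s : ℂ) (x : Fin n → ℤ) :
    gterm (Br B) s 0 x = cexp (-(Real.pi : ℂ) * s * ((Bq B x : ℤ) : ℂ)) := by
  unfold gterm
  rw [Cfsg.Agent.Lib.H21.Theta.qf_Br B]
  simp

theorem dterm_Br_zero (s : ℂ) (y : Fin n → ℤ) :
    dterm (Br B) s 0 y = cexp (-(Real.pi : ℂ) * (1 / s) * ((Bq B y : ℤ) : ℂ)) := by
  unfold dterm
  have : (fun i => (y i : ℂ) + I * (0 : Fin n → ℂ) i) = zc y := by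
    funext i
    simp [zc]
  rw [this, Cfsg.Agent.Lib.H21.Theta.qf_Br B]
  congr 1
  ring

theorem tsum_gterm_Br (s : ℂ) : ∑' x : Fin n → ℤ, gterm (Br B) s 0 x = thetaS B s := by
  unfold thetaS
  exact tsum_congr (fun x => gterm_Br_zero B s x)

theorem tsum_dterm_Br_inv (hsymm : B.IsSymm) (hdet : B.det = 1) (s : ℂ) :
    ∑' y : Fin n → ℤ, dterm (Br B⁻¹) s 0 y = thetaS B (1 / s) := by
  obtain ⟨e, he⟩ := Cfsg.Agent.Lib.H21.Theta.exists_equiv_dual B hsymm hdet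
  unfold thetaS
  rw [← e.tsum_eq]
  refine tsum_congr (fun x => ?_)
  rw [dterm_Br_zero, he]

/-- `thetaS B 1 ≠ 0` -/
theorem thetaS_one_ne_zero (hsymm : B.IsSymm) (hpos : ∀ x : Fin n → ℤ, x ≠ 0 → 0 < Bq B x)
    (hdet : B.det = 1) : thetaS B 1 ≠ 0 := by
  have hA : IsPD (Br B) := Cfsg.Agent.Lib.H21.Theta.isPD_Br B hsymm hpos hdet
  have h := Cfsg.Agent.Lib.H24.Theta.summable_gterm (fun A hA σ hσ β => Cfsg.Agent.Lib.H26.Theta.summable_real_gauss A hA σ hσ β) (Br B) hA 1 (by simp) 0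
  have hterm : ∀ x : Fin n → ℤ, cexp (-(Real.pi : ℂ) * 1 * ((Bq B x : ℤ) : ℂ)) =
      ((Real.exp (-Real.pi * ((Bq B x : ℤ) : ℝ)) : ℝ) : ℂ) := by
    intro x
    push_cast
    ring_nf
  have hsum : Summable (fun x : Fin n → ℤ => Real.exp (-Real.pi * ((Bq B x : ℤ) : ℝ))) := by
    refine h.congr (fun x => ?_)
    rw [gterm_Br_zero, hterm, Complex.norm_real, Real.norm_eq_abs, abs_of_pos (Real.exp_pos _)]
  have hpos' : 0 < ∑' x : Fin n → ℤ, Real.exp (-Real.pi * ((Bq B x : ℤ) : ℝ)) :=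
    hsum.tsum_pos (fun x => (Real.exp_pos _).le) 0 (Real.exp_pos _)
  unfold thetaS
  rw [tsum_congr hterm, ← Complex.ofReal_tsum]
  exact_mod_cast hpos'.ne'

end THS

/-- **THS**: the functional equation of the theta series. -/
theorem thetaS_inv (B : Matrix (Fin 24) (Fin 24) ℤ) (hsymm : B.IsSymm)
    (hpos : ∀ x : Fin 24 → ℤ, x ≠ 0 → 0 < Bq B x) (hdet : B.det = 1) (s : ℂ) (hs : 0 < s.re) :
    thetaS B (1 / s) = s ^ 12 * thetaS B s := by
  have hA : IsPD (Br B) := Cfsg.Agent.Lib.H21.Theta.isPD_Br B hsymm hpos hdet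
  obtain ⟨κ, hκ⟩ := Cfsg.Agent.Lib.H12.Theta.gauss_poisson_lin 24 (Br B) (Br B⁻¹) hA (Cfsg.Agent.Lib.H21.Theta.Br_mul_inv B hdet)
  have key : ∀ s : ℂ, 0 < s.re → thetaS B s = κ * (1 / (s ^ (1 / 2 : ℂ)) ^ 24) * thetaS B (1 / s) := by
    intro s hs
    have := hκ s hs 0
    rwa [tsum_gterm_Br, tsum_dterm_Br_inv B hsymm hdet] at this
  have hκ1 : κ = 1 := by
    have h1 := key 1 (by simp)
    have hne := thetaS_one_ne_zero B hsymm hpos hdet
    simp only [Complex.one_cpow, one_pow, div_one, mul_one] at h1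
    have : (κ - 1) * thetaS B 1 = 0 := by linear_combination -h1
    rcases mul_eq_zero.mp this with h | h
    · linear_combination h
    · exact absurd h hne
  have hs0 : s ≠ 0 := by
    intro h0
    simp [h0] at hs
  have hpow : (s ^ (1 / 2 : ℂ)) ^ 24 = s ^ 12 := by
    rw [← Complex.cpow_nat_mul]
    norm_num
  have h := key s hs
  rw [hκ1, hpow, one_mul] at h
  rw [h]
  have : s ^ 12 ≠ 0 := pow_ne_zero _ hs0
  field_simp

end Cfsg.Agent.Lib.H14.Theta
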