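import Mathlib.GroupTheory.Coset.Basic
import Mathlib.GroupTheory.GroupAction.Quotient
import Mathlib.GroupTheory.Index
import Mathlib.Algebra.BigOperators.Group.Finset.Basic
import Mathlib.Tactic.Group
import Mathlib.GroupTheory.OrderOfElement

/-! Relative trace (norm) and a cocycle lemma for a finite group `K` acting on a commutative group
`M`, relative to a subgroup `P` (in use: of index prime to `p`, `M` of exponent `p`). -/

set_option autoImplicit false

namespace Cfsg.Agent.Lib.H14


section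
variable {K : Type*} [Group K] [Finite K] {M : Type*} [CommGroup M]

/-- the relative trace `∏_{k ∈ K/P} k • m` -/
noncomputable def relTrace (ρ : K →* MulAut M) (P : Subgroup K) (m : M) : M :=
  letI := Fintype.ofFinite (K ⧸ P)
  ∏ q : K ⧸ P, ρ q.out m

variable (ρ : K →* MulAut M) (P : Subgroup K)

theorem relTrace_mul (m₁ m₂ : M) : relTrace ρ P (m₁ * m₂) = relTrace ρ P m₁ * relTrace ρ P m₂ := by
  unfold relTrace
  simp only [map_mul]
  exact Finset.prod_mul_distrib

theorem relTrace_one : relTrace ρ P (1 : M) = 1 := by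
  unfold relTrace
  simp

theorem relTrace_inv (m : M) : relTrace ρ P m⁻¹ = (relTrace ρ P m)⁻¹ := by
  have := relTrace_mul ρ P m m⁻¹
  rw [mul_inv_cancel, relTrace_one] at this
  exact eq_inv_of_mul_eq_one_right this.symm

/-- `k ↦ ρ k m` is constant on left cosets of `P` when `P` fixes `m`. -/
theorem apply_mul_of_fixed (m : M) (hm : ∀ t ∈ P, ρ t m = m) (k t : K) (ht : t ∈ P) :
    ρ (k * t) m = ρ k m := by
  rw [map_mul, MulAut.mul_apply, hm t ht]

theorem apply_eq_of_coset (m : M) (hm : ∀ t ∈ P, ρ t m = m) (k k' : K)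
    (h : (k : K ⧸ P) = (k' : K ⧸ P)) : ρ k m = ρ k' m := by
  have h1 : k⁻¹ * k' ∈ P := QuotientGroup.eq.mp h
  have : k' = k * (k⁻¹ * k') := by group
  rw [this, apply_mul_of_fixed ρ P m hm k _ h1]

theorem apply_out (m : M) (hm : ∀ t ∈ P, ρ t m = m) (k : K) :
    ρ ((k : K ⧸ P).out) m = ρ k m :=
  apply_eq_of_coset ρ P m hm _ _ (QuotientGroup.out_eq' _)

/-- the trace of a `P`-fixed element is `K`-fixed -/
theorem apply_relTrace (m : M) (hm : ∀ t ∈ P, ρ t m = m) (k : K) :
    ρ k (relTrace ρ P m) = relTrace ρ P m := by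
  unfold relTrace
  letI := Fintype.ofFinite (K ⧸ P)
  rw [map_prod]
  have h1 : ∀ q : K ⧸ P, ρ k (ρ q.out m) = ρ ((k • q).out) m := by
    intro q
    rw [← MulAut.mul_apply, ← map_mul]
    apply apply_eq_of_coset ρ P m hm
    rw [QuotientGroup.out_eq']
    conv_rhs => rw [← QuotientGroup.out_eq' q]
    rfl
  simp_rw [h1]
  exact Fintype.prod_equiv (MulAction.toPerm k) _ _ (fun q => rfl)

/-- the trace of a `K`-fixed element is its `|K : P|`-th power -/
theorem relTrace_of_fixed (m : M) (hm : ∀ k : K, ρ k m = m) :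
    relTrace ρ P m = m ^ P.index := by
  unfold relTrace
  letI := Fintype.ofFinite (K ⧸ P)
  simp only [hm]
  rw [Finset.prod_const, Finset.card_univ, Subgroup.index_eq_card, Nat.card_eq_fintype_card]

end

section
variable {K : Type*} [Group K] [Finite K] {M : Type*} [CommGroup M]
variable (ρ : K →* MulAut M) (P : Subgroup K)

/-- the bijection of `K ⧸ P` induced by an automorphism of `K` stabilizing `P` -/
noncomputable def cosetEquiv (φ : K ≃* K) (hφ : ∀ t, t ∈ P ↔ φ t ∈ P) : K ⧸ P ≃ K ⧸ P :=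
  Quotient.congr φ.toEquiv (by
    intro a b
    show QuotientGroup.leftRel P a b ↔ QuotientGroup.leftRel P (φ a) (φ b)
    rw [QuotientGroup.leftRel_apply, QuotientGroup.leftRel_apply, ← map_inv, ← map_mul]
    exact hφ _)

theorem cosetEquiv_mk (φ : K ≃* K) (hφ : ∀ t, t ∈ P ↔ φ t ∈ P) (k : K) :
    cosetEquiv P φ hφ (k : K ⧸ P) = ((φ k : K) : K ⧸ P) := rfl

/-- equivariance of the trace -/
theorem relTrace_equivariant (φ : K ≃* K) (hφ : ∀ t, t ∈ P ↔ φ t ∈ P) (σ : M ≃* M)
    (hσ : ∀ k m, σ (ρ k m) = ρ (φ k) (σ m)) (m : M) (hm : ∀ t ∈ P, ρ t m = m) :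
    σ (relTrace ρ P m) = relTrace ρ P (σ m) := by
  have hm' : ∀ t ∈ P, ρ t (σ m) = σ m := by
    intro t ht
    have h1 : φ.symm t ∈ P := by
      rw [hφ]; simpa using ht
    have := hσ (φ.symm t) m
    rw [hm _ h1] at this
    simpa using this.symm
  unfold relTrace
  letI := Fintype.ofFinite (K ⧸ P)
  rw [map_prod]
  have h1 : ∀ q : K ⧸ P, σ (ρ q.out m) = ρ ((cosetEquiv P φ hφ q).out) (σ m) := by
    intro q
    rw [hσ]
    apply apply_eq_of_coset ρ P (σ m) hm'
    rw [QuotientGroup.out_eq']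
    conv_rhs => rw [← QuotientGroup.out_eq' q]
    rfl
  simp_rw [h1]
  exact Fintype.prod_equiv (cosetEquiv P φ hφ) _ _ (fun q => rfl)

/-- **Cocycle lemma**: a cocycle `c : K → M` (with `c (x y) = x • c y * c x`) vanishing on `P`, `M`
of exponent `p`, `|K : P|` prime to `p`; if `K` fixes every `P`-fixed element of `M`, then `c = 1`. -/
theorem cocycle_eq_one {p : ℕ} (hM : ∀ m : M, m ^ p = 1)
    (hidx : (P.index).Coprime p) (c : K → M) (hc : ∀ x y, c (x * y) = ρ x (c y) * c x)
    (hcP : ∀ t ∈ P, c t = 1) (hfix : ∀ m : M, (∀ t ∈ P, ρ t m = m) → ∀ k : K, ρ k m = m) (y : K) :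
    c y = 1 := by
  letI := Fintype.ofFinite (K ⧸ P)
  -- `c` is constant on left cosets
  have hcoset : ∀ k k' : K, (k : K ⧸ P) = (k' : K ⧸ P) → c k = c k' := by
    intro k k' h
    have h1 : k⁻¹ * k' ∈ P := QuotientGroup.eq.mp h
    have : k' = k * (k⁻¹ * k') := by group
    rw [this, hc, hcP _ h1, map_one, one_mul]
  set u : M := ∏ q : K ⧸ P, c q.out with hu
  have key : ∀ y : K, ρ y u * c y ^ P.index = u := by
    intro y
    rw [hu, map_prod]
    have h1 : ∀ q : K ⧸ P, ρ y (c q.out) = c ((y • q).out) * (c y)⁻¹ := by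
      intro q
      have h2 : c (y * q.out) = c ((y • q).out) := by
        apply hcoset
        rw [QuotientGroup.out_eq']
        conv_rhs => rw [← QuotientGroup.out_eq' q]
        rfl
      rw [← h2, hc]
      simp
    simp_rw [h1]
    rw [Finset.prod_mul_distrib, Finset.prod_const, Finset.card_univ,
      ← Nat.card_eq_fintype_card, ← Subgroup.index_eq_card, inv_pow, inv_mul_cancel_right]
    exact Fintype.prod_equiv (MulAction.toPerm y) _ _ (fun q => rfl)
  -- `u` is `P`-fixed, hence `K`-fixed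
  have huP : ∀ t ∈ P, ρ t u = u := by
    intro t ht
    have := key t
    rwa [hcP t ht, one_pow, mul_one] at this
  have huK := hfix u huP
  have h1 : c y ^ P.index = 1 := by
    have := key y
    rw [huK y] at this
    exact mul_left_cancel (a := u) (by rw [this, mul_one])
  have h2 : orderOf (c y) ∣ Nat.gcd P.index p :=
    Nat.dvd_gcd (orderOf_dvd_of_pow_eq_one h1) (orderOf_dvd_of_pow_eq_one (hM _))
  rw [hidx.gcd_eq_one, Nat.dvd_one, orderOf_eq_one_iff] at h2
  exact h2

end

section
variable {K : Type*} [Group K] [Finite K] {M : Type*} [CommGroup M]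

/-- the relative trace as a homomorphism -/
noncomputable def relTraceHom (ρ : K →* MulAut M) (P : Subgroup K) : M →* M where
  toFun := relTrace ρ P
  map_one' := relTrace_one ρ P
  map_mul' := relTrace_mul ρ P

theorem relTraceHom_apply (ρ : K →* MulAut M) (P : Subgroup K) (m : M) :
    relTraceHom ρ P m = relTrace ρ P m := rfl

end

end Cfsg.Agent.Lib.H14
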