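import Cfsg.Agent.Lib.H14.SextAbs
import Cfsg.Agent.Lib.H28.SextTrioBase
import Cfsg.Agent.Lib.H28.M24OctadA8

set_option autoImplicit false

namespace Cfsg.Agent.Lib.H14.TrioConc

open Cfsg Cfsg.Agent.Lib.H28 Cfsg.Agent.Lib.H14.SextAbs
open scoped Pointwise

def tswapTab : List (ℕ × ℕ × List ℕ) := [
  (2702848, 5538256, [3, 3, 1, 4, 4, 0, 3, 0, 0]),
  (2702848, 8536111, [4, 1, 3, 2, 0, 4, 0, 2, 3, 3, 1, 4, 4, 0, 3, 0, 0]),
  (5538256, 8536111, [2, 1, 3, 1, 2, 4, 0, 3, 3, 3, 1, 4, 4, 0, 3, 0, 0])]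

def refKeys : List (List ℕ) := [[],
  [45, 75264, 262592, 2627584, 5275664, 8536066],
  [7680, 131110, 1343744, 2695168, 4194512, 8405001],
  [79872, 131083, 1081536, 2622976, 4456720, 8405028],
  [16391, 535552, 1048912, 2167296, 4489344, 8519720],
  [16426, 592384, 1310864, 2110464, 4227392, 8519685],
  [147489, 294992, 537088, 2165760, 5243264, 8388622],
  [33168, 147468, 594944, 2107904, 5505088, 8388643]]

/-- the standard trio -/
abbrev T0 : Finset (Finset GolayPt) := decL trio0Key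

theorem T0_mem : T0 ∈ trios := trio0_mem_trios

theorem trio0Key_lt : ∀ m ∈ trio0Key, m < 2 ^ 24 := by decide

theorem wsmul_ptsMask (w : List ℕ) (m : ℕ) :
    wordPerm w • ptsMask m = ptsMask (pullMask (wordTab (invWord w)) m) :=
  smul_ptsMask (wordPerm w) (wordTab (invWord w)) (fun p => by
    rw [← wordTab_spec, wordPerm_invWord, Equiv.Perm.inv_def]) m

/-! ### swaps of octads -/

def tswapOK (e : ℕ × ℕ × List ℕ) : Bool :=
  trio0Key.all (fun m => pullMask (wordTab (invWord e.2.2)) m ==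
    (if m = e.1 then e.2.1 else if m = e.2.1 then e.1 else m)) &&
  sameL (trio0Key.map (pullMask (wordTab (invWord e.2.2)))) trio0Key

theorem tswapTab_ok : tswapTab.all tswapOK = true := by decide +kernel

theorem tswapTab_complete : ∀ mi ∈ trio0Key, ∀ mj ∈ trio0Key, mi ≠ mj →
    ∃ e ∈ tswapTab, (e.1 = mi ∧ e.2.1 = mj) ∨ (e.1 = mj ∧ e.2.1 = mi) := by decide +kernel

theorem exists_swap_aux (e : ℕ × ℕ × List ℕ) (he : e ∈ tswapTab) (x y : ↥T0)
    (hx : ptsMask e.1 = (x : Finset GolayPt)) (hy : ptsMask e.2.1 = (y : Finset GolayPt))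
    (h1 : e.1 ∈ trio0Key) (h2 : e.2.1 ∈ trio0Key) :
    ∃ g : ↥(MulAction.stabilizer ↥M24 T0), tetHom T0 g = Equiv.swap x y := by
  have hok := List.all_eq_true.1 tswapTab_ok e he
  unfold tswapOK at hok
  rw [Bool.and_eq_true, List.all_eq_true] at hok
  obtain ⟨hm, hsame⟩ := hok
  have hst : (⟨wordPerm e.2.2, wordPerm_mem_M24 _⟩ : ↥M24) ∈ MulAction.stabilizer ↥M24 T0 := by
    rw [MulAction.mem_stabilizer_iff]
    exact wordPerm_smul_decL_of_sameL hsame
  refine ⟨⟨⟨wordPerm e.2.2, wordPerm_mem_M24 _⟩, hst⟩, ?_⟩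
  apply Equiv.ext
  intro t
  apply Subtype.ext
  show wordPerm e.2.2 • (t : Finset GolayPt) = _
  obtain ⟨m, hmk, hmt⟩ := mem_decL.1 t.2
  have h3 := hm m hmk
  rw [beq_iff_eq] at h3
  rw [← hmt, wsmul_ptsMask, h3]
  by_cases c1 : m = e.1
  · rw [if_pos c1]
    have : t = x := Subtype.ext (by rw [← hmt, c1, hx])
    rw [this, Equiv.swap_apply_left, hy]
  · rw [if_neg c1]
    by_cases c2 : m = e.2.1
    · rw [if_pos c2]
      have : t = y := Subtype.ext (by rw [← hmt, c2, hy])
      rw [this, Equiv.swap_apply_right, hx]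
    · rw [if_neg c2]
      have n1 : t ≠ x := by
        intro h
        apply c1
        apply ptsMask_inj (trio0Key_lt m hmk) (trio0Key_lt _ h1)
        rw [hmt, hx, h]
      have n2 : t ≠ y := by
        intro h
        apply c2
        apply ptsMask_inj (trio0Key_lt m hmk) (trio0Key_lt _ h2)
        rw [hmt, hy, h]
      rw [Equiv.swap_apply_of_ne_of_ne n1 n2, hmt]

theorem exists_swap (x y : ↥T0) (hxy : x ≠ y) :
    ∃ g : ↥(MulAction.stabilizer ↥M24 T0), tetHom T0 g = Equiv.swap x y := by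
  obtain ⟨mi, hmi, hxi⟩ := mem_decL.1 x.2
  obtain ⟨mj, hmj, hyj⟩ := mem_decL.1 y.2
  have hne : mi ≠ mj := by
    intro h
    apply hxy
    apply Subtype.ext
    rw [← hxi, ← hyj, h]
  obtain ⟨e, he, h | h⟩ := tswapTab_complete mi hmi mj hmj hne
  · exact exists_swap_aux e he x y (by rw [h.1, hxi]) (by rw [h.2, hyj]) (by rw [h.1]; exact hmi)
      (by rw [h.2]; exact hmj)
  · rw [Equiv.swap_comm]
    exact exists_swap_aux e he y x (by rw [h.1, hyj]) (by rw [h.2, hxi]) (by rw [h.1]; exact hmj)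
      (by rw [h.2]; exact hmi)

theorem tetHom_surj : Function.Surjective (tetHom T0) := by
  intro e
  induction e using Equiv.Perm.swap_induction_on with
  | one => exact ⟨1, map_one _⟩
  | swap_mul f x y hxy ih =>
    obtain ⟨g, hg⟩ := ih
    obtain ⟨s, hs⟩ := exists_swap x y hxy
    exact ⟨s * g, by rw [map_mul, hg, hs]⟩

/-! ### the seven sextets refining the trio -/

abbrev V := Fin 3 → ZMod 2

def num (v : V) : ℕ := (v 0).val + 2 * (v 1).val + 4 * (v 2).val

def rkey (v : V) : List ℕ := refKeys.getD (num v) []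

def SX (v : V) : Finset (Finset GolayPt) := decL (rkey v)

theorem rkey_sext : ∀ v : V, v ≠ 0 → isSextKey (rkey v) = true := by decide +kernel

theorem rkey_keyOK : ∀ v : V, keyOK (rkey v) = true := by decide +kernel

theorem rkey_inj : ∀ v v' : V, rkey v = rkey v' → v = v' := by decide +kernel

def refinesB (k : List ℕ) : Bool := k.all (fun m => trio0Key.any (fun om => m &&& om == m))

theorem rkey_refines : ∀ v : V, refinesB (rkey v) = true := by decide +kernel

theorem refines_complete :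
    (flatK sextKs 1771).all (fun k => !refinesB k || refKeys.contains k) = true := by decide +kernel

theorem refKeys_rkey : ∀ k ∈ refKeys, ∃ v : V, rkey v = k := by decide +kernel

theorem SX_mem (v : V) (hv : v ≠ 0) : SX v ∈ sextets := decL_mem_sextets (rkey_sext v hv)

theorem SX_zero : SX 0 = ∅ := rfl

theorem SX_injective : Function.Injective SX := by
  intro v v' h
  exact rkey_inj v v' (eq_of_decL_eq (rkey_keyOK v) (rkey_keyOK v') h)

theorem rkey_lt (v : V) : ∀ m ∈ rkey v, m < 2 ^ 24 := by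
  have h := rkey_keyOK v
  unfold keyOK at h
  rw [Bool.and_eq_true, List.all_eq_true] at h
  intro m hm
  have := h.1 m hm
  rwa [decide_eq_true_eq] at this

theorem ptsMask_subset_of_and {m om : ℕ} (h : m &&& om = m) : ptsMask m ⊆ ptsMask om := by
  intro p hp
  rw [mem_ptsMask] at hp ⊢
  rw [← h, Nat.testBit_and, Bool.and_eq_true] at hp
  exact hp.2

theorem and_of_ptsMask_subset {m om : ℕ} (hm : m < 2 ^ 24) (h : ptsMask m ⊆ ptsMask om) :
    m &&& om = m := by
  apply Nat.eq_of_testBit_eq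
  intro i
  rw [Nat.testBit_and]
  by_cases hi : i < 24
  · by_cases hb : m.testBit i = true
    · have : gPt i ∈ ptsMask m := by rw [mem_ptsMask, gIdx_gPt hi]; exact hb
      have := h this
      rw [mem_ptsMask, gIdx_gPt hi] at this
      rw [hb, this]; rfl
    · rw [Bool.not_eq_true] at hb
      rw [hb]; rfl
  · have : m.testBit i = false := by
      apply Nat.testBit_eq_false_of_lt
      exact lt_of_lt_of_le hm (Nat.pow_le_pow_right (by norm_num) (by omega))
    rw [this]; rfl


/-! ### the action on the refining sextets -/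

abbrev StT := ↥(MulAction.stabilizer ↥M24 T0)

/-- the underlying permutation -/
abbrev prm (g : StT) : Equiv.Perm GolayPt := ((g : ↥M24) : Equiv.Perm GolayPt)

theorem prm_mem (g : StT) : prm g ∈ M24 := (g : ↥M24).2

theorem prm_T0 (g : StT) : prm g • T0 = T0 := MulAction.mem_stabilizer_iff.1 g.2

theorem prm_one : prm 1 = 1 := rfl

theorem prm_mul (g h : StT) : prm (g * h) = prm g * prm h := rfl

theorem prm_inv (g : StT) : prm g⁻¹ = (prm g)⁻¹ := rfl

theorem prm_injective : Function.Injective prm := fun _ _ h => Subtype.ext (Subtype.ext h)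

theorem prm_smul_mem_T0 (g : StT) {o : Finset GolayPt} (ho : o ∈ T0) : prm g • o ∈ T0 := by
  have : prm g • o ∈ prm g • T0 := Finset.smul_mem_smul_finset ho
  rwa [prm_T0] at this

theorem exists_SX_smul (g : StT) (v : V) : ∃ v', prm g • SX v = SX v' := by
  by_cases hv : v = 0
  · subst hv
    exact ⟨0, by rw [SX_zero, Finset.smul_finset_empty]⟩
  · have hgS : prm g • SX v ∈ sextets := smul_mem_sextets (prm_mem g) (SX_mem v hv)
    obtain ⟨k, hk, hkS⟩ := exists_sextKey hgS
    have hkOK := sextKey_keyOK hk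
    have hklt : ∀ m ∈ k, m < 2 ^ 24 := by
      unfold keyOK at hkOK
      rw [Bool.and_eq_true, List.all_eq_true] at hkOK
      intro m hm
      have := hkOK.1 m hm
      rwa [decide_eq_true_eq] at this
    have href : refinesB k = true := by
      unfold refinesB
      rw [List.all_eq_true]
      intro m hm
      rw [List.any_eq_true]
      have h1 : ptsMask m ∈ prm g • SX v := by
        rw [← hkS]; exact mem_decL.2 ⟨m, hm, rfl⟩
      obtain ⟨t, ht, hgt⟩ := Finset.mem_smul_finset.1 h1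
      obtain ⟨m0, hm0, rfl⟩ := mem_decL.1 ht
      have h2 := rkey_refines v
      unfold refinesB at h2
      rw [List.all_eq_true] at h2
      have h2' := h2 m0 hm0
      rw [List.any_eq_true] at h2'
      obtain ⟨om0, hom0, h3⟩ := h2'
      rw [beq_iff_eq] at h3
      have h4 : ptsMask m0 ⊆ ptsMask om0 := ptsMask_subset_of_and h3
      have h5 : prm g • ptsMask om0 ∈ T0 := prm_smul_mem_T0 g (mem_decL.2 ⟨om0, hom0, rfl⟩)
      obtain ⟨om, hom, h6⟩ := mem_decL.1 h5
      refine ⟨om, hom, ?_⟩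
      rw [beq_iff_eq]
      apply and_of_ptsMask_subset (hklt m hm)
      rw [h6, ← hgt]
      exact Finset.smul_finset_subset_smul_finset h4
    have h7 := List.all_eq_true.1 refines_complete k hk
    rw [href] at h7
    simp only [Bool.not_true, Bool.false_or] at h7
    obtain ⟨v', hv'⟩ := refKeys_rkey k (List.contains_iff_mem.1 h7)
    refine ⟨v', ?_⟩
    show prm g • SX v = decL (rkey v')
    rw [hv', hkS]

noncomputable def rho (g : StT) : V → V := fun v => Classical.choose (exists_SX_smul g v)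

theorem rho_spec (g : StT) (v : V) : prm g • SX v = SX (rho g v) :=
  Classical.choose_spec (exists_SX_smul g v)

theorem rho_one : rho 1 = id := by
  funext v
  apply SX_injective
  rw [← rho_spec, prm_one, one_smul]
  rfl

theorem rho_mul (g h : StT) : rho (g * h) = rho g ∘ rho h := by
  funext v
  apply SX_injective
  rw [← rho_spec, Function.comp_apply, ← rho_spec, ← rho_spec, prm_mul, mul_smul]

theorem rho_zero (g : StT) : rho g 0 = 0 := by
  apply SX_injective
  rw [← rho_spec, SX_zero, Finset.smul_finset_empty]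

theorem rho_inv_left (g : StT) (v : V) : rho g⁻¹ (rho g v) = v := by
  have := congrFun (rho_mul g⁻¹ g) v
  rw [inv_mul_cancel, rho_one] at this
  exact this.symm

theorem rho_inv_right (g : StT) (v : V) : rho g (rho g⁻¹ v) = v := by
  have := congrFun (rho_mul g g⁻¹) v
  rw [mul_inv_cancel, rho_one] at this
  exact this.symm

theorem rho_injective (g : StT) : Function.Injective (rho g) :=
  Function.LeftInverse.injective (rho_inv_left g)

/-! ### collinearity -/

def Coll (A B C : Finset (Finset GolayPt)) : Prop := ∃ a ∈ A, ∃ b ∈ B, symmDiff a b ∈ C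

theorem coll_smul (σ : Equiv.Perm GolayPt) {A B C : Finset (Finset GolayPt)} (h : Coll A B C) :
    Coll (σ • A) (σ • B) (σ • C) := by
  obtain ⟨a, ha, b, hb, hc⟩ := h
  refine ⟨σ • a, Finset.smul_mem_smul_finset ha, σ • b, Finset.smul_mem_smul_finset hb, ?_⟩
  rw [← Finset.smul_finset_symmDiff]
  exact Finset.smul_mem_smul_finset hc

theorem ptsMask_xor (a b : ℕ) : symmDiff (ptsMask a) (ptsMask b) = ptsMask (a ^^^ b) := by
  ext p
  rw [Finset.mem_symmDiff, mem_ptsMask, mem_ptsMask, mem_ptsMask, Nat.testBit_xor]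
  cases a.testBit (gIdx p) <;> cases b.testBit (gIdx p) <;> simp

def collB (u v w : V) : Bool :=
  (rkey u).any (fun a => (rkey v).any (fun b => (rkey w).contains (a ^^^ b)))

theorem collB_add : ∀ u v : V, u ≠ 0 → v ≠ 0 → u ≠ v → collB u v (u + v) = true := by decide +kernel

theorem collB_only' : ∀ u v w : V, (u ≠ 0 ∧ v ≠ 0 ∧ w ≠ 0 ∧ u ≠ v ∧ collB u v w = true) → w = u + v := by
  decide +kernel

theorem collB_only (u v w : V) (hu : u ≠ 0) (hv : v ≠ 0) (hw : w ≠ 0) (huv : u ≠ v)
    (h : collB u v w = true) : w = u + v := collB_only' u v w ⟨hu, hv, hw, huv, h⟩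

theorem coll_of_collB {u v w : V} (h : collB u v w = true) : Coll (SX u) (SX v) (SX w) := by
  unfold collB at h
  rw [List.any_eq_true] at h
  obtain ⟨a, ha, h⟩ := h
  rw [List.any_eq_true] at h
  obtain ⟨b, hb, h⟩ := h
  rw [List.contains_iff_mem] at h
  exact ⟨ptsMask a, mem_decL.2 ⟨a, ha, rfl⟩, ptsMask b, mem_decL.2 ⟨b, hb, rfl⟩, by
    rw [ptsMask_xor]; exact mem_decL.2 ⟨_, h, rfl⟩⟩

theorem collB_of_coll {u v w : V} (h : Coll (SX u) (SX v) (SX w)) : collB u v w = true := by
  obtain ⟨a', ha', b', hb', hc'⟩ := h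
  obtain ⟨a, ha, rfl⟩ := mem_decL.1 ha'
  obtain ⟨b, hb, rfl⟩ := mem_decL.1 hb'
  rw [ptsMask_xor] at hc'
  obtain ⟨c, hc, hce⟩ := mem_decL.1 hc'
  have hcab : c = a ^^^ b :=
    ptsMask_inj (rkey_lt w c hc) (Nat.xor_lt_two_pow (rkey_lt u a ha) (rkey_lt v b hb)) hce
  unfold collB
  rw [List.any_eq_true]
  refine ⟨a, ha, ?_⟩
  rw [List.any_eq_true]
  refine ⟨b, hb, ?_⟩
  rw [List.contains_iff_mem, ← hcab]
  exact hc

theorem rho_add (g : StT) (u v : V) : rho g (u + v) = rho g u + rho g v := by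
  by_cases hu : u = 0
  · rw [hu, zero_add, rho_zero, zero_add]
  by_cases hv : v = 0
  · rw [hv, add_zero, rho_zero, add_zero]
  by_cases huv : u = v
  · rw [huv, CharTwo.add_self_eq_zero, rho_zero, CharTwo.add_self_eq_zero]
  have huv0 : u + v ≠ 0 := by
    intro h
    apply huv
    have := congrArg (· + v) h
    simp only [add_assoc, CharTwo.add_self_eq_zero, add_zero, zero_add] at this
    exact this
  have hne : ∀ w : V, w ≠ 0 → rho g w ≠ 0 := by
    intro w hw h
    apply hw
    apply rho_injective g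
    rw [h, rho_zero]
  have h1 := coll_smul (prm g) (coll_of_collB (collB_add u v hu hv huv))
  rw [rho_spec, rho_spec, rho_spec] at h1
  exact collB_only _ _ _ (hne u hu) (hne v hv) (hne _ huv0)
    (fun h => huv (rho_injective g h)) (collB_of_coll h1)

/-- the linear automorphism induced on `V` -/
noncomputable def rhoLin (g : StT) : V ≃ₗ[ZMod 2] V where
  toFun := rho g
  invFun := rho g⁻¹
  map_add' := rho_add g
  map_smul' := by
    intro c v
    have hc : c = 0 ∨ c = 1 := by revert c; decide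
    rcases hc with rfl | rfl
    · simp only [zero_smul, RingHom.id_apply]
      exact rho_zero g
    · simp only [one_smul, RingHom.id_apply]
  left_inv := rho_inv_left g
  right_inv := rho_inv_right g

noncomputable def rhoHom : StT →* (V ≃ₗ[ZMod 2] V) where
  toFun := rhoLin
  map_one' := LinearEquiv.ext (congrFun rho_one)
  map_mul' g h := LinearEquiv.ext (congrFun (rho_mul g h))

theorem mem_ker_rhoHom (g : StT) : g ∈ rhoHom.ker ↔ ∀ v, prm g • SX v = SX v := by
  rw [MonoidHom.mem_ker]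
  constructor
  · intro h v
    have : rho g v = v := by
      have := congrArg (fun e : V ≃ₗ[ZMod 2] V => e v) h
      exact this
    rw [rho_spec, this]
  · intro h
    apply LinearEquiv.ext
    intro v
    show rho g v = v
    apply SX_injective
    rw [← rho_spec, h]


/-! ### the kernel of the action on octads and refining sextets -/

def sepB (x y z : ℕ) : Bool :=
  refKeys.any (fun k => k.any (fun t => t.testBit x && t.testBit y && !t.testBit z))

theorem sep_ok : trio0Key.all (fun om => (List.range 24).all (fun x => (List.range 24).all (fun y =>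
    (List.range 24).all (fun z =>
      !(om.testBit x && om.testBit y && om.testBit z && x != y && z != x && z != y) || sepB x y z))))
    = true := by decide +kernel

theorem rkey_zero : rkey 0 = [] := rfl

theorem exists_sep {o : Finset GolayPt} (ho : o ∈ T0) {x y z : GolayPt} (hx : x ∈ o) (hy : y ∈ o)
    (hz : z ∈ o) (hxy : x ≠ y) (hzx : z ≠ x) (hzy : z ≠ y) :
    ∃ v : V, v ≠ 0 ∧ ∃ t ∈ SX v, x ∈ t ∧ y ∈ t ∧ z ∉ t := by
  obtain ⟨om, hom, rfl⟩ := mem_decL.1 ho
  rw [mem_ptsMask] at hx hy hz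
  have h := sep_ok
  rw [List.all_eq_true] at h
  have h1 := h om hom
  rw [List.all_eq_true] at h1
  have h2 := h1 (gIdx x) (List.mem_range.2 (gIdx_lt x))
  rw [List.all_eq_true] at h2
  have h3 := h2 (gIdx y) (List.mem_range.2 (gIdx_lt y))
  rw [List.all_eq_true] at h3
  have h4 := h3 (gIdx z) (List.mem_range.2 (gIdx_lt z))
  have e1 : (gIdx x != gIdx y) = true := by
    rw [bne_iff_ne]; exact fun h => hxy (gIdx_injective h)
  have e2 : (gIdx z != gIdx x) = true := by
    rw [bne_iff_ne]; exact fun h => hzx (gIdx_injective h)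
  have e3 : (gIdx z != gIdx y) = true := by
    rw [bne_iff_ne]; exact fun h => hzy (gIdx_injective h)
  rw [hx, hy, hz, e1, e2, e3] at h4
  simp only [Bool.and_self, Bool.not_true, Bool.false_or] at h4
  unfold sepB at h4
  rw [List.any_eq_true] at h4
  obtain ⟨k, hk, h5⟩ := h4
  rw [List.any_eq_true] at h5
  obtain ⟨t, ht, h6⟩ := h5
  simp only [Bool.and_eq_true, Bool.not_eq_true'] at h6
  obtain ⟨v, rfl⟩ := refKeys_rkey k hk
  refine ⟨v, ?_, ptsMask t, mem_decL.2 ⟨t, ht, rfl⟩, ?_, ?_, ?_⟩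
  · rintro rfl
    rw [rkey_zero] at ht
    exact absurd ht (List.not_mem_nil)
  · rw [mem_ptsMask]; exact h6.1.1
  · rw [mem_ptsMask]; exact h6.1.2
  · rw [mem_ptsMask, h6.2]; exact Bool.false_ne_true

/-- the kernel conditions -/
structure InKer (g : StT) : Prop where
  sext : ∀ v, prm g • SX v = SX v
  oct : ∀ o ∈ T0, prm g • o = o

theorem InKer.mul {g h : StT} (hg : InKer g) (hh : InKer h) : InKer (g * h) :=
  ⟨fun v => by rw [prm_mul, mul_smul, hh.sext, hg.sext],
   fun o ho => by rw [prm_mul, mul_smul, hh.oct o ho, hg.oct o ho]⟩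

theorem InKer.inv {g : StT} (hg : InKer g) : InKer g⁻¹ :=
  ⟨fun v => by rw [prm_inv, inv_smul_eq_iff, hg.sext],
   fun o ho => by rw [prm_inv, inv_smul_eq_iff, hg.oct o ho]⟩

theorem tetrad_fixed {g : StT} (hg : InKer g) {v : V} (hv : v ≠ 0) {t : Finset GolayPt}
    (ht : t ∈ SX v) {x : GolayPt} (hx : x ∈ t) (hgx : prm g x ∈ t) : prm g • t = t := by
  by_contra hne
  have h1 : prm g • t ∈ SX v := by
    have : prm g • t ∈ prm g • SX v := Finset.smul_mem_smul_finset ht
    rwa [hg.sext v] at this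
  have hd := sextet_disjoint (SX_mem v hv) h1 ht hne
  have h2 : prm g x ∈ prm g • t := Finset.smul_mem_smul_finset hx
  exact Finset.disjoint_left.1 hd h2 hgx

theorem smul_mem_oct {g : StT} (hg : InKer g) {o : Finset GolayPt} (ho : o ∈ T0) {y : GolayPt}
    (hy : y ∈ o) : prm g y ∈ o := by
  have : prm g y ∈ prm g • o := Finset.smul_mem_smul_finset hy
  rwa [hg.oct o ho] at this

theorem fix_octad {g : StT} (hg : InKer g) {o : Finset GolayPt} (ho : o ∈ T0) {x : GolayPt}
    (hx : x ∈ o) (hgx : prm g x = x) : ∀ y ∈ o, prm g y = y := by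
  intro y hy
  by_contra hne
  have hyx : x ≠ y := by
    rintro rfl
    exact hne hgx
  have hz : prm g y ∈ o := smul_mem_oct hg ho hy
  have hzx : prm g y ≠ x := by
    intro h
    rw [← hgx] at h
    exact hyx ((prm g).injective h).symm
  obtain ⟨v, hv, t, ht, hxt, hyt, hzt⟩ := exists_sep ho hx hy hz hyx hzx hne
  have hfix := tetrad_fixed hg hv ht hxt (by rw [hgx]; exact hxt)
  apply hzt
  have : prm g y ∈ prm g • t := Finset.smul_mem_smul_finset hyt
  rwa [hfix] at this

theorem T0_cover : ∀ k < 24, trio0Key.any (fun om => om.testBit k) = true := by decide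

theorem exists_oct (x : GolayPt) : ∃ o ∈ T0, x ∈ o := by
  have := T0_cover (gIdx x) (gIdx_lt x)
  rw [List.any_eq_true] at this
  obtain ⟨om, hom, h⟩ := this
  exact ⟨ptsMask om, mem_decL.2 ⟨om, hom, rfl⟩, by rw [mem_ptsMask]; exact h⟩

theorem sq_of_inKer {g : StT} (hg : InKer g) : g * g = 1 := by
  apply prm_injective
  rw [prm_mul, prm_one]
  apply Equiv.ext
  intro x
  show prm g (prm g x) = x
  obtain ⟨o, ho, hx⟩ := exists_oct x
  by_cases hgx : prm g x = x
  · rw [hgx, hgx]
  · by_contra hne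
    have hy : prm g x ∈ o := smul_mem_oct hg ho hx
    have hz : prm g (prm g x) ∈ o := smul_mem_oct hg ho hy
    have hzy : prm g (prm g x) ≠ prm g x := by
      intro h
      have := fix_octad hg ho hy h x hx
      exact hgx this
    obtain ⟨v, hv, t, ht, hxt, hyt, hzt⟩ := exists_sep ho hx hy hz (Ne.symm hgx) hne hzy
    have hfix := tetrad_fixed hg hv ht hxt hyt
    apply hzt
    have : prm g (prm g x) ∈ prm g • t := Finset.smul_mem_smul_finset hyt
    rwa [hfix] at this

/-! ### the homomorphism onto `GL₃(2) × S₃` -/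

noncomputable def GLE : (V ≃ₗ[ZMod 2] V) ≃* GL (Fin 3) (ZMod 2) :=
  (LinearMap.GeneralLinearGroup.generalLinearEquiv (ZMod 2) V).symm.trans
    Matrix.GeneralLinearGroup.toLin.symm

noncomputable def e3 : ↥T0 ≃ Fin 3 := Finset.equivFinOfCardEq T0_mem.1

noncomputable def Phi : StT →* GL (Fin 3) (ZMod 2) × Equiv.Perm (Fin 3) :=
  (GLE.toMonoidHom.comp rhoHom).prod (e3.permCongrHom.toMonoidHom.comp (tetHom T0))

theorem mem_ker_Phi (g : StT) : g ∈ Phi.ker ↔ InKer g := by
  rw [MonoidHom.mem_ker]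
  unfold Phi
  rw [MonoidHom.prod_apply, Prod.mk_eq_one]
  simp only [MonoidHom.coe_comp, MulEquiv.coe_toMonoidHom, Function.comp_apply,
    MulEquiv.map_eq_one_iff]
  rw [← MonoidHom.mem_ker, ← MonoidHom.mem_ker, mem_ker_rhoHom, mem_ker_tetHom]
  exact ⟨fun h => ⟨h.1, h.2⟩, fun h => ⟨h.sext, h.oct⟩⟩

def o1m : ℕ := 2702848
def o2m : ℕ := 5538256

theorem o1_mem : ptsMask o1m ∈ T0 := mem_decL.2 ⟨o1m, by decide, rfl⟩
theorem o2_mem : ptsMask o2m ∈ T0 := mem_decL.2 ⟨o2m, by decide, rfl⟩
theorem x1_mem : gPt 9 ∈ ptsMask o1m := by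
  rw [mem_ptsMask, gIdx_gPt (by norm_num)]; decide
theorem x2_mem : gPt 4 ∈ ptsMask o2m := by
  rw [mem_ptsMask, gIdx_gPt (by norm_num)]; decide
theorem x2_not_mem : gPt 4 ∉ ptsMask o1m := by
  rw [mem_ptsMask, gIdx_gPt (by norm_num)]; decide

theorem card_ker_le : Nat.card ↥Phi.ker ≤ 64 := by
  have hk : ∀ g : ↥Phi.ker, InKer (g : StT) := fun g => (mem_ker_Phi _).1 g.2
  let F : ↥Phi.ker → ↥(ptsMask o1m) × ↥(ptsMask o2m) := fun g =>
    (⟨prm (g : StT) (gPt 9), smul_mem_oct (hk g) o1_mem x1_mem⟩,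
     ⟨prm (g : StT) (gPt 4), smul_mem_oct (hk g) o2_mem x2_mem⟩)
  have hF : Function.Injective F := by
    intro g g' hgg
    have h1 : prm (g : StT) (gPt 9) = prm (g' : StT) (gPt 9) :=
      congrArg (fun p => (p.1 : GolayPt)) hgg
    have h2 : prm (g : StT) (gPt 4) = prm (g' : StT) (gPt 4) :=
      congrArg (fun p => (p.2 : GolayPt)) hgg
    have hh : InKer ((g : StT)⁻¹ * (g' : StT)) := (hk g).inv.mul (hk g')
    have e1 : prm ((g : StT)⁻¹ * (g' : StT)) (gPt 9) = gPt 9 := by
      rw [prm_mul, prm_inv, Equiv.Perm.mul_apply, ← h1, Equiv.Perm.inv_def, Equiv.symm_apply_apply]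
    have e2 : prm ((g : StT)⁻¹ * (g' : StT)) (gPt 4) = gPt 4 := by
      rw [prm_mul, prm_inv, Equiv.Perm.mul_apply, ← h2, Equiv.Perm.inv_def, Equiv.symm_apply_apply]
    have hfix := fix_octad hh o1_mem x1_mem e1
    have hoct : ptsMask o1m ∈ octads := T0_mem.2.1 _ o1_mem
    have hmem : prm ((g : StT)⁻¹ * (g' : StT)) ∈
        M24 ⊓ fixingSubgroup (Equiv.Perm GolayPt) ((ptsMask o1m : Finset GolayPt) : Set GolayPt) := by
      refine Subgroup.mem_inf.2 ⟨prm_mem _, ?_⟩
      rw [mem_fixingSubgroup_iff]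
      intro y hy
      exact hfix y hy
    have hone := octad_K_free hoct hmem x2_not_mem e2
    have : (g : StT)⁻¹ * (g' : StT) = 1 := prm_injective (by rw [hone, prm_one])
    apply Subtype.ext
    exact (inv_mul_eq_one.1 this)
  have h8 : ∀ m ∈ trio0Key, Nat.card ↥(ptsMask m) = 8 := by
    intro m hm
    rw [Nat.card_eq_fintype_card, Fintype.card_coe]
    exact (T0_mem.2.1 _ (mem_decL.2 ⟨m, hm, rfl⟩)).2
  have hc := Nat.card_le_card_of_injective F hF
  rw [Nat.card_prod, h8 o1m (by decide), h8 o2m (by decide)] at hc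
  exact hc

theorem card_target : Nat.card (GL (Fin 3) (ZMod 2) × Equiv.Perm (Fin 3)) = 1008 := by
  rw [Nat.card_prod, Matrix.card_GL_field, Nat.card_eq_fintype_card (α := Equiv.Perm (Fin 3)),
    Fintype.card_perm, Fintype.card_fin, ZMod.card]
  decide

theorem Phi_facts (hc : Nat.card StT = 64512) :
    Nat.card ↥Phi.ker = 64 ∧ Function.Surjective Phi := by
  have h1 : Nat.card ↥Phi.ker * Phi.ker.index = Nat.card StT := Subgroup.card_mul_index _
  rw [Subgroup.index_ker, hc] at h1
  have h2 : Nat.card ↥Phi.range ≤ 1008 := by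
    rw [← card_target]
    exact Subgroup.card_le_card_group _
  have h3 := card_ker_le
  have h4 : Nat.card ↥Phi.ker = 64 ∧ Nat.card ↥Phi.range = 1008 := by
    constructor <;> nlinarith
  refine ⟨h4.1, ?_⟩
  rw [← MonoidHom.range_eq_top]
  apply Subgroup.eq_top_of_card_eq
  rw [h4.2, card_target]

theorem trio0_structure (hc : Nat.card StT = 64512) :
    ∃ (N : Subgroup StT) (_ : N.Normal), Nat.card N = 64 ∧ (∀ x ∈ N, x * x = 1) ∧
      Nonempty (StT ⧸ N ≃* GL (Fin 3) (ZMod 2) × Equiv.Perm (Fin 3)) := by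
  obtain ⟨h64, hsurj⟩ := Phi_facts hc
  exact ⟨Phi.ker, MonoidHom.normal_ker Phi, h64, fun x hx => sq_of_inKer ((mem_ker_Phi x).1 hx),
    ⟨QuotientGroup.quotientKerEquivOfSurjective Phi hsurj⟩⟩

end Cfsg.Agent.Lib.H14.TrioConc
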