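import Mathlib
import Cfsg.Agent.Lib.H14.F16

set_option autoImplicit false
set_option linter.unusedSimpArgs false

/-! # Three by three matrices over the field with sixteen elements as lists of lists -/

namespace Cfsg.Agent.Lib.H14.U34Mat

open Matrix Cfsg.Agent.Lib.H14 Cfsg.Agent.Lib.H14.F16

/-- list matrices -/
abbrev LM : Type := List (List F16)

/-- the entry -/
def ent (L : LM) (i j : ℕ) : F16 := (L.getD i []).getD j 0

/-- the list matrix of a function -/
def mkL (f : ℕ → ℕ → F16) : LM := (List.range 3).map fun i => (List.range 3).map fun j => f i j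

/-- the matrix of a list matrix -/
def toM (L : LM) : Matrix (Fin 3) (Fin 3) F16 := fun i j => ent L i.val j.val

theorem ent_mkL (f : ℕ → ℕ → F16) (i j : ℕ) (hi : i < 3) (hj : j < 3) : ent (mkL f) i j = f i j := by
  unfold ent mkL
  have h1 : i < ((List.range 3).map fun i => (List.range 3).map fun j => f i j).length := by
    simpa using hi
  rw [List.getD_eq_getElem _ _ h1, List.getElem_map, List.getElem_range]
  have h2 : j < ((List.range 3).map fun j => f i j).length := by simpa using hj
  rw [List.getD_eq_getElem _ _ h2, List.getElem_map, List.getElem_range]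

theorem toM_mkL (f : ℕ → ℕ → F16) (i j : Fin 3) : toM (mkL f) i j = f i.val j.val := by
  unfold toM
  rw [ent_mkL f _ _ i.isLt j.isLt]

/-- sum of three terms -/
def sum3 (g : ℕ → F16) : F16 := g 0 + g 1 + g 2

theorem sum3_eq (g : ℕ → F16) : sum3 g = ∑ k : Fin 3, g k.val := by
  unfold sum3
  rw [Fin.sum_univ_three]
  rfl

/-- product -/
def mulL (A B : LM) : LM := mkL fun i j => sum3 fun k => ent A i k * ent B k j

theorem toM_mulL (A B : LM) : toM (mulL A B) = toM A * toM B := by
  ext i j
  unfold mulL
  rw [toM_mkL, sum3_eq, Matrix.mul_apply]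
  rfl

/-- transpose -/
def trL (A : LM) : LM := mkL fun i j => ent A j i

theorem toM_trL (A : LM) : toM (trL A) = (toM A)ᵀ := by
  ext i j
  unfold trL
  rw [toM_mkL]
  rfl

/-- entrywise Frobenius -/
def frobL (A : LM) : LM := mkL fun i j => frob (ent A i j)

theorem toM_frobL (A : LM) : toM (frobL A) = (toM A).map fun x => x ^ 4 := by
  ext i j
  unfold frobL
  rw [toM_mkL, frob_eq]
  rfl

/-- identity -/
def idL : LM := mkL fun i j => if i = j then 1 else 0

theorem toM_idL : toM idL = 1 := by
  ext i j
  unfold idL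
  rw [toM_mkL, Matrix.one_apply]
  by_cases h : i = j
  · rw [if_pos h, if_pos (by rw [h])]
  · rw [if_neg h, if_neg (fun h' => h (Fin.ext h'))]

/-- equality test -/
def eqL (A B : LM) : Bool :=
  (List.range 3).all fun i => (List.range 3).all fun j => ent A i j == ent B i j

theorem eqL_iff (A B : LM) : eqL A B = true ↔ toM A = toM B := by
  unfold eqL
  rw [List.all_eq_true]
  constructor
  · intro h
    ext i j
    have h1 := h i.val (List.mem_range.2 i.isLt)
    rw [List.all_eq_true] at h1
    have h2 := h1 j.val (List.mem_range.2 j.isLt)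
    rw [beq_iff_eq] at h2
    exact h2
  · intro h i hi
    rw [List.all_eq_true]
    intro j hj
    rw [beq_iff_eq]
    have hi' := List.mem_range.1 hi
    have hj' := List.mem_range.1 hj
    exact congrFun (congrFun h ⟨i, hi'⟩) ⟨j, hj'⟩

/-- the even half of the determinant -/
def PM (M : Matrix (Fin 3) (Fin 3) F16) : F16 :=
  M 0 0 * M 1 1 * M 2 2 + M 0 1 * M 1 2 * M 2 0 + M 0 2 * M 1 0 * M 2 1

/-- the odd half of the determinant -/
def QM (M : Matrix (Fin 3) (Fin 3) F16) : F16 :=
  M 0 0 * M 1 2 * M 2 1 + M 0 1 * M 1 0 * M 2 2 + M 0 2 * M 1 1 * M 2 0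

theorem det_eq (M : Matrix (Fin 3) (Fin 3) F16) : M.det = PM M + QM M := by
  rw [Matrix.det_fin_three]
  unfold PM QM
  simp only [F16.sub_eq_add']
  ring

/-- determinant -/
def detL (L : LM) : F16 := PM (toM L) + QM (toM L)

theorem toM_detL (L : LM) : (toM L).det = detL L := det_eq _

/-- the unitarity test -/
def isU (L : LM) : Bool := eqL (mulL (trL L) (frobL L)) idL

theorem isU_iff (L : LM) : isU L = true ↔ (toM L)ᵀ * (toM L).map (fun x => x ^ 4) = 1 := by
  unfold isU
  rw [eqL_iff, toM_mulL, toM_trL, toM_frobL, toM_idL]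

/-- products of lists -/
def prodL : List LM → LM
  | [] => idL
  | A :: l => mulL A (prodL l)

theorem toM_prodL (l : List LM) : toM (prodL l) = (l.map toM).prod := by
  induction l with
  | nil => exact toM_idL
  | cons A l ih =>
    show toM (mulL A (prodL l)) = _
    rw [toM_mulL, ih, List.map_cons, List.prod_cons]

/-- powers -/
def powL (A : LM) : ℕ → LM
  | 0 => idL
  | n + 1 => mulL (powL A n) A

theorem toM_powL (A : LM) (n : ℕ) : toM (powL A n) = toM A ^ n := by
  induction n with
  | zero => exact toM_idL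
  | succ n ih =>
    show toM (mulL (powL A n) A) = _
    rw [toM_mulL, ih, pow_succ]

end Cfsg.Agent.Lib.H14.U34Mat
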