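import Mathlib
import Cfsg.Prelude.Def_Classical
import Cfsg.Agent.Lib.H2.Spec5
import Cfsg.Agent.Lib.H14.U34Mat

set_option autoImplicit false
set_option linter.unusedSimpArgs false

/-! # The group `SU(3,4)` over the concrete field with sixteen elements: basic elements -/

namespace Cfsg.Agent.Lib.H14.U34A

open Matrix hiding SpecialLinearGroup
open Matrix (SpecialLinearGroup)
open Cfsg.Agent.Lib.H14 Cfsg.Agent.Lib.H14.F16 Cfsg.Agent.Lib.H14.U34Mat

/-- the special unitary group -/
abbrev SU34 : Type := ↥(Cfsg.SU 3 F16 4)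

/-- the matrix of an element -/
abbrev mat (g : SU34) : Matrix (Fin 3) (Fin 3) F16 :=
  ((g : SpecialLinearGroup (Fin 3) F16) : Matrix (Fin 3) (Fin 3) F16)

theorem mat_one : mat 1 = 1 := rfl

theorem mat_mul (g h : SU34) : mat (g * h) = mat g * mat h := rfl

theorem mat_pow (g : SU34) (n : ℕ) : mat (g ^ n) = mat g ^ n := by
  induction n with
  | zero => rfl
  | succ n ih => rw [pow_succ, pow_succ, mat_mul, ih]

theorem mat_inj {g h : SU34} (e : mat g = mat h) : g = h := Subtype.ext (Subtype.ext e)

theorem det_mat (g : SU34) : (mat g).det = 1 := g.1.2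

/-- the Frobenius map -/
def frobH : F16 →+* F16 where
  toFun x := x ^ 4
  map_one' := by decide
  map_mul' := by decide +kernel
  map_zero' := by decide
  map_add' := by decide +kernel

theorem frobH_apply (x : F16) : frobH x = x ^ 4 := rfl

theorem frobH_frobH : ∀ x : F16, (x ^ 4) ^ 4 = x := by decide +kernel

theorem unitary_mat (g : SU34) : (mat g)ᵀ * (mat g).map (fun x => x ^ 4) = 1 :=
  (Cfsg.Agent.Lib.H2.Spec.mem_SU_iff_mul frobH frobH_apply g.1).1 g.2

/-- the conjugate transpose -/
def ctr (M : Matrix (Fin 3) (Fin 3) F16) : Matrix (Fin 3) (Fin 3) F16 :=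
  (M.map (fun x => x ^ 4))ᵀ

theorem ctr_apply (M : Matrix (Fin 3) (Fin 3) F16) (i j : Fin 3) : ctr M i j = (M j i) ^ 4 := rfl

theorem map_frob_mul (M N : Matrix (Fin 3) (Fin 3) F16) :
    (M * N).map (fun x => x ^ 4) = M.map (fun x => x ^ 4) * N.map (fun x => x ^ 4) := by
  have := Matrix.map_mul (L := M) (M := N) (f := frobH)
  exact this

theorem ctr_mul (M N : Matrix (Fin 3) (Fin 3) F16) : ctr (M * N) = ctr N * ctr M := by
  unfold ctr
  rw [map_frob_mul, Matrix.transpose_mul]

theorem ctr_ctr (M : Matrix (Fin 3) (Fin 3) F16) : ctr (ctr M) = M := by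
  ext i j
  rw [ctr_apply, ctr_apply, frobH_frobH]

theorem ctr_one : ctr 1 = 1 := by
  ext i j
  rw [ctr_apply, Matrix.one_apply, Matrix.one_apply]
  by_cases h : i = j
  · rw [if_pos h, if_pos h.symm, one_pow]
  · rw [if_neg h, if_neg (fun h' => h h'.symm)]
    exact zero_pow (by norm_num)

/-- the rows are orthonormal -/
theorem mat_mul_ctr (g : SU34) : mat g * ctr (mat g) = 1 := by
  have h1 := unitary_mat g
  have h2 : (mat g).map (fun x => x ^ 4) * (mat g)ᵀ = 1 := mul_eq_one_comm.1 h1
  have h3 := congrArg ctr h2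
  rw [ctr_mul, ctr_one] at h3
  have h4 : ctr (mat g)ᵀ = (mat g).map (fun x => x ^ 4) := by
    ext i j
    rfl
  have h5 : ctr ((mat g).map (fun x => x ^ 4)) = (mat g)ᵀ := by
    ext i j
    show ((mat g j i) ^ 4) ^ 4 = mat g j i
    exact frobH_frobH _
  rw [h4, h5] at h3
  have h6 := congrArg Matrix.transpose h3
  rw [Matrix.transpose_mul, Matrix.transpose_transpose, Matrix.transpose_one] at h6
  exact h6

theorem mat_inv (g : SU34) : mat g⁻¹ = ctr (mat g) := by
  have h1 : mat g * mat g⁻¹ = 1 := by rw [← mat_mul, mul_inv_cancel, mat_one]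
  have h2 := mat_mul_ctr g
  have h3 : mat g⁻¹ * mat g = 1 := by rw [← mat_mul, inv_mul_cancel, mat_one]
  calc mat g⁻¹ = mat g⁻¹ * (mat g * ctr (mat g)) := by rw [h2, mul_one]
    _ = ctr (mat g) := by rw [← mul_assoc, h3, one_mul]

theorem row_orth (g : SU34) (i j : Fin 3) :
    ∑ k : Fin 3, mat g i k * (mat g j k) ^ 4 = if i = j then 1 else 0 := by
  have h := congrFun (congrFun (mat_mul_ctr g) i) j
  rw [Matrix.mul_apply, Matrix.one_apply] at h
  exact h

/-- the element of a unitary list matrix of determinant one -/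
def elt (L : LM) (hU : isU L = true) (hd : detL L = 1) : SU34 :=
  ⟨⟨toM L, by rw [toM_detL, hd]⟩,
    (Cfsg.Agent.Lib.H2.Spec.mem_SU_iff_mul frobH frobH_apply _).2 ((isU_iff L).1 hU)⟩

theorem mat_elt (L : LM) (hU : isU L = true) (hd : detL L = 1) : mat (elt L hU hd) = toM L := rfl

/-- the list matrix of the element of order thirteen -/
def XL : LM := [[c14, c5, c12], [c1, c5, c4], [c9, c1, c6]]

/-- the list matrix of an element of order ten -/
def G10L : LM := [[c8, c2, c7], [c6, c13, c0], [c4, c1, c9]]

/-- the list matrix of an element of order fifteen -/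
def G15L : LM := [[c0, c14, c13], [c14, c9, c12], [c13, c12, c13]]

theorem XL_unitary : isU XL = true := by decide +kernel
theorem XL_det : detL XL = 1 := by decide +kernel
theorem G10L_unitary : isU G10L = true := by decide +kernel
theorem G10L_det : detL G10L = 1 := by decide +kernel
theorem G15L_unitary : isU G15L = true := by decide +kernel
theorem G15L_det : detL G15L = 1 := by decide +kernel

/-- the element of order thirteen -/
def x : SU34 := elt XL XL_unitary XL_det

/-- an element of order ten -/
def g10 : SU34 := elt G10L G10L_unitary G10L_det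

/-- an element of order fifteen -/
def g15 : SU34 := elt G15L G15L_unitary G15L_det

theorem mat_x : mat x = toM XL := rfl

theorem pow_eq_one_of (L : LM) (hU : isU L = true) (hd : detL L = 1) (n : ℕ)
    (h : eqL (powL L n) idL = true) : elt L hU hd ^ n = 1 := by
  apply mat_inj
  rw [mat_pow, mat_elt, mat_one, ← toM_powL, ← toM_idL]
  exact (eqL_iff _ _).1 h

theorem pow_ne_one_of (L : LM) (hU : isU L = true) (hd : detL L = 1) (n : ℕ)
    (h : eqL (powL L n) idL = false) : elt L hU hd ^ n ≠ 1 := by
  intro e
  have e1 := congrArg mat e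
  rw [mat_pow, mat_elt, mat_one, ← toM_powL, ← toM_idL] at e1
  have := (eqL_iff _ _).2 e1
  rw [h] at this
  exact Bool.false_ne_true this

theorem orderOf_x : orderOf x = 13 := by
  have : Fact (Nat.Prime 13) := ⟨by norm_num⟩
  apply orderOf_eq_prime
  · exact pow_eq_one_of XL _ _ 13 (by decide +kernel)
  · have := pow_ne_one_of XL XL_unitary XL_det 1 (by decide +kernel)
    rwa [pow_one] at this

theorem orderOf_g10 : orderOf g10 = 10 := by
  apply orderOf_eq_of_pow_and_pow_div_prime (by norm_num)
  · exact pow_eq_one_of G10L _ _ 10 (by decide +kernel)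
  · intro p hp hd
    have hle : p ≤ 10 := Nat.le_of_dvd (by norm_num) hd
    interval_cases p
    all_goals first
      | (exfalso; revert hp; decide)
      | (exfalso; revert hd; decide)
      | exact pow_ne_one_of G10L _ _ _ (by decide +kernel)

theorem orderOf_g15 : orderOf g15 = 15 := by
  apply orderOf_eq_of_pow_and_pow_div_prime (by norm_num)
  · exact pow_eq_one_of G15L _ _ 15 (by decide +kernel)
  · intro p hp hd
    have hle : p ≤ 15 := Nat.le_of_dvd (by norm_num) hd
    interval_cases p
    all_goals first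
      | (exfalso; revert hp; decide)
      | (exfalso; revert hd; decide)
      | exact pow_ne_one_of G15L _ _ _ (by decide +kernel)

end Cfsg.Agent.Lib.H14.U34A
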