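import Mathlib
import Cfsg.Agent.Lib.H14.U34Mat

set_option autoImplicit false
set_option linter.unusedSimpArgs false

/-! # A function on three by three matrices over the field with sixteen elements with values
modulo five, invariant under scaling and cyclic shifts of the rows and under transposition -/

namespace Cfsg.Agent.Lib.H14.U34F

open Matrix Cfsg.Agent.Lib.H14 Cfsg.Agent.Lib.H14.F16 Cfsg.Agent.Lib.H14.U34Mat

/-- the function on the ratio of the two halves of the determinant -/
def alphaN : F16 → ℕ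
  | c0 => 0 | c1 => 0 | c2 => 2 | c3 => 3 | c4 => 1 | c5 => 4 | c6 => 0 | c7 => 0
  | c8 => 2 | c9 => 3 | c10 => 4 | c11 => 1 | c12 => 1 | c13 => 4 | c14 => 2 | c15 => 3

/-- the function on matrices, with natural number values -/
def f0N (M : Matrix (Fin 3) (Fin 3) F16) : ℕ := alphaN (PM M * (QM M)⁻¹)

/-- the function on matrices -/
def f0M (M : Matrix (Fin 3) (Fin 3) F16) : ZMod 5 := (f0N M : ZMod 5)

theorem PM_transpose (M : Matrix (Fin 3) (Fin 3) F16) : PM Mᵀ = PM M := by
  unfold PM
  simp only [Matrix.transpose_apply]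
  ring

theorem QM_transpose (M : Matrix (Fin 3) (Fin 3) F16) : QM Mᵀ = QM M := by
  unfold QM
  simp only [Matrix.transpose_apply]
  ring

theorem f0M_transpose (M : Matrix (Fin 3) (Fin 3) F16) : f0M Mᵀ = f0M M := by
  unfold f0M f0N
  rw [PM_transpose, QM_transpose]

theorem PM_diagonal_mul (c : Fin 3 → F16) (M : Matrix (Fin 3) (Fin 3) F16) :
    PM (Matrix.diagonal c * M) = (c 0 * c 1 * c 2) * PM M := by
  unfold PM
  simp only [Matrix.diagonal_mul]
  ring

theorem QM_diagonal_mul (c : Fin 3 → F16) (M : Matrix (Fin 3) (Fin 3) F16) :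
    QM (Matrix.diagonal c * M) = (c 0 * c 1 * c 2) * QM M := by
  unfold QM
  simp only [Matrix.diagonal_mul]
  ring

theorem f0M_diagonal_mul (c : Fin 3 → F16) (hc : ∀ i, c i ≠ 0) (M : Matrix (Fin 3) (Fin 3) F16) :
    f0M (Matrix.diagonal c * M) = f0M M := by
  unfold f0M f0N
  rw [PM_diagonal_mul, QM_diagonal_mul]
  have h : c 0 * c 1 * c 2 ≠ 0 := mul_ne_zero (mul_ne_zero (hc 0) (hc 1)) (hc 2)
  have e : c 0 * c 1 * c 2 * PM M * (c 0 * c 1 * c 2 * QM M)⁻¹ = PM M * (QM M)⁻¹ := by
    rw [mul_inv, mul_mul_mul_comm, mul_inv_cancel₀ h, one_mul]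
  rw [e]

theorem PM_shift (M : Matrix (Fin 3) (Fin 3) F16) :
    PM (M.submatrix (fun i : Fin 3 => i + 1) id) = PM M := by
  unfold PM
  simp only [Matrix.submatrix_apply, id]
  have h0 : (0 : Fin 3) + 1 = 1 := rfl
  have h1 : (1 : Fin 3) + 1 = 2 := rfl
  have h2 : (2 : Fin 3) + 1 = 0 := rfl
  rw [h0, h1, h2]
  ring

theorem QM_shift (M : Matrix (Fin 3) (Fin 3) F16) :
    QM (M.submatrix (fun i : Fin 3 => i + 1) id) = QM M := by
  unfold QM
  simp only [Matrix.submatrix_apply, id]
  have h0 : (0 : Fin 3) + 1 = 1 := rfl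
  have h1 : (1 : Fin 3) + 1 = 2 := rfl
  have h2 : (2 : Fin 3) + 1 = 0 := rfl
  rw [h0, h1, h2]
  ring

theorem f0M_shift_one (M : Matrix (Fin 3) (Fin 3) F16) :
    f0M (M.submatrix (fun i : Fin 3 => i + 1) id) = f0M M := by
  unfold f0M f0N
  rw [PM_shift, QM_shift]

theorem f0M_shift (s : Fin 3) (M : Matrix (Fin 3) (Fin 3) F16) :
    f0M (M.submatrix (fun i : Fin 3 => i + s) id) = f0M M := by
  fin_cases s
  · have : M.submatrix (fun i : Fin 3 => i + (0 : Fin 3)) id = M := by
      ext i j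
      simp
    exact congrArg f0M this
  · exact f0M_shift_one M
  · have : M.submatrix (fun i : Fin 3 => i + (2 : Fin 3)) id
        = (M.submatrix (fun i : Fin 3 => i + 1) id).submatrix (fun i : Fin 3 => i + 1) id := by
      ext i j
      simp only [Matrix.submatrix_apply, id]
      congr 1
      rw [add_assoc]
      rfl
    show f0M (M.submatrix (fun i : Fin 3 => i + (2 : Fin 3)) id) = f0M M
    rw [this, f0M_shift_one, f0M_shift_one]

/-- invariance under scaling and shifting the rows of the left factor -/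
theorem f0M_rows (c : Fin 3 → F16) (hc : ∀ i, c i ≠ 0) (s : Fin 3)
    (N Y : Matrix (Fin 3) (Fin 3) F16) :
    f0M ((Matrix.diagonal c * N.submatrix (fun i : Fin 3 => i + s) id) * Y) = f0M (N * Y) := by
  have e : (Matrix.diagonal c * N.submatrix (fun i : Fin 3 => i + s) id) * Y
      = Matrix.diagonal c * (N * Y).submatrix (fun i : Fin 3 => i + s) id := by
    rw [Matrix.mul_assoc]
    rfl
  rw [e, f0M_diagonal_mul c hc, f0M_shift]

/-- the list matrix version -/
def f0L (L : LM) : ℕ := f0N (toM L)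

end Cfsg.Agent.Lib.H14.U34F
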