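import Mathlib
import Cfsg.Agent.Lib.H14.U34A
import Cfsg.Agent.Lib.H14.U34F

set_option autoImplicit false
set_option linter.unusedSimpArgs false

/-! # Three by three matrices over the field with sixteen elements as structures with nine
fields, for fast evaluation -/

namespace Cfsg.Agent.Lib.H14.U34M9

open Matrix Cfsg.Agent.Lib.H14 Cfsg.Agent.Lib.H14.F16 Cfsg.Agent.Lib.H14.U34Mat
  Cfsg.Agent.Lib.H14.U34A Cfsg.Agent.Lib.H14.U34F

/-- matrices with nine explicit entries -/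
structure M9 where
  /-- entry -/
  a : F16
  /-- entry -/
  b : F16
  /-- entry -/
  c : F16
  /-- entry -/
  d : F16
  /-- entry -/
  e : F16
  /-- entry -/
  f : F16
  /-- entry -/
  g : F16
  /-- entry -/
  h : F16
  /-- entry -/
  i : F16
  deriving DecidableEq

namespace M9

/-- the matrix -/
def toMat (m : M9) : Matrix (Fin 3) (Fin 3) F16 := !![m.a, m.b, m.c; m.d, m.e, m.f; m.g, m.h, m.i]

/-- product -/
def mul (A B : M9) : M9 :=
  ⟨F16.add (F16.add (F16.mul A.a B.a) (F16.mul A.b B.d)) (F16.mul A.c B.g),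
   F16.add (F16.add (F16.mul A.a B.b) (F16.mul A.b B.e)) (F16.mul A.c B.h),
   F16.add (F16.add (F16.mul A.a B.c) (F16.mul A.b B.f)) (F16.mul A.c B.i),
   F16.add (F16.add (F16.mul A.d B.a) (F16.mul A.e B.d)) (F16.mul A.f B.g),
   F16.add (F16.add (F16.mul A.d B.b) (F16.mul A.e B.e)) (F16.mul A.f B.h),
   F16.add (F16.add (F16.mul A.d B.c) (F16.mul A.e B.f)) (F16.mul A.f B.i),
   F16.add (F16.add (F16.mul A.g B.a) (F16.mul A.h B.d)) (F16.mul A.i B.g),
   F16.add (F16.add (F16.mul A.g B.b) (F16.mul A.h B.e)) (F16.mul A.i B.h),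
   F16.add (F16.add (F16.mul A.g B.c) (F16.mul A.h B.f)) (F16.mul A.i B.i)⟩

theorem toMat_mul (A B : M9) : toMat (mul A B) = toMat A * toMat B := by
  ext i j
  rw [Matrix.mul_apply, Fin.sum_univ_three]
  fin_cases i <;> fin_cases j <;> rfl

/-- conjugate transpose -/
def ctr9 (A : M9) : M9 :=
  ⟨frob A.a, frob A.d, frob A.g, frob A.b, frob A.e, frob A.h, frob A.c, frob A.f, frob A.i⟩

theorem toMat_ctr9 (A : M9) : toMat (ctr9 A) = ctr (toMat A) := by
  ext i j
  rw [ctr_apply, ← frob_eq]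
  fin_cases i <;> fin_cases j <;> rfl

/-- the even half of the determinant -/
def P9 (A : M9) : F16 :=
  F16.add (F16.add (F16.mul (F16.mul A.a A.e) A.i) (F16.mul (F16.mul A.b A.f) A.g))
    (F16.mul (F16.mul A.c A.d) A.h)

/-- the odd half of the determinant -/
def Q9 (A : M9) : F16 :=
  F16.add (F16.add (F16.mul (F16.mul A.a A.f) A.h) (F16.mul (F16.mul A.b A.d) A.i))
    (F16.mul (F16.mul A.c A.e) A.g)

theorem P9_eq (A : M9) : P9 A = PM (toMat A) := rfl

theorem Q9_eq (A : M9) : Q9 A = QM (toMat A) := rfl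

/-- the function -/
def f9 (A : M9) : ℕ := alphaN (F16.mul (P9 A) (F16.inv (Q9 A)))

theorem f9_eq (A : M9) : f9 A = f0N (toMat A) := rfl

/-- from list matrices -/
def ofLM (L : LM) : M9 :=
  ⟨ent L 0 0, ent L 0 1, ent L 0 2, ent L 1 0, ent L 1 1, ent L 1 2, ent L 2 0, ent L 2 1,
    ent L 2 2⟩

theorem toMat_ofLM (L : LM) : toMat (ofLM L) = toM L := by
  ext i j
  fin_cases i <;> fin_cases j <;> rfl

end M9

end Cfsg.Agent.Lib.H14.U34M9
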