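import Mathlib
import Cfsg.Agent.Lib.H14.U34M9

set_option autoImplicit false

/-! # Representatives of the orbits of an element of order thirteen on the cyclically ordered
orthogonal frames of the unitary space of dimension three over the field with sixteen elements -/

namespace Cfsg.Agent.Lib.H14.U34Tab

open Cfsg.Agent.Lib.H14 Cfsg.Agent.Lib.H14.F16 Cfsg.Agent.Lib.H14.U34Mat Cfsg.Agent.Lib.H14.U34A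
  Cfsg.Agent.Lib.H14.U34F Cfsg.Agent.Lib.H14.U34M9

/-- the identity matrix -/
def I9 : M9 := ⟨c1, c0, c0, c0, c1, c0, c0, c0, c1⟩

/-- the representatives, with normalized rows -/
def Rs : List M9 := [
  ⟨c1, c0, c0, c0, c1, c0, c0, c0, c1⟩,
  ⟨c1, c0, c0, c0, c1, c2, c0, c1, c14⟩,
  ⟨c1, c0, c0, c0, c1, c3, c0, c1, c9⟩,
  ⟨c1, c0, c0, c0, c1, c4, c0, c1, c11⟩,
  ⟨c1, c0, c0, c0, c1, c5, c0, c1, c13⟩,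
  ⟨c1, c0, c0, c0, c1, c6, c0, c1, c7⟩,
  ⟨c1, c0, c0, c0, c1, c7, c0, c1, c6⟩,
  ⟨c1, c0, c0, c0, c1, c9, c0, c1, c3⟩,
  ⟨c1, c0, c0, c0, c1, c11, c0, c1, c4⟩,
  ⟨c1, c0, c0, c0, c0, c1, c0, c1, c0⟩,
  ⟨c1, c0, c2, c1, c0, c14, c0, c1, c0⟩,
  ⟨c1, c0, c2, c1, c1, c14, c1, c6, c14⟩,
  ⟨c1, c0, c2, c1, c4, c14, c1, c15, c14⟩,
  ⟨c1, c0, c2, c1, c5, c14, c1, c8, c14⟩,
  ⟨c1, c0, c2, c1, c6, c14, c1, c1, c14⟩,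
  ⟨c1, c0, c2, c1, c8, c14, c1, c5, c14⟩,
  ⟨c1, c0, c2, c1, c9, c14, c1, c10, c14⟩,
  ⟨c1, c0, c2, c1, c10, c14, c1, c9, c14⟩,
  ⟨c1, c0, c2, c1, c12, c14, c1, c14, c14⟩,
  ⟨c1, c0, c2, c1, c14, c14, c1, c12, c14⟩,
  ⟨c1, c0, c2, c1, c15, c14, c1, c4, c14⟩,
  ⟨c1, c0, c2, c0, c1, c0, c1, c0, c14⟩,
  ⟨c1, c0, c3, c1, c0, c9, c0, c1, c0⟩,
  ⟨c1, c0, c3, c1, c4, c9, c1, c15, c9⟩,
  ⟨c1, c0, c3, c1, c5, c9, c1, c8, c9⟩,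
  ⟨c1, c0, c3, c1, c8, c9, c1, c5, c9⟩,
  ⟨c1, c0, c3, c1, c9, c9, c1, c10, c9⟩,
  ⟨c1, c0, c3, c1, c10, c9, c1, c9, c9⟩,
  ⟨c1, c0, c3, c1, c12, c9, c1, c14, c9⟩,
  ⟨c1, c0, c3, c1, c14, c9, c1, c12, c9⟩,
  ⟨c1, c0, c3, c1, c15, c9, c1, c4, c9⟩,
  ⟨c1, c0, c3, c0, c1, c0, c1, c0, c9⟩,
  ⟨c1, c0, c4, c1, c0, c11, c0, c1, c0⟩,
  ⟨c1, c0, c4, c1, c1, c11, c1, c7, c11⟩,
  ⟨c1, c0, c4, c1, c2, c11, c1, c12, c11⟩,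
  ⟨c1, c0, c4, c1, c7, c11, c1, c1, c11⟩,
  ⟨c1, c0, c4, c1, c8, c11, c1, c13, c11⟩,
  ⟨c1, c0, c4, c1, c11, c11, c1, c15, c11⟩,
  ⟨c1, c0, c4, c1, c12, c11, c1, c2, c11⟩,
  ⟨c1, c0, c4, c1, c13, c11, c1, c8, c11⟩,
  ⟨c1, c0, c4, c1, c15, c11, c1, c11, c11⟩,
  ⟨c1, c0, c4, c0, c1, c0, c1, c0, c11⟩,
  ⟨c1, c0, c5, c1, c2, c13, c1, c12, c13⟩,
  ⟨c1, c0, c5, c1, c3, c13, c1, c10, c13⟩,
  ⟨c1, c0, c5, c1, c8, c13, c1, c13, c13⟩,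
  ⟨c1, c0, c5, c1, c10, c13, c1, c3, c13⟩,
  ⟨c1, c0, c5, c1, c11, c13, c1, c15, c13⟩,
  ⟨c1, c0, c5, c1, c12, c13, c1, c2, c13⟩,
  ⟨c1, c0, c7, c1, c4, c6, c1, c15, c6⟩,
  ⟨c1, c0, c7, c1, c15, c6, c1, c4, c6⟩,
  ⟨c1, c0, c9, c1, c1, c3, c1, c7, c3⟩,
  ⟨c1, c0, c9, c1, c2, c3, c1, c12, c3⟩,
  ⟨c1, c0, c9, c1, c7, c3, c1, c1, c3⟩,
  ⟨c1, c0, c9, c1, c12, c3, c1, c2, c3⟩,
  ⟨c1, c0, c14, c1, c2, c2, c1, c12, c2⟩,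
  ⟨c1, c0, c14, c1, c12, c2, c1, c2, c2⟩,
  ⟨c1, c1, c2, c1, c6, c12, c0, c1, c14⟩,
  ⟨c1, c1, c2, c1, c8, c7, c1, c10, c8⟩,
  ⟨c1, c1, c7, c1, c2, c10, c1, c9, c5⟩,
  ⟨c1, c1, c7, c1, c6, c1, c0, c1, c6⟩,
  ⟨c1, c1, c7, c1, c8, c3, c1, c10, c15⟩,
  ⟨c1, c1, c7, c1, c9, c5, c1, c2, c10⟩,
  ⟨c1, c1, c7, c1, c10, c15, c1, c8, c3⟩,
  ⟨c1, c1, c7, c0, c1, c6, c1, c6, c1⟩]

/-- the representative with a given index -/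
def getR (k : ℕ) : M9 := Rs.getD k I9

/-- the powers of the element of order thirteen -/
def XP : List M9 := [
  ⟨c1, c0, c0, c0, c1, c0, c0, c0, c1⟩,
  ⟨c14, c5, c12, c1, c5, c4, c9, c1, c6⟩,
  ⟨c8, c13, c13, c9, c3, c0, c5, c8, c5⟩,
  ⟨c11, c15, c3, c4, c4, c10, c0, c9, c2⟩,
  ⟨c15, c4, c14, c12, c10, c15, c8, c9, c14⟩,
  ⟨c6, c15, c9, c0, c2, c5, c7, c11, c10⟩,
  ⟨c0, c2, c4, c9, c15, c5, c2, c3, c1⟩,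
  ⟨c0, c14, c3, c3, c8, c2, c5, c4, c1⟩,
  ⟨c6, c0, c7, c8, c3, c13, c14, c4, c12⟩,
  ⟨c8, c10, c15, c5, c12, c14, c9, c8, c9⟩,
  ⟨c13, c5, c0, c8, c5, c14, c2, c12, c3⟩,
  ⟨c15, c14, c4, c11, c2, c15, c11, c0, c4⟩,
  ⟨c9, c1, c14, c4, c4, c1, c10, c5, c6⟩]

/-- the power with a given exponent -/
def getX (j : ℕ) : M9 := XP.getD j I9

theorem XP_chk : ((List.range 13).all fun j => getX j == M9.ofLM (powL XL j)) = true := by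
  decide +kernel

theorem toMat_getX (j : ℕ) (hj : j < 13) : (getX j).toMat = mat (x ^ j) := by
  have h := XP_chk
  rw [List.all_eq_true] at h
  have h1 := h j (List.mem_range.2 hj)
  rw [beq_iff_eq] at h1
  rw [h1, M9.toMat_ofLM, toM_powL, mat_pow, mat_x]

/-- the frames of the orbit of a representative -/
def Tkj (k j : ℕ) : M9 := M9.mul (getR k) (getX j)

/-- the conjugate transpose of a representative -/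
def Ck (k : ℕ) : M9 := M9.ctr9 (getR k)

/-- the sum over the orbit -/
def orbSum (k k' : ℕ) : ℕ :=
  (List.range 13).foldl (fun acc t => acc + M9.f9 (M9.mul (Tkj k t) (Ck k'))) 0

/-- the check for one pair -/
def pairChk (k k' : ℕ) : Bool := orbSum k k' % 5 == 0

/-- the check for one row -/
def rowChk (k : ℕ) : Bool := (List.range 64).all fun k' => pairChk k k'

end Cfsg.Agent.Lib.H14.U34Tab
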