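import Mathlib
import Cfsg.Agent.Lib.H14.U34Tab

set_option autoImplicit false

/-! # The orbit sums vanish modulo five: rows 0 to 15 of the table -/

namespace Cfsg.Agent.Lib.H14.U34Chk1

open Cfsg.Agent.Lib.H14.U34Tab

theorem r0 : rowChk 0 = true := by decide +kernel
theorem r1 : rowChk 1 = true := by decide +kernel
theorem r2 : rowChk 2 = true := by decide +kernel
theorem r3 : rowChk 3 = true := by decide +kernel
theorem r4 : rowChk 4 = true := by decide +kernel
theorem r5 : rowChk 5 = true := by decide +kernel
theorem r6 : rowChk 6 = true := by decide +kernel
theorem r7 : rowChk 7 = true := by decide +kernel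
theorem r8 : rowChk 8 = true := by decide +kernel
theorem r9 : rowChk 9 = true := by decide +kernel
theorem r10 : rowChk 10 = true := by decide +kernel
theorem r11 : rowChk 11 = true := by decide +kernel
theorem r12 : rowChk 12 = true := by decide +kernel
theorem r13 : rowChk 13 = true := by decide +kernel
theorem r14 : rowChk 14 = true := by decide +kernel
theorem r15 : rowChk 15 = true := by decide +kernel

theorem rows (k : ℕ) (h1 : 0 ≤ k) (h2 : k < 16) : rowChk k = true := by
  interval_cases k
  · exact r0
  · exact r1
  · exact r2
  · exact r3
  · exact r4
  · exact r5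
  · exact r6
  · exact r7
  · exact r8
  · exact r9
  · exact r10
  · exact r11
  · exact r12
  · exact r13
  · exact r14
  · exact r15

end Cfsg.Agent.Lib.H14.U34Chk1
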