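import Mathlib
import Cfsg.Agent.Lib.H14.U34Tab

set_option autoImplicit false

/-! # The orbit sums vanish modulo five: rows 16 to 31 of the table -/

namespace Cfsg.Agent.Lib.H14.U34Chk2

open Cfsg.Agent.Lib.H14.U34Tab

theorem r16 : rowChk 16 = true := by decide +kernel
theorem r17 : rowChk 17 = true := by decide +kernel
theorem r18 : rowChk 18 = true := by decide +kernel
theorem r19 : rowChk 19 = true := by decide +kernel
theorem r20 : rowChk 20 = true := by decide +kernel
theorem r21 : rowChk 21 = true := by decide +kernel
theorem r22 : rowChk 22 = true := by decide +kernel
theorem r23 : rowChk 23 = true := by decide +kernel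
theorem r24 : rowChk 24 = true := by decide +kernel
theorem r25 : rowChk 25 = true := by decide +kernel
theorem r26 : rowChk 26 = true := by decide +kernel
theorem r27 : rowChk 27 = true := by decide +kernel
theorem r28 : rowChk 28 = true := by decide +kernel
theorem r29 : rowChk 29 = true := by decide +kernel
theorem r30 : rowChk 30 = true := by decide +kernel
theorem r31 : rowChk 31 = true := by decide +kernel

theorem rows (k : ℕ) (h1 : 16 ≤ k) (h2 : k < 32) : rowChk k = true := by
  interval_cases k
  · exact r16
  · exact r17
  · exact r18
  · exact r19
  · exact r20
  · exact r21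
  · exact r22
  · exact r23
  · exact r24
  · exact r25
  · exact r26
  · exact r27
  · exact r28
  · exact r29
  · exact r30
  · exact r31

end Cfsg.Agent.Lib.H14.U34Chk2
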