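import Mathlib
import Cfsg.Agent.Lib.H14.U34Tab

set_option autoImplicit false

/-! # The orbit sums vanish modulo five: rows 32 to 47 of the table -/

namespace Cfsg.Agent.Lib.H14.U34Chk3

open Cfsg.Agent.Lib.H14.U34Tab

theorem r32 : rowChk 32 = true := by decide +kernel
theorem r33 : rowChk 33 = true := by decide +kernel
theorem r34 : rowChk 34 = true := by decide +kernel
theorem r35 : rowChk 35 = true := by decide +kernel
theorem r36 : rowChk 36 = true := by decide +kernel
theorem r37 : rowChk 37 = true := by decide +kernel
theorem r38 : rowChk 38 = true := by decide +kernel
theorem r39 : rowChk 39 = true := by decide +kernel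
theorem r40 : rowChk 40 = true := by decide +kernel
theorem r41 : rowChk 41 = true := by decide +kernel
theorem r42 : rowChk 42 = true := by decide +kernel
theorem r43 : rowChk 43 = true := by decide +kernel
theorem r44 : rowChk 44 = true := by decide +kernel
theorem r45 : rowChk 45 = true := by decide +kernel
theorem r46 : rowChk 46 = true := by decide +kernel
theorem r47 : rowChk 47 = true := by decide +kernel

theorem rows (k : ℕ) (h1 : 32 ≤ k) (h2 : k < 48) : rowChk k = true := by
  interval_cases k
  · exact r32
  · exact r33
  · exact r34
  · exact r35
  · exact r36
  · exact r37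
  · exact r38
  · exact r39
  · exact r40
  · exact r41
  · exact r42
  · exact r43
  · exact r44
  · exact r45
  · exact r46
  · exact r47

end Cfsg.Agent.Lib.H14.U34Chk3
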