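import Mathlib
import Cfsg.Agent.Lib.H14.U34Tab

set_option autoImplicit false

/-! # The orbit sums vanish modulo five: rows 48 to 63 of the table -/

namespace Cfsg.Agent.Lib.H14.U34Chk4

open Cfsg.Agent.Lib.H14.U34Tab

theorem r48 : rowChk 48 = true := by decide +kernel
theorem r49 : rowChk 49 = true := by decide +kernel
theorem r50 : rowChk 50 = true := by decide +kernel
theorem r51 : rowChk 51 = true := by decide +kernel
theorem r52 : rowChk 52 = true := by decide +kernel
theorem r53 : rowChk 53 = true := by decide +kernel
theorem r54 : rowChk 54 = true := by decide +kernel
theorem r55 : rowChk 55 = true := by decide +kernel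
theorem r56 : rowChk 56 = true := by decide +kernel
theorem r57 : rowChk 57 = true := by decide +kernel
theorem r58 : rowChk 58 = true := by decide +kernel
theorem r59 : rowChk 59 = true := by decide +kernel
theorem r60 : rowChk 60 = true := by decide +kernel
theorem r61 : rowChk 61 = true := by decide +kernel
theorem r62 : rowChk 62 = true := by decide +kernel
theorem r63 : rowChk 63 = true := by decide +kernel

theorem rows (k : ℕ) (h1 : 48 ≤ k) (h2 : k < 64) : rowChk k = true := by
  interval_cases k
  · exact r48
  · exact r49
  · exact r50
  · exact r51
  · exact r52
  · exact r53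
  · exact r54
  · exact r55
  · exact r56
  · exact r57
  · exact r58
  · exact r59
  · exact r60
  · exact r61
  · exact r62
  · exact r63

end Cfsg.Agent.Lib.H14.U34Chk4
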