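import Mathlib
import Cfsg.Agent.Lib.H14.U34Chk1
import Cfsg.Agent.Lib.H14.U34Chk2
import Cfsg.Agent.Lib.H14.U34Chk3
import Cfsg.Agent.Lib.H14.U34Chk4

set_option autoImplicit false

/-! # The orbit sums vanish modulo five: the whole table -/

namespace Cfsg.Agent.Lib.H14.U34Chk

open Cfsg.Agent.Lib.H14.U34Tab

theorem rowChk_all (k : ℕ) (hk : k < 64) : rowChk k = true := by
  by_cases h1 : k < 16
  · exact Cfsg.Agent.Lib.H14.U34Chk1.rows k (Nat.zero_le _) h1
  by_cases h2 : k < 32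
  · exact Cfsg.Agent.Lib.H14.U34Chk2.rows k (not_lt.1 h1) h2
  by_cases h3 : k < 48
  · exact Cfsg.Agent.Lib.H14.U34Chk3.rows k (not_lt.1 h2) h3
  · exact Cfsg.Agent.Lib.H14.U34Chk4.rows k (not_lt.1 h3) hk

theorem pairChk_all (k k' : ℕ) (hk : k < 64) (hk' : k' < 64) : pairChk k k' = true := by
  have h := rowChk_all k hk
  unfold rowChk at h
  rw [List.all_eq_true] at h
  exact h k' (List.mem_range.2 hk')

end Cfsg.Agent.Lib.H14.U34Chk
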