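import Mathlib
import Cfsg.Agent.Lib.H14.U34Tab

set_option autoImplicit false
set_option linter.unusedSimpArgs false

/-! # Every orthogonal frame is, up to scalars and a cyclic shift, in the table: the check -/

namespace Cfsg.Agent.Lib.H14.U34Cov

open Matrix Cfsg.Agent.Lib.H14 Cfsg.Agent.Lib.H14.F16 Cfsg.Agent.Lib.H14.U34Mat
  Cfsg.Agent.Lib.H14.U34A Cfsg.Agent.Lib.H14.U34F Cfsg.Agent.Lib.H14.U34M9
  Cfsg.Agent.Lib.H14.U34Tab

/-- the list of all elements of the field -/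
def univL : List F16 := [c0, c1, c2, c3, c4, c5, c6, c7, c8, c9, c10, c11, c12, c13, c14, c15]

theorem mem_univL (a : F16) : a ∈ univL := by
  cases a <;> decide

/-- a predicate holds for all normalized vectors -/
def nvAll (p : F16 → F16 → F16 → Bool) : Bool :=
  (univL.all fun a => univL.all fun b => p 1 a b) && (univL.all fun a => p 0 1 a) && p 0 0 1

theorem nvAll_spec (p : F16 → F16 → F16 → Bool) (h : nvAll p = true) (v : Fin 3 → F16)
    (hv : v ≠ 0) : ∃ a0 a1 a2 : F16, p a0 a1 a2 = true ∧ ∃ l : F16, l ≠ 0 ∧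
      v 0 = l * a0 ∧ v 1 = l * a1 ∧ v 2 = l * a2 := by
  unfold nvAll at h
  rw [Bool.and_eq_true, Bool.and_eq_true, List.all_eq_true, List.all_eq_true] at h
  obtain ⟨⟨h1, h2⟩, h3⟩ := h
  by_cases h0 : v 0 = 0
  · by_cases h1' : v 1 = 0
    · have h2' : v 2 ≠ 0 := by
        intro h2'
        apply hv
        ext i
        fin_cases i
        · exact h0
        · exact h1'
        · exact h2'
      refine ⟨0, 0, 1, h3, v 2, h2', ?_, ?_, ?_⟩
      · rw [h0, mul_zero]
      · rw [h1', mul_zero]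
      · rw [mul_one]
    · refine ⟨0, 1, (v 1)⁻¹ * v 2, h2 _ (mem_univL _), v 1, h1', ?_, ?_, ?_⟩
      · rw [h0, mul_zero]
      · rw [mul_one]
      · rw [← mul_assoc, mul_inv_cancel₀ h1', one_mul]
  · have := h1 ((v 0)⁻¹ * v 1) (mem_univL _)
    rw [List.all_eq_true] at this
    refine ⟨1, (v 0)⁻¹ * v 1, (v 0)⁻¹ * v 2, this _ (mem_univL _), v 0, h0, ?_, ?_, ?_⟩
    · rw [mul_one]
    · rw [← mul_assoc, mul_inv_cancel₀ h0, one_mul]
    · rw [← mul_assoc, mul_inv_cancel₀ h0, one_mul]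

/-- the test for zero -/
def isZ : F16 → Bool
  | c0 => true
  | _ => false

theorem isZ_iff (a : F16) : isZ a = true ↔ a = 0 := by
  cases a <;> decide

/-- the test for equality -/
def eqb (a b : F16) : Bool := isZ (F16.add a b)

theorem eqb_iff : ∀ a b : F16, eqb a b = true ↔ a = b := by decide +kernel

/-- the hermitian product of two triples -/
def herm3 (a0 a1 a2 b0 b1 b2 : F16) : F16 :=
  F16.add (F16.add (F16.mul a0 (frob b0)) (F16.mul a1 (frob b1))) (F16.mul a2 (frob b2))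

/-- a nonzero triple is proportional to another triple -/
def pr (x0 x1 x2 b0 b1 b2 : F16) : Bool :=
  !(isZ x0 && isZ x1 && isZ x2) &&
    eqb (F16.mul x0 b1) (F16.mul x1 b0) && eqb (F16.mul x0 b2) (F16.mul x2 b0) &&
    eqb (F16.mul x1 b2) (F16.mul x2 b1)

/-- a matrix matches a frame up to a cyclic shift of its rows -/
def mtch (M : M9) (a0 a1 a2 b0 b1 b2 d0 d1 d2 : F16) : Bool :=
  (pr M.a M.b M.c a0 a1 a2 && pr M.d M.e M.f b0 b1 b2 && pr M.g M.h M.i d0 d1 d2) ||
  (pr M.d M.e M.f a0 a1 a2 && pr M.g M.h M.i b0 b1 b2 && pr M.a M.b M.c d0 d1 d2) ||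
  (pr M.g M.h M.i a0 a1 a2 && pr M.a M.b M.c b0 b1 b2 && pr M.d M.e M.f d0 d1 d2)

/-- all frames of the table -/
def allT : List M9 := (List.range 64).flatMap fun k => (List.range 13).map fun j => Tkj k j

/-- a frame is covered -/
def covered (a0 a1 a2 b0 b1 b2 d0 d1 d2 : F16) : Bool :=
  allT.any fun M => mtch M a0 a1 a2 b0 b1 b2 d0 d1 d2

/-- the covering check for three vectors -/
def chkD (a0 a1 a2 b0 b1 b2 d0 d1 d2 : F16) : Bool :=
  isZ (herm3 d0 d1 d2 d0 d1 d2) || !isZ (herm3 a0 a1 a2 d0 d1 d2) ||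
    !isZ (herm3 b0 b1 b2 d0 d1 d2) || covered a0 a1 a2 b0 b1 b2 d0 d1 d2

/-- the covering check for two vectors -/
def chkB (a0 a1 a2 b0 b1 b2 : F16) : Bool :=
  isZ (herm3 b0 b1 b2 b0 b1 b2) || !isZ (herm3 a0 a1 a2 b0 b1 b2) ||
    nvAll (chkD a0 a1 a2 b0 b1 b2)

/-- the covering check for a first vector -/
def chkA (a0 a1 a2 : F16) : Bool :=
  isZ (herm3 a0 a1 a2 a0 a1 a2) || nvAll (chkB a0 a1 a2)

/-- the covering check -/
def coverChk : Bool := nvAll chkA

end Cfsg.Agent.Lib.H14.U34Cov
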