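import Mathlib
import Cfsg.Agent.Lib.H14.U34Cov0

set_option autoImplicit false

/-! # The covering check, first part -/

namespace Cfsg.Agent.Lib.H14.U34Cov

open Cfsg.Agent.Lib.H14 Cfsg.Agent.Lib.H14.F16

theorem cA0 : (univL.all fun b => chkA c1 c0 b) = true := by decide +kernel
theorem cA1 : (univL.all fun b => chkA c1 c1 b) = true := by decide +kernel
theorem cA2 : (univL.all fun b => chkA c1 c2 b) = true := by decide +kernel
theorem cA3 : (univL.all fun b => chkA c1 c3 b) = true := by decide +kernel
theorem cA4 : (univL.all fun b => chkA c1 c4 b) = true := by decide +kernel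
theorem cA5 : (univL.all fun b => chkA c1 c5 b) = true := by decide +kernel

end Cfsg.Agent.Lib.H14.U34Cov
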