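import Mathlib
import Cfsg.Agent.Lib.H14.U34Cov0

set_option autoImplicit false

/-! # The covering check, second part -/

namespace Cfsg.Agent.Lib.H14.U34Cov

open Cfsg.Agent.Lib.H14 Cfsg.Agent.Lib.H14.F16

theorem cA6 : (univL.all fun b => chkA c1 c6 b) = true := by decide +kernel
theorem cA7 : (univL.all fun b => chkA c1 c7 b) = true := by decide +kernel
theorem cA8 : (univL.all fun b => chkA c1 c8 b) = true := by decide +kernel
theorem cA9 : (univL.all fun b => chkA c1 c9 b) = true := by decide +kernel
theorem cA10 : (univL.all fun b => chkA c1 c10 b) = true := by decide +kernel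
theorem cA11 : (univL.all fun b => chkA c1 c11 b) = true := by decide +kernel

end Cfsg.Agent.Lib.H14.U34Cov
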