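import Mathlib
import Cfsg.Agent.Lib.H14.U34Cov0

set_option autoImplicit false

/-! # The covering check, third part -/

namespace Cfsg.Agent.Lib.H14.U34Cov

open Cfsg.Agent.Lib.H14 Cfsg.Agent.Lib.H14.F16

theorem cA12 : (univL.all fun b => chkA c1 c12 b) = true := by decide +kernel
theorem cA13 : (univL.all fun b => chkA c1 c13 b) = true := by decide +kernel
theorem cA14 : (univL.all fun b => chkA c1 c14 b) = true := by decide +kernel
theorem cA15 : (univL.all fun b => chkA c1 c15 b) = true := by decide +kernel
theorem cB : (univL.all fun a => chkA c0 c1 a) = true := by decide +kernel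
theorem cC : chkA c0 c0 c1 = true := by decide +kernel

end Cfsg.Agent.Lib.H14.U34Cov
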