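import Mathlib
import Cfsg.Agent.Lib.H14.U34CovA
import Cfsg.Agent.Lib.H14.U34CovB
import Cfsg.Agent.Lib.H14.U34CovC

set_option autoImplicit false
set_option linter.unusedSimpArgs false

/-! # Every orthogonal frame is, up to scalars and a cyclic shift, in the table -/

namespace Cfsg.Agent.Lib.H14.U34Cov

open Matrix Cfsg.Agent.Lib.H14 Cfsg.Agent.Lib.H14.F16 Cfsg.Agent.Lib.H14.U34Mat
  Cfsg.Agent.Lib.H14.U34A Cfsg.Agent.Lib.H14.U34F Cfsg.Agent.Lib.H14.U34M9
  Cfsg.Agent.Lib.H14.U34Tab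

theorem coverChk_true : coverChk = true := by
  unfold coverChk nvAll
  rw [Bool.and_eq_true, Bool.and_eq_true]
  refine ⟨⟨?_, cB⟩, cC⟩
  rw [List.all_eq_true]
  intro a _
  cases a
  · exact cA0
  · exact cA1
  · exact cA2
  · exact cA3
  · exact cA4
  · exact cA5
  · exact cA6
  · exact cA7
  · exact cA8
  · exact cA9
  · exact cA10
  · exact cA11
  · exact cA12
  · exact cA13
  · exact cA14
  · exact cA15

theorem mul_eq' (a b : F16) : F16.mul a b = a * b := rfl

theorem add_eq' (a b : F16) : F16.add a b = a + b := rfl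

theorem pr_spec (a0 a1 a2 b0 b1 b2 : F16) (h : pr a0 a1 a2 b0 b1 b2 = true)
    (hb : b0 ≠ 0 ∨ b1 ≠ 0 ∨ b2 ≠ 0) :
    ∃ ν : F16, ν ≠ 0 ∧ b0 = ν * a0 ∧ b1 = ν * a1 ∧ b2 = ν * a2 := by
  unfold pr at h
  rw [Bool.and_eq_true, Bool.and_eq_true, Bool.and_eq_true] at h
  obtain ⟨⟨⟨hnz0, m01⟩, m02⟩, m12⟩ := h
  rw [eqb_iff, mul_eq', mul_eq'] at m01 m02 m12
  have hnz : ¬ (a0 = 0 ∧ a1 = 0 ∧ a2 = 0) := by
    rintro ⟨rfl, rfl, rfl⟩
    revert hnz0
    decide
  clear hnz0
  by_cases h0 : a0 = 0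
  · subst h0
    rw [zero_mul] at m01 m02
    by_cases h1 : a1 = 0
    · subst h1
      rw [zero_mul] at m12
      have h2 : a2 ≠ 0 := fun h => hnz ⟨rfl, rfl, h⟩
      have e0 : b0 = 0 := by
        rcases mul_eq_zero.1 m02.symm with h | h
        · exact absurd h h2
        · exact h
      have e1 : b1 = 0 := by
        rcases mul_eq_zero.1 m12.symm with h | h
        · exact absurd h h2
        · exact h
      have hb2 : b2 ≠ 0 := by
        rcases hb with h | h | h
        · exact absurd e0 h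
        · exact absurd e1 h
        · exact h
      refine ⟨b2 * a2⁻¹, mul_ne_zero hb2 (inv_ne_zero h2), ?_, ?_, ?_⟩
      · rw [e0, mul_zero]
      · rw [e1, mul_zero]
      · rw [mul_assoc, inv_mul_cancel₀ h2, mul_one]
    · have e0 : b0 = 0 := by
        rcases mul_eq_zero.1 m01.symm with h | h
        · exact absurd h h1
        · exact h
      have hb1 : b1 ≠ 0 := by
        intro e1
        rw [e1, mul_zero] at m12
        have e2 : b2 = 0 := by
          rcases mul_eq_zero.1 m12 with h | h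
          · exact absurd h h1
          · exact h
        rcases hb with h | h | h
        · exact h e0
        · exact h e1
        · exact h e2
      refine ⟨b1 * a1⁻¹, mul_ne_zero hb1 (inv_ne_zero h1), ?_, ?_, ?_⟩
      · rw [e0, mul_zero]
      · rw [mul_assoc, inv_mul_cancel₀ h1, mul_one]
      · apply mul_left_cancel₀ h1
        rw [m12, ← mul_assoc, ← mul_assoc, mul_comm a1 b1, mul_assoc b1, mul_inv_cancel₀ h1,
          mul_one, mul_comm]
  · have hb0 : b0 ≠ 0 := by
      intro e0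
      rw [e0, mul_zero] at m01 m02
      have e1 : b1 = 0 := by
        rcases mul_eq_zero.1 m01 with h | h
        · exact absurd h h0
        · exact h
      have e2 : b2 = 0 := by
        rcases mul_eq_zero.1 m02 with h | h
        · exact absurd h h0
        · exact h
      rcases hb with h | h | h
      · exact h e0
      · exact h e1
      · exact h e2
    refine ⟨b0 * a0⁻¹, mul_ne_zero hb0 (inv_ne_zero h0), ?_, ?_, ?_⟩
    · rw [mul_assoc, inv_mul_cancel₀ h0, mul_one]
    · apply mul_left_cancel₀ h0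
      rw [m01, ← mul_assoc, ← mul_assoc, mul_comm a0 b0, mul_assoc b0, mul_inv_cancel₀ h0,
        mul_one, mul_comm]
    · apply mul_left_cancel₀ h0
      rw [m02, ← mul_assoc, ← mul_assoc, mul_comm a0 b0, mul_assoc b0, mul_inv_cancel₀ h0,
        mul_one, mul_comm]

theorem mem_allT (M : M9) (h : M ∈ allT) : ∃ k j, k < 64 ∧ j < 13 ∧ M = Tkj k j := by
  unfold allT at h
  rw [List.mem_flatMap] at h
  obtain ⟨k, hk, h⟩ := h
  rw [List.mem_map] at h
  obtain ⟨j, hj, h⟩ := h
  exact ⟨k, j, List.mem_range.1 hk, List.mem_range.1 hj, h.symm⟩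

theorem herm3_eq (a0 a1 a2 b0 b1 b2 : F16) :
    herm3 a0 a1 a2 b0 b1 b2 = a0 * b0 ^ 4 + a1 * b1 ^ 4 + a2 * b2 ^ 4 := by
  unfold herm3
  rw [frob_eq, frob_eq, frob_eq]
  rfl

theorem herm3_scale (l m a0 a1 a2 b0 b1 b2 : F16) :
    herm3 (l * a0) (l * a1) (l * a2) (m * b0) (m * b1) (m * b2)
      = (l * m ^ 4) * herm3 a0 a1 a2 b0 b1 b2 := by
  rw [herm3_eq, herm3_eq]
  ring

theorem row_herm (g : SU34) (i j : Fin 3) :
    herm3 (mat g i 0) (mat g i 1) (mat g i 2) (mat g j 0) (mat g j 1) (mat g j 2)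
      = if i = j then 1 else 0 := by
  rw [herm3_eq, ← row_orth g i j, Fin.sum_univ_three]

theorem nz_of_herm3 (a0 a1 a2 : F16) (h : herm3 a0 a1 a2 a0 a1 a2 ≠ 0) :
    a0 ≠ 0 ∨ a1 ≠ 0 ∨ a2 ≠ 0 := by
  by_contra hc
  simp only [not_or, not_not] at hc
  obtain ⟨h0, h1, h2⟩ := hc
  apply h
  rw [herm3_eq, h0, h1, h2]
  simp

/-- every element is, up to scaling and a cyclic shift of its rows, in the table -/
theorem cover (g : SU34) : ∃ k j, k < 64 ∧ j < 13 ∧ ∃ (s : Fin 3) (c : Fin 3 → F16),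
    (∀ i, c i ≠ 0) ∧ mat g = Matrix.diagonal c *
      ((Tkj k j).toMat).submatrix (fun i : Fin 3 => i + s) id := by
  have hrow : ∀ i : Fin 3, mat g i ≠ 0 := by
    intro i hi
    have := row_herm g i i
    rw [if_pos rfl, hi] at this
    simp [herm3_eq] at this
  have hC := coverChk_true
  unfold coverChk at hC
  -- first row
  obtain ⟨a0, a1, a2, hP0, l0, hl0, e00, e01, e02⟩ := nvAll_spec _ hC (mat g 0) (hrow 0)
  have haa : herm3 a0 a1 a2 a0 a1 a2 ≠ 0 := by
    intro h
    have := row_herm g 0 0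
    rw [if_pos rfl, e00, e01, e02, herm3_scale, h, mul_zero] at this
    exact zero_ne_one this
  unfold chkA at hP0
  simp only [Bool.or_eq_true, isZ_iff, haa, false_or] at hP0
  -- second row
  obtain ⟨b0, b1, b2, hP1, l1, hl1, e10, e11, e12⟩ := nvAll_spec _ hP0 (mat g 1) (hrow 1)
  have hbb : herm3 b0 b1 b2 b0 b1 b2 ≠ 0 := by
    intro h
    have := row_herm g 1 1
    rw [if_pos rfl, e10, e11, e12, herm3_scale, h, mul_zero] at this
    exact zero_ne_one this
  have hab : herm3 a0 a1 a2 b0 b1 b2 = 0 := by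
    have := row_herm g 0 1
    rw [if_neg (by decide), e00, e01, e02, e10, e11, e12, herm3_scale] at this
    rcases mul_eq_zero.1 this with h | h
    · exact absurd h (mul_ne_zero hl0 (pow_ne_zero _ hl1))
    · exact h
  unfold chkB at hP1
  simp only [Bool.or_eq_true, Bool.not_eq_true', ← Bool.not_eq_true, isZ_iff, hbb, hab,
    not_true_eq_false, false_or] at hP1
  -- third row
  obtain ⟨d0, d1, d2, hP2, l2, hl2, e20, e21, e22⟩ := nvAll_spec _ hP1 (mat g 2) (hrow 2)
  have hdd : herm3 d0 d1 d2 d0 d1 d2 ≠ 0 := by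
    intro h
    have := row_herm g 2 2
    rw [if_pos rfl, e20, e21, e22, herm3_scale, h, mul_zero] at this
    exact zero_ne_one this
  have had : herm3 a0 a1 a2 d0 d1 d2 = 0 := by
    have := row_herm g 0 2
    rw [if_neg (by decide), e00, e01, e02, e20, e21, e22, herm3_scale] at this
    rcases mul_eq_zero.1 this with h | h
    · exact absurd h (mul_ne_zero hl0 (pow_ne_zero _ hl2))
    · exact h
  have hbd : herm3 b0 b1 b2 d0 d1 d2 = 0 := by
    have := row_herm g 1 2
    rw [if_neg (by decide), e10, e11, e12, e20, e21, e22, herm3_scale] at this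
    rcases mul_eq_zero.1 this with h | h
    · exact absurd h (mul_ne_zero hl1 (pow_ne_zero _ hl2))
    · exact h
  unfold chkD at hP2
  simp only [Bool.or_eq_true, Bool.not_eq_true', ← Bool.not_eq_true, isZ_iff, hdd, had, hbd,
    not_true_eq_false, false_or] at hP2
  unfold covered at hP2
  rw [List.any_eq_true] at hP2
  obtain ⟨M, hM, hm⟩ := hP2
  obtain ⟨k, j, hk, hj, rfl⟩ := mem_allT M hM
  refine ⟨k, j, hk, hj, ?_⟩
  have nza := nz_of_herm3 _ _ _ haa
  have nzb := nz_of_herm3 _ _ _ hbb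
  have nzd := nz_of_herm3 _ _ _ hdd
  unfold mtch at hm
  simp only [Bool.or_eq_true, Bool.and_eq_true] at hm
  rcases hm with (⟨⟨pa, pb⟩, pd⟩ | ⟨⟨pa, pb⟩, pd⟩) | ⟨⟨pa, pb⟩, pd⟩
  · obtain ⟨na, hna, fa0, fa1, fa2⟩ := pr_spec _ _ _ _ _ _ pa nza
    obtain ⟨nb, hnb, fb0, fb1, fb2⟩ := pr_spec _ _ _ _ _ _ pb nzb
    obtain ⟨nd, hnd, fd0, fd1, fd2⟩ := pr_spec _ _ _ _ _ _ pd nzd
    refine ⟨0, ![l0 * na, l1 * nb, l2 * nd], ?_, ?_⟩
    · intro i
      fin_cases i
      · exact mul_ne_zero hl0 hna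
      · exact mul_ne_zero hl1 hnb
      · exact mul_ne_zero hl2 hnd
    · ext i l
      rw [Matrix.diagonal_mul, Matrix.submatrix_apply]
      fin_cases i <;> fin_cases l
      · show mat g 0 0 = l0 * na * (Tkj k j).a
        rw [e00, fa0, mul_assoc]
      · show mat g 0 1 = l0 * na * (Tkj k j).b
        rw [e01, fa1, mul_assoc]
      · show mat g 0 2 = l0 * na * (Tkj k j).c
        rw [e02, fa2, mul_assoc]
      · show mat g 1 0 = l1 * nb * (Tkj k j).d
        rw [e10, fb0, mul_assoc]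
      · show mat g 1 1 = l1 * nb * (Tkj k j).e
        rw [e11, fb1, mul_assoc]
      · show mat g 1 2 = l1 * nb * (Tkj k j).f
        rw [e12, fb2, mul_assoc]
      · show mat g 2 0 = l2 * nd * (Tkj k j).g
        rw [e20, fd0, mul_assoc]
      · show mat g 2 1 = l2 * nd * (Tkj k j).h
        rw [e21, fd1, mul_assoc]
      · show mat g 2 2 = l2 * nd * (Tkj k j).i
        rw [e22, fd2, mul_assoc]
  · obtain ⟨na, hna, fa0, fa1, fa2⟩ := pr_spec _ _ _ _ _ _ pa nza
    obtain ⟨nb, hnb, fb0, fb1, fb2⟩ := pr_spec _ _ _ _ _ _ pb nzb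
    obtain ⟨nd, hnd, fd0, fd1, fd2⟩ := pr_spec _ _ _ _ _ _ pd nzd
    refine ⟨1, ![l0 * na, l1 * nb, l2 * nd], ?_, ?_⟩
    · intro i
      fin_cases i
      · exact mul_ne_zero hl0 hna
      · exact mul_ne_zero hl1 hnb
      · exact mul_ne_zero hl2 hnd
    · ext i l
      rw [Matrix.diagonal_mul, Matrix.submatrix_apply]
      fin_cases i <;> fin_cases l
      · show mat g 0 0 = l0 * na * (Tkj k j).d
        rw [e00, fa0, mul_assoc]
      · show mat g 0 1 = l0 * na * (Tkj k j).e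
        rw [e01, fa1, mul_assoc]
      · show mat g 0 2 = l0 * na * (Tkj k j).f
        rw [e02, fa2, mul_assoc]
      · show mat g 1 0 = l1 * nb * (Tkj k j).g
        rw [e10, fb0, mul_assoc]
      · show mat g 1 1 = l1 * nb * (Tkj k j).h
        rw [e11, fb1, mul_assoc]
      · show mat g 1 2 = l1 * nb * (Tkj k j).i
        rw [e12, fb2, mul_assoc]
      · show mat g 2 0 = l2 * nd * (Tkj k j).a
        rw [e20, fd0, mul_assoc]
      · show mat g 2 1 = l2 * nd * (Tkj k j).b
        rw [e21, fd1, mul_assoc]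
      · show mat g 2 2 = l2 * nd * (Tkj k j).c
        rw [e22, fd2, mul_assoc]
  · obtain ⟨na, hna, fa0, fa1, fa2⟩ := pr_spec _ _ _ _ _ _ pa nza
    obtain ⟨nb, hnb, fb0, fb1, fb2⟩ := pr_spec _ _ _ _ _ _ pb nzb
    obtain ⟨nd, hnd, fd0, fd1, fd2⟩ := pr_spec _ _ _ _ _ _ pd nzd
    refine ⟨2, ![l0 * na, l1 * nb, l2 * nd], ?_, ?_⟩
    · intro i
      fin_cases i
      · exact mul_ne_zero hl0 hna
      · exact mul_ne_zero hl1 hnb
      · exact mul_ne_zero hl2 hnd
    · ext i l
      rw [Matrix.diagonal_mul, Matrix.submatrix_apply]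
      fin_cases i <;> fin_cases l
      · show mat g 0 0 = l0 * na * (Tkj k j).g
        rw [e00, fa0, mul_assoc]
      · show mat g 0 1 = l0 * na * (Tkj k j).h
        rw [e01, fa1, mul_assoc]
      · show mat g 0 2 = l0 * na * (Tkj k j).i
        rw [e02, fa2, mul_assoc]
      · show mat g 1 0 = l1 * nb * (Tkj k j).a
        rw [e10, fb0, mul_assoc]
      · show mat g 1 1 = l1 * nb * (Tkj k j).b
        rw [e11, fb1, mul_assoc]
      · show mat g 1 2 = l1 * nb * (Tkj k j).c
        rw [e12, fb2, mul_assoc]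
      · show mat g 2 0 = l2 * nd * (Tkj k j).d
        rw [e20, fd0, mul_assoc]
      · show mat g 2 1 = l2 * nd * (Tkj k j).e
        rw [e21, fd1, mul_assoc]
      · show mat g 2 2 = l2 * nd * (Tkj k j).f
        rw [e22, fd2, mul_assoc]

end Cfsg.Agent.Lib.H14.U34Cov
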