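import Mathlib
import Cfsg.Agent.Lib.H14.U34Cov
import Cfsg.Agent.Lib.H14.U34Chk

set_option autoImplicit false
set_option linter.unusedSimpArgs false

/-! # The key identity: the sums of the function over the cosets of the subgroup of order
thirteen vanish -/

namespace Cfsg.Agent.Lib.H14.U34Key

open Matrix Cfsg.Agent.Lib.H14 Cfsg.Agent.Lib.H14.F16 Cfsg.Agent.Lib.H14.U34Mat
  Cfsg.Agent.Lib.H14.U34A Cfsg.Agent.Lib.H14.U34F Cfsg.Agent.Lib.H14.U34M9
  Cfsg.Agent.Lib.H14.U34Tab Cfsg.Agent.Lib.H14.U34Cov Cfsg.Agent.Lib.H14.U34Chk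

theorem x_pow_13 : x ^ 13 = 1 := by
  rw [← orderOf_x]
  exact pow_orderOf_eq_one x

/-- shifting the summation index -/
theorem sum_shift_one {α : Type*} [AddCommGroup α] (H : SU34 → α) :
    ∑ t ∈ Finset.range 13, H (x ^ (t + 1)) = ∑ t ∈ Finset.range 13, H (x ^ t) := by
  have h1 := Finset.sum_range_succ (fun t => H (x ^ t)) 13
  have h2 := Finset.sum_range_succ' (fun t => H (x ^ t)) 13
  rw [h2] at h1
  simp only [x_pow_13, pow_zero] at h1
  exact add_right_cancel h1

theorem sum_shift {α : Type*} [AddCommGroup α] (G : SU34 → α) (m : ℕ) :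
    ∑ t ∈ Finset.range 13, G (x ^ t * x ^ m) = ∑ t ∈ Finset.range 13, G (x ^ t) := by
  induction m with
  | zero => simp
  | succ m ih =>
    rw [← ih]
    have := sum_shift_one (fun z => G (z * x ^ m))
    rw [← this]
    apply Finset.sum_congr rfl
    intro t _
    rw [← pow_add, ← pow_add]
    congr 2
    ring

theorem toMat_Ck (k : ℕ) : (Ck k).toMat = ctr (getR k).toMat := by
  unfold Ck
  rw [M9.toMat_ctr9]

theorem toMat_Tkj (k j : ℕ) (hj : j < 13) : (Tkj k j).toMat = (getR k).toMat * mat (x ^ j) := by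
  unfold Tkj
  rw [M9.toMat_mul, toMat_getX j hj]

/-- invariance under scaling and shifting the columns of the right factor -/
theorem f0M_cols (c : Fin 3 → F16) (hc : ∀ i, c i ≠ 0) (s : Fin 3)
    (V Z : Matrix (Fin 3) (Fin 3) F16) :
    f0M (Z * ctr (Matrix.diagonal c * V.submatrix (fun i : Fin 3 => i + s) id))
      = f0M (Z * ctr V) := by
  have e1 : ∀ W : Matrix (Fin 3) (Fin 3) F16,
      Z * ctr W = (W.map (fun a => a ^ 4) * Zᵀ)ᵀ := by
    intro W
    rw [Matrix.transpose_mul, Matrix.transpose_transpose]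
    rfl
  rw [e1, e1, f0M_transpose, f0M_transpose]
  have e2 : (Matrix.diagonal c * V.submatrix (fun i : Fin 3 => i + s) id).map (fun a => a ^ 4)
      = Matrix.diagonal (fun i => c i ^ 4) *
        (V.map (fun a => a ^ 4)).submatrix (fun i : Fin 3 => i + s) id := by
    ext i j
    rw [Matrix.map_apply, Matrix.diagonal_mul, Matrix.diagonal_mul, mul_pow]
    rfl
  rw [e2, f0M_rows _ (fun i => pow_ne_zero _ (hc i))]

/-- the sums over the table vanish -/
theorem table_sum (k k' : ℕ) (hk : k < 64) (hk' : k' < 64) :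
    ∑ t ∈ Finset.range 13, f0M ((getR k).toMat * mat (x ^ t) * (Ck k').toMat) = 0 := by
  have h := pairChk_all k k' hk hk'
  unfold pairChk at h
  rw [beq_iff_eq] at h
  have h1 : orbSum k k' = ∑ t ∈ Finset.range 13, M9.f9 (M9.mul (Tkj k t) (Ck k')) := by
    unfold orbSum
    simp [Finset.sum_range_succ, List.range_succ]
  have h2 : ((orbSum k k' : ℕ) : ZMod 5) = 0 :=
    (ZMod.natCast_eq_zero_iff _ 5).2 (Nat.dvd_of_mod_eq_zero h)
  rw [h1, Nat.cast_sum] at h2
  rw [← h2]
  apply Finset.sum_congr rfl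
  intro t ht
  rw [M9.f9_eq, M9.toMat_mul, toMat_Tkj k t (Finset.mem_range.1 ht)]
  rfl

/-- the key identity -/
theorem key (A B : SU34) : ∑ t ∈ Finset.range 13, f0M (mat (A * x ^ t * B)) = 0 := by
  obtain ⟨k, j, hk, hj, s, c, hc, eA⟩ := cover A
  obtain ⟨k', j', hk', hj', s', c', hc', eB⟩ := cover B⁻¹
  have eB' : mat B = ctr (mat B⁻¹) := by
    rw [← mat_inv, inv_inv]
  have hinv : (x ^ j')⁻¹ = x ^ (12 * j') := by
    apply inv_eq_of_mul_eq_one_right
    rw [← pow_add]
    have : j' + 12 * j' = 13 * j' := by ring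
    rw [this, pow_mul, x_pow_13, one_pow]
  have step : ∀ t : ℕ, f0M (mat (A * x ^ t * B))
      = f0M ((getR k).toMat * mat (x ^ t * x ^ (j + 12 * j')) * (Ck k').toMat) := by
    intro t
    have hx : mat (x ^ j) * mat (x ^ t) * mat (x ^ (12 * j'))
        = mat (x ^ t * x ^ (j + 12 * j')) := by
      rw [← mat_mul, ← mat_mul, ← pow_add, ← pow_add, ← pow_add]
      have : j + t + 12 * j' = t + (j + 12 * j') := by ring
      rw [this]
    rw [mat_mul, mat_mul, Matrix.mul_assoc, eA, f0M_rows c hc, eB', eB, ← Matrix.mul_assoc,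
      f0M_cols c' hc', toMat_Tkj k j hj, toMat_Tkj k' j' hj', ctr_mul, ← mat_inv, hinv, toMat_Ck,
      ← hx]
    simp only [Matrix.mul_assoc]
  rw [Finset.sum_congr rfl (fun t _ => step t)]
  rw [sum_shift (fun z => f0M ((getR k).toMat * mat z * (Ck k').toMat))]
  exact table_sum k k' hk hk'

theorem f0M_x_ne : f0M (mat x) ≠ 0 := by
  rw [mat_x]
  decide +kernel

end Cfsg.Agent.Lib.H14.U34Key
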