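import Mathlib
import Cfsg.Agent.S0278
import Cfsg.Agent.S0279
import Cfsg.Agent.Lib.H14.U34Key
import Cfsg.Agent.Lib.H14.PGExt
import Cfsg.Agent.Lib.H14.SUTr

set_option autoImplicit false
set_option linter.unusedSimpArgs false

/-! # Finite groups of unbounded order with the same prime graph as `PSU(3,4)` -/

namespace Cfsg.Agent.Lib.H14.U34Main

open Cfsg.Agent.Lib.H14 Cfsg.Agent.Lib.H14.F16 Cfsg.Agent.Lib.H14.U34A Cfsg.Agent.Lib.H14.U34F
  Cfsg.Agent.Lib.H14.U34Key Cfsg.Agent.Lib.H14.PGExt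

theorem card_SU34 : Nat.card SU34 = 62400 := by
  have h := Cfsg.Agent.S0278.result (F := F16) (q := 4) F16.card_eq 3 (by norm_num)
  have h2 : (4 + 1) * Nat.card SU34 = 312000 := by
    rw [h]
    decide
  omega

instance : Finite SU34 := Nat.finite_of_card_ne_zero (by rw [card_SU34]; norm_num)

theorem center_SU34 : Subgroup.center SU34 = ⊥ := by
  have h := Cfsg.Agent.S0279.result (F := F16) (q := 4) F16.card_eq 3 (by norm_num)
  have h2 : Nat.card (Subgroup.center SU34) = 1 := by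
    rw [h]
    decide
  exact Subgroup.card_eq_one.1 h2

theorem fact13 : (Nat.card SU34).factorization 13 = 1 := by
  rw [card_SU34]
  have : (62400 : ℕ) = 13 * 4800 := by norm_num
  rw [this, Nat.factorization_mul (by norm_num) (by norm_num), Finsupp.add_apply,
    Nat.Prime.factorization_self (by norm_num),
    Nat.factorization_eq_zero_of_not_dvd (by norm_num)]

instance : Fact (Nat.Prime 13) := ⟨by norm_num⟩
instance : Fact (Nat.Prime 5) := ⟨by norm_num⟩

/-- the function on the group -/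
def f0 (g : SU34) : ZMod 5 := f0M (mat g)

theorem f0_sum (y : SU34) (hy : orderOf y = 13) (E : SU34) :
    ∑ t ∈ Finset.range 13, f0 (E * y ^ t) = 0 := by
  obtain ⟨h, j, hj, rfl⟩ := exists_conj_eq_pow 13 y x hy orderOf_x fact13
  have e1 : ∀ t : ℕ, f0 (E * (h * x ^ j * h⁻¹) ^ t)
      = (fun z => f0 (E * h * z * h⁻¹)) (x ^ (j * t)) := by
    intro t
    show f0 (E * (h * x ^ j * h⁻¹) ^ t) = f0 (E * h * x ^ (j * t) * h⁻¹)
    rw [conj_pow, ← pow_mul]
    congr 1
    simp only [mul_assoc]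
  rw [Finset.sum_congr rfl (fun t _ => e1 t),
    sum_pow_mul 13 x x_pow_13 j hj (fun z => f0 (E * h * z * h⁻¹))]
  exact key (E * h) h⁻¹

theorem prime_dvd_card (q : ℕ) (hq : q.Prime) (h : q ∣ Nat.card SU34) :
    q = 2 ∨ q = 3 ∨ q = 5 ∨ q = 13 := by
  rw [card_SU34] at h
  have e : (62400 : ℕ) = 2 ^ 6 * 3 * 5 ^ 2 * 13 := by norm_num
  rw [e] at h
  rcases (Nat.Prime.dvd_mul hq).1 h with h | h
  · rcases (Nat.Prime.dvd_mul hq).1 h with h | h
    · rcases (Nat.Prime.dvd_mul hq).1 h with h | h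
      · left
        exact (Nat.prime_dvd_prime_iff_eq hq (by norm_num)).1 (hq.dvd_of_dvd_pow h)
      · right; left
        exact (Nat.prime_dvd_prime_iff_eq hq (by norm_num)).1 h
    · right; right; left
      exact (Nat.prime_dvd_prime_iff_eq hq (by norm_num)).1 (hq.dvd_of_dvd_pow h)
  · right; right; right
    exact (Nat.prime_dvd_prime_iff_eq hq (by norm_num)).1 h

theorem hK (q : ℕ) (hq : q.Prime) (h5 : q ≠ 5) (h13 : q ≠ 13) (h : ∃ g : SU34, orderOf g = q) :
    ∃ g : SU34, orderOf g = 5 * q := by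
  obtain ⟨g, hg⟩ := h
  have hd : q ∣ Nat.card SU34 := by
    rw [← hg]
    exact orderOf_dvd_natCard g
  rcases prime_dvd_card q hq hd with rfl | rfl | rfl | rfl
  · exact ⟨g10, orderOf_g10⟩
  · exact ⟨g15, orderOf_g15⟩
  · exact absurd rfl h5
  · exact absurd rfl h13

/-- the groups with the same prime graph as `SU(3,4)`, of unbounded order -/
theorem main_SU34 (N : ℕ) :
    ∃ (H : Type) (_ : Group H) (_ : Finite H), N < Nat.card H ∧
      (∀ p : ℕ, p.Prime → (p ∣ Nat.card SU34 ↔ p ∣ Nat.card H)) ∧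
      ∀ p q : ℕ, p.Prime → q.Prime → p ≠ q →
        ((∃ g : SU34, orderOf g = p * q) ↔ ∃ g : H, orderOf g = p * q) :=
  exists_big SU34 5 13 f0 x f0M_x_ne f0_sum (by rw [card_SU34]; norm_num) hK N

/-- the projective group over any field with sixteen elements -/
theorem main (F : Type*) [Field F] [Fintype F] (hF : Fintype.card F = 16) (N : ℕ) :
    ∃ (H : Type) (_ : Group H) (_ : Finite H), N < Nat.card H ∧
      (∀ p : ℕ, p.Prime → (p ∣ Nat.card (Cfsg.PSU 3 F 4) ↔ p ∣ Nat.card H)) ∧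
      ∀ p q : ℕ, p.Prime → q.Prime → p ≠ q →
        ((∃ g : Cfsg.PSU 3 F 4, orderOf g = p * q) ↔ ∃ g : H, orderOf g = p * q) := by
  have e : F ≃+* F16 := FiniteField.ringEquivOfCardEq (hF.trans F16.card_eq.symm)
  have θ1 : Cfsg.PSU 3 F 4 ≃* Cfsg.PSU 3 F16 4 := Cfsg.Agent.Lib.H14.SUTr.psuEquiv e 4
  have θ2 : Cfsg.PSU 3 F16 4 ≃* SU34 :=
    (QuotientGroup.quotientMulEquivOfEq center_SU34).trans QuotientGroup.quotientBot
  have θ : Cfsg.PSU 3 F 4 ≃* SU34 := θ1.trans θ2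
  obtain ⟨H, iG, iF, h1, h2, h3⟩ := main_SU34 N
  refine ⟨H, iG, iF, h1, ?_, ?_⟩
  · intro p hp
    rw [Nat.card_congr θ.toEquiv]
    exact h2 p hp
  · intro p q hp hq hpq
    rw [← h3 p q hp hq hpq]
    constructor
    · rintro ⟨g, hg⟩
      exact ⟨θ g, by rw [MulEquiv.orderOf_eq, hg]⟩
    · rintro ⟨g, hg⟩
      exact ⟨θ.symm g, by rw [MulEquiv.orderOf_eq, hg]⟩

end Cfsg.Agent.Lib.H14.U34Main
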