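import Mathlib
import Cfsg.Agent.Lib.H17.F4

set_option autoImplicit false
set_option maxRecDepth 100000

/-! # Tables for the isomorphism `PSU(4,2) ≅ PSp(4,3)`: the 40 points on both sides -/

namespace Cfsg.Agent.Lib.H14.U4Tab

open Cfsg.Agent.Lib.H17

/-- the field with three elements -/
abbrev K3 : Type := ZMod 3
/-- the index type of symplectic vectors -/
abbrev I4 : Type := Fin 2 ⊕ Fin 2
/-- symplectic vectors -/
abbrev V3 : Type := I4 → K3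
/-- unitary vectors -/
abbrev V4 : Type := Fin 4 → F4

/-- a vector from its four coordinates -/
def mk3 (a b c d : K3) : V3 := Sum.elim ![a, b] ![c, d]

/-- same line, over `K3` -/
def rel3 (x y : V3) : Prop := x = y ∨ x = -y

instance (x y : V3) : Decidable (rel3 x y) := by unfold rel3; infer_instance

/-- the generator of the multiplicative group of `F4` -/
abbrev w : F4 := F4.w
/-- its square -/
abbrev w2 : F4 := F4.w2

/-- same line, over `F4` -/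
def rel4 (x y : V4) : Prop := x = y ∨ x = w • y ∨ x = w2 • y

instance (x y : V4) : Decidable (rel4 x y) := by unfold rel4; infer_instance

/-- the symplectic form `(J w) ⬝ x` -/
def sf (u x : V3) : K3 :=
  u (Sum.inl 0) * x (Sum.inr 0) + u (Sum.inl 1) * x (Sum.inr 1)
    - u (Sum.inr 0) * x (Sum.inl 0) - u (Sum.inr 1) * x (Sum.inl 1)

/-- the transvection `x ↦ x + c (J u ⬝ x) u` -/
def tv3 (c : K3) (u x : V3) : V3 := x + (c * sf u x) • u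

/-- the Hermitian form -/
def herm (u v : V4) : F4 := u 0 * v 0 ^ 2 + u 1 * v 1 ^ 2 + u 2 * v 2 ^ 2 + u 3 * v 3 ^ 2

/-- the quasi-reflection `x ↦ x + (l - 1) h(x, v) v` -/
def rf4 (l : F4) (v x : V4) : V4 := x + ((l + 1) * herm x v) • v

/-- the eigenvalue attached to a transvection parameter -/
def lam : K3 → F4
  | 0 => 1
  | 1 => w2
  | 2 => w

def P3 : Fin 40 → V3 :=
  ![mk3 0 0 0 1, mk3 0 0 1 0, mk3 0 0 1 1, mk3 0 0 1 2,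
    mk3 0 1 0 0, mk3 0 1 0 1, mk3 0 1 0 2, mk3 0 1 1 0,
    mk3 0 1 1 1, mk3 0 1 1 2, mk3 0 1 2 0, mk3 0 1 2 1,
    mk3 0 1 2 2, mk3 1 0 0 0, mk3 1 0 0 1, mk3 1 0 0 2,
    mk3 1 0 1 0, mk3 1 0 1 1, mk3 1 0 1 2, mk3 1 0 2 0,
    mk3 1 0 2 1, mk3 1 0 2 2, mk3 1 1 0 0, mk3 1 1 0 1,
    mk3 1 1 0 2, mk3 1 1 1 0, mk3 1 1 1 1, mk3 1 1 1 2,
    mk3 1 1 2 0, mk3 1 1 2 1, mk3 1 1 2 2, mk3 1 2 0 0,
    mk3 1 2 0 1, mk3 1 2 0 2, mk3 1 2 1 0, mk3 1 2 1 1,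
    mk3 1 2 1 2, mk3 1 2 2 0, mk3 1 2 2 1, mk3 1 2 2 2]

def Q4 : Fin 40 → V4 :=
  ![![0, 0, 0, 1], ![0, 0, 1, 0], ![0, 1, 0, 0], ![1, 0, 0, 0],
    ![1, 1, 0, 1], ![1, 1, 0, w], ![1, 1, 0, w2], ![1, w, 0, w2],
    ![1, w, 0, 1], ![1, w, 0, w], ![1, w2, 0, w], ![1, w2, 0, w2],
    ![1, w2, 0, 1], ![1, 1, 1, 0], ![1, w, w2, 0], ![1, w2, w, 0],
    ![1, 1, w, 0], ![1, w, 1, 0], ![1, w2, w2, 0], ![1, 1, w2, 0],
    ![1, w, w, 0], ![1, w2, 1, 0], ![0, 1, 1, 1], ![0, 1, 1, w],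
    ![0, 1, 1, w2], ![0, 1, w, 1], ![0, 1, w, w], ![0, 1, w, w2],
    ![0, 1, w2, 1], ![0, 1, w2, w], ![0, 1, w2, w2], ![1, 0, 1, 1],
    ![1, 0, 1, w2], ![1, 0, 1, w], ![1, 0, w, 1], ![1, 0, w, w2],
    ![1, 0, w, w], ![1, 0, w2, 1], ![1, 0, w2, w2], ![1, 0, w2, w]]

set_option maxHeartbeats 4000000 in
theorem D1 : ∀ v : V3, v ≠ 0 → ∃ i, rel3 v (P3 i) := by decide +kernel

theorem D2 : ∀ i j, rel3 (P3 i) (P3 j) → i = j := by decide +kernel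

theorem D3 : ∀ v : V4, herm v v = 1 → ∃ i, rel4 v (Q4 i) := by decide +kernel

theorem D4 : ∀ i j, rel4 (Q4 i) (Q4 j) → i = j := by decide +kernel

theorem D5 : ∀ i, herm (Q4 i) (Q4 i) = 1 := by decide +kernel

theorem D6 : ∀ c : K3, ∀ k i : Fin 40, ∃ j : Fin 40,
    rel3 (tv3 c (P3 k) (P3 i)) (P3 j) ∧ rel4 (rf4 (lam c) (Q4 k) (Q4 i)) (Q4 j) := by
  decide +kernel

theorem D7 : ∀ p q : Fin 40,
    (∀ k : Fin 40, rel3 (tv3 1 (P3 k) (P3 p)) (P3 p) → rel3 (tv3 1 (P3 k) (P3 q)) (P3 q)) →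
      q = p := by
  decide +kernel

end Cfsg.Agent.Lib.H14.U4Tab
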