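import Mathlib
import Cfsg.Prelude.Def_Classical
import Cfsg.Prelude.Def_ClassicalGeometry
import Cfsg.Agent.Lib.H2.Spec5
import Cfsg.Agent.Lib.H14.U4LineSys
import Cfsg.Agent.Lib.H14.U4Tab

set_option autoImplicit false
set_option linter.unusedSimpArgs false
set_option maxRecDepth 100000

/-! # `SU(4,2)` acting on the 40 non-isotropic points -/

namespace Cfsg.Agent.Lib.H14.U4SU

open Matrix hiding SpecialLinearGroup
open Matrix (SpecialLinearGroup)
open Cfsg.Agent.Lib.H14.U4LineSys Cfsg.Agent.Lib.H14.U4Tab Cfsg.Agent.Lib.H17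

/-- the special unitary group -/
abbrev SU4 : Type := ↥(Cfsg.SU 4 F4 2)

/-- the matrix of an element -/
abbrev mat (g : SU4) : Matrix (Fin 4) (Fin 4) F4 :=
  ((g : SpecialLinearGroup (Fin 4) F4) : Matrix (Fin 4) (Fin 4) F4)

theorem mat_one : mat 1 = 1 := rfl

theorem mat_mul (g h : SU4) : mat (g * h) = mat g * mat h := rfl

/-- the Frobenius map -/
def frob : F4 →+* F4 where
  toFun x := x ^ 2
  map_one' := by decide
  map_mul' := by decide
  map_zero' := by decide
  map_add' := by decide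

theorem frob_apply (x : F4) : frob x = x ^ 2 := rfl

theorem herm_eq (u v : V4) : Cfsg.hermForm 4 F4 2 u v = herm u v := by
  simp only [Cfsg.hermForm, Fin.sum_univ_four, herm]

theorem rel4_iff (x y : V4) : rel4 x y ↔ ∃ a : F4, a ≠ 0 ∧ x = a • y := by
  constructor
  · rintro (h | h | h)
    · exact ⟨1, by decide, by rw [h, one_smul]⟩
    · exact ⟨w, by decide, h⟩
    · exact ⟨w2, by decide, h⟩
  · rintro ⟨a, ha, h⟩
    have key : ∀ b : F4, b ≠ 0 → b = 1 ∨ b = w ∨ b = w2 := by decide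
    rcases key a ha with rfl | rfl | rfl
    · left
      rw [h, one_smul]
    · right; left; exact h
    · right; right; exact h

theorem rel4_smul_left (a : F4) (ha : a ≠ 0) (x y : V4) (h : rel4 x y) : rel4 (a • x) y := by
  rw [rel4_iff] at h ⊢
  obtain ⟨b, hb, rfl⟩ := h
  exact ⟨a * b, mul_ne_zero ha hb, by rw [smul_smul]⟩

theorem herm_smul_smul (a : F4) (ha : a ≠ 0) (x : V4) : herm (a • x) (a • x) = herm x x := by
  have key : ∀ b : F4, b ≠ 0 → b * b ^ 2 = 1 := by decide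
  simp only [herm, Pi.smul_apply, smul_eq_mul, mul_pow]
  have := key a ha
  linear_combination (x 0 * x 0 ^ 2 + x 1 * x 1 ^ 2 + x 2 * x 2 ^ 2 + x 3 * x 3 ^ 2) * this

/-- the system of the 40 non-isotropic points -/
noncomputable def S4 : Sys SU4 V4 (Fin 40) where
  app g x := mat g *ᵥ x
  app_one x := by
    rw [mat_one, Matrix.one_mulVec]
  app_mul g h x := by
    rw [mat_mul, ← Matrix.mulVec_mulVec]
  rel := rel4
  rel_symm := by
    intro x y h
    rw [rel4_iff] at h ⊢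
    obtain ⟨a, ha, rfl⟩ := h
    exact ⟨a⁻¹, inv_ne_zero ha, by rw [smul_smul, inv_mul_cancel₀ ha, one_smul]⟩
  rel_trans := by
    intro x y z h1 h2
    rw [rel4_iff] at h1 h2 ⊢
    obtain ⟨a, ha, rfl⟩ := h1
    obtain ⟨b, hb, rfl⟩ := h2
    exact ⟨a * b, mul_ne_zero ha hb, by rw [smul_smul]⟩
  rel_app g := by
    intro x y h
    rw [rel4_iff] at h ⊢
    obtain ⟨a, ha, rfl⟩ := h
    exact ⟨a, ha, by rw [Matrix.mulVec_smul]⟩
  P := Q4
  rel_P i := Or.inl rfl
  inj := D4
  closed g i := by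
    have h1 := g.2 (Q4 i) (Q4 i)
    rw [herm_eq, herm_eq, D5] at h1
    exact D3 _ h1

theorem S4_app (g : SU4) (x : V4) : S4.app g x = mat g *ᵥ x := rfl

theorem S4_rel (x y : V4) : S4.rel x y ↔ rel4 x y := Iff.rfl

theorem S4_P (i : Fin 40) : S4.P i = Q4 i := rfl

/-- the representation on the 40 points -/
noncomputable def rho4 : SU4 →* Equiv.Perm (Fin 40) := rho S4

/-- the matrix of the scaled quasi-reflection with centre `Q4 k` -/
def Umat (c : K3) (k : Fin 40) : Matrix (Fin 4) (Fin 4) F4 :=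
  (lam c)⁻¹ • Cfsg.unitaryTransvection 4 2 (Q4 k) (lam c + 1)

theorem Umat_unitary : ∀ (c : K3) (k : Fin 40), (Umat c k)ᵀ * (Umat c k).map frob = 1 := by
  unfold Umat Cfsg.unitaryTransvection
  decide +kernel

theorem Umat_det (c : K3) (k : Fin 40) : (Umat c k).det = 1 := by
  unfold Umat Cfsg.unitaryTransvection
  rw [Matrix.det_smul, ← Matrix.smul_vecMulVec, Matrix.vecMulVec_eq (Fin 1),
    Matrix.det_one_add_replicateCol_mul_replicateRow]
  have h1 : (fun j => Q4 k j ^ 2) ⬝ᵥ ((lam c + 1) • Q4 k) = (lam c + 1) * herm (Q4 k) (Q4 k) := by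
    simp only [dotProduct, Fin.sum_univ_four, herm, Pi.smul_apply, smul_eq_mul]
    ring
  rw [h1, D5]
  have key : ∀ c : K3, (lam c)⁻¹ ^ Fintype.card (Fin 4) * (1 + (lam c + 1) * 1) = 1 := by decide
  exact key c

/-- the element of `SU(4,2)` -/
noncomputable def Uel (c : K3) (k : Fin 40) : SU4 :=
  ⟨⟨Umat c k, Umat_det c k⟩,
    (Cfsg.Agent.Lib.H2.Spec.mem_SU_iff_mul frob frob_apply _).2 (Umat_unitary c k)⟩

theorem mat_Uel (c : K3) (k : Fin 40) : mat (Uel c k) = Umat c k := rfl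

theorem Umat_mulVec (c : K3) (k : Fin 40) (x : V4) :
    Umat c k *ᵥ x = (lam c)⁻¹ • rf4 (lam c) (Q4 k) x := by
  unfold Umat Cfsg.unitaryTransvection rf4
  rw [Matrix.smul_mulVec, Matrix.add_mulVec, Matrix.one_mulVec, Matrix.smul_mulVec]
  congr 2
  funext i
  simp only [Matrix.mulVec, dotProduct, Matrix.vecMulVec_apply, Pi.smul_apply, smul_eq_mul,
    Fin.sum_univ_four, herm]
  ring

theorem lam_ne_zero : ∀ c : K3, lam c ≠ 0 := by decide

/-- the matching of transvections and quasi-reflections, on the unitary side -/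
theorem rel_Uel (c : K3) (k i j : Fin 40) (h : rel4 (rf4 (lam c) (Q4 k) (Q4 i)) (Q4 j)) :
    S4.rel (S4.app (Uel c k) (S4.P i)) (S4.P j) := by
  rw [S4_rel, S4_app, S4_P, S4_P, mat_Uel, Umat_mulVec]
  exact rel4_smul_left _ (inv_ne_zero (lam_ne_zero c)) _ _ h

end Cfsg.Agent.Lib.H14.U4SU
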