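import Mathlib
import Cfsg.Prelude.Def_ClassicalGeometry
import Cfsg.Agent.Lib.H14.U4LineSys
import Cfsg.Agent.Lib.H14.U4Tab

set_option autoImplicit false
set_option linter.unusedSimpArgs false

/-! # `Sp(4,3)` acting on the 40 points of the projective space -/

namespace Cfsg.Agent.Lib.H14.U4Sp

open Matrix Cfsg.Agent.Lib.H14.U4LineSys Cfsg.Agent.Lib.H14.U4Tab

/-- the symplectic group -/
abbrev Sp3 : Type := ↥(Matrix.symplecticGroup (Fin 2) K3)

theorem rel3_iff (x y : V3) : rel3 x y ↔ ∃ a : K3, a ≠ 0 ∧ x = a • y := by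
  constructor
  · rintro (h | h)
    · exact ⟨1, by decide, by rw [h, one_smul]⟩
    · exact ⟨-1, by decide, by rw [h, neg_smul, one_smul]⟩
  · rintro ⟨a, ha, h⟩
    have key : ∀ b : K3, b ≠ 0 → b = 1 ∨ b = -1 := by decide
    have := key a ha
    rcases this with rfl | rfl
    · left
      rw [h, one_smul]
    · right
      rw [h, neg_smul, one_smul]

theorem P3_ne_zero : ∀ i, P3 i ≠ 0 := by decide +kernel

/-- the system of the 40 points -/
noncomputable def S3 : Sys Sp3 V3 (Fin 40) where
  app g x := (g : Matrix I4 I4 K3) *ᵥ x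
  app_one x := by
    show ((1 : Sp3) : Matrix I4 I4 K3) *ᵥ x = x
    rw [Submonoid.coe_one, Matrix.one_mulVec]
  app_mul g h x := by
    show ((g * h : Sp3) : Matrix I4 I4 K3) *ᵥ x = _
    rw [Submonoid.coe_mul, ← Matrix.mulVec_mulVec]
  rel := rel3
  rel_symm := by
    intro x y h
    rw [rel3_iff] at h ⊢
    obtain ⟨a, ha, rfl⟩ := h
    exact ⟨a⁻¹, inv_ne_zero ha, by rw [smul_smul, inv_mul_cancel₀ ha, one_smul]⟩
  rel_trans := by
    intro x y z h1 h2
    rw [rel3_iff] at h1 h2 ⊢
    obtain ⟨a, ha, rfl⟩ := h1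
    obtain ⟨b, hb, rfl⟩ := h2
    exact ⟨a * b, mul_ne_zero ha hb, by rw [smul_smul]⟩
  rel_app g := by
    intro x y h
    rw [rel3_iff] at h ⊢
    obtain ⟨a, ha, rfl⟩ := h
    exact ⟨a, ha, by rw [Matrix.mulVec_smul]⟩
  P := P3
  rel_P i := Or.inl rfl
  inj := D2
  closed g i := by
    have h1 : ((g⁻¹ : Sp3) : Matrix I4 I4 K3) *ᵥ ((g : Matrix I4 I4 K3) *ᵥ P3 i) = P3 i := by
      rw [Matrix.mulVec_mulVec, ← Submonoid.coe_mul, inv_mul_cancel, Submonoid.coe_one,
        Matrix.one_mulVec]
    have h2 : (g : Matrix I4 I4 K3) *ᵥ P3 i ≠ 0 := by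
      intro h0
      rw [h0, Matrix.mulVec_zero] at h1
      exact P3_ne_zero i h1.symm
    exact D1 _ h2

theorem S3_app (g : Sp3) (x : V3) : S3.app g x = (g : Matrix I4 I4 K3) *ᵥ x := rfl

theorem S3_rel (x y : V3) : S3.rel x y ↔ rel3 x y := Iff.rfl

theorem S3_P (i : Fin 40) : S3.P i = P3 i := rfl

/-- the representation on the 40 points -/
noncomputable def rho3 : Sp3 →* Equiv.Perm (Fin 40) := rho S3

/-- the action of a transvection -/
theorem sympTransvection_mulVec (c : K3) (u x : V3) :
    Cfsg.sympTransvection 2 u c *ᵥ x = tv3 c u x := by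
  unfold Cfsg.sympTransvection tv3 sf
  rw [Matrix.add_mulVec, Matrix.one_mulVec, Matrix.smul_mulVec]
  congr 1
  funext i
  simp only [Matrix.mulVec, dotProduct, Matrix.vecMulVec_apply, Pi.smul_apply, smul_eq_mul,
    Fintype.sum_sum_type, Fin.sum_univ_two, Matrix.J, Matrix.fromBlocks_apply₁₁,
    Matrix.fromBlocks_apply₁₂, Matrix.fromBlocks_apply₂₁, Matrix.fromBlocks_apply₂₂,
    Matrix.zero_apply, Matrix.neg_apply, Matrix.one_apply]
  simp
  ring

/-- the basis vectors -/
def eb (a : I4) : V3 := Pi.single a 1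

theorem pair_lemma (a b : I4) (hab : a ≠ b) (x y : V3) (hx : rel3 x (eb a)) (hy : rel3 y (eb b))
    (hxy : rel3 (x + y) (eb a + eb b)) :
    (x = eb a ∧ y = eb b) ∨ (x = -eb a ∧ y = -eb b) := by
  have h1 : (1 : K3) ≠ -1 := by decide
  have hba : b ≠ a := fun h => hab h.symm
  rcases hx with rfl | rfl <;> rcases hy with rfl | rfl <;> rcases hxy with h | h
  · exact Or.inl ⟨rfl, rfl⟩
  · exfalso
    have := congrFun h a
    simp [eb, hab, hba] at this
    exact h1 this
  · exfalso
    have := congrFun h b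
    simp [eb, hab, hba] at this
    exact h1 this.symm
  · exfalso
    have := congrFun h a
    simp [eb, hab, hba] at this
    exact h1 this
  · exfalso
    have := congrFun h a
    simp [eb, hab, hba] at this
    exact h1 this.symm
  · exfalso
    have := congrFun h b
    simp [eb, hab, hba] at this
    exact h1 this
  · exfalso
    have := congrFun h a
    simp [eb, hab, hba] at this
    exact h1 this.symm
  · exact Or.inr ⟨rfl, rfl⟩

theorem eb_ne_zero (a : I4) : eb a ≠ 0 := by
  intro h
  have := congrFun h a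
  simp [eb] at this

theorem rel_of_mem_ker (g : Sp3) (hg : g ∈ rho3.ker) (v : V3) (hv : v ≠ 0) :
    rel3 ((g : Matrix I4 I4 K3) *ᵥ v) v := by
  obtain ⟨i, hi⟩ := D1 v hv
  have h1 := (mem_ker_iff S3 g).1 hg i
  have h2 : S3.rel (S3.app g v) (S3.app g (S3.P i)) := S3.rel_app g hi
  exact S3.rel_trans (S3.rel_trans h2 h1) (S3.rel_symm hi)

theorem coe_eq_of_mem_ker (g : Sp3) (hg : g ∈ rho3.ker) :
    (g : Matrix I4 I4 K3) = 1 ∨ (g : Matrix I4 I4 K3) = -1 := by
  set M : Matrix I4 I4 K3 := (g : Matrix I4 I4 K3) with hM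
  have hcol : ∀ a, rel3 (M *ᵥ eb a) (eb a) := fun a => rel_of_mem_ker g hg _ (eb_ne_zero a)
  have hpair : ∀ a b, a ≠ b → (M *ᵥ eb a = eb a ∧ M *ᵥ eb b = eb b) ∨
      (M *ᵥ eb a = -eb a ∧ M *ᵥ eb b = -eb b) := by
    intro a b hab
    refine pair_lemma a b hab _ _ (hcol a) (hcol b) ?_
    rw [← Matrix.mulVec_add]
    refine rel_of_mem_ker g hg _ ?_
    intro h
    have := congrFun h a
    simp [eb, hab, fun h' : b = a => hab h'.symm] at this
  have hne : ∀ a, eb a ≠ -eb a := by
    intro a h
    have := congrFun h a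
    simp [eb] at this
    revert this
    decide
  have hentry : ∀ i j, M i j = (M *ᵥ eb j) i := by
    intro i j
    simp [eb, Matrix.mulVec_single_one]
  rcases hcol (Sum.inl 0) with h0 | h0
  · left
    have hall : ∀ b, M *ᵥ eb b = eb b := by
      intro b
      by_cases hb : Sum.inl 0 = b
      · rw [← hb]; exact h0
      · rcases hpair _ _ hb with h | h
        · exact h.2
        · exact absurd (h0.symm.trans h.1) (hne _)
    ext i j
    rw [hentry, hall j]
    simp [eb, Matrix.one_apply, Pi.single_apply, eq_comm]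
  · right
    have hall : ∀ b, M *ᵥ eb b = -eb b := by
      intro b
      by_cases hb : Sum.inl 0 = b
      · rw [← hb]; exact h0
      · rcases hpair _ _ hb with h | h
        · exact absurd (h.1.symm.trans h0) (hne _)
        · exact h.2
    ext i j
    rw [hentry, hall j]
    simp [eb, Matrix.one_apply, Pi.single_apply, eq_comm]

theorem card_ker_le : Nat.card rho3.ker ≤ 2 := by
  classical
  have hinj : Function.Injective
      (fun g : rho3.ker => decide (((g : Sp3) : Matrix I4 I4 K3) = 1)) := by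
    intro g h hgh
    have hg := coe_eq_of_mem_ker g.1 g.2
    have hh := coe_eq_of_mem_ker h.1 h.2
    have h1 : (1 : Matrix I4 I4 K3) ≠ -1 := by
      intro h
      have := congrFun (congrFun h (Sum.inl 0)) (Sum.inl 0)
      simp at this
      revert this
      decide
    apply Subtype.ext
    apply Subtype.ext
    simp only [decide_eq_decide] at hgh
    rcases hg with hg | hg
    · rw [hg]
      exact (hgh.1 hg).symm
    · rcases hh with hh | hh
      · exfalso
        have := hgh.2 hh
        rw [hg] at this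
        exact h1 this.symm
      · rw [hg, hh]
  have := Nat.card_le_card_of_injective _ hinj
  simpa using this

end Cfsg.Agent.Lib.H14.U4Sp
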