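import Mathlib
import Cfsg.Agent.Lib.H14.U4Sp
import Cfsg.Agent.Lib.H14.U4SU
import Cfsg.Agent.Lib.H4.Symp
import Cfsg.Agent.S0245
import Cfsg.Agent.S0278
import Cfsg.Agent.S0765

set_option autoImplicit false
set_option linter.unusedSimpArgs false

/-! # `PSU(4,2) ≅ PSp(4,3)` over the concrete fields -/

namespace Cfsg.Agent.Lib.H14.U4Main

open Matrix hiding SpecialLinearGroup
open Matrix (SpecialLinearGroup)
open Cfsg.Agent.Lib.H14.U4LineSys Cfsg.Agent.Lib.H14.U4Tab Cfsg.Agent.Lib.H14.U4Sp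
  Cfsg.Agent.Lib.H14.U4SU Cfsg.Agent.Lib.H17

theorem sympTransvection_zero (c : K3) : Cfsg.sympTransvection 2 (0 : V3) c = 1 := by
  unfold Cfsg.sympTransvection
  have : Matrix.vecMulVec (0 : V3) (Matrix.J (Fin 2) K3 *ᵥ (0 : V3)) = 0 := by
    ext i j
    simp [Matrix.vecMulVec_apply]
  rw [this, smul_zero, add_zero]

theorem sympTransvection_neg (u : V3) (c : K3) :
    Cfsg.sympTransvection 2 (-u) c = Cfsg.sympTransvection 2 u c := by
  unfold Cfsg.sympTransvection
  congr 2
  ext i j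
  simp [Matrix.vecMulVec_apply, Matrix.mulVec_neg]

/-- a transvection acts on the 40 points as an element of `SU(4,2)` does -/
theorem rho3_P3_eq (g : Sp3) (k : Fin 40) (c : K3)
    (hg : (g : Matrix I4 I4 K3) = Cfsg.sympTransvection 2 (P3 k) c) :
    rho3 g = rho4 (Uel c k) := by
  refine rho_eq_of_match S3 S4 g (Uel c k) ?_
  intro i
  obtain ⟨j, h1, h2⟩ := D6 c k i
  refine ⟨j, ?_, rel_Uel c k i j h2⟩
  rw [S3_rel, S3_app, S3_P, S3_P, hg, sympTransvection_mulVec]
  exact h1

theorem tv_mem_range (g : Sp3) (u : V3) (c : K3)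
    (hg : (g : Matrix I4 I4 K3) = Cfsg.sympTransvection 2 u c) : rho3 g ∈ rho4.range := by
  by_cases hu : u = 0
  · rw [hu, sympTransvection_zero] at hg
    have : g = 1 := Subtype.ext hg
    rw [this, map_one]
    exact one_mem _
  · obtain ⟨k, hk⟩ := D1 u hu
    have hg' : (g : Matrix I4 I4 K3) = Cfsg.sympTransvection 2 (P3 k) c := by
      rcases hk with rfl | rfl
      · exact hg
      · rw [hg, sympTransvection_neg]
    rw [rho3_P3_eq g k c hg']
    exact ⟨_, rfl⟩

theorem range_le : rho3.range ≤ rho4.range := by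
  rw [MonoidHom.range_eq_map, ← Cfsg.Agent.S0765.result (F := K3) 2, MonoidHom.map_closure,
    Subgroup.closure_le]
  rintro _ ⟨g, ⟨u, c, hg⟩, rfl⟩
  exact tv_mem_range g u c hg

theorem card_Sp3 : Nat.card Sp3 = 51840 := by
  have := Cfsg.Agent.S0245.result (F := K3) (q := 3) (by simp [ZMod.card]) 2
  rw [this]
  decide

theorem card_SU4 : Nat.card SU4 = 25920 := by
  have := Cfsg.Agent.S0278.result (F := F4) (q := 2) (by rw [F4.card_eq]; norm_num) 4 (by norm_num)
  have h2 : 2 ^ (4 * (4 - 1) / 2) * ∏ i ∈ Finset.range 4,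
      (if Even i then 2 ^ (i + 1) + 1 else 2 ^ (i + 1) - 1) = 77760 := by decide
  rw [h2] at this
  have h3 : (2 + 1) * Nat.card SU4 = 77760 := this
  omega

theorem card_range3 : 25920 ≤ Nat.card rho3.range := by
  have h1 := Subgroup.card_eq_card_quotient_mul_card_subgroup rho3.ker
  rw [Nat.card_congr (QuotientGroup.quotientKerEquivRange rho3).toEquiv, card_Sp3] at h1
  have h2 := card_ker_le
  nlinarith

theorem card_range4 : Nat.card rho4.range * Nat.card rho4.ker = 25920 := by
  have h1 := Subgroup.card_eq_card_quotient_mul_card_subgroup rho4.ker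
  rw [Nat.card_congr (QuotientGroup.quotientKerEquivRange rho4).toEquiv, card_SU4] at h1
  exact h1.symm

instance : Finite SU4 := Nat.finite_of_card_ne_zero (by rw [card_SU4]; norm_num)

theorem range_eq : rho3.range = rho4.range := by
  have h1 := card_range3
  have h2 := card_range4
  have h3 : Nat.card rho3.range ≤ Nat.card rho4.range := Subgroup.card_le_of_le range_le
  have h4 : 0 < Nat.card rho4.ker := Nat.card_pos
  refine Subgroup.eq_of_le_of_card_ge range_le ?_
  nlinarith

theorem ker4 : rho4.ker = ⊥ := by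
  have h1 := card_range3
  have h2 := card_range4
  have h3 : Nat.card rho3.range ≤ Nat.card rho4.range := Subgroup.card_le_of_le range_le
  have h4 : 0 < Nat.card rho4.ker := Nat.card_pos
  rw [← Subgroup.card_eq_one]
  nlinarith

/-- the transvection with centre `P3 k` -/
noncomputable def Tel (k : Fin 40) : Sp3 :=
  ⟨Cfsg.sympTransvection 2 (P3 k) 1, Cfsg.Agent.Lib.H4.sympTransvection_mem 2 (P3 k) 1⟩

/-- its permutation -/
noncomputable def tp (k : Fin 40) : Equiv.Perm (Fin 40) := rho3 (Tel k)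

theorem tp_eq4 (k : Fin 40) : tp k = rho4 (Uel 1 k) := rho3_P3_eq (Tel k) k 1 rfl

theorem tp_fix_iff (k p : Fin 40) : tp k p = p ↔ rel3 (tv3 1 (P3 k) (P3 p)) (P3 p) := by
  unfold tp rho3
  rw [rho_eq_iff, S3_rel, S3_app, S3_P]
  show rel3 (Cfsg.sympTransvection 2 (P3 k) 1 *ᵥ P3 p) (P3 p) ↔ _
  rw [sympTransvection_mulVec]

theorem tp_sep (p q : Fin 40) (h : ∀ k, tp k p = p → tp k q = q) : q = p := by
  refine D7 p q ?_
  intro k hk
  rw [← tp_fix_iff] at hk ⊢
  exact h k hk

theorem center_Sp3 : Subgroup.center Sp3 = rho3.ker := by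
  ext g
  constructor
  · intro hg
    rw [MonoidHom.mem_ker]
    refine eq_one_of_commute tp tp_sep _ ?_
    intro k
    unfold tp
    rw [← map_mul, ← map_mul, (Subgroup.mem_center_iff.1 hg (Tel k))]
  · intro hg
    rw [Subgroup.mem_center_iff]
    intro h
    apply Subtype.ext
    rw [Submonoid.coe_mul, Submonoid.coe_mul]
    rcases coe_eq_of_mem_ker g hg with h1 | h1
    · rw [h1, mul_one, one_mul]
    · rw [h1, mul_neg, neg_mul, mul_one, one_mul]

theorem center_SU4 : Subgroup.center SU4 = rho4.ker := by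
  rw [ker4, eq_bot_iff]
  intro g hg
  rw [← ker4, MonoidHom.mem_ker]
  refine eq_one_of_commute tp tp_sep _ ?_
  intro k
  rw [tp_eq4, ← map_mul, ← map_mul, (Subgroup.mem_center_iff.1 hg (Uel 1 k))]

/-- the isomorphism over the concrete fields -/
theorem main : Nonempty (Cfsg.PSU 4 F4 2 ≃* Cfsg.PSp 2 K3) := by
  have e1 : Cfsg.PSU 4 F4 2 ≃* SU4 ⧸ rho4.ker := QuotientGroup.quotientMulEquivOfEq center_SU4
  have e2 : SU4 ⧸ rho4.ker ≃* rho4.range := QuotientGroup.quotientKerEquivRange rho4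
  have e3 : rho4.range ≃* rho3.range := MulEquiv.subgroupCongr range_eq.symm
  have e4 : Sp3 ⧸ rho3.ker ≃* rho3.range := QuotientGroup.quotientKerEquivRange rho3
  have e5 : Cfsg.PSp 2 K3 ≃* Sp3 ⧸ rho3.ker := QuotientGroup.quotientMulEquivOfEq center_Sp3
  exact ⟨((e1.trans e2).trans e3).trans (e5.trans e4).symm⟩

end Cfsg.Agent.Lib.H14.U4Main
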