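/-
UP3-B5' (helper14): `SU_n(q)`, `3 ≤ n`, lies in no subfield group.  By unitary transvections: they have order dividing `|F|`,
so they lie in `P GL_n(F₀) P⁻¹` (no scalar), hence preserve the `F₀`-structure `V₀ = P F₀ⁿ`; this forces `|F₀| = q`,
every isotropic vector into `Fˣ V₀`, and `a₀ f` to be `F₀`-valued and skew on isotropic vectors of `V₀`; three independent
isotropic vectors of `V₀` then give a radical vector `r` and the isotropic vectors `w₁ + s r` (`s ∉ F₀`) are not in `Fˣ V₀`.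
-/
import Cfsg.Agent.Lib.H15.UP2Base

set_option autoImplicit false
set_option linter.unusedSectionVars false
set_option linter.unusedVariables false

namespace Cfsg.Agent.Lib.H14.UP3

open Cfsg Cfsg.Geo Cfsg.Agent.Lib.H15.UP2 Cfsg.Agent.Lib.H15.SUGen Cfsg.Agent.Lib.H2.Herm
open scoped MatrixGroups Matrix

variable {F : Type*} [Field F] [Fintype F] {n q : ℕ}

/-- at least `q` elements of trace zero -/
theorem card_tz_ge (hF : Fintype.card F = q ^ 2) : q ≤ Nat.card {a : F // a + a ^ q = 0} := by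
  classical
  let tr : F →+ F := AddMonoidHom.mk' (fun a => a + a ^ q) (by
    intro a b
    show (a + b) + (a + b) ^ q = (a + a ^ q) + (b + b ^ q)
    rw [fr_add hF]; ring)
  have e1 := AddSubgroup.card_mul_index tr.ker
  rw [AddSubgroup.index_ker] at e1
  obtain ⟨a0, ha00, ha0⟩ := exists_tr0 hF
  have h2 : Nat.card tr.range ≤ Nat.card tr.ker := by
    have hmem : ∀ y : tr.range, (y : F) * a0 ∈ tr.ker := by
      rintro ⟨y, a, rfl⟩
      rw [AddMonoidHom.mem_ker]
      show (a + a ^ q) * a0 + ((a + a ^ q) * a0) ^ q = 0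
      apply tz_mul hF ha0
      rw [fr_add hF, fr_fr hF]; ring
    apply Nat.card_le_card_of_injective (fun y : tr.range => (⟨(y : F) * a0, hmem y⟩ : tr.ker))
    intro y y' h
    have h1 : (y : F) * a0 = (y' : F) * a0 := congrArg Subtype.val h
    exact Subtype.ext (mul_right_cancel₀ ha00 h1)
  have e2 : Nat.card tr.ker = Nat.card {a : F // a + a ^ q = 0} :=
    Nat.card_congr (Equiv.subtypeEquivRight (fun a => AddMonoidHom.mem_ker))
  rw [← e2]
  have h3 : q ^ 2 ≤ Nat.card tr.ker ^ 2 := by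
    calc q ^ 2 = Nat.card F := by rw [Nat.card_eq_fintype_card, hF]
      _ = Nat.card tr.ker * Nat.card tr.range := e1.symm
      _ ≤ Nat.card tr.ker * Nat.card tr.ker := Nat.mul_le_mul_left _ h2
      _ = Nat.card tr.ker ^ 2 := (sq _).symm
  exact (Nat.pow_le_pow_iff_left (by norm_num)).1 h3

/-- an element of a subfield group -/
theorem exists_of_mem_subfieldSubgroup (F₀ : Subfield F) (P g : GL (Fin n) F) (h : g ∈ subfieldSubgroup F₀ P) :
    ∃ (g0 : GL (Fin n) F₀) (z : GL (Fin n) F), z ∈ scalars (Fin n) F ∧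
      g = P * (Matrix.GeneralLinearGroup.map (F₀.subtype : F₀ →+* F) g0 * z) * P⁻¹ := by
  unfold subfieldSubgroup at h
  obtain ⟨x, hx, hxe⟩ := Subgroup.mem_map.mp h
  obtain ⟨y, hy, z, hz, hyz⟩ := Subgroup.mem_sup_of_normal_right.mp hx
  obtain ⟨g0, rfl⟩ := hy
  refine ⟨g0, z, hz, ?_⟩
  rw [hyz]
  exact hxe.symm

/-- an element of order dividing `|F|` of a subfield group is conjugate to a matrix over `F₀` (no scalar) -/
theorem exists_of_mem_of_pow (F₀ : Subfield F) (P g : GL (Fin n) F) (h : g ∈ subfieldSubgroup F₀ P)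
    (hg : g ^ Fintype.card F = 1) :
    ∃ g1 : GL (Fin n) F₀, g = P * Matrix.GeneralLinearGroup.map (F₀.subtype : F₀ →+* F) g1 * P⁻¹ := by
  obtain ⟨g0, z, hz, rfl⟩ := exists_of_mem_subfieldSubgroup F₀ P g h
  obtain ⟨l, hl⟩ := (mem_scalars_iff z).mp hz
  set G0 := Matrix.GeneralLinearGroup.map (F₀.subtype : F₀ →+* F) g0 with hG0
  have hcomm : Commute G0 z := by
    apply Units.ext
    rw [Units.val_mul, Units.val_mul, hl, Matrix.mul_smul, Matrix.smul_mul, Matrix.mul_one, Matrix.one_mul]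
  have hzN : z ^ Fintype.card F = z := by
    apply Units.ext
    rw [Units.val_pow_eq_pow_val, hl, smul_pow, one_pow, FiniteField.pow_card]
  rw [conj_pow, hcomm.mul_pow, hzN] at hg
  have h1 : G0 ^ Fintype.card F * z = 1 := by
    have := congrArg (fun x => P⁻¹ * x * P) hg
    beta_reduce at this
    rw [mul_one, inv_mul_cancel] at this
    rw [← this]
    group
  have hz' : z = (G0 ^ Fintype.card F)⁻¹ := eq_inv_of_mul_eq_one_right h1
  refine ⟨g0 * (g0 ^ Fintype.card F)⁻¹, ?_⟩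
  rw [map_mul, map_inv, map_pow, ← hG0, ← hz']

/-- the `F₀`-structure `P F₀ⁿ` -/
def InV0 (F₀ : Subfield F) (P : GL (Fin n) F) (x : Fin n → F) : Prop :=
  ∃ u : Fin n → F₀, x = (P : Matrix (Fin n) (Fin n) F) *ᵥ (fun i => ((u i : F₀) : F))

theorem inV0_add {F₀ : Subfield F} {P : GL (Fin n) F} {x y : Fin n → F} (hx : InV0 F₀ P x) (hy : InV0 F₀ P y) :
    InV0 F₀ P (x + y) := by
  obtain ⟨u, rfl⟩ := hx
  obtain ⟨u', rfl⟩ := hy
  refine ⟨u + u', ?_⟩
  rw [← Matrix.mulVec_add]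
  congr 1

theorem inV0_smul {F₀ : Subfield F} {P : GL (Fin n) F} {x : Fin n → F} {c : F} (hc : c ∈ F₀) (hx : InV0 F₀ P x) :
    InV0 F₀ P (c • x) := by
  obtain ⟨u, rfl⟩ := hx
  refine ⟨fun i => ⟨c, hc⟩ * u i, ?_⟩
  rw [← Matrix.mulVec_smul]
  congr 1

theorem inV0_neg {F₀ : Subfield F} {P : GL (Fin n) F} {x : Fin n → F} (hx : InV0 F₀ P x) : InV0 F₀ P (-x) := by
  have := inV0_smul (c := -1) (F₀.neg_mem F₀.one_mem) hx
  rwa [neg_one_smul] at this

theorem inV0_sub {F₀ : Subfield F} {P : GL (Fin n) F} {x y : Fin n → F} (hx : InV0 F₀ P x) (hy : InV0 F₀ P y) :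
    InV0 F₀ P (x - y) := by
  rw [sub_eq_add_neg]
  exact inV0_add hx (inV0_neg hy)

theorem inV0_col (F₀ : Subfield F) (P : GL (Fin n) F) (j : Fin n) :
    InV0 F₀ P ((P : Matrix (Fin n) (Fin n) F) *ᵥ Pi.single j 1) := by
  classical
  refine ⟨Pi.single j 1, ?_⟩
  congr 1
  funext i
  by_cases h : i = j
  · subst h; simp
  · simp [h]

theorem inV0_conj {F₀ : Subfield F} {P : GL (Fin n) F} (g1 : GL (Fin n) F₀) {x : Fin n → F} (hx : InV0 F₀ P x) :
    InV0 F₀ P (((P * Matrix.GeneralLinearGroup.map (F₀.subtype : F₀ →+* F) g1 * P⁻¹ : GL (Fin n) F) :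
      Matrix (Fin n) (Fin n) F) *ᵥ x) := by
  obtain ⟨u, rfl⟩ := hx
  refine ⟨(g1 : Matrix (Fin n) (Fin n) F₀) *ᵥ u, ?_⟩
  have hPP : ((P⁻¹ : GL (Fin n) F) : Matrix (Fin n) (Fin n) F) * (P : Matrix (Fin n) (Fin n) F) = 1 := by
    rw [← Units.val_mul, inv_mul_cancel, Units.val_one]
  rw [Units.val_mul, Units.val_mul, Matrix.mulVec_mulVec, Matrix.mul_assoc, Matrix.mul_assoc, hPP, Matrix.mul_one,
    ← Matrix.mulVec_mulVec]
  congr 1
  funext i
  show ∑ j, ((g1 : Matrix (Fin n) (Fin n) F₀) i j : F) * ((u j : F₀) : F) = _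
  simp only [Matrix.mulVec, dotProduct]
  push_cast
  rfl

/-- coordinates on a line -/
theorem mem_of_inV0_smul {F₀ : Subfield F} {P : GL (Fin n) F} {v : Fin n → F} (hv : InV0 F₀ P v) (hv0 : v ≠ 0)
    {c : F} (h : InV0 F₀ P (c • v)) : c ∈ F₀ := by
  obtain ⟨u, rfl⟩ := hv
  obtain ⟨u', hu'⟩ := h
  rw [← Matrix.mulVec_smul] at hu'
  have hPP : ((P⁻¹ : GL (Fin n) F) : Matrix (Fin n) (Fin n) F) * (P : Matrix (Fin n) (Fin n) F) = 1 := by
    rw [← Units.val_mul, inv_mul_cancel, Units.val_one]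
  have h1 := congrArg (fun y => ((P⁻¹ : GL (Fin n) F) : Matrix (Fin n) (Fin n) F) *ᵥ y) hu'
  simp only [Matrix.mulVec_mulVec, hPP, Matrix.one_mulVec] at h1
  obtain ⟨i, hi⟩ : ∃ i, ((u i : F₀) : F) ≠ 0 := by
    by_contra hcon
    push Not at hcon
    apply hv0
    have : (fun i => ((u i : F₀) : F)) = 0 := funext hcon
    rw [this, Matrix.mulVec_zero]
  have h2 := congrFun h1 i
  simp only [Pi.smul_apply, smul_eq_mul] at h2
  have h3 : c = ((u' i : F₀) : F) / ((u i : F₀) : F) := by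
    rw [← h2, mul_div_cancel_right₀ _ hi]
  rw [h3]
  exact F₀.div_mem (SetLike.coe_mem _) (SetLike.coe_mem _)

theorem suGL_pow (g : ↥(Cfsg.SU n F q)) (k : ℕ) : suGL (g ^ k) = suGL g ^ k := by
  induction k with
  | zero =>
    rw [pow_zero, pow_zero]
    unfold suGL
    rw [Subgroup.coe_one, map_one]
  | succ k ih => rw [pow_succ, pow_succ, suGL_mul, ih]

theorem utv_pow_card (hF : Fintype.card F = q ^ 2) {a : F} {v : Fin n → F} (ha : a + a ^ q = 0)
    (hv : hermForm n F q v v = 0) : (utv hF a v) ^ Fintype.card F = 1 := by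
  unfold utv
  rw [← suGL_pow, tv_pow hF hv ha, Nat.cast_card_eq_zero, zero_mul, tv_zero hF hv]
  unfold suGL
  rw [Subgroup.coe_one, map_one]

/-- **UP3-B5'**. -/
theorem not_su_le_subfieldSubgroup' (hF : Fintype.card F = q ^ 2) (hn : 3 ≤ n) (F₀ : Subfield F) (r : ℕ)
    (P : GL (Fin n) F) (hr : 2 ≤ r) (hcard : Fintype.card F = Nat.card F₀ ^ r) :
    ¬ GU n F q ⊓ specialLinear (Fin n) F ≤ subfieldSubgroup F₀ P := by
  classical
  intro hle
  have hq2 : 2 ≤ q := two_le_q hF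
  set q0 := Nat.card F₀ with hq0
  have hq0_2 : 2 ≤ q0 := Finite.one_lt_card
  have hq0q : q0 ≤ q := by
    have h1 : q0 ^ 2 ≤ q0 ^ r := Nat.pow_le_pow_right (by omega) hr
    rw [← hcard, hF] at h1
    exact (Nat.pow_le_pow_iff_left (by norm_num)).1 h1
  obtain ⟨a0, ha00, ha0⟩ := exists_tr0 hF
  have ha0q : a0 ^ q = -a0 := by linear_combination ha0
  -- (B) transvections preserve `V₀`
  have hB : ∀ (a : F) (v : Fin n → F), a + a ^ q = 0 → hf q v v = 0 → ∀ x, InV0 F₀ P x →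
      InV0 F₀ P ((a * hf q x v) • v) := by
    intro a v ha hv x hx
    obtain ⟨g1, hg1⟩ := exists_of_mem_of_pow F₀ P (utv hF a v) (hle (utv_mem hF a v)) (utv_pow_card hF ha hv)
    have h1 := inV0_conj g1 hx
    rw [← hg1, utv_mulVec hF ha hv] at h1
    have h2 := inV0_sub h1 hx
    rwa [add_sub_cancel_left] at h2
  -- some vector of `V₀` is not orthogonal to `v`
  have hcol : ∀ v : Fin n → F, v ≠ 0 → ∃ x, InV0 F₀ P x ∧ hf q x v ≠ 0 := by
    intro v hv
    by_contra hcon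
    push Not at hcon
    obtain ⟨y, hy⟩ := herm_nondeg (q := q) hF hv
    apply hy
    let W : Submodule F (Fin n → F) :=
      { carrier := {x | hf q x v = 0}
        add_mem' := by
          intro x x' hx hx'
          show hf q (x + x') v = 0
          rw [hf_add_left, hx, hx', add_zero]
        zero_mem' := hf_zero_left v
        smul_mem' := by
          intro c x hx
          show hf q (c • x) v = 0
          rw [hf_smul_left, hx, mul_zero] }
    have hPP : (P : Matrix (Fin n) (Fin n) F) * ((P⁻¹ : GL (Fin n) F) : Matrix (Fin n) (Fin n) F) = 1 := by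
      rw [← Units.val_mul, mul_inv_cancel, Units.val_one]
    set c : Fin n → F := ((P⁻¹ : GL (Fin n) F) : Matrix (Fin n) (Fin n) F) *ᵥ y with hc
    have hyc : y = (P : Matrix (Fin n) (Fin n) F) *ᵥ c := by
      rw [hc, Matrix.mulVec_mulVec, hPP, Matrix.one_mulVec]
    have hcsum : c = ∑ j, c j • (Pi.single j (1 : F) : Fin n → F) := by
      funext i
      simp [Finset.sum_apply, Pi.single_apply]
    have : y ∈ W := by
      rw [hyc, hcsum, Matrix.mulVec_sum]
      apply Submodule.sum_mem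
      intro j _
      rw [Matrix.mulVec_smul]
      apply Submodule.smul_mem
      exact hcon _ (inV0_col F₀ P j)
    exact this
  -- (III)
  have hIII : ∀ v : Fin n → F, hf q v v = 0 → v ≠ 0 → ∃ μ : F, μ ≠ 0 ∧ InV0 F₀ P (μ • v) := by
    intro v hv hv0
    obtain ⟨x, hx, hxv⟩ := hcol v hv0
    exact ⟨a0 * hf q x v, mul_ne_zero ha00 hxv, hB a0 v ha0 hv x hx⟩
  -- (II)
  have hq0eq : q0 = q := by
    apply le_antisymm hq0q
    obtain ⟨v, hv, hv0⟩ := exists_isotropic_ne_zero (q := q) hF (by omega : 2 ≤ n)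
    obtain ⟨x, hx, hxv⟩ := hcol v hv0
    have hv' := hB a0 v ha0 hv x hx
    have hv'0 : (a0 * hf q x v) • v ≠ 0 := smul_ne_zero (mul_ne_zero ha00 hxv) hv0
    have hmem : ∀ a : {a : F // a + a ^ q = 0}, (a : F) / a0 ∈ F₀ := by
      intro a
      have h1 := hB a v a.2 hv x hx
      have h2 : ((a : F) * hf q x v) • v = ((a : F) / a0) • ((a0 * hf q x v) • v) := by
        rw [smul_smul]
        congr 1
        field_simp
      rw [h2] at h1
      exact mem_of_inV0_smul hv' hv'0 h1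
    have h3 : Nat.card {a : F // a + a ^ q = 0} ≤ Nat.card F₀ := by
      apply Nat.card_le_card_of_injective (fun a : {a : F // a + a ^ q = 0} => (⟨(a : F) / a0, hmem a⟩ : F₀))
      intro a a' h
      have h1 : (a : F) / a0 = (a' : F) / a0 := congrArg Subtype.val h
      exact Subtype.ext ((div_left_inj' ha00).1 h1)
    exact (card_tz_ge hF).trans h3
  have hII : ∀ s ∈ F₀, s ^ q = s := by
    intro s hs
    have : Fintype F₀ := Fintype.ofFinite F₀
    have h1 := FiniteField.pow_card (⟨s, hs⟩ : F₀)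
    rw [← Nat.card_eq_fintype_card, ← hq0, hq0eq] at h1
    have h2 := congrArg (fun y : F₀ => (y : F)) h1
    simp only [SubmonoidClass.coe_pow] at h2
    exact h2
  -- (IV)
  have hIV : ∀ x v : Fin n → F, InV0 F₀ P x → InV0 F₀ P v → hf q v v = 0 → v ≠ 0 → a0 * hf q x v ∈ F₀ := by
    intro x v hx hv hvv hv0
    exact mem_of_inV0_smul hv hv0 (hB a0 v ha0 hvv x hx)
  -- skewness
  have hskew : ∀ x y : Fin n → F, a0 * hf q x y ∈ F₀ → a0 * hf q y x = -(a0 * hf q x y) := by
    intro x y hs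
    have h1 := hII _ hs
    rw [mul_pow, hf_conj hF, ha0q] at h1
    linear_combination -h1
  -- scaling an isotropic vector into `V₀`
  have hS : ∀ v : Fin n → F, hf q v v = 0 → v ≠ 0 →
      ∃ (w : Fin n → F) (μ : F), μ ≠ 0 ∧ w = μ • v ∧ InV0 F₀ P w ∧ hf q w w = 0 ∧ w ≠ 0 := by
    intro v hv hv0
    obtain ⟨μ, hμ, hin⟩ := hIII v hv hv0
    refine ⟨μ • v, μ, hμ, rfl, hin, ?_, smul_ne_zero hμ hv0⟩
    rw [hf_smul_left, hf_smul_right, hv, mul_zero, mul_zero]
  -- the three vectors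
  obtain ⟨v1, hv1, hv10⟩ := exists_isotropic_ne_zero (q := q) hF (by omega : 2 ≤ n)
  obtain ⟨w1, μ1, hμ1, hw1def, hw1in, hw1, hw10⟩ := hS v1 hv1 hv10
  obtain ⟨v2, hv2, hv2w⟩ : ∃ v2 : Fin n → F, hf q v2 v2 = 0 ∧ hf q v2 w1 ≠ 0 := by
    let W : Submodule F (Fin n → F) :=
      { carrier := {x | hf q x w1 = 0}
        add_mem' := by
          intro x x' hx hx'
          show hf q (x + x') w1 = 0
          rw [hf_add_left, hx, hx', add_zero]
        zero_mem' := hf_zero_left w1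
        smul_mem' := by
          intro c x hx
          show hf q (c • x) w1 = 0
          rw [hf_smul_left, hx, mul_zero] }
    have hW : W ≠ ⊤ := by
      intro htop
      obtain ⟨y, hy⟩ := herm_nondeg (q := q) hF hw10
      have : y ∈ W := by rw [htop]; exact Submodule.mem_top
      exact hy this
    obtain ⟨v2, hv2, hv2W⟩ := exists_isotropic_notMem (q := q) hF (by omega : 2 ≤ n) W hW
    exact ⟨v2, hv2, hv2W⟩
  have hv20 : v2 ≠ 0 := by
    rintro rfl
    exact hv2w (hf_zero_left w1)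
  obtain ⟨w2, μ2, hμ2, hw2def, hw2in, hw2, hw20⟩ := hS v2 hv2 hv20
  have hf21 : hf q w2 w1 ≠ 0 := by
    rw [hw2def, hf_smul_left]
    exact mul_ne_zero hμ2 hv2w
  have hf12 : hf q w1 w2 ≠ 0 := by
    rw [← hf_conj hF w2 w1]
    exact pow_ne_zero _ hf21
  obtain ⟨v3, hv3, hv3W⟩ : ∃ v3 : Fin n → F, hf q v3 v3 = 0 ∧ v3 ∉ Submodule.span F ({w1, w2} : Set (Fin n → F)) := by
    apply exists_isotropic_notMem (q := q) hF (by omega : 2 ≤ n)
    intro htop
    have h1 : Module.finrank F (Submodule.span F ({w1, w2} : Set (Fin n → F))) ≤ 2 := by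
      refine (finrank_span_le_card ({w1, w2} : Set (Fin n → F))).trans ?_
      rw [Set.toFinset_insert, Set.toFinset_singleton]
      exact Finset.card_insert_le _ _ |>.trans (by simp)
    rw [htop, finrank_top, Module.finrank_fintype_fun_eq_card, Fintype.card_fin] at h1
    omega
  have hv30 : v3 ≠ 0 := by
    rintro rfl
    exact hv3W (Submodule.zero_mem _)
  obtain ⟨w3, μ3, hμ3, hw3def, hw3in, hw3, hw30⟩ := hS v3 hv3 hv30
  have hw3W : w3 ∉ Submodule.span F ({w1, w2} : Set (Fin n → F)) := by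
    intro h
    apply hv3W
    have := Submodule.smul_mem _ μ3⁻¹ h
    rwa [hw3def, smul_smul, inv_mul_cancel₀ hμ3, one_smul] at this
  -- the Gram entries
  obtain ⟨h12, hh12⟩ : ∃ h12 : F, h12 = a0 * hf q w1 w2 := ⟨_, rfl⟩
  obtain ⟨h13, hh13⟩ : ∃ h13 : F, h13 = a0 * hf q w1 w3 := ⟨_, rfl⟩
  obtain ⟨h23, hh23⟩ : ∃ h23 : F, h23 = a0 * hf q w2 w3 := ⟨_, rfl⟩
  have h12m : h12 ∈ F₀ := hh12 ▸ hIV w1 w2 hw1in hw2in hw2 hw20
  have h13m : h13 ∈ F₀ := hh13 ▸ hIV w1 w3 hw1in hw3in hw3 hw30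
  have h23m : h23 ∈ F₀ := hh23 ▸ hIV w2 w3 hw2in hw3in hw3 hw30
  have h21 : a0 * hf q w2 w1 = -h12 := by rw [hh12]; exact hskew w1 w2 (hh12 ▸ h12m)
  have h31 : a0 * hf q w3 w1 = -h13 := by rw [hh13]; exact hskew w1 w3 (hh13 ▸ h13m)
  have h32 : a0 * hf q w3 w2 = -h23 := by rw [hh23]; exact hskew w2 w3 (hh23 ▸ h23m)
  have h12ne : h12 ≠ 0 := by rw [hh12]; exact mul_ne_zero ha00 hf12
  -- the radical vector
  obtain ⟨rr, hrr⟩ : ∃ rr : Fin n → F, rr = h23 • w1 - h13 • w2 + h12 • w3 := ⟨_, rfl⟩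
  have hrin : InV0 F₀ P rr := by
    rw [hrr]
    exact inV0_add (inV0_sub (inV0_smul h23m hw1in) (inV0_smul h13m hw2in)) (inV0_smul h12m hw3in)
  have hrexp : ∀ y : Fin n → F, hf q rr y = h23 * hf q w1 y - h13 * hf q w2 y + h12 * hf q w3 y := by
    intro y
    rw [hrr, hf_add_left, hf_sub_left, hf_smul_left, hf_smul_left, hf_smul_left]
  have hr1 : hf q rr w1 = 0 := by
    have h : a0 * hf q rr w1 = 0 := by
      rw [hrexp, hw1]
      linear_combination (-h13) * h21 + h12 * h31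
    exact (mul_eq_zero.1 h).resolve_left ha00
  have hr2 : hf q rr w2 = 0 := by
    have h : a0 * hf q rr w2 = 0 := by
      rw [hrexp, hw2]
      linear_combination (-h23) * hh12 + h12 * h32
    exact (mul_eq_zero.1 h).resolve_left ha00
  have hr3 : hf q rr w3 = 0 := by
    have h : a0 * hf q rr w3 = 0 := by
      rw [hrexp, hw3]
      linear_combination (-h23) * hh13 + h13 * hh23
    exact (mul_eq_zero.1 h).resolve_left ha00
  have hrrr : hf q rr rr = 0 := by
    have h0 : hf q rr rr = hf q rr (h23 • w1 - h13 • w2 + h12 • w3) := congrArg (hf q rr) hrr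
    rw [h0, hf_add_right hF, hf_sub_right hF, hf_smul_right, hf_smul_right, hf_smul_right, hr1, hr2, hr3]
    ring
  have h1r : hf q w1 rr = 0 := by
    rw [← hf_conj hF rr w1, hr1, fr_zero hF]
  have hr0 : rr ≠ 0 := by
    intro h0
    apply hw3W
    have h1 : w3 = h12⁻¹ • (h13 • w2 - h23 • w1) := by
      have h2 : h12 • w3 = h13 • w2 - h23 • w1 := by
        have h3 : rr = 0 := h0
        rw [hrr] at h3
        have h4 : h12 • w3 = -(h23 • w1 - h13 • w2) := eq_neg_of_add_eq_zero_right h3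
        rw [h4]; abel
      rw [← h2, smul_smul, inv_mul_cancel₀ h12ne, one_smul]
    rw [h1]
    apply Submodule.smul_mem
    apply Submodule.sub_mem
    · exact Submodule.smul_mem _ _ (Submodule.subset_span (by simp))
    · exact Submodule.smul_mem _ _ (Submodule.subset_span (by simp))
  -- an element outside `F₀`
  obtain ⟨s, hs⟩ : ∃ s : F, s ∉ F₀ := by
    by_contra hcon
    push Not at hcon
    have h1 : Nat.card F₀ = Fintype.card F := by
      rw [← Nat.card_eq_fintype_card]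
      exact Nat.card_congr (Equiv.subtypeUnivEquiv hcon)
    rw [← hq0, hq0eq, hF] at h1
    nlinarith
  -- the isotropic vector `w1 + s r`
  obtain ⟨vs, hvs⟩ : ∃ vs : Fin n → F, vs = w1 + s • rr := ⟨_, rfl⟩
  have hvsiso : hf q vs vs = 0 := by
    rw [hvs, hf_add_left, hf_add_right hF, hf_add_right hF, hf_smul_left, hf_smul_left, hf_smul_right, hf_smul_right,
      hw1, h1r, hr1, hrrr]
    ring
  have hvs2 : hf q vs w2 = hf q w1 w2 := by
    rw [hvs, hf_add_left, hf_smul_left, hr2, mul_zero, add_zero]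
  have hvs0 : vs ≠ 0 := by
    intro h0
    rw [h0, hf_zero_left] at hvs2
    exact hf12 hvs2.symm
  obtain ⟨μ, hμ, hyin⟩ := hIII vs hvsiso hvs0
  have hμm : μ ∈ F₀ := by
    have h1 := hIV (μ • vs) w2 hyin hw2in hw2 hw20
    rw [hf_smul_left, hvs2] at h1
    have h2 : μ = (a0 * (μ * hf q w1 w2)) / h12 := by
      rw [hh12]
      field_simp
    rw [h2]
    exact F₀.div_mem h1 h12m
  have hμs : μ * s ∈ F₀ := by
    have h1 := inV0_sub hyin (inV0_smul hμm hw1in)
    have h2 : μ • vs - μ • w1 = (μ * s) • rr := by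
      rw [hvs, smul_add, add_sub_cancel_left, smul_smul]
    rw [h2] at h1
    exact mem_of_inV0_smul hrin hr0 h1
  apply hs
  have h3 : s = (μ * s) / μ := by field_simp
  rw [h3]
  exact F₀.div_mem hμs hμm

end Cfsg.Agent.Lib.H14.UP3
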