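import Cfsg.Agent.Lib.H14.PIrrQuot

/-! `Y`-minimal groups: basic tools. -/

set_option autoImplicit false

namespace Cfsg.Agent.Lib.H14

theorem sylow_smul_coe {G : Type*} [Group G] {p : ℕ} (P : Sylow p G) (g : G) :
    ((g • P : Sylow p G) : Subgroup G) = (P : Subgroup G).map (MulAut.conj g).toMonoidHom := by
  rw [Sylow.smul_def, Sylow.pointwise_smul_def]
  ext x
  rw [Subgroup.mem_pointwise_smul_iff_inv_smul_mem, mem_map_conj_iff]
  simp [MulAut.smul_def]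

theorem exists_mul_mem_normalizer_of_le {G : Type*} [Group G] [Finite G] {p : ℕ} [Fact p.Prime]
    (N : Subgroup G) (P : Sylow p G) (g : G) (h1 : (P : Subgroup G) ≤ N)
    (h2 : ((g • P : Sylow p G) : Subgroup G) ≤ N) :
    ∃ a ∈ N, a⁻¹ * g ∈ Subgroup.normalizer (P : Set G) := by
  obtain ⟨a, ha⟩ := MulAction.exists_smul_eq N (P.subtype h1) ((g • P).subtype h2)
  rw [Sylow.smul_subtype] at ha
  have ha' : (a : G) • P = g • P := Sylow.subtype_injective ha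
  refine ⟨a, a.2, ?_⟩
  rw [← Sylow.smul_eq_iff_mem_normalizer, mul_smul, ← ha', inv_smul_smul]

theorem ymin_le_of_proper {H : Type*} [Group H] [Finite H] (T M : Subgroup H)
    (hM : IsCoatom M ∧ T ≤ M) (hu : ∀ y : Subgroup H, IsCoatom y ∧ T ≤ y → y = M)
    (K : Subgroup H) (hTK : T ≤ K) (hK : K ≠ ⊤) : K ≤ M := by
  rcases eq_top_or_exists_le_coatom K with h | ⟨M', hM', hKM'⟩
  · exact absurd h hK
  · have h1 := hu M' ⟨hM', hTK.trans hKM'⟩
    exact h1 ▸ hKM'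

/-- In a `Y`-minimal group, with `L₀` a maximal subgroup containing `Y`: proper overgroups of `Y`
lie in `L₀`. -/
theorem ymin_le {L : Type*} [Group L] [Finite L] (L₀ Y : Subgroup L) (hL₀ : IsCoatom L₀)
    (hYL₀ : Y ≤ L₀) (hmin : Cfsg.IsMinimalOver Y) (K : Subgroup L) (hYK : Y ≤ K) (hK : K ≠ ⊤) :
    K ≤ L₀ := by
  obtain ⟨_, M, hM, hu⟩ := hmin
  have hML₀ : L₀ = M := hu L₀ ⟨hL₀, hYL₀⟩
  rw [hML₀]
  exact ymin_le_of_proper Y M hM hu K hYK hK

theorem ymin_normal_eq_top {L : Type*} [Group L] (Y : Subgroup L)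
    (hmin : Cfsg.IsMinimalOver Y) (K : Subgroup L) [K.Normal] (hYK : Y ≤ K) : K = ⊤ := by
  rw [eq_top_iff, ← hmin.1]
  exact Subgroup.normalClosure_le_normal hYK

theorem map_subtype_le' {L : Type*} [Group L] (L₀ : Subgroup L) (T : Subgroup ↥L₀) :
    T.map L₀.subtype ≤ L₀ := by
  rintro _ ⟨x, _, rfl⟩
  exact x.2

/-- (1) `N_L(T) ≤ L₀`. -/
theorem ymin_normalizer_le {L : Type*} [Group L] [Finite L] {p : ℕ} (L₀ : Subgroup L)
    (hL₀ : IsCoatom L₀) (T : Sylow p ↥L₀) (Y : Subgroup L)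
    (hYT : Y ≤ (T : Subgroup ↥L₀).map L₀.subtype) (hmin : Cfsg.IsMinimalOver Y) :
    Subgroup.normalizer (((T : Subgroup ↥L₀).map L₀.subtype : Subgroup L) : Set L) ≤ L₀ := by
  have hT'L₀ := map_subtype_le' L₀ (T : Subgroup ↥L₀)
  apply ymin_le L₀ Y hL₀ (hYT.trans hT'L₀) hmin _ (hYT.trans Subgroup.le_normalizer)
  intro htop
  have hn : ((T : Subgroup ↥L₀).map L₀.subtype).Normal := Subgroup.normalizer_eq_top_iff.mp htop
  have h1 := ymin_normal_eq_top Y hmin _ hYT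
  exact hL₀.1 (top_le_iff.mp (h1 ▸ hT'L₀))

/-- (3) `T` is a Sylow subgroup of `L`. -/
theorem ymin_sylow {L : Type*} [Group L] [Finite L] {p : ℕ} [Fact p.Prime] (L₀ : Subgroup L)
    (hL₀ : IsCoatom L₀) (T : Sylow p ↥L₀) (Y : Subgroup L)
    (hYT : Y ≤ (T : Subgroup ↥L₀).map L₀.subtype) (hmin : Cfsg.IsMinimalOver Y) :
    ∃ P : Sylow p L, (P : Subgroup L) = (T : Subgroup ↥L₀).map L₀.subtype := by
  have h1 := ymin_normalizer_le L₀ hL₀ T Y hYT hmin
  obtain ⟨P, hP⟩ := (T.2.map L₀.subtype).exists_le_sylow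
  refine ⟨P, ?_⟩
  by_contra hne
  have hlt : ((T : Subgroup ↥L₀).map L₀.subtype).subgroupOf (P : Subgroup L) < ⊤ := by
    rw [lt_top_iff_ne_top]
    intro htop
    apply hne
    apply le_antisymm _ hP
    intro x hx
    have h2 : (⟨x, hx⟩ : ↥(P : Subgroup L)) ∈
        ((T : Subgroup ↥L₀).map L₀.subtype).subgroupOf (P : Subgroup L) := by
      rw [htop]; exact Subgroup.mem_top _
    exact h2
  have hnil : Group.IsNilpotent ↥(P : Subgroup L) := P.2.isNilpotent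
  have hnc : NormalizerCondition ↥(P : Subgroup L) := Group.normalizerCondition_of_isNilpotent
  have h2 := hnc _ hlt
  obtain ⟨x, hxn, hxS⟩ := SetLike.exists_of_lt h2
  apply hxS
  -- `x` normalizes `T'` in `L`
  have hxN : (x : L) ∈ Subgroup.normalizer
      (((T : Subgroup ↥L₀).map L₀.subtype : Subgroup L) : Set L) := by
    rw [Subgroup.mem_normalizer_iff]
    intro n
    rw [Subgroup.mem_normalizer_iff] at hxn
    constructor
    · intro hn
      have h3 := (hxn ⟨n, hP hn⟩).mp hn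
      exact h3
    · intro hn
      have hnP : n ∈ (P : Subgroup L) := by
        have h4 := (P : Subgroup L).mul_mem ((P : Subgroup L).mul_mem
          ((P : Subgroup L).inv_mem x.2) (hP hn)) x.2
        have e : (x : L)⁻¹ * ((x : L) * n * (x : L)⁻¹) * (x : L) = n := by group
        rw [e] at h4
        exact h4
      have h3 := (hxn ⟨n, hnP⟩).mpr hn
      exact h3
  have hxL₀ : (x : L) ∈ L₀ := h1 hxN
  -- `x` as an element of `L₀` normalizes `T`
  have hx0 : (⟨(x : L), hxL₀⟩ : ↥L₀) ∈ (P : Subgroup L).subgroupOf L₀ ⊓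
      Subgroup.normalizer ((T : Subgroup ↥L₀) : Set ↥L₀) := by
    refine Subgroup.mem_inf.mpr ⟨x.2, ?_⟩
    rw [Subgroup.mem_normalizer_iff]
    intro y
    have h5 := (Subgroup.mem_normalizer_iff.mp hxN) (y : L)
    rw [← Subgroup.mem_map_iff_mem L₀.subtype_injective (K := (T : Subgroup ↥L₀)) (x := y),
      ← Subgroup.mem_map_iff_mem L₀.subtype_injective (K := (T : Subgroup ↥L₀))]
    exact h5
  have h6 := IsPGroup.inf_normalizer_sylow (P := (P : Subgroup L).subgroupOf L₀)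
    (P.2.comap_subtype) T
  have hx0' : (⟨(x : L), hxL₀⟩ : ↥L₀) ∈ (P : Subgroup L).subgroupOf L₀ ⊓
      Subgroup.normalizer (T : Set ↥L₀) := hx0
  rw [h6] at hx0'
  exact ⟨⟨(x : L), hxL₀⟩, hx0'.2, rfl⟩

/-- (4) `N_L(L₀) = L₀`. -/
theorem ymin_normalizer_self {L : Type*} [Group L] (L₀ : Subgroup L)
    (hL₀ : IsCoatom L₀) (Y : Subgroup L) (hYL₀ : Y ≤ L₀) (hmin : Cfsg.IsMinimalOver Y) :
    Subgroup.normalizer (L₀ : Set L) = L₀ := by
  by_contra hne
  have hlt : L₀ < Subgroup.normalizer (L₀ : Set L) :=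
    lt_of_le_of_ne Subgroup.le_normalizer (Ne.symm hne)
  have hn : L₀.Normal := Subgroup.normalizer_eq_top_iff.mp (hL₀.2 _ hlt)
  exact hL₀.1 (ymin_normal_eq_top Y hmin L₀ hYL₀)

/-- (5) `L = ⟨Y, gYg⁻¹⟩` for `g ∉ L₀`. -/
theorem ymin_sup_conj {L : Type*} [Group L] [Finite L] {p : ℕ} [Fact p.Prime] (L₀ : Subgroup L)
    (hL₀ : IsCoatom L₀) (T : Sylow p ↥L₀) (Y : Subgroup L)
    (hYT : Y ≤ (T : Subgroup ↥L₀).map L₀.subtype) (hmin : Cfsg.IsMinimalOver Y)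
    (g : L) (hg : g ∉ L₀) : Y ⊔ Y.map (MulAut.conj g).toMonoidHom = ⊤ := by
  have hT'L₀ := map_subtype_le' L₀ (T : Subgroup ↥L₀)
  have hYL₀ : Y ≤ L₀ := hYT.trans hT'L₀
  by_contra hne
  have hK := ymin_le L₀ Y hL₀ hYL₀ hmin _ le_sup_left hne
  have hYg : Y.map (MulAut.conj g).toMonoidHom ≤ L₀ := le_sup_right.trans hK
  obtain ⟨P, hP⟩ := ymin_sylow L₀ hL₀ T Y hYT hmin
  have hYp : IsPGroup p Y := (T.2.map _).to_le hYT
  have hYgp : IsPGroup p ((Y.map (MulAut.conj g).toMonoidHom).subgroupOf L₀) :=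
    (hYp.map _).comap_subtype
  obtain ⟨S, hS⟩ := hYgp.exists_le_sylow
  obtain ⟨h, rfl⟩ := MulAction.exists_smul_eq L₀ T S
  have h6 : Y.map (MulAut.conj g).toMonoidHom ≤
      ((T : Subgroup ↥L₀).map L₀.subtype).map (MulAut.conj (h : L)).toMonoidHom := by
    rw [← sylow_smul_map_subtype]
    intro y hy
    exact ⟨⟨y, hYg hy⟩, hS hy, rfl⟩
  have h7 : Y ≤ ((T : Subgroup ↥L₀).map L₀.subtype).map
      (MulAut.conj (g⁻¹ * (h : L))).toMonoidHom := by
    intro y hy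
    have h8 := h6 (Subgroup.mem_map_of_mem _ hy)
    rw [mem_map_conj_iff] at h8 ⊢
    rw [MulEquiv.coe_toMonoidHom, MulAut.conj_apply] at h8
    have e : (g⁻¹ * (h : L))⁻¹ * y * (g⁻¹ * (h : L)) = (h : L)⁻¹ * (g * y * g⁻¹) * (h : L) := by
      group
    rw [e]
    exact h8
  have hPL₀ : (P : Subgroup L) ≤ L₀ := hP ▸ hT'L₀
  have h8 : (((g⁻¹ * (h : L)) • P : Sylow p L) : Subgroup L) ≤ L₀ := by
    apply ymin_le L₀ Y hL₀ hYL₀ hmin
    · rw [sylow_smul_coe, hP]; exact h7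
    · intro htop
      have hc : Nat.card ↥(((g⁻¹ * (h : L)) • P : Sylow p L) : Subgroup L) = Nat.card ↥(P : Subgroup L) := by
        rw [Sylow.card_eq_multiplicity, Sylow.card_eq_multiplicity]
      rw [htop, Subgroup.card_top] at hc
      have hPtop := Subgroup.eq_top_of_card_eq _ hc.symm
      exact hL₀.1 (top_le_iff.mp (hPtop ▸ hPL₀))
  obtain ⟨a, haL₀, ha⟩ := exists_mul_mem_normalizer_of_le L₀ P _ hPL₀ h8
  have ha' : a⁻¹ * (g⁻¹ * (h : L)) ∈ Subgroup.normalizer (((P : Subgroup L)) : Set L) := ha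
  rw [hP] at ha'
  have h9 := ymin_normalizer_le L₀ hL₀ T Y hYT hmin ha'
  apply hg
  have h10 : g⁻¹ ∈ L₀ := by
    have h11 := L₀.mul_mem (L₀.mul_mem haL₀ h9) (L₀.inv_mem h.2)
    have e : a * (a⁻¹ * (g⁻¹ * (h : L))) * (h : L)⁻¹ = g⁻¹ := by group
    rw [e] at h11
    exact h11
  simpa using L₀.inv_mem h10

end Cfsg.Agent.Lib.H14
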