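import Cfsg.Agent.Lib.H14.YMin
import Cfsg.Agent.Lib.H14.PIrr
import Cfsg.Agent.Lib.H14.WeaklyClosed
import Cfsg.Agent.Lib.H1.QuotientBasic
import Cfsg.Agent.Lib.H1.SylowBasic

/-! `Y`-minimal groups: the core `D` of the maximal subgroup `L₀`. -/

set_option autoImplicit false

namespace Cfsg.Agent.Lib.H14

section

variable {L : Type*} [Group L] [Finite L] {p : ℕ} [Fact p.Prime]

/-- `P ∩ D = O_p(L)` for the core `D` of `L₀` and the Sylow subgroup `P ≥ Y` of `L`. -/
theorem ymin_sylow_inf_core (L₀ : Subgroup L) (hL₀ : IsCoatom L₀) (Y : Subgroup L)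
    (hmin : Cfsg.IsMinimalOver Y) (P : Sylow p L) (hYP : Y ≤ (P : Subgroup L))
    (hPL₀ : (P : Subgroup L) ≤ L₀) :
    (P : Subgroup L) ⊓ L₀.normalCore = Cfsg.pCore p L := by
  have hDn : L₀.normalCore.Normal := Subgroup.normalCore_normal L₀
  have hDL₀ : L₀.normalCore ≤ L₀ := Subgroup.normalCore_le L₀
  have hO : Cfsg.pCore p L ≤ (P : Subgroup L) := pCore_le_sylow P
  have hOn : (Cfsg.pCore p L).Normal := Cfsg.Agent.Lib.H14.pCore_normal
  have hOD : Cfsg.pCore p L ≤ L₀.normalCore :=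
    (Subgroup.normal_le_normalCore).mpr (hO.trans hPL₀)
  apply le_antisymm _ (le_inf hO hOD)
  -- Frattini argument
  have hfr := Sylow.normalizer_sup_eq_top (sylowInf P L₀.normalCore)
  rw [sylowInf_map] at hfr
  have hYN : Y ≤ Subgroup.normalizer (((P : Subgroup L) ⊓ L₀.normalCore : Subgroup L) : Set L) := by
    refine hYP.trans (le_nzr_inf _ _ _ Subgroup.le_normalizer ?_)
    rw [Subgroup.normalizer_eq_top_iff.mpr hDn]; exact le_top
  have htop : Subgroup.normalizer (((P : Subgroup L) ⊓ L₀.normalCore : Subgroup L) : Set L) = ⊤ := by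
    by_contra hne
    have h1 := ymin_le L₀ Y hL₀ (hYP.trans hPL₀) hmin _ hYN hne
    have h2 : (⊤ : Subgroup L) ≤ L₀ := by
      rw [← hfr]; exact sup_le h1 hDL₀
    exact hL₀.1 (top_le_iff.mp h2)
  have hn : ((P : Subgroup L) ⊓ L₀.normalCore).Normal := Subgroup.normalizer_eq_top_iff.mp htop
  exact Cfsg.Agent.Lib.H1.le_pCore hn (P.2.to_le inf_le_left)

/-- the image of the core in `L / O_p(L)` has order prime to `p`. -/
theorem ymin_core_card_coprime (L₀ : Subgroup L) (hL₀ : IsCoatom L₀) (Y : Subgroup L)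
    (hmin : Cfsg.IsMinimalOver Y) (P : Sylow p L) (hYP : Y ≤ (P : Subgroup L))
    (hPL₀ : (P : Subgroup L) ≤ L₀) [hn : (Cfsg.pCore p L).Normal] :
    (Nat.card ↥(L₀.normalCore.map (QuotientGroup.mk' (Cfsg.pCore p L)))).Coprime p := by
  have hDn : L₀.normalCore.Normal := Subgroup.normalCore_normal L₀
  have hPD := ymin_sylow_inf_core L₀ hL₀ Y hmin P hYP hPL₀
  have h1 : Nat.card ↥(L₀.normalCore.map (QuotientGroup.mk' (Cfsg.pCore p L))) =
      (Cfsg.pCore p L).relIndex L₀.normalCore := by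
    rw [← Subgroup.relIndex_ker, QuotientGroup.ker_mk']
  have h2 : ¬ p ∣ ((sylowInf P L₀.normalCore : Sylow p ↥L₀.normalCore) : Subgroup ↥L₀.normalCore).index :=
    Sylow.not_dvd_index _
  rw [sylowInf_coe, hPD] at h2
  rw [h1]
  exact ((Nat.Prime.coprime_iff_not_dvd (Fact.out : p.Prime)).mpr h2).symm

/-- every maximal subgroup of `L` containing `O_p(L)` contains the core `D`. -/
theorem ymin_core_le_coatom (L₀ : Subgroup L) (hL₀ : IsCoatom L₀) (Y : Subgroup L)
    (hmin : Cfsg.IsMinimalOver Y) (P : Sylow p L) (hYP : Y ≤ (P : Subgroup L))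
    (hPL₀ : (P : Subgroup L) ≤ L₀) (M : Subgroup L) (hM : IsCoatom M)
    (hOM : Cfsg.pCore p L ≤ M) : L₀.normalCore ≤ M := by
  have hOn : (Cfsg.pCore p L).Normal := Cfsg.Agent.Lib.H14.pCore_normal
  have hDn : L₀.normalCore.Normal := Subgroup.normalCore_normal L₀
  by_contra hDM
  have hsup : L₀.normalCore ⊔ M = ⊤ := by
    apply hM.2
    exact lt_of_le_of_ne le_sup_right (fun h => hDM (h ▸ le_sup_left))
  -- pass to the quotient
  set mk := QuotientGroup.mk' (Cfsg.pCore p L) with hmk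
  have hDbn : (L₀.normalCore.map mk).Normal :=
    Subgroup.Normal.map hDn mk (QuotientGroup.mk'_surjective _)
  have hsup' : L₀.normalCore.map mk ⊔ M.map mk = ⊤ := by
    rw [← Subgroup.map_sup, hsup, ← MonoidHom.range_eq_map,
      MonoidHom.range_eq_top.mpr (QuotientGroup.mk'_surjective _)]
  have hdvd := Cfsg.Agent.Lib.H1.index_dvd_card_of_sup_eq_top hsup'
  rw [Cfsg.Agent.Lib.H1.index_map_mk'_of_le hOM] at hdvd
  have hcop := ymin_core_card_coprime L₀ hL₀ Y hmin P hYP hPL₀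
  have hnd : ¬ p ∣ M.index := by
    intro hp
    have := Nat.Coprime.eq_one_of_dvd hcop.symm (hp.trans hdvd)
    exact (Fact.out : p.Prime).one_lt.ne' this
  obtain ⟨Q, hQ⟩ := Cfsg.Agent.Lib.H1.exists_sylow_le_of_not_dvd_index hnd
  obtain ⟨g, hg⟩ := MulAction.exists_smul_eq L P Q
  have hYg : Y.map (cj g) ≤ M := by
    refine le_trans ?_ hQ
    rw [← hg, sylow_smul_coe]
    exact Subgroup.map_mono hYP
  have hYK : Y ≤ M.map (cj g⁻¹) := by
    rw [← map_cj_le_iff]; exact hYg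
  have hKtop : M.map (cj g⁻¹) ≠ ⊤ := by
    intro h
    apply hM.1
    have := map_cj_inv_cj M g
    rw [h] at this
    rw [← this, ← MonoidHom.range_eq_map, MonoidHom.range_eq_top]
    exact (MulAut.conj g).surjective
  have hKL₀ := ymin_le L₀ Y hL₀ (hYP.trans hPL₀) hmin _ hYK hKtop
  have hML₀ : M ≤ L₀.map (cj g) := by
    rw [map_cj_le_iff] at hKL₀
    rwa [inv_inv] at hKL₀
  apply hDM
  refine le_trans ?_ ((hM.le_iff.mp hML₀).resolve_left ?_).le
  · -- D ≤ L₀^g
    intro x hx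
    rw [mem_map_conj_iff]
    have := hDn.conj_mem x hx g⁻¹
    rw [inv_inv] at this
    exact Subgroup.normalCore_le L₀ this
  · intro h
    apply hL₀.1
    have := map_cj_cj_inv L₀ g
    rw [h] at this
    rw [← this, ← MonoidHom.range_eq_map, MonoidHom.range_eq_top]
    exact (MulAut.conj g⁻¹).surjective

/-- `D / O_p(L) = Φ(L / O_p(L))`. -/
theorem ymin_core_map_eq_frattini (L₀ : Subgroup L) (hL₀ : IsCoatom L₀) (Y : Subgroup L)
    (hmin : Cfsg.IsMinimalOver Y) (P : Sylow p L) (hYP : Y ≤ (P : Subgroup L))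
    (hPL₀ : (P : Subgroup L) ≤ L₀) [hn : (Cfsg.pCore p L).Normal] :
    L₀.normalCore.map (QuotientGroup.mk' (Cfsg.pCore p L)) = frattini (L ⧸ Cfsg.pCore p L) := by
  have hO : Cfsg.pCore p L ≤ L₀ := (pCore_le_sylow P).trans hPL₀
  have hsurj := QuotientGroup.mk'_surjective (Cfsg.pCore p L)
  apply le_antisymm
  · -- D̄ ≤ Φ
    unfold frattini Order.radical
    apply le_iInf₂
    intro Mb hMb
    have hM : IsCoatom (Mb.comap (QuotientGroup.mk' (Cfsg.pCore p L))) :=
      Subgroup.isCoatom_comap_of_surjective hsurj hMb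
    have hOM : Cfsg.pCore p L ≤ Mb.comap (QuotientGroup.mk' (Cfsg.pCore p L)) := by
      intro x hx
      rw [Subgroup.mem_comap]
      have : QuotientGroup.mk' (Cfsg.pCore p L) x = 1 := by
        rw [QuotientGroup.mk'_apply, QuotientGroup.eq_one_iff]; exact hx
      rw [this]; exact Mb.one_mem
    have h1 := ymin_core_le_coatom L₀ hL₀ Y hmin P hYP hPL₀ _ hM hOM
    exact (Subgroup.map_le_iff_le_comap).mpr h1
  · -- Φ ≤ D̄
    intro xb hxb
    obtain ⟨x, rfl⟩ := hsurj xb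
    refine ⟨x, ?_, rfl⟩
    show x ∈ L₀.normalCore
    intro b
    have hc : IsCoatom (L₀.map (QuotientGroup.mk' (Cfsg.pCore p L))) :=
      Cfsg.Agent.Lib.H1.isCoatom_map_mk' hO hL₀
    have hfn : (frattini (L ⧸ Cfsg.pCore p L)).Normal := inferInstance
    have h1 : (QuotientGroup.mk' (Cfsg.pCore p L)) (b * x * b⁻¹) ∈
        L₀.map (QuotientGroup.mk' (Cfsg.pCore p L)) := by
      apply frattini_le_coatom hc
      rw [map_mul, map_mul, map_inv]
      exact hfn.conj_mem _ hxb _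
    have h2 : b * x * b⁻¹ ∈ (L₀.map (QuotientGroup.mk' (Cfsg.pCore p L))).comap
        (QuotientGroup.mk' (Cfsg.pCore p L)) := h1
    rwa [Cfsg.Agent.Lib.H1.comap_map_mk'_of_le hO] at h2

/-- a normal subgroup `N ≤ L₀`: its Sylow `p`-subgroup `O_p(L) ∩ N` is normal. -/
theorem ymin_normal_sub_sylow (L₀ : Subgroup L) (hL₀ : IsCoatom L₀) (Y : Subgroup L)
    (hmin : Cfsg.IsMinimalOver Y) (P : Sylow p L) (hYP : Y ≤ (P : Subgroup L))
    (hPL₀ : (P : Subgroup L) ≤ L₀) (N : Subgroup L) [hN : N.Normal] (hNL₀ : N ≤ L₀) :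
    ((sylowInf P N : Sylow p ↥N) : Subgroup ↥N) = (Cfsg.pCore p L).subgroupOf N ∧
    Cfsg.pCore p ↥N = (Cfsg.pCore p L).subgroupOf N := by
  have hOn : (Cfsg.pCore p L).Normal := Cfsg.Agent.Lib.H14.pCore_normal
  have hND : N ≤ L₀.normalCore := (Subgroup.normal_le_normalCore).mpr hNL₀
  have hPD := ymin_sylow_inf_core L₀ hL₀ Y hmin P hYP hPL₀
  have h1 : ((sylowInf P N : Sylow p ↥N) : Subgroup ↥N) = (Cfsg.pCore p L).subgroupOf N := by
    rw [sylowInf_coe]
    ext x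
    rw [Subgroup.mem_subgroupOf, Subgroup.mem_subgroupOf, ← hPD]
    constructor
    · intro hx
      exact Subgroup.mem_inf.mpr ⟨(Subgroup.mem_inf.mp hx).1, hND x.2⟩
    · intro hx
      exact Subgroup.mem_inf.mpr ⟨(Subgroup.mem_inf.mp hx).1, x.2⟩
  refine ⟨h1, ?_⟩
  have hnn : ((Cfsg.pCore p L).subgroupOf N).Normal := hOn.subgroupOf N
  apply le_antisymm
  · rw [← h1]; exact pCore_le_sylow _
  · apply Cfsg.Agent.Lib.H1.le_pCore hnn
    rw [← h1]; exact (sylowInf P N).2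

end

end Cfsg.Agent.Lib.H14
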