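import Cfsg.Agent.Lib.H14.YMin2
import Cfsg.Agent.Lib.H14.NilSupp
import Cfsg.Agent.Lib.H14.Frattini
import Cfsg.Agent.Lib.H14.PReduced
import Cfsg.Agent.Lib.H14.Large
import Cfsg.Agent.Lib.H1.PGroupBasic
import Cfsg.Agent.Lib.H14.PReduced5

set_option autoImplicit false

namespace Cfsg.Agent.Lib.H14

open scoped commutatorElement

/-- Setting of the `Y`-minimal lemma: `L = ⟨Y, Y^g⟩`. -/
theorem ymin_sup_conj' {L : Type*} [Group L] [Finite L] {p : ℕ} [Fact p.Prime] (L₀ : Subgroup L)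
    (hL₀ : IsCoatom L₀) (Y : Subgroup L) (hYL₀ : Y ≤ L₀) (hYp : IsPGroup p Y)
    (hmin : Cfsg.IsMinimalOver Y) (g : L) (hg : g ∉ L₀) : Y ⊔ Y.map (cj g) = ⊤ := by
  obtain ⟨T, hT⟩ := (hYp.comap_subtype (K := L₀)).exists_le_sylow
  have hYT : Y ≤ (T : Subgroup ↥L₀).map L₀.subtype := by
    intro y hy
    exact ⟨⟨y, hYL₀ hy⟩, hT hy, rfl⟩
  exact ymin_sup_conj L₀ hL₀ T Y hYT hmin g hg


theorem ymin_struct {L : Type*} [Group L] [Finite L] {p : ℕ} [Fact p.Prime]
    (L₀ : Subgroup L) (hL₀ : IsCoatom L₀) (Y : Subgroup L) (hYL₀ : Y ≤ L₀)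
    (hYel : Cfsg.IsElementaryAbelian p Y) (hmin : Cfsg.IsMinimalOver Y)
    (hOY : Cfsg.pCore p L ≤ Subgroup.normalizer (Y : Set L)) (A : Subgroup L)
    (hA : A = Subgroup.normalClosure (((Cfsg.pCore p L ⊓ Y : Subgroup L)) : Set L)) (g : L)
    (hg : g ∉ L₀) :
    (frattini ↥A).map A.subtype = ⁅A, A⁆ ∧ ⁅A, A⁆ = ⁅A ⊓ Y, A⁆ ∧
    ⁅A ⊓ Y, A⁆ = ⁅A ⊓ Y, A ⊓ Y.map (cj g)⁆ ∧ ⁅A ⊓ Y, A⁆ ≤ Y ⊓ Subgroup.center L ∧
    Y ⊓ Y.map (cj g) = Y ⊓ Subgroup.center L ∧
    (A ⊓ Y) ⊓ (A ⊓ Y.map (cj g)) = Y ⊓ Subgroup.center L ∧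
    A ⊓ Subgroup.center L = Y ⊓ Subgroup.center L := by
  have hYp : IsPGroup p Y := isPGroup_of_isElementaryAbelian Y hYel
  have hYcomm : ∀ a ∈ Y, ∀ b ∈ Y, a * b = b * a := comm_of_isElementaryAbelian Y hYel
  set Q := Cfsg.pCore p L with hQ
  have hQn : Q.Normal := pCore_normal
  have hQp : IsPGroup p Q := pCore_isPGroup
  set Yg := Y.map (cj g) with hYg
  have hYgcomm : ∀ a ∈ Yg, ∀ b ∈ Yg, a * b = b * a := by
    rintro _ ⟨a, ha, rfl⟩ _ ⟨b, hb, rfl⟩
    rw [← map_mul, ← map_mul, hYcomm a ha b hb]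
  have htop : Y ⊔ Yg = ⊤ := ymin_sup_conj' L₀ hL₀ Y hYL₀ hYp hmin g hg
  set B := Q ⊓ Y with hB
  set Bg := Q ⊓ Yg with hBg
  have hQYg : Q ≤ Subgroup.normalizer (Yg : Set L) := by
    intro q hq
    have h1 : g⁻¹ * q * g ∈ Q := by
      have := hQn.conj_mem q hq g⁻¹
      simpa using this
    have h2 := nzr_map_cj Y g
    have h3 : g * (g⁻¹ * q * g) * g⁻¹ ∈ (Subgroup.normalizer (Y : Set L)).map (cj g) :=
      ⟨g⁻¹ * q * g, hOY h1, rfl⟩
    rw [← h2] at h3
    have e : g * (g⁻¹ * q * g) * g⁻¹ = q := by group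
    rwa [e] at h3
  -- [Q,Y] ≤ B, [Q,Yg] ≤ Bg
  have hcQY : ⁅Q, Y⁆ ≤ B := by
    refine le_inf (Subgroup.commutator_le_left Q Y) ?_
    exact (Subgroup.le_normalizer_iff_commutator_le_right).mp hOY
  have hcQYg : ⁅Q, Yg⁆ ≤ Bg := by
    refine le_inf (Subgroup.commutator_le_left Q Yg) ?_
    exact (Subgroup.le_normalizer_iff_commutator_le_right).mp hQYg
  have hBY : B ≤ Y := inf_le_right
  have hBgYg : Bg ≤ Yg := inf_le_right
  have hBQ : B ≤ Q := inf_le_left
  have hBgQ : Bg ≤ Q := inf_le_left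
  have hQmap : Q.map (cj g) = Q :=
    map_cj_eq_of_mem_nzr Q g (by rw [Subgroup.normalizer_eq_top_iff.mpr hQn]; exact Subgroup.mem_top g)
  have hBgmap : Bg = B.map (cj g) := by
    rw [hB, Subgroup.map_inf_eq _ _ _ (MulAut.conj g).injective]
    rw [hQmap]
  have hallQ : ∀ X : Subgroup L, X ≤ Subgroup.normalizer (Q : Set L) := by
    intro X
    rw [Subgroup.normalizer_eq_top_iff.mpr hQn]; exact le_top
  have hYB : Y ≤ Subgroup.normalizer (B : Set L) := le_nzr_inf Y Q Y (hallQ Y) Subgroup.le_normalizer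
  have hYgBg : Yg ≤ Subgroup.normalizer (Bg : Set L) :=
    le_nzr_inf Yg Q Yg (hallQ Yg) Subgroup.le_normalizer
  have h1 : ⁅Y, Bg⁆ ≤ B := by
    rw [Subgroup.commutator_comm]; exact (Subgroup.commutator_mono hBgQ le_rfl).trans hcQY
  have h2 : ⁅Yg, B⁆ ≤ Bg := by
    rw [Subgroup.commutator_comm]; exact (Subgroup.commutator_mono hBQ le_rfl).trans hcQYg
  have hYC : Y ≤ Subgroup.normalizer ((Bg ⊔ B : Subgroup L) : Set L) :=
    le_nzr_sup_of_commutator_le Y Bg B h1 hYB
  have hYgC : Yg ≤ Subgroup.normalizer ((B ⊔ Bg : Subgroup L) : Set L) :=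
    le_nzr_sup_of_commutator_le Yg B Bg h2 hYgBg
  have hCn : (B ⊔ Bg).Normal :=
    normal_of_sup_le_nzr Y Yg _ htop (by rw [sup_comm]; exact hYC) hYgC
  have hAn : A.Normal := by rw [hA]; exact Subgroup.normalClosure_normal
  have hBA : B ≤ A := by rw [hA]; exact Subgroup.le_normalClosure
  have hBgA : Bg ≤ A := by
    rw [hBgmap]
    rintro _ ⟨b, hb, rfl⟩
    exact hAn.conj_mem b (hBA hb) g
  have hAeq : A = B ⊔ Bg := by
    apply le_antisymm
    · rw [hA]
      exact Subgroup.normalClosure_le_normal (le_sup_left : B ≤ B ⊔ Bg)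
    · exact sup_le hBA hBgA
  have hAQ : A ≤ Q := by rw [hA]; exact Subgroup.normalClosure_le_normal hBQ
  have hAY : A ⊓ Y = B := le_antisymm (inf_le_inf_right Y hAQ) (le_inf hBA hBY)
  have hAYg : A ⊓ Yg = Bg := le_antisymm (inf_le_inf_right Yg hAQ) (le_inf hBgA hBgYg)
  -- (5)
  have h5 : Y ⊓ Yg = Y ⊓ Subgroup.center L := by
    apply le_antisymm
    · intro x hx
      obtain ⟨hxY, hxYg⟩ := Subgroup.mem_inf.mp hx
      refine Subgroup.mem_inf.mpr ⟨hxY, ?_⟩
      have hle : Y ⊔ Yg ≤ Subgroup.centralizer ({x} : Set L) := by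
        apply sup_le
        · intro y hy
          rw [Subgroup.mem_centralizer_singleton_iff]
          exact hYcomm y hy x hxY
        · intro y hy
          rw [Subgroup.mem_centralizer_singleton_iff]
          exact hYgcomm y hy x hxYg
      rw [htop] at hle
      rw [Subgroup.mem_center_iff]
      intro y
      have := Subgroup.mem_centralizer_singleton_iff.mp (hle (Subgroup.mem_top y))
      exact this
    · intro x hx
      obtain ⟨hxY, hxZ⟩ := Subgroup.mem_inf.mp hx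
      refine Subgroup.mem_inf.mpr ⟨hxY, ⟨x, hxY, ?_⟩⟩
      have := Subgroup.mem_center_iff.mp hxZ g
      change g * x * g⁻¹ = x
      rw [this]; group
  have hZn : (Y ⊓ Subgroup.center L).Normal := by
    constructor
    intro n hn y
    have hc := Subgroup.mem_center_iff.mp (Subgroup.mem_inf.mp hn).2 y
    have e : y * n * y⁻¹ = n := by rw [hc]; group
    rw [e]; exact hn
  have hZQ : Y ⊓ Subgroup.center L ≤ Q :=
    le_pCore_of_normal_isPGroup _ hZn (hYp.to_le inf_le_left)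
  have hZB : Y ⊓ Subgroup.center L ≤ B := le_inf hZQ inf_le_left
  have hZBg : Y ⊓ Subgroup.center L ≤ Bg := by
    refine le_inf hZQ ?_
    rw [← h5]; exact inf_le_right
  have h6 : B ⊓ Bg = Y ⊓ Subgroup.center L := by
    apply le_antisymm
    · rw [← h5]; exact inf_le_inf hBY hBgYg
    · exact le_inf hZB hZBg
  -- commutator structure
  have hBnBg : B ≤ Subgroup.normalizer (Bg : Set L) := hBQ.trans (le_nzr_inf Q Q Yg (hallQ Q) hQYg)
  have hBgnB : Bg ≤ Subgroup.normalizer (B : Set L) := hBgQ.trans (le_nzr_inf Q Q Y (hallQ Q) hOY)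
  have hKB : ⁅B, Bg⁆ ≤ B := (Subgroup.le_normalizer_iff_commutator_le_left).mp hBgnB
  have hKBg : ⁅B, Bg⁆ ≤ Bg := (Subgroup.le_normalizer_iff_commutator_le_right).mp hBnBg
  have hKZ : ⁅B, Bg⁆ ≤ Y ⊓ Subgroup.center L := by rw [← h6]; exact le_inf hKB hKBg
  have hKcen : ⁅B, Bg⁆ ≤ Subgroup.center L := hKZ.trans inf_le_right
  have hallK : ∀ X : Subgroup L, X ≤ Subgroup.normalizer ((⁅B, Bg⁆ : Subgroup L) : Set L) := by
    intro X x _
    rw [Subgroup.mem_normalizer_iff]
    intro n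
    constructor
    · intro hn
      have hc := Subgroup.mem_center_iff.mp (hKcen hn) x
      have e : x * n * x⁻¹ = n := by rw [hc]; group
      rw [e]; exact hn
    · intro hn
      have hc := Subgroup.mem_center_iff.mp (hKcen hn) x⁻¹
      have e : n = x⁻¹ * (x * n * x⁻¹) * x⁻¹⁻¹ := by group
      rw [e, hc]
      have e2 : x * n * x⁻¹ * x⁻¹ * x⁻¹⁻¹ = x * n * x⁻¹ := by group
      rw [e2]; exact hn
  have hBB : ⁅B, B⁆ = ⊥ := by
    rw [Subgroup.commutator_eq_bot_iff_le_centralizer]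
    intro b hb
    rw [Subgroup.mem_centralizer_iff]
    intro c hc
    exact hYcomm c (hBY hc) b (hBY hb)
  have hBgBg : ⁅Bg, Bg⁆ = ⊥ := by
    rw [Subgroup.commutator_eq_bot_iff_le_centralizer]
    intro b hb
    rw [Subgroup.mem_centralizer_iff]
    intro c hc
    exact hYgcomm c (hBgYg hc) b (hBgYg hb)
  have hAB : ⁅A, B⁆ ≤ ⁅B, Bg⁆ := by
    rw [hAeq]
    apply commutator_sup_le B Bg B _ (by rw [hBB]; exact bot_le)
      (by rw [Subgroup.commutator_comm]) (hallK B) (hallK Bg)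
  have hABg : ⁅A, Bg⁆ ≤ ⁅B, Bg⁆ := by
    rw [hAeq]
    apply commutator_sup_le B Bg Bg _ le_rfl (by rw [hBgBg]; exact bot_le) (hallK B) (hallK Bg)
  have hAA : ⁅A, A⁆ = ⁅B, Bg⁆ := by
    apply le_antisymm
    · have h3 : ⁅B ⊔ Bg, A⁆ ≤ ⁅B, Bg⁆ :=
        commutator_sup_le B Bg A _ (by rw [Subgroup.commutator_comm]; exact hAB)
          (by rw [Subgroup.commutator_comm]; exact hABg) (hallK B) (hallK Bg)
      rw [← hAeq] at h3
      exact h3
    · exact Subgroup.commutator_mono hBA hBgA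
  have hBAc : ⁅B, A⁆ = ⁅B, Bg⁆ := by
    apply le_antisymm
    · rw [Subgroup.commutator_comm]; exact hAB
    · exact Subgroup.commutator_mono le_rfl hBgA
  -- (7)
  have h7 : A ⊓ Subgroup.center L = Y ⊓ Subgroup.center L := by
    apply le_antisymm
    · intro z hz
      obtain ⟨hzA, hzZ⟩ := Subgroup.mem_inf.mp hz
      rw [hAeq, sup_comm, ← SetLike.mem_coe,
        Subgroup.coe_mul_of_left_le_normalizer_right Bg B hBgnB] at hzA
      obtain ⟨c, hc, b, hb, rfl⟩ := Set.mem_mul.mp hzA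
      have hcY : ∀ y ∈ Y, y * c = c * y := by
        intro y hy
        have hz1 := Subgroup.mem_center_iff.mp hzZ y
        have hb1 := hYcomm y hy b (hBY hb)
        have : y * c * b = c * y * b := by
          calc y * c * b = y * (c * b) := by group
            _ = c * b * y := hz1
            _ = c * (b * y) := by group
            _ = c * (y * b) := by rw [hb1]
            _ = c * y * b := by group
        exact mul_right_cancel this
      have hccen : c ∈ Subgroup.center L := by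
        have hle : Y ⊔ Yg ≤ Subgroup.centralizer ({c} : Set L) := by
          apply sup_le
          · intro y hy
            rw [Subgroup.mem_centralizer_singleton_iff]
            exact hcY y hy
          · intro y hy
            rw [Subgroup.mem_centralizer_singleton_iff]
            exact hYgcomm y hy c (hBgYg hc)
        rw [htop] at hle
        rw [Subgroup.mem_center_iff]
        intro y
        exact Subgroup.mem_centralizer_singleton_iff.mp (hle (Subgroup.mem_top y))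
      have hcYmem : c ∈ Y := by
        obtain ⟨y₀, hy₀, hy₀c⟩ := hBgYg hc
        have h8 : g * y₀ * g⁻¹ = c := hy₀c
        have h9 := Subgroup.mem_center_iff.mp hccen g⁻¹
        have : y₀ = c := by
          calc y₀ = g⁻¹ * (g * y₀ * g⁻¹) * g := by group
            _ = g⁻¹ * c * g := by rw [h8]
            _ = c * g⁻¹ * g := by rw [h9]
            _ = c := by group
        rw [← this]; exact hy₀
      exact Subgroup.mem_inf.mpr ⟨Y.mul_mem hcYmem (hBY hb), hzZ⟩
    · exact le_inf (hZB.trans hBA) inf_le_right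
  -- (1) Frattini
  have hAp : IsPGroup p ↥A := hQp.to_le hAQ
  have hpow : ∀ x : ↥A, x ^ p ∈ commutator ↥A := by
    let φ : ↥A →* Abelianization ↥A := Abelianization.of
    let N : Subgroup ↥A := ((powMonoidHom p : Abelianization ↥A →* Abelianization ↥A).comp φ).ker
    have hN1 : B.subgroupOf A ≤ N := by
      intro x hx
      rw [Subgroup.mem_subgroupOf] at hx
      rw [MonoidHom.mem_ker, MonoidHom.comp_apply, powMonoidHom_apply, ← map_pow]
      have : x ^ p = 1 := by
        apply Subtype.ext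
        simpa using hYel.2 (x : L) (hBY hx)
      rw [this, map_one]
    have hN2 : Bg.subgroupOf A ≤ N := by
      intro x hx
      rw [Subgroup.mem_subgroupOf] at hx
      rw [MonoidHom.mem_ker, MonoidHom.comp_apply, powMonoidHom_apply, ← map_pow]
      have : x ^ p = 1 := by
        apply Subtype.ext
        obtain ⟨y₀, hy₀, hy₀x⟩ := hBgYg hx
        have h8 : g * y₀ * g⁻¹ = (x : L) := hy₀x
        simp only [SubgroupClass.coe_pow, OneMemClass.coe_one]
        rw [← h8, conj_pow, hYel.2 y₀ hy₀]; group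
      rw [this, map_one]
    have hNtop : N = ⊤ := by
      rw [eq_top_iff]
      have h10 : (B ⊔ Bg).subgroupOf A ≤ N := by
        rw [Subgroup.subgroupOf_sup hBA hBgA]
        exact sup_le hN1 hN2
      intro x _
      apply h10
      rw [Subgroup.mem_subgroupOf, ← hAeq]
      exact x.2
    intro x
    have hx : x ∈ N := by rw [hNtop]; exact Subgroup.mem_top x
    rw [MonoidHom.mem_ker, MonoidHom.comp_apply, powMonoidHom_apply, ← map_pow] at hx
    rw [← Abelianization.ker_of]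
    exact hx
  have hfr : frattini ↥A = commutator ↥A := by
    apply le_antisymm
    · exact frattini_le_of_comm_pow p (commutator ↥A) le_rfl hpow
    · exact Cfsg.Agent.Lib.H1.isPGroup_commutator_le_frattini hAp
  have hmapc : (commutator ↥A).map A.subtype = ⁅A, A⁆ := by
    rw [commutator_def, Subgroup.map_commutator, ← MonoidHom.range_eq_map, Subgroup.range_subtype]
  refine ⟨?_, ?_, ?_, ?_, h5, ?_, h7⟩
  · rw [hfr, hmapc]
  · rw [hAY, hAA, hBAc]
  · rw [hAY, hAYg, hBAc]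
  · rw [hAY, hBAc]; exact hKZ
  · rw [hAY, hAYg, h6]

end Cfsg.Agent.Lib.H14
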